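import Groth.Agent.H16.EtaPtSch
set_option autoImplicit false
universe u
open CategoryTheory AlgebraicGeometry Groth.Agent.Helper16.EtaLib

namespace Groth.Agent.Helper16.EtaLib

theorem resmap_comm {A B A' B' : Type u} [CommRing A] [CommRing B] [CommRing A']
    [CommRing B'] [IsLocalRing A] [IsLocalRing B] [IsLocalRing A'] [IsLocalRing B']
    (g : A →+* B) (g' : A' →+* B') [IsLocalHom g] [IsLocalHom g'] (a : A ≃+* A') (b : B ≃+* B')
    (h : (b : B →+* B').comp g = g'.comp (a : A →+* A')) :
    ((IsLocalRing.ResidueField.mapEquiv b : _ ≃+* _) : _ →+* _).comp (IsLocalRing.ResidueField.map g) =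
      (IsLocalRing.ResidueField.map g').comp
        ((IsLocalRing.ResidueField.mapEquiv a : _ ≃+* _) : _ →+* _) := by
  change (IsLocalRing.ResidueField.map (b : B →+* B')).comp (IsLocalRing.ResidueField.map g) =
      (IsLocalRing.ResidueField.map g').comp (IsLocalRing.ResidueField.map (a : A →+* A'))
  rw [← IsLocalRing.ResidueField.map_comp, ← IsLocalRing.ResidueField.map_comp]
  congr 1

theorem exists_residue_equivs {R S : CommRingCat.{u}} (f : R ⟶ S) (p : PrimeSpectrum S) :
    ∃ (a : ↑((Spec R).residueField ((Spec.map f) p)) ≃+*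
          (PrimeSpectrum.comap f.hom p).asIdeal.ResidueField)
      (b : ↑((Spec S).residueField p) ≃+* p.asIdeal.ResidueField),
      (b : _ →+* p.asIdeal.ResidueField).comp ((Spec.map f).residueFieldMap p).hom =
        (Ideal.ResidueField.map (PrimeSpectrum.comap f.hom p).asIdeal p.asIdeal f.hom rfl).comp
          (a : _ →+* (PrimeSpectrum.comap f.hom p).asIdeal.ResidueField) := by
  have key := Scheme.localRingHom_comp_stalkIso f p
  let a₀ : ↑((Spec R).presheaf.stalk ((Spec.map f) p)) ≃+*
      Localization.AtPrime (PrimeSpectrum.comap f.hom p).asIdeal :=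
    (Spec.stalkIso R (PrimeSpectrum.comap f.hom p)).commRingCatIsoToRingEquiv
  let b₀ : ↑((Spec S).presheaf.stalk p) ≃+* Localization.AtPrime p.asIdeal :=
    (Spec.stalkIso S p).commRingCatIsoToRingEquiv
  have h : (b₀ : _ →+* _).comp ((Spec.map f).stalkMap p).hom =
      (Localization.localRingHom (PrimeSpectrum.comap f.hom p).asIdeal p.asIdeal f.hom rfl).comp
        (a₀ : _ →+* _) := by
    rw [← key]
    ext x
    change (Spec.stalkIso S p).hom.hom (((Spec.stalkIso S p).inv.hom)
      ((Localization.localRingHom _ _ f.hom rfl) ((Spec.stalkIso R _).hom.hom x))) = _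
    have : ∀ y, (Spec.stalkIso S p).hom.hom ((Spec.stalkIso S p).inv.hom y) = y := fun y => by
      rw [← RingHom.comp_apply, ← CommRingCat.hom_comp, Iso.inv_hom_id]
      rfl
    rw [this]
    rfl
  exact ⟨IsLocalRing.ResidueField.mapEquiv a₀, IsLocalRing.ResidueField.mapEquiv b₀,
    resmap_comm ((Spec.map f).stalkMap p).hom
      (Localization.localRingHom (PrimeSpectrum.comap f.hom p).asIdeal p.asIdeal f.hom rfl) a₀ b₀ h⟩

theorem pow_mem_range_of_universallyInjective {A C : Type u} [CommRing A] [CommRing C]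
    (φ : A →+* C) (hφ : UniversallyInjective (Spec.map (CommRingCat.ofHom φ)))
    (𝔠 : PrimeSpectrum C) (z : 𝔠.asIdeal.ResidueField) :
    ∃ n : ℕ, z ^ ringExpChar (PrimeSpectrum.comap φ 𝔠).asIdeal.ResidueField ^ n ∈
      Set.range (Ideal.ResidueField.map (PrimeSpectrum.comap φ 𝔠).asIdeal 𝔠.asIdeal φ rfl) := by
  have h3 := ((tfae_universallyInjective (Spec.map (CommRingCat.ofHom φ))).out 0 2).mp hφ
  have hpi := h3.2 𝔠
  obtain ⟨a, b, hab⟩ := exists_residue_equivs (CommRingCat.ofHom φ) 𝔠
  let _ : Algebra ↑((Spec (CommRingCat.of A)).residueField ((Spec.map (CommRingCat.ofHom φ)) 𝔠))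
      ↑((Spec (CommRingCat.of C)).residueField 𝔠) :=
    ((Spec.map (CommRingCat.ofHom φ)).residueFieldMap 𝔠).hom.toAlgebra
  have hpi' : IsPurelyInseparable
      ↑((Spec (CommRingCat.of A)).residueField ((Spec.map (CommRingCat.ofHom φ)) 𝔠))
      ↑((Spec (CommRingCat.of C)).residueField 𝔠) := hpi
  have hexp : ExpChar ↑((Spec (CommRingCat.of A)).residueField ((Spec.map (CommRingCat.ofHom φ)) 𝔠))
      (ringExpChar (PrimeSpectrum.comap φ 𝔠).asIdeal.ResidueField) :=
    expChar_of_injective_ringHom (f := a.symm.toRingHom) a.symm.injective _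
  obtain ⟨n, w, hw⟩ := IsPurelyInseparable.pow_mem
    ↑((Spec (CommRingCat.of A)).residueField ((Spec.map (CommRingCat.ofHom φ)) 𝔠))
    (ringExpChar (PrimeSpectrum.comap φ 𝔠).asIdeal.ResidueField) (b.symm z)
  have e1 := DFunLike.congr_fun hab w
  have e3 : ((Spec.map (CommRingCat.ofHom φ)).residueFieldMap 𝔠).hom w =
      (b.symm z) ^ ringExpChar (PrimeSpectrum.comap φ 𝔠).asIdeal.ResidueField ^ n := hw
  have e4 : b (((Spec.map (CommRingCat.ofHom φ)).residueFieldMap 𝔠).hom w) =
      z ^ ringExpChar (PrimeSpectrum.comap φ 𝔠).asIdeal.ResidueField ^ n := by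
    rw [e3, map_pow, RingEquiv.apply_symm_apply]
  exact ⟨n, a w, e1.symm.trans e4⟩
theorem universallyInjective_of_isUnivHomeo {X Y : Scheme.{u}} (f : X ⟶ Y)
    (h : FlatMor.IsUnivHomeo f) : UniversallyInjective f := by
  rw [universallyInjective_eq]
  refine MorphismProperty.universally_mono ?_ _ h
  intro X Y f hf
  exact (isHomeomorph_iff_continuous_isClosedMap_bijective.mp hf).2.2.1

theorem comap_injective_of_isUnivHomeo {A C : Type u} [CommRing A] [CommRing C] (φ : A →+* C)
    (h : FlatMor.IsUnivHomeo (Spec.map (CommRingCat.ofHom φ))) :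
    Function.Injective (PrimeSpectrum.comap φ) := by
  have := MorphismProperty.universally_le _ _ h
  exact (isHomeomorph_iff_continuous_isClosedMap_bijective.mp this).2.2.1

end Groth.Agent.Helper16.EtaLib
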