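import Mathlib
set_option autoImplicit false

/-! Algebra for the invariance of the adjoint divisor under projective coordinate changes. -/

namespace Groth.Agent.Helper16.AdjInv

open MvPolynomial

variable {k : Type*} [Field k]

/-- chain rule for a twisted derivation along `aeval` -/
theorem chain {σ : Type*} [Fintype σ] [DecidableEq σ] {B L : Type*} [CommRing B] [Algebra k B]
    [CommRing L] (Φ : B →+* L) (d : B → L) (hadd : ∀ a b, d (a + b) = d a + d b)
    (hmul : ∀ a b, d (a * b) = Φ a * d b + Φ b * d a) (hC : ∀ c : k, d (algebraMap k B c) = 0)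
    (v : σ → B) (p : MvPolynomial σ k) :
    d (aeval v p) = ∑ i, Φ (aeval v (pderiv i p)) * d (v i) := by
  induction p using MvPolynomial.induction_on with
  | C a =>
    rw [aeval_C, hC]
    simp
  | add p q hp hq =>
    rw [map_add, hadd, hp, hq, ← Finset.sum_add_distrib]
    refine Finset.sum_congr rfl fun i _ => ?_
    rw [map_add, map_add, map_add, add_mul]
  | mul_X p n hp =>
    rw [map_mul, aeval_X, hmul, hp]
    have h1 : ∀ i, Φ (aeval v (pderiv i (p * X n))) * d (v i) =
        Φ (v n) * (Φ (aeval v (pderiv i p)) * d (v i)) +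
          (if i = n then Φ (aeval v p) * d (v n) else 0) := by
      intro i
      rw [pderiv_mul, pderiv_X, map_add, map_mul, map_mul, aeval_X, map_add, map_mul, map_mul]
      by_cases h : i = n
      · subst h
        rw [Pi.single_eq_same, map_one, map_one, mul_one, if_pos rfl]
        ring
      · rw [Pi.single_eq_of_ne (Ne.symm h), map_zero, map_zero, mul_zero, if_neg h]
        ring
    rw [Finset.sum_congr rfl (fun i _ => h1 i), Finset.sum_add_distrib, ← Finset.mul_sum,
      Finset.sum_ite_eq' Finset.univ n]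
    simp only [Finset.mem_univ, if_true]
    ring

/-- evaluation of a homogeneous polynomial at a scaled point -/
theorem aeval_smul_homog {σ : Type*} [Fintype σ] {B : Type*} [CommRing B] [Algebra k B]
    {p : MvPolynomial σ k} {n : ℕ} (hp : p.IsHomogeneous n) (c : B) (v : σ → B) :
    aeval (fun i => c * v i) p = c ^ n * aeval v p := by
  classical
  rw [aeval_def, eval₂_eq', aeval_def, eval₂_eq', Finset.mul_sum]
  refine Finset.sum_congr rfl fun m hm => ?_
  have hdeg : ∑ i, m i = n := by
    have h1 := hp (mem_support_iff.mp hm)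
    rw [Finsupp.weight_apply, Finsupp.sum_fintype _ _ (fun i => by simp)] at h1
    simpa using h1
  have h2 : ∏ i, (c * v i) ^ m i = c ^ n * ∏ i, v i ^ m i := by
    simp_rw [mul_pow]
    rw [Finset.prod_mul_distrib, Finset.prod_pow_eq_pow_sum, hdeg]
  rw [h2]
  ring

theorem key_identity {L : Type*} [CommRing L]
    (a00 a01 a02 a10 a11 a12 a20 a21 a22 U0 U1 U2 V0 V1 V2 f0 f1 f2 : L)
    (hS0 : a00 * U0 + a01 * U1 + a02 * U2 = 1) (hT0 : a00 * V0 + a01 * V1 + a02 * V2 = 0)
    (R1 : f1 * (a10 * V0 + a11 * V1 + a12 * V2) + f2 * (a20 * V0 + a21 * V1 + a22 * V2) = 0)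
    (R2 : f0 + (a10 * U0 + a11 * U1 + a12 * U2) * f1 + (a20 * U0 + a21 * U1 + a22 * U2) * f2 = 0) :
    (a00 * a11 * a22 - a00 * a12 * a21 - a01 * a10 * a22 + a01 * a12 * a20 + a02 * a10 * a21 -
        a02 * a11 * a20) * f2 * (U0 * V1 - U1 * V0) =
      (a02 * f0 + a12 * f1 + a22 * f2) * (a10 * V0 + a11 * V1 + a12 * V2) := by
  have h2 : f2 * ((a00 * U0 + a01 * U1 + a02 * U2) * (a10 * V0 + a11 * V1 + a12 * V2) -
      (a10 * U0 + a11 * U1 + a12 * U2) * (a00 * V0 + a01 * V1 + a02 * V2)) =
        (a10 * V0 + a11 * V1 + a12 * V2) * f2 := by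
    rw [hS0, hT0]; ring
  have h1 : f2 * ((a20 * U0 + a21 * U1 + a22 * U2) * (a00 * V0 + a01 * V1 + a02 * V2) -
      (a00 * U0 + a01 * U1 + a02 * U2) * (a20 * V0 + a21 * V1 + a22 * V2)) =
        (a10 * V0 + a11 * V1 + a12 * V2) * f1 := by
    rw [hS0, hT0]; linear_combination -R1
  have h0 : f2 * ((a10 * U0 + a11 * U1 + a12 * U2) * (a20 * V0 + a21 * V1 + a22 * V2) -
      (a20 * U0 + a21 * U1 + a22 * U2) * (a10 * V0 + a11 * V1 + a12 * V2)) =
        (a10 * V0 + a11 * V1 + a12 * V2) * f0 := by
    linear_combination (a10 * U0 + a11 * U1 + a12 * U2) * R1 - (a10 * V0 + a11 * V1 + a12 * V2) * R2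
  linear_combination a02 * h0 + a12 * h1 + a22 * h2

section poly

variable (A : Matrix (Fin 3) (Fin 3) k) (f : MvPolynomial (Fin 3) k)

/-- the linear substitution -/
noncomputable def lin (i : Fin 3) : MvPolynomial (Fin 3) k := ∑ j, C (A i j) * X j

theorem lin_homog (i : Fin 3) : (lin A i).IsHomogeneous 1 := by
  unfold lin
  apply IsHomogeneous.sum
  intro j _
  exact isHomogeneous_C_mul_X _ _

theorem pderiv_lin (i j : Fin 3) : pderiv j (lin A i) = C (A i j) := by
  classical
  unfold lin
  rw [map_sum, Finset.sum_eq_single j]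
  · rw [pderiv_C_mul, pderiv_X_self, mul_one]
  · intro l _ hl
    rw [pderiv_C_mul, pderiv_X_of_ne hl, mul_zero]
  · intro h; exact absurd (Finset.mem_univ _) h

theorem aeval_lin {B : Type*} [CommRing B] [Algebra k B] (u : Fin 3 → B) (i : Fin 3) :
    aeval u (lin A i) = ∑ j, algebraMap k B (A i j) * u j := by
  unfold lin
  rw [map_sum]
  refine Finset.sum_congr rfl fun j _ => ?_
  rw [map_mul, aeval_C, aeval_X]

theorem aeval_aeval_lin {B : Type*} [CommRing B] [Algebra k B] (u : Fin 3 → B)
    (q : MvPolynomial (Fin 3) k) :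
    aeval u (aeval (lin A) q) = aeval (fun i => ∑ j, algebraMap k B (A i j) * u j) q := by
  have := congrArg (fun φ => φ q) (comp_aeval (lin A) (aeval u : MvPolynomial (Fin 3) k →ₐ[k] B))
  simp only [AlgHom.comp_apply] at this
  rw [this]
  have h2 : (fun i => aeval u (lin A i)) = fun i => ∑ j, algebraMap k B (A i j) * u j :=
    funext (aeval_lin A u)
  rw [h2]

/-- chain rule for the linear substitution -/
theorem pderiv_aeval_lin (j : Fin 3) :
    pderiv j (aeval (lin A) f) = ∑ i, C (A i j) * aeval (lin A) (pderiv i f) := by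
  classical
  have := chain (k := k) (RingHom.id (MvPolynomial (Fin 3) k)) (fun p => pderiv j p)
    (fun a b => map_add _ a b)
    (fun a b => by
      simp only [RingHom.id_apply]
      rw [pderiv_mul]; ring)
    (fun c => by
      show pderiv j (algebraMap k (MvPolynomial (Fin 3) k) c) = 0
      rw [MvPolynomial.algebraMap_eq, pderiv_C])
    (lin A) f
  simp only [RingHom.id_apply] at this
  rw [this]
  refine Finset.sum_congr rfl fun i _ => ?_
  rw [pderiv_lin, mul_comm]

end poly

end Groth.Agent.Helper16.AdjInv
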