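import Groth.Agent.H16.SV14
set_option autoImplicit false
set_option linter.unusedSimpArgs false

namespace Groth.Agent.Helper16.Hasse

open FunFld Module Groth.Agent.Helper17.FF

/-- if the rows of the matrix of columns `c 1, c 2, …` are independent, the columns span -/
theorem span_eq_top_of_rows_indep {F : Type*} [Field F] {m : ℕ} (c : ℕ → (Fin m → F))
    (hrows : LinearIndependent F (fun i : Fin m => fun j : ℕ => c (j + 1) i)) :
    Submodule.span F (Set.range c) = ⊤ := by
  classical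
  by_contra hne
  obtain ⟨f, hf0, hfker⟩ := Submodule.exists_le_ker_of_lt_top _ (lt_top_iff_ne_top.mpr hne)
  apply hf0
  have hcoef := Fintype.linearIndependent_iff.mp hrows
    (fun i => f (fun j => if i = j then 1 else 0)) (by
    funext j
    simp only [Finset.sum_apply, Pi.smul_apply, smul_eq_mul, Pi.zero_apply]
    have h1 : c (j + 1) ∈ LinearMap.ker f := hfker (Submodule.subset_span ⟨j + 1, rfl⟩)
    rw [LinearMap.mem_ker, LinearMap.pi_apply_eq_sum_univ f] at h1
    refine Eq.trans (Finset.sum_congr rfl fun i _ => ?_) h1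
    rw [smul_eq_mul, mul_comm])
  refine LinearMap.ext fun v => ?_
  rw [LinearMap.pi_apply_eq_sum_univ f v, LinearMap.zero_apply]
  apply Finset.sum_eq_zero
  intro i _
  rw [hcoef i, smul_zero]

variable {k K : Type*} [Field k] [Field K] [Algebra k K] {n : ℕ}

/-- rows of values of Hasse derivatives at `P` are independent (S12599 as a lemma) -/
theorem rows_hcolAt_indep [IsAlgClosed k] (hK : IsFunctionField k K) (P : Place k K) {t : K}
    (ht : P.1 t = WithZero.exp (-1 : ℤ)) (Ht : K →ₐ[k] PowerSeries K)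
    (hHt : LocRes.IsHasseFamily t Ht) (ψ : Fin (n + 1) → K) (hψ : LinearIndependent k ψ)
    (hint : ∀ i, P.1 (ψ i) ≤ 1) :
    LinearIndependent (IsLocalRing.ResidueField P.O)
      (fun i : Fin (n + 1) => fun j : ℕ => evalP P (LocRes.hasseD Ht j (ψ i))) := by
  classical
  have hD : ∀ (i : Fin (n + 1)) (j : ℕ), P.1 (LocRes.hasseD Ht j (ψ i)) ≤ 1 := fun i j =>
    hasse_mem_SP hK P ht Ht hHt (hint i) j
  rw [Fintype.linearIndependent_iff]
  intro β hβ
  have hsurj := (algebraMap_bijective hK P).2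
  choose c hc using fun i => hsurj (β i)
  obtain ⟨g, hg⟩ : ∃ g : K, g = ∑ i, c i • ψ i := ⟨_, rfl⟩
  have hsm : ∀ (j : ℕ) (i : Fin (n + 1)), P.1 (c i • LocRes.hasseD Ht j (ψ i)) ≤ 1 := by
    intro j i
    rw [Algebra.smul_def, map_mul]
    calc P.1 (algebraMap k K (c i)) * P.1 (LocRes.hasseD Ht j (ψ i)) ≤ 1 * 1 :=
          mul_le_mul' (P.2.1 (c i)) (hD i j)
      _ = 1 := one_mul _
  have hgle : P.1 g ≤ 1 := by
    rw [hg]
    apply Valuation.map_sum_le
    intro i _
    have := hsm 0 i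
    rwa [hasseD_zero Ht hHt] at this
  have hev : ∀ j : ℕ, evalP P (LocRes.hasseD Ht j g) = 0 := by
    intro j
    rw [hg, hasseD_sum_smul, evalP_sum P _ _ (fun i _ => hsm j i)]
    have h1 := congrFun hβ j
    simp only [Finset.sum_apply, Pi.smul_apply, smul_eq_mul, Pi.zero_apply] at h1
    refine Eq.trans (Finset.sum_congr rfl fun i _ => ?_) h1
    rw [evalP_smul P _ (hD i j), Algebra.smul_def, hc]
  have hall : ∀ j : ℕ, P.1 g ≤ WithZero.exp (-(j : ℤ)) := fun j =>
    val_le_of_taylor_zero hK P ht Ht hHt hgle j (fun m _ => hev m)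
  have hg0 : g = 0 := by
    by_contra hne
    have hv : P.1 g ≠ 0 := (map_ne_zero P.1).mpr hne
    obtain ⟨a, ha⟩ : ∃ a : ℤ, P.1 g = WithZero.exp a := ⟨_, (WithZero.exp_log hv).symm⟩
    have h1 := hall ((-a).toNat + 1)
    rw [ha, WithZero.exp_le_exp] at h1
    have h2 := Int.self_le_toNat (-a)
    push_cast at h1
    omega
  rw [hg] at hg0
  have hc0 := Fintype.linearIndependent_iff.mp hψ c hg0
  intro i
  rw [← hc i, hc0 i, map_zero]

/-- existence of the order sequence at a place -/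
theorem exists_orders_at [IsAlgClosed k] (hK : IsFunctionField k K) (P : Place k K) {t : K}
    (ht : P.1 t = WithZero.exp (-1 : ℤ)) (Ht : K →ₐ[k] PowerSeries K)
    (hHt : LocRes.IsHasseFamily t Ht) (ψ : Fin (n + 1) → K) (hψ : LinearIndependent k ψ)
    (hint : ∀ i, P.1 (ψ i) ≤ 1) (hunit : ∃ i, P.1 (ψ i) = 1) :
    ∃ J' : Fin n → ℕ, IsOrders (IsLocalRing.ResidueField P.O) (hcolAt P Ht ψ) J' := by
  have hspan : Submodule.span (IsLocalRing.ResidueField P.O) (Set.range (hcolAt P Ht ψ)) = ⊤ :=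
    span_eq_top_of_rows_indep (hcolAt P Ht ψ) (rows_hcolAt_indep hK P ht Ht hHt ψ hψ hint)
  refine exists_isOrders (hcolAt P Ht ψ) (n := n) (by simp) ?_ hspan
  obtain ⟨i, hi⟩ := hunit
  intro h0
  have h1 := congrFun h0 i
  have h2 : hcolAt P Ht ψ 0 i = evalP P (ψ i) := rfl
  rw [h2, Pi.zero_apply, evalP_eq_zero_iff P (le_of_eq hi), hi] at h1
  exact lt_irrefl _ h1

end Groth.Agent.Helper16.Hasse
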