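import Groth.Agent.H16.Tate10

/-! Residues and Weil differentials: regular differentials, genus one. -/

namespace Groth.Agent.Helper16.Tate

open FunFld LaurentSeries Groth.Agent.Helper17.FF

universe u v w
variable {k : Type u} {K : Type v} [Field k] [Field K] [Algebra k K]
variable {F : Place k K → Type w} [∀ P, Field (F P)] [∀ P, Algebra k (F P)]
variable (hK : IsFunctionField k K) (φ : ∀ P, K →ₐ[k] (F P)⸨X⸩)
  (hφ : ∀ P, LocRes.IsExpansionAt P.1 (φ P))
variable [∀ P, FiniteDimensional k (F P)] (hg : IsGeometric k K)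
include hK hφ hg

/-- **S12582**: the regular differentials form a space of dimension `g`. -/
theorem finrank_regular {x : K} (hx : KaehlerDifferential.D k K x ≠ 0) :
    Module.finrank k (Submodule.span k {y : K | ∀ P, LocRes.vDiff (φ P) y x ≤ 1}) = genus k K := by
  have hS : {y : K | ∀ P, LocRes.vDiff (φ P) y x ≤ 1} = (MD φ x 0 : Set K) := by
    ext y
    show (∀ P, LocRes.vDiff (φ P) y x ≤ 1) ↔ ∀ P, LocRes.vDiff (φ P) y x ≤ WithZero.exp (-((0 : Divisor k K) P))
    simp
  rw [hS, Submodule.span_eq, finrank_MD hK φ hφ hg hx 0]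
  have h1 := (finrank_WD hK (0 : Divisor k K)).2
  unfold delta at h1
  rw [deg_zero, ell_zero hK] at h1
  have : (Module.finrank k (WD (0 : Divisor k K)) : ℤ) = genus k K := by rw [h1]; push_cast; ring
  exact_mod_cast this

omit [∀ P, FiniteDimensional k (F P)] hg in
lemma resW_zero (v : K) : resW hK φ hφ 0 v = 0 := by
  have := mulWLin_resW hK φ hφ 1 v 0
  rw [zero_mul, map_zero] at this
  exact this.symm

/-- **S12631** -/
theorem genus_one (h1 : genus k K = 1) {v : K} (hv : KaehlerDifferential.D k K v ≠ 0) :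
    (∃ u : K, u ≠ 0 ∧ ∀ P, LocRes.vDiff (φ P) u v = 1) ∧
      ∀ u u' : K, u ≠ 0 → (∀ P, LocRes.vDiff (φ P) u v = 1) → (∀ P, LocRes.vDiff (φ P) u' v = 1) →
        ∃ c : k, u' = c • u := by
  refine ⟨?_, ?_⟩
  · have hcan : IsCanonical k K (0 : Divisor k K) := by
      rw [isCanonical_iff hK, ell_zero hK, h1, deg_zero]
      exact ⟨rfl, by norm_num⟩
    obtain ⟨ω, hω0, hdiv⟩ := hcan
    obtain ⟨u, hu⟩ := exists_resW_eq hK φ hφ hg hv ⟨0, IsDivOf.mem hdiv⟩
    have hu0 : u ≠ 0 := by
      rintro rfl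
      rw [resW_zero] at hu
      exact hω0 hu.symm
    refine ⟨u, hu0, fun P => ?_⟩
    rw [← hu] at hdiv
    have := isDivOf_resW_apply hK φ hφ hg hu0 hv hdiv P
    rw [vDiff_eq_exp hK φ hφ hg hu0 hv P, ← this]
    simp
  · intro u u' hu h h'
    have hval : ∀ P : Place k K, P.1 (u' / u) ≤ 1 := by
      intro P
      have e : LocRes.vDiff (φ P) u' v = P.1 (u' / u) * LocRes.vDiff (φ P) u v := by
        rw [← (hφ P).1, ← vDiff_mul, div_mul_cancel₀ _ hu]
      rw [h P, h' P, mul_one] at e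
      rw [← e]
    obtain ⟨c, hc⟩ := mem_range_of_forall_val_le_one hK hval
    refine ⟨c, ?_⟩
    rw [Algebra.smul_def, hc, div_mul_cancel₀ _ hu]

end Groth.Agent.Helper16.Tate
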