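import Groth.Agent.H16.SV15
import Groth.Agent.H16.Tate11
import Groth.Agent.Lib.Helper17.FFGeom
import Groth.Agent.Lib.Helper17.FFW2

/-! Stöhr–Voloch: degree and nonnegativity of the Weierstrass divisor. -/

namespace Groth.Agent.Helper16.Hasse

open FunFld Module Groth.Agent.Helper17.FF

universe u v
variable {k : Type u} {K : Type v} [Field k] [Field K] [Algebra k K] {n : ℕ}

/-- the divisor of `ds` read through expansions is canonical -/
theorem divDiff_canonical [IsAlgClosed k] (hK : IsFunctionField k K) {s : K}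
    (hs : KaehlerDifferential.D k K s ≠ 0)
    (Φ : Place k K → (K →ₐ[k] LaurentSeries k))
    (hΦ : ∀ P : Place k K, LocRes.IsExpansionAt P.1 (Φ P)) :
    IsCanonical k K (divDiff Φ 1 s) ∧ ∀ P, divDiff Φ 1 s P = LocRes.ordDiff (Φ P) 1 s := by
  have hg : IsGeometric k K := isGeometric_of_perfect k K hK
  obtain ⟨ω, -, -, h0, hfin, hdiv⟩ :=
    Groth.Agent.Helper16.Tate.weil_of_differential (F := fun _ => k) hK Φ hΦ hg one_ne_zero hs
  have hP : ∀ P, divDiff Φ 1 s P = LocRes.ordDiff (Φ P) 1 s := by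
    intro P
    unfold divDiff
    rw [dif_pos hfin]
    rfl
  exact ⟨⟨ω, h0, hdiv _ hP⟩, hP⟩

theorem deg_divDiff [IsAlgClosed k] (hK : IsFunctionField k K) {s : K}
    (hs : KaehlerDifferential.D k K s ≠ 0)
    (Φ : Place k K → (K →ₐ[k] LaurentSeries k))
    (hΦ : ∀ P : Place k K, LocRes.IsExpansionAt P.1 (Φ P)) :
    (divDiff Φ 1 s).deg = 2 * (genus k K : ℤ) - 2 :=
  ((isCanonical_iff hK _).1 (divDiff_canonical hK hs Φ hΦ).1).2

/-- nonnegativity of the Weierstrass divisor at `P`, computed with a local parameter for a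
normalized effective map -/
theorem wDiv_nonneg_param [IsAlgClosed k] (hK : IsFunctionField k K) (τ : K →ₐ[k] K)
    (P : Place k K) (ψ : Fin (n + 1) → K) (hψ : LinearIndependent k ψ)
    (heff : (1 : K) ∈ Submodule.span k (Set.range ψ)) (hnorm : ∀ i, P.1 (ψ i) ≤ 1)
    {t : K} (ht : P.1 t = WithZero.exp (-1 : ℤ)) (Ht : K →ₐ[k] PowerSeries K)
    (hHt : LocRes.IsHasseFamily t Ht)
    (J : Fin n → ℕ) (hJ : IsOrders K (hcol τ Ht ψ) J)
    (Φ : Place k K → (K →ₐ[k] LaurentSeries k))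
    (hΦ : LocRes.IsExpansionAt P.1 (Φ P)) :
    0 ≤ wDiv τ Ht Φ t ψ J P := by
  have hψ0 : ∀ i, ψ i ≠ 0 := fun i => hψ.ne_zero i
  have hτψ0 : ∀ i, (⇑τ ∘ ψ) i ≠ 0 := fun i => (map_ne_zero τ).mpr (hψ0 i)
  have hmd : mapDiv k ψ P = 0 := mapDiv_eq_zero_of_norm hK P ψ hψ0 heff hnorm
  have hspan := span_hcol_eq_top hK P ht Ht hHt ψ hψ hnorm τ
  have hdet := det_wrMat_ne_zero_of_span τ Ht ψ J hJ hspan
  unfold wDiv
  rw [Finsupp.add_apply, Finsupp.add_apply, Finsupp.add_apply, Finsupp.smul_apply,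
    Finsupp.smul_apply, hmd, divDiff_param Φ P hΦ ht, div_apply hK]
  simp only [smul_zero, add_zero]
  -- the valuation of the determinant
  have ht0 : t ≠ 0 := by
    rintro rfl
    rw [map_zero] at ht
    exact WithZero.exp_ne_zero ht.symm
  obtain ⟨e, he⟩ : ∃ e : ℤ, e = mapDiv k (⇑τ ∘ ψ) P := ⟨_, rfl⟩
  obtain ⟨S, hS⟩ : ∃ S : Fin (n + 1) → K, S = Fin.cases (t ^ e) (fun _ => 1) := ⟨_, rfl⟩
  have hS0 : S 0 = t ^ e := by rw [hS]; rfl
  have hSs : ∀ l : Fin n, S l.succ = 1 := fun l => by rw [hS]; rfl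
  have hsc := det_scale (wrMat τ Ht ψ J) (Matrix.of fun i c => wrMat τ Ht ψ J i c * S c)
    (fun _ => 1) S (fun i c => by rw [one_mul]; rfl)
  have hprod : ∏ c, S c = t ^ e := by
    rw [Fin.prod_univ_succ, hS0]
    simp [hSs]
  rw [hprod, Finset.prod_const_one, one_mul] at hsc
  have hN : ∀ i c, P.1 ((Matrix.of fun i c => wrMat τ Ht ψ J i c * S c) i c) ≤ 1 := by
    intro i c
    rw [Matrix.of_apply]
    refine Fin.cases ?_ (fun l => ?_) c
    · rw [hS0, map_mul, map_zpow₀, ht, ← WithZero.exp_zsmul]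
      have h1 : P.1 (wrMat τ Ht ψ J i 0) ≤ WithZero.exp e := by
        rw [he]
        exact Groth.Agent.Helper16.Emb.val_le_mapDiv hK (⇑τ ∘ ψ) hτψ0 P i
      calc _ ≤ WithZero.exp e * WithZero.exp (e • (-1 : ℤ)) := mul_le_mul' h1 le_rfl
        _ = 1 := by
          rw [← WithZero.exp_add]
          simp
    · rw [hSs, mul_one]
      exact (mem_SP.mp (hasse_mem_SP hK P ht Ht hHt (hnorm i))) (J l)
  have hdetN := (det_regular P _ hN).1
  rw [← hsc, map_mul, map_zpow₀, ht, ← WithZero.exp_zsmul] at hdetN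
  have hle : P.1 (wrMat τ Ht ψ J).det ≤ WithZero.exp e := by
    have h2 : P.1 (wrMat τ Ht ψ J).det =
        P.1 (wrMat τ Ht ψ J).det * WithZero.exp (e • (-1 : ℤ)) * WithZero.exp e := by
      rw [mul_assoc, ← WithZero.exp_add]
      simp
    rw [h2]
    calc _ ≤ 1 * WithZero.exp e := mul_le_mul' hdetN le_rfl
      _ = _ := one_mul _
  have := (val_le_exp_iff P hdet e).mp hle
  rw [← he]
  omega

end Groth.Agent.Helper16.Hasse
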