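import Groth.Agent.H16.HF
import Groth.Agent.H16.SV15
import Groth.Agent.H16.SVW
set_option autoImplicit false
set_option linter.unusedSimpArgs false

/-! Toward the Stöhr–Voloch bound without a given Hasse family. -/

namespace Groth.Agent.Helper16.Hasse

open FunFld Module Groth.Agent.Helper17.FF

variable {k K : Type*} [Field k] [Field K] [Algebra k K] {n : ℕ}

/-- pullback of a place along an endomorphism -/
theorem exists_pull (hK : IsFunctionField k K) (τ : K →ₐ[k] K) (P : Place k K) :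
    ∃ (Q : Place k K) (e : ℕ), 0 < e ∧ ∀ x : K, P.1 (τ x) = Q.1 x ^ e := by
  obtain ⟨hK₀, hfin⟩ := finiteDimensional_fieldRange hK τ
  let σ : K ≃ₐ[k] τ.fieldRange := AlgEquiv.ofInjectiveField τ
  haveI : Algebra.IsAlgebraic τ.fieldRange K := Algebra.IsAlgebraic.of_finite _ _
  have hov := isOverWith_ramIdx (isOver_placeBelow hK₀ P)
  refine ⟨mapPlace σ.symm (placeBelow hK₀ P), ramIdx P (placeBelow hK₀ P),
    isOverWith_pos hov, fun x => ?_⟩
  have h1 := hov (σ x)
  rw [mapPlace_apply, AlgEquiv.symm_symm]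
  exact h1

theorem tau_val_le_of_not_fixed (hK : IsFunctionField k K) (τ : K →ₐ[k] K) (P : Place k K)
    (hP : ¬ IsFixedPt τ P) {f : K} (hf : ∀ Q : Place k K, Q ≠ P → Q.1 f ≤ 1) :
    P.1 (τ f) ≤ 1 := by
  obtain ⟨Q, e, he, h⟩ := exists_pull hK τ P
  have hQ : Q ≠ P := by
    rintro rfl
    apply hP
    intro z hz
    rw [h z]
    exact pow_lt_one' hz he.ne'
  rw [h f]
  exact pow_le_one' (hf Q hQ) e

theorem exists_not_fixed [IsAlgClosed k] (hK : IsFunctionField k K) (τ : K →ₐ[k] K) {x : K}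
    (hx : τ x ≠ x) : ∃ P : Place k K, ¬ IsFixedPt τ P := by
  classical
  obtain ⟨y, hy⟩ : ∃ y, y = τ x - x := ⟨_, rfl⟩
  have hy0 : y ≠ 0 := by rw [hy]; exact sub_ne_zero.mpr hx
  have hxk : ∀ c : k, x - algebraMap k K c ∉ Set.range (algebraMap k K) := by
    rintro c ⟨d, hd⟩
    apply hx
    have : x = algebraMap k K (d + c) := by rw [map_add, hd]; ring
    rw [this, AlgHom.commutes]
  have hZ : {P : Place k K | P.1 y < 1}.Finite := by
    refine (finite_support_ord hK y).subset ?_
    intro P hP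
    rw [Set.mem_ofPred_eq] at hP
    rw [Function.mem_support]
    unfold Place.ord
    intro h0
    have hv : P.1 y ≠ 0 := (map_ne_zero P.1).mpr hy0
    rw [neg_eq_zero] at h0
    have h1 := WithZero.exp_log hv
    rw [h0] at h1
    rw [← h1] at hP
    simp at hP
  have hB : {c : k | ∃ P : Place k K, P.1 y < 1 ∧ P.1 (x - algebraMap k K c) < 1}.Finite := by
    have : {c : k | ∃ P : Place k K, P.1 y < 1 ∧ P.1 (x - algebraMap k K c) < 1} =
        ⋃ P ∈ {P : Place k K | P.1 y < 1}, {c : k | P.1 (x - algebraMap k K c) < 1} := by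
      ext c
      simp
    rw [this]
    refine hZ.biUnion fun P _ => ?_
    refine Set.Subsingleton.finite ?_
    intro c hc d hd
    rw [Set.mem_ofPred_eq] at hc hd
    by_contra hne
    have h1 : P.1 (algebraMap k K (d - c)) < 1 := by
      have : algebraMap k K (d - c) = (x - algebraMap k K c) - (x - algebraMap k K d) := by
        rw [map_sub]; ring
      rw [this]
      exact lt_of_le_of_lt (Valuation.map_sub _ _ _) (max_lt hc hd)
    have h2 : P.1 (algebraMap k K (d - c)) = 1 := by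
      have hne' : d - c ≠ 0 := sub_ne_zero.mpr (Ne.symm hne)
      apply le_antisymm (P.2.1 _)
      have h3 := P.2.1 (d - c)⁻¹
      have h4 : P.1 (algebraMap k K (d - c)) * P.1 (algebraMap k K (d - c)⁻¹) = 1 := by
        rw [← map_mul, ← map_mul, mul_inv_cancel₀ hne', map_one, map_one]
      calc (1 : WithZero (Multiplicative ℤ)) = P.1 (algebraMap k K (d - c)) * P.1 (algebraMap k K (d - c)⁻¹) := h4.symm
        _ ≤ P.1 (algebraMap k K (d - c)) * 1 := mul_le_mul' le_rfl h3
        _ = _ := mul_one _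
    rw [h2] at h1
    exact lt_irrefl _ h1
  obtain ⟨c, hc⟩ := hB.exists_notMem
  obtain ⟨P, hP⟩ := exists_zero hK (hxk c)
  refine ⟨P, fun hfix => ?_⟩
  have h1 := hfix _ hP
  have h2 : ¬ P.1 y < 1 := fun h => hc ⟨P, h, hP⟩
  push Not at h2
  have h3 : τ (x - algebraMap k K c) = (x - algebraMap k K c) + y := by
    rw [map_sub, AlgHom.commutes, hy]; ring
  rw [h3, Valuation.map_add_eq_of_lt_right _ (lt_of_lt_of_le hP h2)] at h1
  exact absurd h1 (not_lt.mpr h2)

theorem exists_hasse_param [IsAlgClosed k] (hK : IsFunctionField k K) (P : Place k K) :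
    ∃ (t : K) (H : K →ₐ[k] PowerSeries K), P.1 t = WithZero.exp (-1 : ℤ) ∧
      LocRes.IsHasseFamily t H := by
  have hg := isGeometric_of_perfect k K hK
  obtain ⟨s, hs, hsep⟩ := exists_separating hK hg
  haveI := finite_of_transcendental hK hs
  obtain ⟨Hs, hHs⟩ := Groth.Agent.Helper16.HF.exists_hasseFamily s hs
  obtain ⟨u, hu⟩ := P.2.2 (WithZero.exp (-1 : ℤ))
  obtain ⟨Hu, hHu⟩ := exists_hasse Hs hHs u (hasseD_one_ne_zero hK P Hs hHs hu)
  exact ⟨u, Hu, hu, hHu⟩

end Groth.Agent.Helper16.Hasse
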