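import Groth.Agent.H16.AdjInv1
import Groth.Agent.H16.SF1
import Groth.Agent.Lib.Helper17.FFLoc
set_option autoImplicit false
set_option linter.unusedSimpArgs false

/-! Place-level lemmas for the invariance of the adjoint divisor. -/

namespace Groth.Agent.Helper16.AdjInv

open FunFld Module Groth.Agent.Helper17.FF

variable {k K : Type*} [Field k] [Field K] [Algebra k K] {n : ℕ}

theorem mapDiv_apply' (hK : IsFunctionField k K) (φ : Fin (n + 1) → K) (P : Place k K) :
    mapDiv k φ P = -Finset.univ.inf' Finset.univ_nonempty (fun i => P.ord (φ i)) := by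
  classical
  have hfin : (Function.support fun P : Place k K =>
      -Finset.univ.inf' Finset.univ_nonempty (fun i => P.ord (φ i))).Finite := by
    refine (Set.finite_iUnion (fun i => finite_support_ord hK (φ i))).subset ?_
    intro Q hQ
    simp only [Function.mem_support] at hQ
    by_contra hnot
    simp only [Set.mem_iUnion, Function.mem_support, not_exists, not_not] at hnot
    apply hQ
    simp [hnot]
  unfold mapDiv
  rw [dif_pos hfin]
  rfl

theorem exp_mapDiv_of_one (hK : IsFunctionField k K) (w : Fin (n + 1) → K) (h0 : w 0 = 1)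
    (P : Place k K) :
    WithZero.exp (mapDiv k w P) =
      Finset.univ.sup' Finset.univ_nonempty (fun i => P.1 (w i)) := by
  classical
  rw [mapDiv_apply' hK w P]
  apply le_antisymm
  · obtain ⟨i, -, hi⟩ := Finset.exists_mem_eq_inf' Finset.univ_nonempty (fun i => P.ord (w i))
    rw [hi]
    by_cases hw : w i = 0
    · rw [hw, ord_zero, neg_zero, WithZero.exp_zero]
      have : P.1 (w 0) = 1 := by rw [h0, map_one]
      exact le_of_eq_of_le this.symm (Finset.le_sup' (fun i => P.1 (w i)) (Finset.mem_univ 0))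
    · rw [← val_eq_exp_neg_ord P hw]
      exact Finset.le_sup' (fun i => P.1 (w i)) (Finset.mem_univ i)
  · apply Finset.sup'_le
    intro i _
    by_cases hw : w i = 0
    · rw [hw, map_zero]; exact zero_le
    · rw [val_eq_exp_neg_ord P hw, WithZero.exp_le_exp, neg_le_neg_iff]
      exact Finset.inf'_le _ (Finset.mem_univ i)

theorem sup_val_comb_le (P : Place k K) (A : Matrix (Fin 3) (Fin 3) k) (u w : Fin 3 → K)
    (h : ∀ i, w i = ∑ j, algebraMap k K (A i j) * u j) :
    Finset.univ.sup' Finset.univ_nonempty (fun i => P.1 (w i)) ≤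
      Finset.univ.sup' Finset.univ_nonempty (fun i => P.1 (u i)) := by
  apply Finset.sup'_le
  intro i _
  rw [h i]
  apply Valuation.map_sum_le
  intro j _
  rw [map_mul]
  calc P.1 (algebraMap k K (A i j)) * P.1 (u j) ≤ 1 * P.1 (u j) := mul_le_mul' (P.2.1 _) le_rfl
    _ = P.1 (u j) := one_mul _
    _ ≤ _ := Finset.le_sup' (fun i => P.1 (u i)) (Finset.mem_univ j)

theorem mapDiv_change (hK : IsFunctionField k K) (A : Matrix (Fin 3) (Fin 3) k) (hA : A.det ≠ 0)
    (x y : K) (u : Fin 3 → K)
    (hu : ∀ i, ∑ j, algebraMap k K (A i j) * u j = ![(1 : K), x, y] i) (hu0 : u 0 ≠ 0)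
    (P : Place k K) :
    mapDiv k ![(1 : K), u 1 / u 0, u 2 / u 0] P = mapDiv k ![(1 : K), x, y] P + P.ord (u 0) := by
  classical
  have hφ' : (![(1 : K), u 1 / u 0, u 2 / u 0] : Fin 3 → K) = fun i => u i / u 0 := by
    funext i
    fin_cases i
    · simp [hu0]
    · rfl
    · rfl
  have hinv : ∀ i, u i = ∑ j, algebraMap k K (A⁻¹ i j) * (![(1 : K), x, y] : Fin 3 → K) j := by
    intro i
    have h1 := Groth.Agent.Helper16.Hasse.comb_inv (n := 2) u A hA i
    rw [← h1]
    refine Finset.sum_congr rfl fun j _ => ?_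
    rw [Algebra.smul_def, ← hu j]
    congr 1
    refine Finset.sum_congr rfl fun l _ => ?_
    rw [Algebra.smul_def]
  have hS : Finset.univ.sup' Finset.univ_nonempty (fun i => P.1 (u i)) =
      Finset.univ.sup' Finset.univ_nonempty (fun i => P.1 ((![(1 : K), x, y] : Fin 3 → K) i)) :=
    le_antisymm (sup_val_comb_le P A⁻¹ _ u hinv)
      (sup_val_comb_le P A u _ (fun i => (hu i).symm))
  have hv0 : P.1 (u 0) ≠ 0 := (map_ne_zero P.1).mpr hu0
  have h1 : WithZero.exp (mapDiv k ![(1 : K), u 1 / u 0, u 2 / u 0] P) =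
      Finset.univ.sup' Finset.univ_nonempty (fun i => P.1 (u i)) * (P.1 (u 0))⁻¹ := by
    rw [exp_mapDiv_of_one (n := 2) hK _ (by rfl) P, hφ']
    apply le_antisymm
    · apply Finset.sup'_le
      intro i _
      rw [map_div₀, div_eq_mul_inv]
      exact mul_le_mul' (Finset.le_sup' (fun i => P.1 (u i)) (Finset.mem_univ i)) le_rfl
    · obtain ⟨i, -, hi⟩ := Finset.exists_mem_eq_sup' Finset.univ_nonempty (fun i => P.1 (u i))
      rw [hi]
      have : P.1 (u i) * (P.1 (u 0))⁻¹ = P.1 (u i / u 0) := by rw [map_div₀, div_eq_mul_inv]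
      rw [this]
      exact Finset.le_sup' (fun i => P.1 (u i / u 0)) (Finset.mem_univ i)
  rw [hS, ← exp_mapDiv_of_one (n := 2) hK _ (by rfl) P, val_eq_exp_neg_ord P hu0,
    ← WithZero.exp_neg, ← WithZero.exp_add, neg_neg] at h1
  exact WithZero.exp_injective h1

end Groth.Agent.Helper16.AdjInv
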