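import Groth.Agent.H16.AdjInv2
set_option autoImplicit false
set_option linter.unusedSimpArgs false

/-! The differential identity behind the invariance of the adjoint divisor. -/

namespace Groth.Agent.Helper16.AdjInv

open FunFld Module Groth.Agent.Helper17.FF MvPolynomial

variable {k K : Type*} [Field k] [Field K] [Algebra k K]

/-- the identity of differentials, read through an expansion -/
theorem diff_identity (f : MvPolynomial (Fin 3) k) (e : ℕ) (hf : f.IsHomogeneous e)
    (x y : K) (hfxy : aeval ![(1 : K), x, y] f = 0)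
    (A : Matrix (Fin 3) (Fin 3) k)
    (u : Fin 3 → K) (hu : ∀ i, ∑ j, algebraMap k K (A i j) * u j = ![(1 : K), x, y] i)
    (Φ : K →ₐ[k] LaurentSeries k) :
    Φ (algebraMap k K A.det) * Φ (aeval ![(1 : K), x, y] (pderiv 2 f)) *
        (Φ (u 0) * LocRes.D k (Φ (u 1)) - Φ (u 1) * LocRes.D k (Φ (u 0))) =
      Φ (aeval u (pderiv 2 (aeval (lin A) f))) * LocRes.D k (Φ x) := by
  classical
  obtain ⟨d, hd⟩ : ∃ d : K → LaurentSeries k, d = fun z => LocRes.D k (Φ z) := ⟨_, rfl⟩
  have hdz : ∀ z, LocRes.D k (Φ z) = d z := fun z => by rw [hd]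
  have hadd : ∀ a b, d (a + b) = d a + d b := by
    intro a b; rw [hd]; simp only [map_add]
  have hmul : ∀ a b, d (a * b) = (Φ : K →+* LaurentSeries k) a * d b +
      (Φ : K →+* LaurentSeries k) b * d a := by
    intro a b
    rw [hd]
    simp only [map_mul, RingHom.coe_coe]
    rw [Derivation.leibniz, smul_eq_mul, smul_eq_mul]
  have hC : ∀ c : k, d (algebraMap k K c) = 0 := by
    intro c
    rw [hd]
    simp only
    rw [LocRes.map_algebraMap, LocRes.D_apply, LocRes.derivative_C]
  have hd0 : d 0 = 0 := by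
    have := hC 0
    rwa [map_zero] at this
  have hd1 : d 1 = 0 := by
    have := hC 1
    rwa [map_one] at this
  have hdlin : ∀ i, d (∑ j, algebraMap k K (A i j) * u j) =
      ∑ j, Φ (algebraMap k K (A i j)) * d (u j) := by
    intro i
    rw [Fin.sum_univ_three, Fin.sum_univ_three, hadd, hadd, hmul, hmul, hmul, hC, hC, hC]
    simp only [RingHom.coe_coe, mul_zero, add_zero]
  -- chain rule on f
  have hchain := chain (k := k) (Φ : K →+* LaurentSeries k) d hadd hmul hC ![(1 : K), x, y] f
  rw [hfxy, hd0, Fin.sum_univ_three] at hchain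
  simp only [Matrix.cons_val_zero, Matrix.cons_val_one, Matrix.cons_val_two, Matrix.head_cons,
    Matrix.tail_cons, RingHom.coe_coe] at hchain
  rw [hd1, mul_zero, zero_add] at hchain
  -- Euler
  have heuler := congrArg (aeval ![(1 : K), x, y]) hf.sum_X_mul_pderiv
  rw [map_sum, Fin.sum_univ_three, map_nsmul, hfxy, smul_zero] at heuler
  simp only [map_mul, aeval_X, Matrix.cons_val_zero, Matrix.cons_val_one, Matrix.cons_val_two,
    Matrix.head_cons, Matrix.tail_cons, one_mul] at heuler
  have heuler' := congrArg Φ heuler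
  simp only [map_add, map_mul, map_zero] at heuler'
  -- the φ-coordinates
  have hx := hu 1
  have hy := hu 2
  have h1 := hu 0
  simp only [Matrix.cons_val_zero, Matrix.cons_val_one, Matrix.cons_val_two, Matrix.head_cons,
    Matrix.tail_cons] at hx hy h1
  have hΦx : Φ x = ∑ j, Φ (algebraMap k K (A 1 j)) * Φ (u j) := by
    rw [← hx, map_sum]; simp only [map_mul]
  have hΦy : Φ y = ∑ j, Φ (algebraMap k K (A 2 j)) * Φ (u j) := by
    rw [← hy, map_sum]; simp only [map_mul]
  have hΦ1 : (1 : LaurentSeries k) = ∑ j, Φ (algebraMap k K (A 0 j)) * Φ (u j) := by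
    rw [← map_one Φ, ← h1, map_sum]; simp only [map_mul]
  have hdx : d x = ∑ j, Φ (algebraMap k K (A 1 j)) * d (u j) := by rw [← hx, hdlin]
  have hdy : d y = ∑ j, Φ (algebraMap k K (A 2 j)) * d (u j) := by rw [← hy, hdlin]
  have hd1' : (0 : LaurentSeries k) = ∑ j, Φ (algebraMap k K (A 0 j)) * d (u j) := by
    rw [← hdlin, h1, hd1]
  rw [Fin.sum_univ_three] at hΦx hΦy hΦ1 hdx hdy hd1'
  -- the right-hand factor
  have hH : aeval u (pderiv 2 (aeval (lin A) f)) =
      ∑ i, algebraMap k K (A i 2) * aeval ![(1 : K), x, y] (pderiv i f) := by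
    rw [pderiv_aeval_lin, map_sum]
    refine Finset.sum_congr rfl fun i _ => ?_
    rw [map_mul, aeval_C, aeval_aeval_lin]
    have : (fun i => ∑ j, algebraMap k K (A i j) * u j) = ![(1 : K), x, y] := funext hu
    rw [this]
  rw [hH, map_sum, Fin.sum_univ_three]
  simp only [map_mul]
  rw [Matrix.det_fin_three]
  simp only [map_add, map_sub, map_mul]
  rw [hdz, hdz, hdz, hdx]
  have key := key_identity
    (Φ (algebraMap k K (A 0 0))) (Φ (algebraMap k K (A 0 1))) (Φ (algebraMap k K (A 0 2)))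
    (Φ (algebraMap k K (A 1 0))) (Φ (algebraMap k K (A 1 1))) (Φ (algebraMap k K (A 1 2)))
    (Φ (algebraMap k K (A 2 0))) (Φ (algebraMap k K (A 2 1))) (Φ (algebraMap k K (A 2 2)))
    (Φ (u 0)) (Φ (u 1)) (Φ (u 2)) (d (u 0)) (d (u 1)) (d (u 2))
    (Φ (aeval ![(1 : K), x, y] (pderiv 0 f))) (Φ (aeval ![(1 : K), x, y] (pderiv 1 f)))
    (Φ (aeval ![(1 : K), x, y] (pderiv 2 f)))
    hΦ1.symm hd1'.symm
    (by rw [← hdx, ← hdy]; exact hchain.symm)
    (by rw [← hΦx, ← hΦy]; linear_combination heuler')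
  linear_combination key

end Groth.Agent.Helper16.AdjInv
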