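import Groth.Agent.H16.AdjInv3
set_option autoImplicit false
set_option linter.unusedSimpArgs false

/-! Orders of the two differentials at a place. -/

namespace Groth.Agent.Helper16.AdjInv

open FunFld Module Groth.Agent.Helper17.FF MvPolynomial

variable {k K : Type*} [Field k] [Field K] [Algebra k K]

theorem ordDiff_change [IsAlgClosed k] (hK : IsFunctionField k K)
    (f : MvPolynomial (Fin 3) k) (e : ℕ) (hf : f.IsHomogeneous e)
    (x y : K) (hfxy : aeval ![(1 : K), x, y] f = 0)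
    (hdx : KaehlerDifferential.D k K x ≠ 0)
    (A : Matrix (Fin 3) (Fin 3) k) (hA : A.det ≠ 0)
    (u : Fin 3 → K) (hu : ∀ i, ∑ j, algebraMap k K (A i j) * u j = ![(1 : K), x, y] i)
    (hu0 : u 0 ≠ 0)
    (hfy : aeval ![(1 : K), x, y] (pderiv 2 f) ≠ 0)
    (hfy' : aeval ![(1 : K), u 1 / u 0, u 2 / u 0] (pderiv 2 (aeval (lin A) f)) ≠ 0)
    (P : Place k K) (Φ : K →ₐ[k] LaurentSeries k) (hΦ : LocRes.IsExpansionAt P.1 Φ) :
    LocRes.ordDiff Φ (aeval ![(1 : K), u 1 / u 0, u 2 / u 0] (pderiv 2 (aeval (lin A) f)))⁻¹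
        (u 1 / u 0) =
      LocRes.ordDiff Φ (aeval ![(1 : K), x, y] (pderiv 2 f))⁻¹ x + ((e : ℤ) - 3) * P.ord (u 0) := by
  classical
  have hg := Groth.Agent.Helper17.FF.isGeometric_of_perfect k K hK
  have hfr := finrank_kaehler hK hg
  have he1 : 1 ≤ e := by
    by_contra hlt
    have he0 : e = 0 := by omega
    rw [he0, ← totalDegree_zero_iff_isHomogeneous, totalDegree_eq_zero_iff_eq_C] at hf
    apply hfy
    rw [hf, pderiv_C, map_zero]
  obtain ⟨G, hG⟩ : ∃ G, G = aeval ![(1 : K), x, y] (pderiv 2 f) := ⟨_, rfl⟩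
  obtain ⟨H, hH⟩ : ∃ H, H = aeval u (pderiv 2 (aeval (lin A) f)) := ⟨_, rfl⟩
  obtain ⟨G', hG'⟩ : ∃ G', G' = aeval ![(1 : K), u 1 / u 0, u 2 / u 0]
      (pderiv 2 (aeval (lin A) f)) := ⟨_, rfl⟩
  rw [← hG, ← hG']
  rw [← hG] at hfy
  rw [← hG'] at hfy'
  have hφ' : (![(1 : K), u 1 / u 0, u 2 / u 0] : Fin 3 → K) = fun i => (u 0)⁻¹ * u i := by
    funext i
    fin_cases i
    · simp [hu0]
    · show u 1 / u 0 = (u 0)⁻¹ * u 1
      rw [div_eq_inv_mul]
    · show u 2 / u 0 = (u 0)⁻¹ * u 2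
      rw [div_eq_inv_mul]
  have hF'h : (aeval (lin A) f).IsHomogeneous e := by
    have := hf.aeval (lin A) (lin_homog A)
    rwa [one_mul] at this
  have hGH : G' = (u 0)⁻¹ ^ (e - 1) * H := by
    rw [hG', hH, hφ']
    exact aeval_smul_homog hF'h.pderiv _ _
  have hH0 : H ≠ 0 := by
    rintro rfl
    rw [mul_zero] at hGH
    exact hfy' hGH
  have hI := diff_identity f e hf x y hfxy A u hu Φ
  rw [← hG, ← hH] at hI
  have hΦinj : Function.Injective Φ := Φ.toRingHom.injective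
  have hU0 : Φ (u 0) ≠ 0 := (map_ne_zero_iff Φ hΦinj).mpr hu0
  have hc0 : Φ (algebraMap k K A.det) ≠ 0 :=
    (map_ne_zero_iff Φ hΦinj).mpr ((map_ne_zero_iff _ (algebraMap k K).injective).mpr hA)
  have hg0 : Φ G ≠ 0 := (map_ne_zero_iff Φ hΦinj).mpr hfy
  have hh0 : Φ H ≠ 0 := (map_ne_zero_iff Φ hΦinj).mpr hH0
  -- derivative of the quotient
  have hV1 : LocRes.D k (Φ (u 1)) = Φ (u 1 / u 0) * LocRes.D k (Φ (u 0)) +
      Φ (u 0) * LocRes.D k (Φ (u 1 / u 0)) := by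
    have h1 : Φ (u 1) = Φ (u 1 / u 0) * Φ (u 0) := by
      rw [← map_mul, div_mul_cancel₀ _ hu0]
    conv_lhs => rw [h1]
    rw [Derivation.leibniz, smul_eq_mul, smul_eq_mul]
  have hX' : Φ (u 1 / u 0) = Φ (u 1) / Φ (u 0) := map_div₀ Φ _ _
  -- the main identity in the Laurent series field
  have hmain : Φ G'⁻¹ * LocRes.D k (Φ (u 1 / u 0)) =
      (Φ (u 0) ^ (e - 1) * (Φ (u 0))⁻¹ * (Φ (u 0))⁻¹ * (Φ (algebraMap k K A.det))⁻¹) *
        (Φ G⁻¹ * LocRes.D k (Φ x)) := by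
    rw [map_inv₀, map_inv₀, hGH, map_mul, map_pow, map_inv₀, inv_pow, mul_inv, inv_inv]
    rw [hV1] at hI
    generalize LocRes.D k (Φ (u 1 / u 0)) = W at hI ⊢
    rw [hX'] at hI
    generalize LocRes.D k (Φ (u 0)) = V0 at hI ⊢
    generalize LocRes.D k (Φ x) = dx at hI ⊢
    generalize Φ (u 0) = U0 at hI hU0 ⊢
    generalize Φ (u 1) = U1 at hI ⊢
    generalize Φ (algebraMap k K A.det) = c at hI hc0 ⊢
    generalize Φ G = g at hI hg0 ⊢
    generalize Φ H = h at hI hh0 ⊢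
    have hI2 : c * g * U0 ^ 2 * W = h * dx := by
      rw [← hI]
      field_simp
      ring
    have hW : W = h * dx * c⁻¹ * g⁻¹ * U0⁻¹ * U0⁻¹ := by
      field_simp
      linear_combination hI2
    rw [hW]
    field_simp
  -- valuations
  have hvc : Valued.v (Φ (algebraMap k K A.det)) = 1 := by
    rw [hΦ.1, val_const P hA]
  have hvU : Valued.v (Φ (u 0)) = WithZero.exp (-(P.ord (u 0))) := by
    rw [hΦ.1, val_eq_exp_neg_ord P hu0]
  have hDx : LocRes.D k (Φ x) ≠ 0 := D_expansion_ne_zero hfr hΦ hdx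
  have hv0 : LocRes.vDiff Φ G⁻¹ x ≠ 0 := by
    unfold LocRes.vDiff
    rw [Ne, map_eq_zero]
    exact mul_ne_zero ((map_ne_zero_iff Φ hΦinj).mpr (inv_ne_zero hfy)) hDx
  have hvd : LocRes.vDiff Φ G'⁻¹ (u 1 / u 0) =
      WithZero.exp (-(((e : ℤ) - 3) * P.ord (u 0))) * LocRes.vDiff Φ G⁻¹ x := by
    unfold LocRes.vDiff
    rw [hmain, map_mul, map_mul, map_mul, map_mul, map_pow, map_inv₀, map_inv₀, hvc, hvU,
      inv_one, mul_one, ← WithZero.exp_nsmul, ← WithZero.exp_neg, ← WithZero.exp_add,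
      ← WithZero.exp_add]
    congr 2
    rw [nsmul_eq_mul, Nat.cast_sub he1]
    push_cast
    ring
  unfold LocRes.ordDiff
  rw [hvd, WithZero.log_mul WithZero.exp_ne_zero hv0, WithZero.log_exp]
  ring

end Groth.Agent.Helper16.AdjInv
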