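import Groth.Agent.H16.AdjInv4
set_option autoImplicit false
set_option linter.unusedSimpArgs false

/-! Finite support of `P ↦ ord_P (z dx)` and the value of `divDiff`. -/

namespace Groth.Agent.Helper16.AdjInv

open FunFld Module Groth.Agent.Helper17.FF MvPolynomial

variable {k K : Type*} [Field k] [Field K] [Algebra k K]

theorem ordDiff_eq_add [IsAlgClosed k] (hK : IsFunctionField k K) {x z : K}
    (hdx : KaehlerDifferential.D k K x ≠ 0) (hz : z ≠ 0)
    (P : Place k K) (Φ : K →ₐ[k] LaurentSeries k) (hΦ : LocRes.IsExpansionAt P.1 Φ) :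
    LocRes.ordDiff Φ z x = P.ord z + LocRes.ordDiff Φ 1 x := by
  have hg := Groth.Agent.Helper17.FF.isGeometric_of_perfect k K hK
  have hfr := finrank_kaehler hK hg
  have hDx : LocRes.D k (Φ x) ≠ 0 := D_expansion_ne_zero hfr hΦ hdx
  have hΦinj : Function.Injective Φ := Φ.toRingHom.injective
  have hz0 : Φ z ≠ 0 := (map_ne_zero_iff Φ hΦinj).mpr hz
  unfold LocRes.ordDiff LocRes.vDiff
  rw [map_one, one_mul, map_mul, WithZero.log_mul, hΦ.1, val_eq_exp_neg_ord P hz,
    WithZero.log_exp]
  · ring
  · rw [Ne, map_eq_zero]; exact hz0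
  · rw [Ne, map_eq_zero]; exact hDx

theorem finite_support_ordDiff_gen [IsAlgClosed k] (hK : IsFunctionField k K) {x : K}
    (hdx : KaehlerDifferential.D k K x ≠ 0) (z : K) (hz : z ≠ 0)
    (Φ : Place k K → (K →ₐ[k] LaurentSeries k))
    (hΦ : ∀ P : Place k K, LocRes.IsExpansionAt P.1 (Φ P)) :
    (Function.support fun P : Place k K => LocRes.ordDiff (Φ P) z x).Finite := by
  classical
  have hg := Groth.Agent.Helper17.FF.isGeometric_of_perfect k K hK
  have hxt : Transcendental k x := by
    apply transcendental_of_not_mem hK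
    rintro ⟨c, rfl⟩
    exact hdx (Derivation.map_algebraMap _ c)
  haveI := finite_of_transcendental hK hxt
  haveI : Algebra.IsSeparable (IntermediateField.adjoin k ({x} : Set K)) K :=
    (isSeparable_iff_D_ne_zero hK hg x).mpr hdx
  obtain ⟨H, hH⟩ := Groth.Agent.Helper16.HF.exists_hasseFamily (k := k) x hxt
  have h1 := Groth.Agent.Helper16.Hasse.finite_support_ordDiff hK H hH Φ hΦ
  have h2 := finite_support_ord hK z
  refine (h1.union h2).subset ?_
  intro P hP
  rw [Function.mem_support, ordDiff_eq_add hK hdx hz P (Φ P) (hΦ P)] at hP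
  by_contra hnot
  simp only [Set.mem_union, Set.mem_ofPred_eq, Function.mem_support, not_or, not_not] at hnot
  apply hP
  rw [hnot.1, hnot.2, add_zero]

theorem divDiff_apply_gen [IsAlgClosed k] (hK : IsFunctionField k K) {x : K}
    (hdx : KaehlerDifferential.D k K x ≠ 0) (z : K) (hz : z ≠ 0)
    (Φ : Place k K → (K →ₐ[k] LaurentSeries k))
    (hΦ : ∀ P : Place k K, LocRes.IsExpansionAt P.1 (Φ P)) (P : Place k K) :
    divDiff Φ z x P = LocRes.ordDiff (Φ P) z x := by
  have hfin := finite_support_ordDiff_gen hK hdx z hz Φ hΦ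
  unfold divDiff
  rw [dif_pos hfin]
  rfl

end Groth.Agent.Helper16.AdjInv
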