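import Mathlib
import Groth.Prelude.Def_W4bk4grassmannianPl

set_option autoImplicit false
set_option linter.style.haveILetI false

/-! Straightening for Plücker coordinates: combinatorics of the shuffle relations. -/

namespace Groth.Agent.H16.ST

open MvPolynomial W4bk4grassmannian

universe u

variable {d n : ℕ}

/-- the sum of the entries of an index. -/
def ssum (τ : Idx d n) : ℕ := ∑ t, (τ.1 t).val

theorem ssum_le (τ : Idx d n) : ssum τ ≤ d * n := by
  unfold ssum
  calc ∑ t : Fin d, (τ.1 t).val ≤ ∑ _t : Fin d, n :=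
        Finset.sum_le_sum (fun t _ => (τ.1 t).isLt.le)
    _ = d * n := by simp

variable (K : Type u) [CommRing K]

theorem coord_cases (a : Fin d → Fin n) :
    coord K d n a = 0 ∨ ∃ τ : Idx d n, (coord K d n a = X τ ∨ coord K d n a = -X τ) ∧
      ssum τ = ∑ t, (a t).val := by
  unfold coord
  split_ifs with h
  · right
    refine ⟨sortIdx d n a h, ?_, ?_⟩
    · rcases neg_one_pow_eq_or (PlRing K d n) (invCount d n a) with h1 | h1
      · left; rw [h1, one_mul]
      · right; rw [h1, neg_one_mul]
    · have hinj : Function.Injective a := by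
        have h2 : (Finset.univ.image a).card = (Finset.univ : Finset (Fin d)).card := by
          rw [h, Finset.card_univ, Fintype.card_fin]
        have h3 := Finset.card_image_iff.mp h2
        exact fun x y hxy => h3 (Finset.mem_coe.2 (Finset.mem_univ x))
          (Finset.mem_coe.2 (Finset.mem_univ y)) hxy
      have h4 : ∑ t : Fin d, (a t).val = ∑ x ∈ Finset.univ.image a, x.val :=
        (Finset.sum_image (f := fun x : Fin n => x.val) (fun x _ y _ hxy => hinj hxy)).symm
      have h5 : ∑ t : Fin d, ((Finset.univ.image a).orderEmbOfFin h t).val =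
          ∑ x ∈ Finset.univ.image ((Finset.univ.image a).orderEmbOfFin h), x.val :=
        (Finset.sum_image (f := fun x : Fin n => x.val)
          (fun x _ y _ hxy => ((Finset.univ.image a).orderEmbOfFin h).injective hxy)).symm
      rw [h4]
      show ∑ t : Fin d, ((Finset.univ.image a).orderEmbOfFin h t).val = _
      rw [h5, Finset.image_orderEmbOfFin_univ]
  · left; rfl

theorem coord_idx (i : Idx d n) : coord K d n i.1 = X i := by
  have hinj : Function.Injective i.1 := i.2.injective
  have h : (Finset.univ.image i.1).card = d := by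
    rw [Finset.card_image_of_injective _ hinj, Finset.card_univ, Fintype.card_fin]
  unfold coord
  rw [dif_pos h]
  have h0 : invCount d n i.1 = 0 := by
    unfold invCount
    rw [Finset.card_eq_zero, Finset.filter_eq_empty_iff]
    rintro p - ⟨h1, h2⟩
    exact absurd (i.2 h1) (not_lt.mpr h2.le)
  have h1 : sortIdx d n i.1 h = i := by
    apply Subtype.ext
    funext t
    have := Finset.orderEmbOfFin_unique h (f := i.1)
      (fun x => Finset.mem_image_of_mem _ (Finset.mem_univ x)) i.2
    exact (congrFun this t).symm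
  rw [h0, pow_zero, one_mul, h1]

theorem movingRows_of_le (i j : Idx d n) (r : Fin d) (k : Fin (d + 1)) (h : k.val ≤ r.val) :
    movingRows i j r k = i.1 ⟨k.val, lt_of_le_of_lt h r.isLt⟩ := by
  unfold movingRows
  rw [dif_pos h]

theorem movingRows_of_gt (i j : Idx d n) (r : Fin d) (k : Fin (d + 1)) (h : r.val < k.val) :
    movingRows i j r k = j.1 ⟨k.val - 1, by have := k.isLt; omega⟩ := by
  unfold movingRows
  rw [dif_neg (not_le.mpr h)]

theorem movingRows_strictMono {i j : Idx d n} {r : Fin d} (h : i.1 r < j.1 r) :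
    StrictMono (movingRows i j r) := by
  intro k k' hkk'
  have hkk'' : k.val < k'.val := hkk'
  by_cases h1 : k.val ≤ r.val
  · by_cases h2 : k'.val ≤ r.val
    · rw [movingRows_of_le i j r k h1, movingRows_of_le i j r k' h2]
      exact i.2 (Fin.mk_lt_mk.mpr hkk'')
    · rw [movingRows_of_le i j r k h1, movingRows_of_gt i j r k' (not_le.mp h2)]
      have h3 : i.1 ⟨k.val, lt_of_le_of_lt h1 r.isLt⟩ ≤ i.1 r :=
        i.2.monotone (Fin.mk_le_of_le_val h1)
      have h4 : j.1 r ≤ j.1 ⟨k'.val - 1, by have := k'.isLt; omega⟩ :=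
        j.2.monotone (Fin.le_def.mpr (by simp only; omega))
      exact lt_of_le_of_lt h3 (lt_of_lt_of_le h h4)
  · have h2 : r.val < k'.val := by omega
    rw [movingRows_of_gt i j r k (not_le.mp h1), movingRows_of_gt i j r k' h2]
    exact j.2 (Fin.mk_lt_mk.mpr (by omega))

theorem val_le_of_strictMono {a b : ℕ} (e : Fin a → Fin b) (he : StrictMono e) (u : Fin a) :
    u.val ≤ (e u).val := by
  obtain ⟨u, hu⟩ := u
  induction u with
  | zero => exact Nat.zero_le _
  | succ u ih =>
    have h1 := ih (by omega)
    have h2 : (e ⟨u, by omega⟩).val < (e ⟨u + 1, hu⟩).val :=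
      he (Fin.mk_lt_mk.mpr (Nat.lt_succ_self u))
    simp only at h1 ⊢
    omega

end Groth.Agent.H16.ST
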