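import Mathlib
import Groth.Prelude.Def_W4bk4grassmannianPl
import Groth.Agent.H16.ST1

set_option autoImplicit false

/-! Plücker quadrics cut out the Grassmannian: brackets and their evaluation at minors. -/

namespace Groth.Agent.H16.PQ

open MvPolynomial W4bk4grassmannian

universe u

variable {K : Type u} [CommRing K] {d n : ℕ}

/-- the bracket of an arbitrary tuple, evaluated at a vector of Plücker coordinates. -/
noncomputable def br (F : Idx d n → K) (a : Fin d → Fin n) : K :=
  MvPolynomial.eval F (coord K d n a)

theorem card_image_iff (a : Fin d → Fin n) :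
    (Finset.univ.image a).card = d ↔ Function.Injective a := by
  constructor
  · intro h
    have h2 : (Finset.univ.image a).card = (Finset.univ : Finset (Fin d)).card := by
      rw [h, Finset.card_univ, Fintype.card_fin]
    have h3 := Finset.card_image_iff.mp h2
    exact fun x y hxy => h3 (Finset.mem_coe.2 (Finset.mem_univ x))
      (Finset.mem_coe.2 (Finset.mem_univ y)) hxy
  · intro h
    rw [Finset.card_image_of_injective _ h, Finset.card_univ, Fintype.card_fin]

theorem br_of_not_injective (F : Idx d n → K) (a : Fin d → Fin n) (h : ¬ Function.Injective a) :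
    br F a = 0 := by
  unfold br coord
  rw [dif_neg (fun h' => h ((card_image_iff a).mp h')), map_zero]

theorem br_of_card (F : Idx d n → K) (a : Fin d → Fin n) (h : (Finset.univ.image a).card = d) :
    br F a = (-1) ^ invCount d n a * F (sortIdx d n a h) := by
  unfold br coord
  rw [dif_pos h, map_mul, map_pow, map_neg, map_one, MvPolynomial.eval_X]

theorem sortIdx_eq (a : Fin d → Fin n) (h : (Finset.univ.image a).card = d) (S : Idx d n)
    (hS : Finset.univ.image S.1 = Finset.univ.image a) : sortIdx d n a h = S := by
  apply Subtype.ext
  funext t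
  have := Finset.orderEmbOfFin_unique h (f := S.1)
    (fun x => by rw [← hS]; exact Finset.mem_image_of_mem _ (Finset.mem_univ x)) S.2
  exact (congrFun this t).symm

theorem image_sortIdx (a : Fin d → Fin n) (h : (Finset.univ.image a).card = d) :
    Finset.univ.image (sortIdx d n a h).1 = Finset.univ.image a := by
  show Finset.univ.image (fun t => (Finset.univ.image a).orderEmbOfFin h t) = _
  exact Finset.image_orderEmbOfFin_univ _ h

theorem br_of_image (F : Idx d n → K) (a : Fin d → Fin n) (S : Idx d n)
    (hS : Finset.univ.image S.1 = Finset.univ.image a) :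
    br F a = (-1) ^ invCount d n a * F S := by
  have h : (Finset.univ.image a).card = d := by
    rw [← hS]; exact (card_image_iff S.1).mpr S.2.injective
  rw [br_of_card F a h, sortIdx_eq a h S hS]

theorem br_idx (F : Idx d n → K) (θ : Idx d n) : br F θ.1 = F θ := by
  unfold br
  rw [ST.coord_idx, MvPolynomial.eval_X]

/-- image principle -/
theorem br_congr (F G : Idx d n → K) (a : Fin d → Fin n)
    (h : ∀ T : Idx d n, Finset.univ.image T.1 = Finset.univ.image a → F T = G T) :
    br F a = br G a := by
  by_cases hc : (Finset.univ.image a).card = d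
  · rw [br_of_card F a hc, br_of_card G a hc, h _ (image_sortIdx a hc)]
  · have hi : ¬ Function.Injective a := fun hi => hc ((card_image_iff a).mpr hi)
    rw [br_of_not_injective F a hi, br_of_not_injective G a hi]

theorem br_smul (c : K) (F : Idx d n → K) (a : Fin d → Fin n) :
    br (fun θ => c * F θ) a = c * br F a := by
  by_cases hc : (Finset.univ.image a).card = d
  · rw [br_of_card _ a hc, br_of_card F a hc]; ring
  · have hi : ¬ Function.Injective a := fun hi => hc ((card_image_iff a).mpr hi)
    rw [br_of_not_injective _ a hi, br_of_not_injective F a hi, mul_zero]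

/-- the sign of a permutation of `Fin d` through its inversions. -/
theorem sign_eq_neg_one_pow (π : Equiv.Perm (Fin d)) :
    ((Equiv.Perm.sign π : ℤˣ) : ℤ) =
      (-1) ^ (Finset.univ.filter fun p : Fin d × Fin d => p.1 < p.2 ∧ π p.2 < π p.1).card := by
  have h1 : ((-1 : ℤ)) ^ (Finset.univ.filter
      fun p : Fin d × Fin d => p.1 < p.2 ∧ π p.2 < π p.1).card =
      ∏ p : Fin d × Fin d, (if p.1 < p.2 ∧ π p.2 < π p.1 then (-1 : ℤ) else 1) := by
    rw [Finset.prod_ite, Finset.prod_const, Finset.prod_const_one, mul_one]
  rw [h1, Equiv.Perm.sign_eq_prod_prod_Iio, Fintype.prod_prod_type_right, Units.coe_prod]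
  refine Finset.prod_congr rfl (fun j _ => ?_)
  rw [Units.coe_prod]
  have h2 : (Finset.Iio j : Finset (Fin d)) = Finset.univ.filter (fun i => i < j) := by
    ext i; simp
  rw [h2, Finset.prod_filter]
  refine Finset.prod_congr rfl (fun i _ => ?_)
  by_cases hij : i < j
  · have hne : π i ≠ π j := fun h => hij.ne (π.injective h)
    by_cases hlt : π i < π j
    · rw [if_pos hij, if_pos hlt, if_neg (fun h => absurd h.2 (not_lt.mpr hlt.le))]
      rfl
    · have : π j < π i := lt_of_le_of_ne (not_lt.mp hlt) (Ne.symm hne)
      rw [if_pos hij, if_neg hlt, if_pos ⟨hij, this⟩]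
      rfl
  · rw [if_neg hij, if_neg (fun h => hij h.1)]

/-- evaluation of brackets at the minors of a matrix. -/
theorem br_minors (A : Matrix (Fin n) (Fin d) K) (a : Fin d → Fin n) :
    br (fun θ : Idx d n => (A.submatrix θ.1 id).det) a = (A.submatrix a id).det := by
  by_cases hc : (Finset.univ.image a).card = d
  · rw [br_of_card _ a hc]
    have hinj : Function.Injective a := (card_image_iff a).mp hc
    set θ := sortIdx d n a hc with hθ
    have himg : Finset.univ.image θ.1 = Finset.univ.image a := image_sortIdx a hc
    -- the permutation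
    have hex : ∀ t : Fin d, ∃ s : Fin d, θ.1 s = a t := by
      intro t
      have : a t ∈ Finset.univ.image θ.1 := by
        rw [himg]; exact Finset.mem_image_of_mem _ (Finset.mem_univ t)
      obtain ⟨s, -, hs⟩ := Finset.mem_image.mp this
      exact ⟨s, hs⟩
    choose f hf using hex
    have hfinj : Function.Injective f := by
      intro x y hxy
      apply hinj
      rw [← hf x, ← hf y, hxy]
    let π : Equiv.Perm (Fin d) := Equiv.ofBijective f (Finite.injective_iff_bijective.mp hfinj)
    have hπ : ∀ t, θ.1 (π t) = a t := hf
    have hsub : A.submatrix a id = (A.submatrix θ.1 id).submatrix π id := by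
      ext r c
      simp only [Matrix.submatrix_apply, id]
      rw [hπ]
    rw [hsub, Matrix.det_permute]
    congr 1
    have hinv : invCount d n a =
        (Finset.univ.filter fun p : Fin d × Fin d => p.1 < p.2 ∧ π p.2 < π p.1).card := by
      unfold invCount
      congr 1
      ext p
      simp only [Finset.mem_filter, Finset.mem_univ, true_and]
      rw [← hπ p.1, ← hπ p.2, θ.2.lt_iff_lt]
    rw [hinv, sign_eq_neg_one_pow]
    push_cast
    rfl
  · have hi : ¬ Function.Injective a := fun hi => hc ((card_image_iff a).mpr hi)
    rw [br_of_not_injective _ a hi]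
    rw [Function.Injective] at hi
    push Not at hi
    obtain ⟨x, y, hxy, hne⟩ := hi
    exact (Matrix.det_zero_of_row_eq hne (by
      funext c; simp only [Matrix.submatrix_apply]; rw [hxy])).symm

end Groth.Agent.H16.PQ
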