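import Mathlib
import Groth.Prelude.Def_W4bk4grassmannianPl
import Groth.Agent.H16.PQ1

set_option autoImplicit false

/-! The Plücker relations for the minors of a matrix. -/

namespace Groth.Agent.H16.PQ

open MvPolynomial W4bk4grassmannian

universe u

variable {K : Type u} [CommRing K] {n : ℕ}

theorem det_snoc_expand {e : ℕ} (A : Matrix (Fin n) (Fin (e + 1)) K) (i' : Fin e → Fin n)
    (y : Fin n) :
    (A.submatrix (Fin.snoc i' y : Fin (e + 1) → Fin n) id).det =
      ∑ c : Fin (e + 1), (-1 : K) ^ (e + c.val) * A y c * (A.submatrix i' c.succAbove).det := by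
  rw [Matrix.det_succ_row _ (Fin.last e)]
  refine Finset.sum_congr rfl (fun c _ => ?_)
  have h1 : (A.submatrix (Fin.snoc i' y : Fin (e + 1) → Fin n) id) (Fin.last e) c = A y c := by
    simp only [Matrix.submatrix_apply, id, Fin.snoc_last]
  have h2 : (A.submatrix (Fin.snoc i' y : Fin (e + 1) → Fin n) id).submatrix
      (Fin.last e).succAbove c.succAbove = A.submatrix i' c.succAbove := by
    ext r s
    simp only [Matrix.submatrix_apply, id, Fin.succAbove_last, Fin.snoc_castSucc]
  rw [h1, h2, Fin.val_last]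

theorem plucker_matrix {e : ℕ} (A : Matrix (Fin n) (Fin (e + 1)) K) (i' : Fin e → Fin n)
    (j' : Fin (e + 2) → Fin n) :
    ∑ h : Fin (e + 2), (-1 : K) ^ (h.val + 1) *
      (A.submatrix (Fin.snoc i' (j' h) : Fin (e + 1) → Fin n) id).det *
      (A.submatrix (j' ∘ h.succAbove) id).det = 0 := by
  have hinner : ∀ c : Fin (e + 1), ∑ h : Fin (e + 2), (-1 : K) ^ h.val * A (j' h) c *
      (A.submatrix (j' ∘ h.succAbove) id).det = 0 := by
    intro c
    set B : Matrix (Fin (e + 2)) (Fin (e + 2)) K :=
      Matrix.of fun (h : Fin (e + 2)) (k : Fin (e + 2)) =>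
        (Fin.cases (A (j' h) c) (fun c' => A (j' h) c') k : K) with hB
    have hdet : B.det = 0 := by
      apply Matrix.det_zero_of_column_eq (i := 0) (j := c.succ) (Fin.succ_ne_zero c).symm
      intro k
      simp only [hB, Matrix.of_apply, Fin.cases_zero, Fin.cases_succ]
    rw [← hdet, Matrix.det_succ_column_zero]
    refine Finset.sum_congr rfl (fun h _ => ?_)
    have h1 : B h 0 = A (j' h) c := by
      simp only [hB, Matrix.of_apply, Fin.cases_zero]
    have h2 : B.submatrix h.succAbove Fin.succ = A.submatrix (j' ∘ h.succAbove) id := by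
      ext r s
      simp only [hB, Matrix.submatrix_apply, Matrix.of_apply, Fin.cases_succ, Function.comp, id]
    rw [h1, h2]
  have hrw : ∀ h : Fin (e + 2), (-1 : K) ^ (h.val + 1) *
      (A.submatrix (Fin.snoc i' (j' h) : Fin (e + 1) → Fin n) id).det *
      (A.submatrix (j' ∘ h.succAbove) id).det =
      ∑ c : Fin (e + 1), (-((-1 : K) ^ (e + c.val)) * (A.submatrix i' c.succAbove).det) *
        ((-1 : K) ^ h.val * A (j' h) c * (A.submatrix (j' ∘ h.succAbove) id).det) := by
    intro h
    rw [det_snoc_expand, Finset.mul_sum, Finset.sum_mul]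
    refine Finset.sum_congr rfl (fun c _ => ?_)
    rw [pow_succ]
    ring
  rw [Finset.sum_congr rfl (fun h _ => hrw h), Finset.sum_comm]
  refine Finset.sum_eq_zero (fun c _ => ?_)
  rw [← Finset.mul_sum, hinner c, mul_zero]

/-- the minors of a matrix satisfy the Plücker quadrics. -/
theorem quadric_minors {e : ℕ} (A : Matrix (Fin n) (Fin (e + 1)) K) (i' : Idx e n)
    (j' : Idx (e + 2) n) :
    MvPolynomial.eval (fun θ : Idx (e + 1) n => (A.submatrix θ.1 id).det) (quadric K i' j') = 0 := by
  unfold quadric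
  rw [map_sum]
  rw [← plucker_matrix A i'.1 j'.1]
  refine Finset.sum_congr rfl (fun h _ => ?_)
  rw [map_mul, map_mul, map_pow, map_neg, map_one]
  have h1 := br_minors A (Fin.snoc i'.1 (j'.1 h) : Fin (e + 1) → Fin n)
  have h2 := br_minors A (j'.1 ∘ h.succAbove)
  unfold br at h1 h2
  rw [h1, h2]

/-- evaluation of a quadric in bracket form. -/
theorem eval_quadric {e : ℕ} (F : Idx (e + 1) n → K) (i' : Idx e n) (j' : Idx (e + 2) n) :
    MvPolynomial.eval F (quadric K i' j') =
      ∑ h : Fin (e + 2), (-1 : K) ^ (h.val + 1) *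
        br F (Fin.snoc i'.1 (j'.1 h) : Fin (e + 1) → Fin n) * br F (j'.1 ∘ h.succAbove) := by
  unfold quadric
  rw [map_sum]
  refine Finset.sum_congr rfl (fun h _ => ?_)
  rw [map_mul, map_mul, map_pow, map_neg, map_one]
  rfl

end Groth.Agent.H16.PQ
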