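import Mathlib
import Groth.Prelude.Def_W4bk4grassmannianPl
import Groth.Agent.H16.PQ2

set_option autoImplicit false

/-! Uniqueness: a solution of the Plücker quadrics is determined by its coordinates near a
nonvanishing one. -/

namespace Groth.Agent.H16.PQ

open MvPolynomial W4bk4grassmannian

universe u

variable {K : Type u} [Field K] {n : ℕ}

theorem image_snoc {α : Type*} [DecidableEq α] {e : ℕ} (f : Fin e → α) (y : α) :
    Finset.univ.image (Fin.snoc f y : Fin (e + 1) → α) = insert y (Finset.univ.image f) := by
  ext z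
  simp only [Finset.mem_image, Finset.mem_univ, true_and, Finset.mem_insert]
  constructor
  · rintro ⟨t, rfl⟩
    induction t using Fin.lastCases with
    | last => left; simp
    | cast t => right; exact ⟨t, by simp⟩
  · rintro (rfl | ⟨t, rfl⟩)
    · exact ⟨Fin.last e, by simp⟩
    · exact ⟨t.castSucc, by simp⟩

theorem image_comp_succAbove {α : Type*} [DecidableEq α] {k : ℕ} (f : Fin (k + 1) → α)
    (hf : Function.Injective f) (t : Fin (k + 1)) :
    Finset.univ.image (f ∘ t.succAbove) = (Finset.univ.image f).erase (f t) := by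
  ext z
  simp only [Finset.mem_image, Finset.mem_univ, true_and, Finset.mem_erase, Function.comp]
  constructor
  · rintro ⟨s, rfl⟩
    exact ⟨fun h => Fin.succAbove_ne t s (hf h), ⟨_, rfl⟩⟩
  · rintro ⟨hne, ⟨s, rfl⟩⟩
    have hst : s ≠ t := fun h => hne (by rw [h])
    obtain ⟨r, rfl⟩ := Fin.exists_succAbove_eq hst
    exact ⟨r, rfl⟩

theorem image_update {α : Type*} [DecidableEq α] {k : ℕ} (f : Fin k → α)
    (hf : Function.Injective f) (c : Fin k) (x : α) :
    Finset.univ.image (Function.update f c x) = insert x ((Finset.univ.image f).erase (f c)) := by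
  ext z
  simp only [Finset.mem_image, Finset.mem_univ, true_and, Finset.mem_erase, Finset.mem_insert]
  constructor
  · rintro ⟨s, rfl⟩
    by_cases hs : s = c
    · left; rw [hs, Function.update_self]
    · right
      rw [Function.update_of_ne hs]
      exact ⟨fun h => hs (hf h), ⟨s, rfl⟩⟩
  · rintro (rfl | ⟨hne, ⟨s, rfl⟩⟩)
    · exact ⟨c, Function.update_self _ _ _⟩
    · have hs : s ≠ c := fun h => hne (by rw [h])
      exact ⟨s, Function.update_of_ne hs _ _⟩

theorem idx_ext_of_image {d : ℕ} (S T : Idx d n)
    (h : Finset.univ.image S.1 = Finset.univ.image T.1) : S = T := by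
  have hc : (Finset.univ.image T.1).card = d := (card_image_iff T.1).mpr T.2.injective
  exact (sortIdx_eq T.1 hc S h).symm.trans (sortIdx_eq T.1 hc T rfl)

theorem uniqueness {e : ℕ} (F G : Idx (e + 1) n → K) (S₀ : Idx (e + 1) n)
    (hF : ∀ (i' : Idx e n) (j' : Idx (e + 2) n), MvPolynomial.eval F (quadric K i' j') = 0)
    (hG : ∀ (i' : Idx e n) (j' : Idx (e + 2) n), MvPolynomial.eval G (quadric K i' j') = 0)
    (h0 : F S₀ = G S₀) (hne : F S₀ ≠ 0)
    (h1 : ∀ (c : Fin (e + 1)) (x : Fin n) (T : Idx (e + 1) n), x ∉ Finset.univ.image S₀.1 →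
      Finset.univ.image T.1 = insert x ((Finset.univ.image S₀.1).erase (S₀.1 c)) → F T = G T) :
    F = G := by
  classical
  set I₀ := Finset.univ.image S₀.1 with hI₀
  have hI₀c : I₀.card = e + 1 := (card_image_iff S₀.1).mpr S₀.2.injective
  have key : ∀ m : ℕ, ∀ S : Idx (e + 1) n, (Finset.univ.image S.1 \ I₀).card = m → F S = G S := by
    intro m
    induction m with
    | zero =>
      intro S hS
      have hsub : Finset.univ.image S.1 ⊆ I₀ := by
        rw [Finset.card_eq_zero, Finset.sdiff_eq_empty_iff_subset] at hS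
        exact hS
      have hSc : (Finset.univ.image S.1).card = e + 1 := (card_image_iff S.1).mpr S.2.injective
      have heq : Finset.univ.image S.1 = I₀ :=
        Finset.eq_of_subset_of_card_le hsub (by rw [hI₀c, hSc])
      have : S = S₀ := idx_ext_of_image S S₀ heq
      rw [this]; exact h0
    | succ m ih =>
      intro S hS
      set IS := Finset.univ.image S.1 with hIS
      have hSinj : Function.Injective S.1 := S.2.injective
      have hnonempty : (IS \ I₀).Nonempty := by
        rw [← Finset.card_pos, hS]; exact Nat.succ_pos m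
      obtain ⟨x, hx⟩ := hnonempty
      have hxS : x ∈ IS := (Finset.mem_sdiff.mp hx).1
      have hxI : x ∉ I₀ := (Finset.mem_sdiff.mp hx).2
      obtain ⟨t₀, -, ht₀⟩ := Finset.mem_image.mp hxS
      -- the indices of the quadric
      let i' : Idx e n := ⟨S.1 ∘ t₀.succAbove, S.2.comp (Fin.strictMono_succAbove t₀)⟩
      have hi'img : Finset.univ.image i'.1 = IS.erase x := by
        show Finset.univ.image (S.1 ∘ t₀.succAbove) = _
        rw [image_comp_succAbove S.1 hSinj t₀, ht₀]
      have hJc : (insert x I₀).card = e + 2 := by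
        rw [Finset.card_insert_of_notMem hxI, hI₀c]
      let j' : Idx (e + 2) n := ⟨fun t => (insert x I₀).orderEmbOfFin hJc t,
        ((insert x I₀).orderEmbOfFin hJc).strictMono⟩
      have hj'img : Finset.univ.image j'.1 = insert x I₀ :=
        Finset.image_orderEmbOfFin_univ _ hJc
      have hj'inj : Function.Injective j'.1 := j'.2.injective
      have hj'mem : ∀ h, j'.1 h ∈ insert x I₀ := by
        intro h; rw [← hj'img]; exact Finset.mem_image_of_mem _ (Finset.mem_univ h)
      obtain ⟨hx0, -, hhx0⟩ : ∃ h ∈ Finset.univ, j'.1 h = x := by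
        apply Finset.mem_image.mp
        rw [hj'img]; exact Finset.mem_insert_self _ _
      -- the two quadric equations
      have eF := hF i' j'
      have eG := hG i' j'
      rw [eval_quadric] at eF eG
      rw [← Finset.add_sum_erase _ _ (Finset.mem_univ hx0)] at eF eG
      -- the other terms agree
      have hother : ∀ h ∈ Finset.univ.erase hx0,
          (-1 : K) ^ (h.val + 1) * br F (Fin.snoc i'.1 (j'.1 h) : Fin (e + 1) → Fin n) *
            br F (j'.1 ∘ h.succAbove) =
          (-1 : K) ^ (h.val + 1) * br G (Fin.snoc i'.1 (j'.1 h) : Fin (e + 1) → Fin n) *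
            br G (j'.1 ∘ h.succAbove) := by
        intro h hh
        have hhne : h ≠ hx0 := (Finset.mem_erase.mp hh).1
        have hyne : j'.1 h ≠ x := fun hh' => hhne (hj'inj (hh'.trans hhx0.symm))
        have hyI : j'.1 h ∈ I₀ := by
          rcases Finset.mem_insert.mp (hj'mem h) with h' | h'
          · exact absurd h' hyne
          · exact h'
        obtain ⟨c, -, hc⟩ := Finset.mem_image.mp hyI
        have hA : br F (Fin.snoc i'.1 (j'.1 h) : Fin (e + 1) → Fin n) =
            br G (Fin.snoc i'.1 (j'.1 h) : Fin (e + 1) → Fin n) := by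
          apply br_congr
          intro T hT
          apply ih T
          rw [hT, image_snoc, hi'img, Finset.insert_sdiff_of_mem _ hyI,
            Finset.erase_sdiff_comm, Finset.card_erase_of_mem hx, hS]
          rfl
        have hB : br F (j'.1 ∘ h.succAbove) = br G (j'.1 ∘ h.succAbove) := by
          apply br_congr
          intro T hT
          apply h1 c x T hxI
          rw [hT, image_comp_succAbove j'.1 hj'inj h, hj'img, ← hc,
            Finset.erase_insert_of_ne]
          intro hxc
          exact hxI (by rw [hxc]; exact Finset.mem_image_of_mem _ (Finset.mem_univ c))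
        rw [hA, hB]
      rw [Finset.sum_congr rfl hother] at eF
      have hmain : (-1 : K) ^ (hx0.val + 1) *
            br F (Fin.snoc i'.1 (j'.1 hx0) : Fin (e + 1) → Fin n) * br F (j'.1 ∘ hx0.succAbove) =
          (-1 : K) ^ (hx0.val + 1) *
            br G (Fin.snoc i'.1 (j'.1 hx0) : Fin (e + 1) → Fin n) * br G (j'.1 ∘ hx0.succAbove) := by
        have := eF.trans eG.symm
        exact add_right_cancel this
      -- identify the main term
      have himg1 : Finset.univ.image S.1 =
          Finset.univ.image (Fin.snoc i'.1 (j'.1 hx0) : Fin (e + 1) → Fin n) := by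
        rw [image_snoc, hi'img, hhx0, Finset.insert_erase hxS]
      have himg2 : Finset.univ.image S₀.1 = Finset.univ.image (j'.1 ∘ hx0.succAbove) := by
        rw [image_comp_succAbove j'.1 hj'inj hx0, hj'img, hhx0, Finset.erase_insert hxI]
      rw [br_of_image F _ S himg1, br_of_image G _ S himg1, br_of_image F _ S₀ himg2,
        br_of_image G _ S₀ himg2, ← h0] at hmain
      have hu : ∀ k : ℕ, ((-1 : K)) ^ k ≠ 0 := fun k => pow_ne_zero _ (neg_ne_zero.mpr one_ne_zero)
      have h3 : ((-1 : K) ^ (hx0.val + 1) *
          (-1 : K) ^ invCount (e + 1) n (Fin.snoc i'.1 (j'.1 hx0) : Fin (e + 1) → Fin n) *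
          (-1 : K) ^ invCount (e + 1) n (j'.1 ∘ hx0.succAbove) * F S₀) * F S =
          ((-1 : K) ^ (hx0.val + 1) *
          (-1 : K) ^ invCount (e + 1) n (Fin.snoc i'.1 (j'.1 hx0) : Fin (e + 1) → Fin n) *
          (-1 : K) ^ invCount (e + 1) n (j'.1 ∘ hx0.succAbove) * F S₀) * G S := by
        linear_combination hmain
      exact mul_left_cancel₀ (mul_ne_zero (mul_ne_zero (mul_ne_zero (hu _) (hu _)) (hu _)) hne) h3
  funext S
  exact key _ S rfl

end Groth.Agent.H16.PQ
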