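import Mathlib
import Groth.Prelude.Def_W4bk4grassmannianPl
import Groth.Agent.H16.ST1

set_option autoImplicit false
set_option linter.unusedSectionVars false

/-! The shuffle sum for vectors: definitions and linearity in each moving vector. -/

namespace Groth.Agent.H16.SM

open W4bk4grassmannian

universe u

variable {K : Type u} [CommRing K] {d : ℕ}

/-- rows of the first bracket. -/
def RI (r : Fin d) (V : Fin (d + 1) → Fin d → K) (U : Fin d → Fin d → K)
    (A : Finset (Fin (d + 1))) (hA : A.card = r.val + 1) : Matrix (Fin d) (Fin d) K :=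
  fun t => if h : t.val ≤ r.val then V (A.orderEmbOfFin hA ⟨t.val, by omega⟩) else U t

theorem card_compl {r : Fin d} {A : Finset (Fin (d + 1))} (hA : A.card = r.val + 1) :
    Aᶜ.card = d - r.val := by
  rw [Finset.card_compl, hA, Fintype.card_fin]; omega

/-- rows of the second bracket. -/
def RJ (r : Fin d) (V : Fin (d + 1) → Fin d → K) (W : Fin d → Fin d → K)
    (A : Finset (Fin (d + 1))) (hA : A.card = r.val + 1) : Matrix (Fin d) (Fin d) K :=
  fun t => if h : t.val < r.val then W t
    else V (Aᶜ.orderEmbOfFin (card_compl hA) ⟨t.val - r.val, by have := t.isLt; omega⟩)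

/-- one term of the shuffle sum. -/
def term (r : Fin d) (V : Fin (d + 1) → Fin d → K) (U W : Fin d → Fin d → K)
    (A : Finset (Fin (d + 1))) : K :=
  if hA : A.card = r.val + 1 then
    (-1 : K) ^ shuffleSign r A * (RI r V U A hA).det * (RJ r V W A hA).det
  else 0

/-- the shuffle sum. -/
def Psi (r : Fin d) (V : Fin (d + 1) → Fin d → K) (U W : Fin d → Fin d → K) : K :=
  ∑ A : Finset (Fin (d + 1)), term r V U W A

theorem exists_pos_of_mem {m : ℕ} {A : Finset (Fin (d + 1))} (hA : A.card = m)
    {k : Fin (d + 1)} (hk : k ∈ A) : ∃ s : Fin m, A.orderEmbOfFin hA s = k := by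
  have : k ∈ Finset.univ.image (A.orderEmbOfFin hA) := by
    rw [Finset.image_orderEmbOfFin_univ]; exact hk
  obtain ⟨s, -, hs⟩ := Finset.mem_image.mp this
  exact ⟨s, hs⟩

theorem RI_update_of_mem (r : Fin d) (V : Fin (d + 1) → Fin d → K)
    (U : Fin d → Fin d → K)
    (A : Finset (Fin (d + 1))) (hA : A.card = r.val + 1) {k : Fin (d + 1)} (hk : k ∈ A) :
    ∃ t₀ : Fin d, ∀ x, RI r (Function.update V k x) U A hA =
      Matrix.updateRow (RI r V U A hA) t₀ x := by
  obtain ⟨s, hs⟩ := exists_pos_of_mem hA hk
  refine ⟨⟨s.val, by have := s.isLt; have := r.isLt; omega⟩, fun x => ?_⟩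
  funext t
  by_cases ht : t = ⟨s.val, by have := s.isLt; have := r.isLt; omega⟩
  · rw [ht, Matrix.updateRow_self]
    unfold RI
    have h1 : s.val ≤ r.val := by have := s.isLt; omega
    rw [dif_pos h1]
    have : A.orderEmbOfFin hA ⟨s.val, by omega⟩ = k := by rw [← hs]
    rw [this, Function.update_self]
  · rw [Matrix.updateRow_ne ht]
    unfold RI
    by_cases h1 : t.val ≤ r.val
    · rw [dif_pos h1, dif_pos h1]
      have : A.orderEmbOfFin hA ⟨t.val, by omega⟩ ≠ k := by
        rw [← hs]
        intro h2
        have h3 := (A.orderEmbOfFin hA).injective h2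
        apply ht
        apply Fin.ext
        have := congrArg Fin.val h3
        simpa using this
      rw [Function.update_of_ne this]
    · rw [dif_neg h1, dif_neg h1]

theorem RI_update_of_not_mem (r : Fin d)
    (V : Fin (d + 1) → Fin d → K) (U : Fin d → Fin d → K)
    (A : Finset (Fin (d + 1))) (hA : A.card = r.val + 1) {k : Fin (d + 1)} (hk : k ∉ A)
    (x : Fin d → K) : RI r (Function.update V k x) U A hA = RI r V U A hA := by
  funext t
  unfold RI
  by_cases h1 : t.val ≤ r.val
  · rw [dif_pos h1, dif_pos h1]
    have : A.orderEmbOfFin hA ⟨t.val, by omega⟩ ≠ k := by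
      intro h2
      exact hk (h2 ▸ Finset.orderEmbOfFin_mem A hA _)
    rw [Function.update_of_ne this]
  · rw [dif_neg h1, dif_neg h1]

theorem RJ_update_of_not_mem (r : Fin d)
    (V : Fin (d + 1) → Fin d → K) (W : Fin d → Fin d → K)
    (A : Finset (Fin (d + 1))) (hA : A.card = r.val + 1) {k : Fin (d + 1)} (hk : k ∉ A) :
    ∃ t₀ : Fin d, ∀ x, RJ r (Function.update V k x) W A hA =
      Matrix.updateRow (RJ r V W A hA) t₀ x := by
  have hk' : k ∈ Aᶜ := Finset.mem_compl.mpr hk
  obtain ⟨s, hs⟩ := exists_pos_of_mem (card_compl hA) hk'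
  have hs' : s.val + r.val < d := by have := s.isLt; have := r.isLt; omega
  refine ⟨⟨s.val + r.val, hs'⟩, fun x => ?_⟩
  funext t
  by_cases ht : t = ⟨s.val + r.val, hs'⟩
  · rw [ht, Matrix.updateRow_self]
    unfold RJ
    have h1 : ¬ (s.val + r.val < r.val) := by omega
    rw [dif_neg h1]
    have : Aᶜ.orderEmbOfFin (card_compl hA) ⟨s.val + r.val - r.val, by omega⟩ = k := by
      rw [← hs]; congr 1; apply Fin.ext; simp
    rw [this, Function.update_self]
  · rw [Matrix.updateRow_ne ht]
    unfold RJ
    by_cases h1 : t.val < r.val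
    · rw [dif_pos h1, dif_pos h1]
    · rw [dif_neg h1, dif_neg h1]
      have : Aᶜ.orderEmbOfFin (card_compl hA) ⟨t.val - r.val, by have := t.isLt; omega⟩ ≠ k := by
        rw [← hs]
        intro h2
        have h3 := (Aᶜ.orderEmbOfFin (card_compl hA)).injective h2
        apply ht
        apply Fin.ext
        have := congrArg Fin.val h3
        simp only at this
        show t.val = s.val + r.val
        omega
      rw [Function.update_of_ne this]

theorem RJ_update_of_mem (r : Fin d)
    (V : Fin (d + 1) → Fin d → K) (W : Fin d → Fin d → K)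
    (A : Finset (Fin (d + 1))) (hA : A.card = r.val + 1) {k : Fin (d + 1)} (hk : k ∈ A)
    (x : Fin d → K) : RJ r (Function.update V k x) W A hA = RJ r V W A hA := by
  funext t
  unfold RJ
  by_cases h1 : t.val < r.val
  · rw [dif_pos h1, dif_pos h1]
  · rw [dif_neg h1, dif_neg h1]
    have : Aᶜ.orderEmbOfFin (card_compl hA) ⟨t.val - r.val, by have := t.isLt; omega⟩ ≠ k := by
      intro h2
      have := Finset.orderEmbOfFin_mem Aᶜ (card_compl hA) ⟨t.val - r.val, by have := t.isLt; omega⟩
      rw [h2] at this
      exact (Finset.mem_compl.mp this) hk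
    rw [Function.update_of_ne this]

theorem term_update_add (r : Fin d) (V : Fin (d + 1) → Fin d → K)
    (U W : Fin d → Fin d → K) (A : Finset (Fin (d + 1))) (k : Fin (d + 1)) (x y : Fin d → K) :
    term r (Function.update V k (x + y)) U W A =
      term r (Function.update V k x) U W A + term r (Function.update V k y) U W A := by
  unfold term
  by_cases hA : A.card = r.val + 1
  · rw [dif_pos hA, dif_pos hA, dif_pos hA]
    by_cases hk : k ∈ A
    · obtain ⟨t₀, h1⟩ := RI_update_of_mem r V U A hA hk
      rw [h1, h1, h1, RJ_update_of_mem r V W A hA hk, RJ_update_of_mem r V W A hA hk,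
        RJ_update_of_mem r V W A hA hk, Matrix.det_updateRow_add]
      ring
    · obtain ⟨t₀, h1⟩ := RJ_update_of_not_mem r V W A hA hk
      rw [h1, h1, h1, RI_update_of_not_mem r V U A hA hk, RI_update_of_not_mem r V U A hA hk,
        RI_update_of_not_mem r V U A hA hk, Matrix.det_updateRow_add]
      ring
  · rw [dif_neg hA, dif_neg hA, dif_neg hA, add_zero]

theorem term_update_smul (r : Fin d) (V : Fin (d + 1) → Fin d → K)
    (U W : Fin d → Fin d → K) (A : Finset (Fin (d + 1))) (k : Fin (d + 1)) (c : K)
    (x : Fin d → K) :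
    term r (Function.update V k (c • x)) U W A = c * term r (Function.update V k x) U W A := by
  unfold term
  by_cases hA : A.card = r.val + 1
  · rw [dif_pos hA, dif_pos hA]
    by_cases hk : k ∈ A
    · obtain ⟨t₀, h1⟩ := RI_update_of_mem r V U A hA hk
      rw [h1, h1, RJ_update_of_mem r V W A hA hk, RJ_update_of_mem r V W A hA hk,
        Matrix.det_updateRow_smul]
      ring
    · obtain ⟨t₀, h1⟩ := RJ_update_of_not_mem r V W A hA hk
      rw [h1, h1, RI_update_of_not_mem r V U A hA hk, RI_update_of_not_mem r V U A hA hk,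
        Matrix.det_updateRow_smul]
      ring
  · rw [dif_neg hA, dif_neg hA, mul_zero]

/-- the shuffle sum as a multilinear map in the moving vectors. -/
def PsiM (r : Fin d) (U W : Fin d → Fin d → K) :
    MultilinearMap K (fun _ : Fin (d + 1) => Fin d → K) K where
  toFun V := Psi r V U W
  map_update_add' := by
    intro inst V k x y
    have : inst = instDecidableEqFin (d + 1) := Subsingleton.elim _ _
    subst this
    unfold Psi
    rw [← Finset.sum_add_distrib]
    exact Finset.sum_congr rfl (fun A _ => term_update_add r V U W A k x y)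
  map_update_smul' := by
    intro inst V k c x
    have : inst = instDecidableEqFin (d + 1) := Subsingleton.elim _ _
    subst this
    unfold Psi
    rw [smul_eq_mul, Finset.mul_sum]
    exact Finset.sum_congr rfl (fun A _ => term_update_smul r V U W A k c x)

theorem PsiM_apply (r : Fin d) (U W : Fin d → Fin d → K) (V : Fin (d + 1) → Fin d → K) :
    PsiM r U W V = Psi r V U W := rfl

end Groth.Agent.H16.SM
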