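import Mathlib
import Groth.Prelude.Def_W4bk4grassmannianPl
import Groth.Agent.H16.SM1

set_option autoImplicit false
set_option linter.unusedSectionVars false

/-! The shuffle sum vanishes when two adjacent moving vectors coincide. -/

namespace Groth.Agent.H16.SM

open W4bk4grassmannian

universe u

variable {K : Type u} [CommRing K] {d : ℕ}

theorem RI_apply_pos (r : Fin d) (V : Fin (d + 1) → Fin d → K) (U : Fin d → Fin d → K)
    (A : Finset (Fin (d + 1))) (hA : A.card = r.val + 1) (s : Fin (r.val + 1)) :
    RI r V U A hA ⟨s.val, by have := s.isLt; have := r.isLt; omega⟩ =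
      V (A.orderEmbOfFin hA s) := by
  unfold RI
  have h1 : s.val ≤ r.val := by have := s.isLt; omega
  rw [dif_pos h1]

theorem RJ_apply_pos (r : Fin d) (V : Fin (d + 1) → Fin d → K) (W : Fin d → Fin d → K)
    (A : Finset (Fin (d + 1))) (hA : A.card = r.val + 1) (s : Fin (d - r.val)) :
    RJ r V W A hA ⟨s.val + r.val, by have := s.isLt; have := r.isLt; omega⟩ =
      V (Aᶜ.orderEmbOfFin (card_compl hA) s) := by
  unfold RJ
  have h1 : ¬ (s.val + r.val < r.val) := by omega
  rw [dif_neg h1]
  congr 2
  apply Fin.ext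
  simp

section swap

variable (k k' : Fin (d + 1))

theorem mem_image_swap (A : Finset (Fin (d + 1))) (x : Fin (d + 1)) :
    x ∈ A.image (Equiv.swap k k') ↔ Equiv.swap k k' x ∈ A := by
  rw [Finset.mem_image]
  constructor
  · rintro ⟨y, hy, rfl⟩
    rw [Equiv.swap_apply_self]; exact hy
  · intro h
    exact ⟨_, h, Equiv.swap_apply_self _ _ _⟩

theorem image_swap_compl (A : Finset (Fin (d + 1))) :
    (A.image (Equiv.swap k k'))ᶜ = Aᶜ.image (Equiv.swap k k') := by
  ext x
  rw [Finset.mem_compl, mem_image_swap, mem_image_swap, Finset.mem_compl]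

theorem card_image_swap (A : Finset (Fin (d + 1))) :
    (A.image (Equiv.swap k k')).card = A.card :=
  Finset.card_image_of_injective _ (Equiv.swap k k').injective

theorem image_image_swap (A : Finset (Fin (d + 1))) :
    (A.image (Equiv.swap k k')).image (Equiv.swap k k') = A := by
  ext x
  rw [mem_image_swap, mem_image_swap, Equiv.swap_apply_self]

variable {k k'}

theorem swap_lt (hkk' : k'.val = k.val + 1) (S : Finset (Fin (d + 1)))
    (hnot : ¬ (k ∈ S ∧ k' ∈ S)) {a b : Fin (d + 1)} (ha : a ∈ S) (hb : b ∈ S) (hab : a < b) :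
    Equiv.swap k k' a < Equiv.swap k k' b := by
  have hab' : a.val < b.val := hab
  have key : ∀ x : Fin (d + 1), (Equiv.swap k k' x).val =
      if x = k then k.val + 1 else if x = k' then k.val else x.val := by
    intro x
    by_cases h1 : x = k
    · rw [h1, Equiv.swap_apply_left, if_pos rfl, hkk']
    · by_cases h2 : x = k'
      · rw [h2, Equiv.swap_apply_right, if_neg, if_pos rfl]
        intro h; have := congrArg Fin.val h; omega
      · rw [Equiv.swap_apply_of_ne_of_ne h1 h2, if_neg h1, if_neg h2]
  show (Equiv.swap k k' a).val < (Equiv.swap k k' b).val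
  rw [key, key]
  by_cases ha1 : a = k
  · have hbk : b ≠ k := fun h => by rw [ha1, h] at hab'; omega
    have hbk' : b ≠ k' := fun h => hnot ⟨ha1 ▸ ha, h ▸ hb⟩
    rw [if_pos ha1, if_neg hbk, if_neg hbk']
    have : b.val ≠ k'.val := fun h => hbk' (Fin.ext h)
    rw [ha1] at hab'
    omega
  · by_cases ha2 : a = k'
    · have hbk : b ≠ k := fun h => hnot ⟨h ▸ hb, ha2 ▸ ha⟩
      have hbk' : b ≠ k' := fun h => by rw [ha2, h] at hab'; omega
      rw [if_neg ha1, if_pos ha2, if_neg hbk, if_neg hbk']
      rw [ha2] at hab'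
      omega
    · rw [if_neg ha1, if_neg ha2]
      by_cases hb1 : b = k
      · rw [if_pos hb1]
        rw [hb1] at hab'
        omega
      · by_cases hb2 : b = k'
        · rw [if_neg hb1, if_pos hb2]
          rw [hb2] at hab'
          have : a.val ≠ k.val := fun h => ha1 (Fin.ext h)
          omega
        · rw [if_neg hb1, if_neg hb2]
          exact hab'

theorem orderEmb_image_swap (hkk' : k'.val = k.val + 1) {m : ℕ} (S : Finset (Fin (d + 1)))
    (hS : S.card = m) (hS' : (S.image (Equiv.swap k k')).card = m)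
    (hnot : ¬ (k ∈ S ∧ k' ∈ S)) (t : Fin m) :
    (S.image (Equiv.swap k k')).orderEmbOfFin hS' t = Equiv.swap k k' (S.orderEmbOfFin hS t) := by
  have := Finset.orderEmbOfFin_unique hS' (f := fun t => Equiv.swap k k' (S.orderEmbOfFin hS t))
    (fun x => Finset.mem_image_of_mem _ (Finset.orderEmbOfFin_mem S hS x))
    (fun a b hab => swap_lt hkk' S hnot (Finset.orderEmbOfFin_mem S hS a)
      (Finset.orderEmbOfFin_mem S hS b) ((S.orderEmbOfFin hS).strictMono hab))
  exact (congrFun this t).symm

theorem orderEmb_congr {m : ℕ} {S T : Finset (Fin (d + 1))} (h : S = T) (hS : S.card = m)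
    (hT : T.card = m) (t : Fin m) : S.orderEmbOfFin hS t = T.orderEmbOfFin hT t := by
  subst h; rfl

theorem sum_image_swap (hkk' : k'.val = k.val + 1) (A : Finset (Fin (d + 1))) (hk : k ∈ A)
    (hk' : k' ∉ A) :
    ∑ a ∈ A.image (Equiv.swap k k'), a.val = ∑ a ∈ A, a.val + 1 := by
  rw [Finset.sum_image (fun x _ y _ h => (Equiv.swap k k').injective h)]
  rw [← Finset.add_sum_erase A _ hk, ← Finset.add_sum_erase A (fun a => a.val) hk]
  rw [Equiv.swap_apply_left, hkk']
  have : ∑ x ∈ A.erase k, (Equiv.swap k k' x).val = ∑ x ∈ A.erase k, x.val := by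
    refine Finset.sum_congr rfl (fun x hx => ?_)
    have h1 : x ≠ k := (Finset.mem_erase.mp hx).1
    have h2 : x ≠ k' := fun h => hk' (h ▸ (Finset.mem_erase.mp hx).2)
    rw [Equiv.swap_apply_of_ne_of_ne h1 h2]
  rw [this]
  ring

theorem sum_ge {m : ℕ} (A : Finset (Fin (d + 1))) (hA : A.card = m + 1) :
    m * (m + 1) / 2 ≤ ∑ a ∈ A, a.val := by
  have h1 : ∑ a ∈ A, a.val = ∑ t : Fin (m + 1), (A.orderEmbOfFin hA t).val := by
    have := Finset.sum_image (s := Finset.univ) (g := A.orderEmbOfFin hA)
      (f := fun a : Fin (d + 1) => a.val) (fun x _ y _ h => (A.orderEmbOfFin hA).injective h)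
    rw [Finset.image_orderEmbOfFin_univ] at this
    exact this
  have h2 : ∑ t : Fin (m + 1), t.val ≤ ∑ t : Fin (m + 1), (A.orderEmbOfFin hA t).val :=
    Finset.sum_le_sum (fun t _ => ST.val_le_of_strictMono _ (A.orderEmbOfFin hA).strictMono t)
  have h3 : ∑ t : Fin (m + 1), t.val = m * (m + 1) / 2 := by
    rw [Fin.sum_univ_eq_sum_range (fun i => i) (m + 1), Finset.sum_range_id]
    simp only [Nat.add_sub_cancel]
    rw [Nat.mul_comm]
  rw [h1, ← h3]
  exact h2

theorem shuffleSign_image_swap (hkk' : k'.val = k.val + 1) (r : Fin d)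
    (A : Finset (Fin (d + 1))) (hA : A.card = r.val + 1) (hk : k ∈ A) (hk' : k' ∉ A) :
    shuffleSign r (A.image (Equiv.swap k k')) = shuffleSign r A + 1 := by
  unfold shuffleSign
  rw [sum_image_swap hkk' A hk hk']
  have := sum_ge A hA
  omega

theorem RI_image_swap (hkk' : k'.val = k.val + 1) (r : Fin d) (V : Fin (d + 1) → Fin d → K)
    (hV : V k = V k') (U : Fin d → Fin d → K)
    (A : Finset (Fin (d + 1))) (hA : A.card = r.val + 1)
    (hA' : (A.image (Equiv.swap k k')).card = r.val + 1) (hnot : ¬ (k ∈ A ∧ k' ∈ A)) :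
    RI r V U (A.image (Equiv.swap k k')) hA' = RI r V U A hA := by
  have hVs : ∀ a, V (Equiv.swap k k' a) = V a := by
    intro a
    by_cases h1 : a = k
    · rw [h1, Equiv.swap_apply_left, hV]
    · by_cases h2 : a = k'
      · rw [h2, Equiv.swap_apply_right, hV]
      · rw [Equiv.swap_apply_of_ne_of_ne h1 h2]
  funext t
  unfold RI
  by_cases h1 : t.val ≤ r.val
  · rw [dif_pos h1, dif_pos h1, orderEmb_image_swap hkk' A hA hA' hnot, hVs]
  · rw [dif_neg h1, dif_neg h1]

theorem RJ_image_swap (hkk' : k'.val = k.val + 1) (r : Fin d) (V : Fin (d + 1) → Fin d → K)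
    (hV : V k = V k') (W : Fin d → Fin d → K)
    (A : Finset (Fin (d + 1))) (hA : A.card = r.val + 1)
    (hA' : (A.image (Equiv.swap k k')).card = r.val + 1) (hnot : ¬ (k ∈ Aᶜ ∧ k' ∈ Aᶜ)) :
    RJ r V W (A.image (Equiv.swap k k')) hA' = RJ r V W A hA := by
  have hVs : ∀ a, V (Equiv.swap k k' a) = V a := by
    intro a
    by_cases h1 : a = k
    · rw [h1, Equiv.swap_apply_left, hV]
    · by_cases h2 : a = k'
      · rw [h2, Equiv.swap_apply_right, hV]
      · rw [Equiv.swap_apply_of_ne_of_ne h1 h2]
  funext t
  unfold RJ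
  by_cases h1 : t.val < r.val
  · rw [dif_pos h1, dif_pos h1]
  · rw [dif_neg h1, dif_neg h1]
    have hc : (Aᶜ.image (Equiv.swap k k')).card = d - r.val := by
      rw [card_image_swap]; exact card_compl hA
    rw [orderEmb_congr (image_swap_compl k k' A) (card_compl hA') hc,
      orderEmb_image_swap hkk' Aᶜ (card_compl hA) hc hnot, hVs]

theorem term_image_swap (hkk' : k'.val = k.val + 1) (r : Fin d) (V : Fin (d + 1) → Fin d → K)
    (hV : V k = V k') (U W : Fin d → Fin d → K)
    (A : Finset (Fin (d + 1))) (hk : k ∈ A) (hk' : k' ∉ A) :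
    term r V U W (A.image (Equiv.swap k k')) = - term r V U W A := by
  unfold term
  by_cases hA : A.card = r.val + 1
  · have hA' : (A.image (Equiv.swap k k')).card = r.val + 1 := by rw [card_image_swap]; exact hA
    rw [dif_pos hA, dif_pos hA', shuffleSign_image_swap hkk' r A hA hk hk',
      RI_image_swap hkk' r V hV U A hA hA' (fun h => hk' h.2),
      RJ_image_swap hkk' r V hV W A hA hA' (fun h => (Finset.mem_compl.mp h.1) hk), pow_succ]
    ring
  · have hA' : ¬ (A.image (Equiv.swap k k')).card = r.val + 1 := by rw [card_image_swap]; exact hA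
    rw [dif_neg hA, dif_neg hA', neg_zero]

theorem term_zero_both_mem (r : Fin d) (V : Fin (d + 1) → Fin d → K)
    (hV : V k = V k') (hne : k ≠ k') (U W : Fin d → Fin d → K)
    (A : Finset (Fin (d + 1))) (hk : k ∈ A) (hk' : k' ∈ A) : term r V U W A = 0 := by
  unfold term
  by_cases hA : A.card = r.val + 1
  · rw [dif_pos hA]
    obtain ⟨s, hs⟩ := exists_pos_of_mem hA hk
    obtain ⟨s', hs'⟩ := exists_pos_of_mem hA hk'
    have hss' : s.val ≠ s'.val := by
      intro h
      apply hne
      rw [← hs, ← hs', Fin.ext h]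
    have hdet : (RI r V U A hA).det = 0 := by
      apply Matrix.det_zero_of_row_eq
        (i := ⟨s.val, by have := s.isLt; have := r.isLt; omega⟩)
        (j := ⟨s'.val, by have := s'.isLt; have := r.isLt; omega⟩)
      · intro h; exact hss' (Fin.mk.inj_iff.mp h)
      · rw [RI_apply_pos, RI_apply_pos, hs, hs', hV]
    rw [hdet]; ring
  · rw [dif_neg hA]

theorem term_zero_both_not_mem (r : Fin d) (V : Fin (d + 1) → Fin d → K)
    (hV : V k = V k') (hne : k ≠ k') (U W : Fin d → Fin d → K)
    (A : Finset (Fin (d + 1))) (hk : k ∉ A) (hk' : k' ∉ A) : term r V U W A = 0 := by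
  unfold term
  by_cases hA : A.card = r.val + 1
  · rw [dif_pos hA]
    obtain ⟨s, hs⟩ := exists_pos_of_mem (card_compl hA) (Finset.mem_compl.mpr hk)
    obtain ⟨s', hs'⟩ := exists_pos_of_mem (card_compl hA) (Finset.mem_compl.mpr hk')
    have hss' : s.val ≠ s'.val := by
      intro h
      apply hne
      rw [← hs, ← hs', Fin.ext h]
    have hdet : (RJ r V W A hA).det = 0 := by
      apply Matrix.det_zero_of_row_eq
        (i := ⟨s.val + r.val, by have := s.isLt; have := r.isLt; omega⟩)
        (j := ⟨s'.val + r.val, by have := s'.isLt; have := r.isLt; omega⟩)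
      · intro h; have := congrArg Fin.val h; simp only at this; omega
      · rw [RJ_apply_pos, RJ_apply_pos, hs, hs', hV]
    rw [hdet]; ring
  · rw [dif_neg hA]

/-- vanishing on adjacent equal vectors. -/
theorem Psi_adj (hkk' : k'.val = k.val + 1) (r : Fin d) (V : Fin (d + 1) → Fin d → K)
    (hV : V k = V k') (U W : Fin d → Fin d → K) : Psi r V U W = 0 := by
  have hne : k ≠ k' := by intro h; rw [h] at hkk'; omega
  unfold Psi
  have hpair : ∀ A : Finset (Fin (d + 1)),
      term r V U W A + term r V U W (A.image (Equiv.swap k k')) = 0 := by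
    intro A
    by_cases hk : k ∈ A
    · by_cases hk' : k' ∈ A
      · rw [term_zero_both_mem r V hV hne U W A hk hk',
          term_zero_both_mem r V hV hne U W _
            ((mem_image_swap k k' A k).mpr (by rw [Equiv.swap_apply_left]; exact hk'))
            ((mem_image_swap k k' A k').mpr (by rw [Equiv.swap_apply_right]; exact hk)), add_zero]
      · rw [term_image_swap hkk' r V hV U W A hk hk', add_neg_cancel]
    · by_cases hk' : k' ∈ A
      · have h1 : k ∈ A.image (Equiv.swap k k') :=
          (mem_image_swap k k' A k).mpr (by rw [Equiv.swap_apply_left]; exact hk')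
        have h2 : k' ∉ A.image (Equiv.swap k k') := fun h =>
          hk (by have := (mem_image_swap k k' A k').mp h; rwa [Equiv.swap_apply_right] at this)
        have := term_image_swap hkk' r V hV U W _ h1 h2
        rw [image_image_swap] at this
        rw [this, neg_add_cancel]
      · rw [term_zero_both_not_mem r V hV hne U W A hk hk',
          term_zero_both_not_mem r V hV hne U W _
            (fun h => hk' (by have := (mem_image_swap k k' A k).mp h
                              rwa [Equiv.swap_apply_left] at this))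
            (fun h => hk (by have := (mem_image_swap k k' A k').mp h
                             rwa [Equiv.swap_apply_right] at this)), add_zero]
  apply Finset.sum_ninvolution (fun A => A.image (Equiv.swap k k'))
  · intro A; exact hpair A
  · intro A hne0 heq
    apply hne0
    by_cases hk : k ∈ A
    · by_cases hk' : k' ∈ A
      · exact term_zero_both_mem r V hV hne U W A hk hk'
      · exfalso
        apply hk'
        have : k ∈ A.image (Equiv.swap k k') := by rw [heq]; exact hk
        have := (mem_image_swap k k' A k).mp this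
        rwa [Equiv.swap_apply_left] at this
    · by_cases hk' : k' ∈ A
      · exfalso
        apply hk
        have : k' ∈ A.image (Equiv.swap k k') := by rw [heq]; exact hk'
        have := (mem_image_swap k k' A k').mp this
        rwa [Equiv.swap_apply_right] at this
      · exact term_zero_both_not_mem r V hV hne U W A hk hk'
  · intro A; exact Finset.mem_univ _
  · intro A; exact image_image_swap k k' A

end swap

end Groth.Agent.H16.SM
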