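import Mathlib
import Groth.Prelude.Def_W4bk4grassmannianPl
import Groth.Agent.H16.SM2
import Groth.Agent.H16.PQ1

set_option autoImplicit false
set_option linter.unusedSectionVars false

/-! The shuffle sum vanishes identically (over a field); the shuffle relations hold for the minors
of every matrix. -/

namespace Groth.Agent.H16.SM

open W4bk4grassmannian

universe u

variable {K : Type u} [Field K] {d : ℕ}

theorem PsiM_swap_adj {k k' : Fin (d + 1)} (hkk' : k'.val = k.val + 1) (r : Fin d)
    (U W : Fin d → Fin d → K) (V : Fin (d + 1) → Fin d → K) :
    PsiM r U W (V ∘ Equiv.swap k k') = - PsiM r U W V := by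
  have hne : k ≠ k' := by intro h; rw [h] at hkk'; omega
  set f := PsiM r U W with hf
  set x := V k with hx
  set y := V k' with hy
  have adj : ∀ (V' : Fin (d + 1) → Fin d → K), V' k = V' k' → f V' = 0 := by
    intro V' h
    rw [hf, PsiM_apply]
    exact Psi_adj hkk' r V' h U W
  have e0 : f (Function.update (Function.update V k' (x + y)) k (x + y)) = 0 := by
    apply adj
    rw [Function.update_self, Function.update_of_ne hne.symm, Function.update_self]
  have e1 : f (Function.update (Function.update V k' x) k x) = 0 := by
    apply adj
    rw [Function.update_self, Function.update_of_ne hne.symm, Function.update_self]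
  have e2 : f (Function.update (Function.update V k' y) k y) = 0 := by
    apply adj
    rw [Function.update_self, Function.update_of_ne hne.symm, Function.update_self]
  have e3 : Function.update (Function.update V k' y) k x = V := by
    rw [hy, Function.update_eq_self, hx, Function.update_eq_self]
  have e4 : Function.update (Function.update V k' x) k y = V ∘ Equiv.swap k k' := by
    funext a
    by_cases h1 : a = k
    · rw [h1, Function.update_self, Function.comp, Equiv.swap_apply_left]
    · by_cases h2 : a = k'
      · rw [h2, Function.update_of_ne hne.symm, Function.update_self, Function.comp,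
          Equiv.swap_apply_right]
      · rw [Function.update_of_ne h1, Function.update_of_ne h2, Function.comp,
          Equiv.swap_apply_of_ne_of_ne h1 h2]
  have e5 : f (Function.update (Function.update V k' (x + y)) k (x + y)) =
      f (Function.update (Function.update V k' x) k x) +
      f (Function.update (Function.update V k' x) k y) +
      (f (Function.update (Function.update V k' y) k x) +
      f (Function.update (Function.update V k' y) k y)) := by
    have hcomm : ∀ a b : Fin d → K, Function.update (Function.update V k' a) k b =
        Function.update (Function.update V k b) k' a :=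
      fun a b => Function.update_comm hne.symm a b V
    calc f (Function.update (Function.update V k' (x + y)) k (x + y))
        = f (Function.update (Function.update V k' (x + y)) k x) +
          f (Function.update (Function.update V k' (x + y)) k y) := f.map_update_add _ k x y
      _ = f (Function.update (Function.update V k x) k' (x + y)) +
          f (Function.update (Function.update V k y) k' (x + y)) := by rw [hcomm, hcomm]
      _ = (f (Function.update (Function.update V k x) k' x) +
          f (Function.update (Function.update V k x) k' y)) +
          (f (Function.update (Function.update V k y) k' x) +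
          f (Function.update (Function.update V k y) k' y)) := by
            rw [f.map_update_add, f.map_update_add]
      _ = _ := by
            rw [← hcomm x x, ← hcomm y x, ← hcomm x y, ← hcomm y y]
            ring
  rw [e0, e1, e2, e3, e4] at e5
  linear_combination -e5

theorem PsiM_gap (r : Fin d) (U W : Fin d → Fin d → K) :
    ∀ (g : ℕ) (V : Fin (d + 1) → Fin d → K) (k k' : Fin (d + 1)),
      k'.val = k.val + g + 1 → V k = V k' → PsiM r U W V = 0 := by
  intro g
  induction g with
  | zero =>
    intro V k k' hkk' hV
    rw [PsiM_apply]
    exact Psi_adj (by omega) r V hV U W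
  | succ g ih =>
    intro V k k' hkk' hV
    let k'' : Fin (d + 1) := ⟨k'.val - 1, by have := k'.isLt; omega⟩
    have hk'' : k'.val = k''.val + 1 := by show k'.val = k'.val - 1 + 1; omega
    have h1 : k ≠ k'' := by
      intro h; have := congrArg Fin.val h; simp only [k''] at this; omega
    have h2 : k ≠ k' := by
      intro h; have := congrArg Fin.val h; omega
    have hV' : (V ∘ Equiv.swap k'' k') k = (V ∘ Equiv.swap k'' k') k'' := by
      rw [Function.comp, Function.comp, Equiv.swap_apply_of_ne_of_ne h1 h2,
        Equiv.swap_apply_left, hV]
    have h3 := ih (V ∘ Equiv.swap k'' k') k k'' (by simp only [k'']; omega) hV'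
    rw [PsiM_swap_adj hk''] at h3
    exact neg_eq_zero.mp h3

/-- the shuffle sum as an alternating map. -/
def PsiA (r : Fin d) (U W : Fin d → Fin d → K) : (Fin d → K) [⋀^Fin (d + 1)]→ₗ[K] K :=
  { PsiM r U W with
    map_eq_zero_of_eq' := by
      intro V i j hV hij
      rcases lt_or_gt_of_ne hij with h | h
      · have h' : i.val < j.val := h
        exact PsiM_gap r U W (j.val - i.val - 1) V i j (by omega) hV
      · have h' : j.val < i.val := h
        exact PsiM_gap r U W (i.val - j.val - 1) V j i (by omega) hV.symm }

theorem Psi_eq_zero (r : Fin d) (V : Fin (d + 1) → Fin d → K) (U W : Fin d → Fin d → K) :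
    Psi r V U W = 0 := by
  have h : ¬ LinearIndependent K V := by
    intro h
    have := h.fintype_card_le_finrank
    rw [Fintype.card_fin, Module.finrank_fin_fun] at this
    omega
  exact (PsiA r U W).map_linearDependent V h

theorem eval_shuffleRel {n : ℕ} (M : Matrix (Fin n) (Fin d) K) (i j : Idx d n) (r : Fin d) :
    MvPolynomial.eval (fun θ : Idx d n => (M.submatrix θ.1 id).det) (shuffleRel K i j r) =
      Psi r (fun k => M (movingRows i j r k)) (fun t => M (i.1 t)) (fun t => M (j.1 t)) := by
  unfold shuffleRel Psi
  rw [map_sum]
  refine Finset.sum_congr rfl (fun A _ => ?_)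
  unfold shuffleTerm term
  by_cases hA : A.card = r.val + 1
  · rw [dif_pos hA, dif_pos hA, map_mul, map_mul, map_pow, map_neg, map_one]
    have h1 := PQ.br_minors M (shuffleI i j r A hA)
    have h2 := PQ.br_minors M (shuffleJ i j r A hA)
    unfold PQ.br at h1 h2
    rw [h1, h2]
    have h3 : M.submatrix (shuffleI i j r A hA) id =
        RI r (fun k => M (movingRows i j r k)) (fun t => M (i.1 t)) A hA := by
      ext t c
      rw [Matrix.submatrix_apply]
      unfold shuffleI RI
      by_cases h : t.val ≤ r.val
      · simp only [dif_pos h, id]
      · simp only [dif_neg h, id]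
    have h4 : M.submatrix (shuffleJ i j r A hA) id =
        RJ r (fun k => M (movingRows i j r k)) (fun t => M (j.1 t)) A hA := by
      ext t c
      rw [Matrix.submatrix_apply]
      unfold shuffleJ RJ
      by_cases h : t.val < r.val
      · simp only [dif_pos h, id]
      · simp only [dif_neg h, id]
    rw [h3, h4]
  · rw [dif_neg hA, dif_neg hA, map_zero]

/-- the shuffle relations hold for the minors of any matrix. -/
theorem eval_shuffleRel_eq_zero {n : ℕ} (M : Matrix (Fin n) (Fin d) K) (i j : Idx d n)
    (r : Fin d) :
    MvPolynomial.eval (fun θ : Idx d n => (M.submatrix θ.1 id).det) (shuffleRel K i j r) = 0 := by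
  rw [eval_shuffleRel, Psi_eq_zero]

end Groth.Agent.H16.SM
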