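import Mathlib
import Groth.Prelude.Def_W4bk4grassmannianPl

set_option autoImplicit false
set_option linter.unusedSectionVars false

/-! Exponents of the terms of a minor and their lexicographic comparison. -/

namespace Groth.Agent.H16.SM

open W4bk4grassmannian MvPolynomial
open scoped MonomialOrder

universe u

variable {d n : ℕ}

/-- the variables of the generic matrix, ordered lexicographically (row first). -/
abbrev Var (d n : ℕ) : Type := Fin n ×ₗ Fin d

/-- exponent of the term of the permutation `σ` in the minor on the rows `θ`. -/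
noncomputable def Eexp (θ : Idx d n) (σ : Equiv.Perm (Fin d)) : Var d n →₀ ℕ :=
  ∑ t : Fin d, Finsupp.single (toLex (θ.1 (σ t), t)) 1

theorem Eexp_apply (θ : Idx d n) (σ : Equiv.Perm (Fin d)) (i : Fin n) (t : Fin d) :
    Eexp θ σ (toLex (i, t)) = if θ.1 (σ t) = i then 1 else 0 := by
  unfold Eexp
  rw [Finsupp.finsetSum_apply]
  rw [Finset.sum_eq_single t]
  · rw [Finsupp.single_apply]
    by_cases h : θ.1 (σ t) = i
    · rw [if_pos h, if_pos (by rw [h])]
    · rw [if_neg h, if_neg]
      intro h'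
      have := congrArg (fun x => (ofLex x).1) h'
      exact h this
  · intro t' _ ht'
    rw [Finsupp.single_apply, if_neg]
    intro h'
    have := congrArg (fun x => (ofLex x).2) h'
    exact ht' this
  · intro h; exact absurd (Finset.mem_univ t) h

/-- the diagonal exponent. -/
noncomputable def Dexp (θ : Idx d n) : Var d n →₀ ℕ := Eexp θ 1

theorem Dexp_apply (θ : Idx d n) (i : Fin n) (t : Fin d) :
    Dexp θ (toLex (i, t)) = if θ.1 t = i then 1 else 0 := by
  unfold Dexp
  rw [Eexp_apply, Equiv.Perm.one_apply]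

theorem Eexp_lt (θ : Idx d n) (σ : Equiv.Perm (Fin d)) (hσ : σ ≠ 1) :
    Eexp θ σ ≺[MonomialOrder.lex] Dexp θ := by
  rw [MonomialOrder.lex_lt_iff, Finsupp.Lex.lt_iff]
  have hne : (Finset.univ.filter fun t : Fin d => σ t ≠ t).Nonempty := by
    by_contra h
    rw [Finset.not_nonempty_iff_eq_empty, Finset.filter_eq_empty_iff] at h
    apply hσ
    ext t
    have := h (Finset.mem_univ t)
    push Not at this
    rw [this, Equiv.Perm.one_apply]
  set t₀ := (Finset.univ.filter fun t : Fin d => σ t ≠ t).min' hne with ht₀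
  have h1 : σ t₀ ≠ t₀ := (Finset.mem_filter.mp (Finset.min'_mem _ hne)).2
  have h2 : ∀ t, t < t₀ → σ t = t := by
    intro t ht
    by_contra h
    have : t₀ ≤ t := Finset.min'_le _ t (Finset.mem_filter.mpr ⟨Finset.mem_univ t, h⟩)
    exact absurd ht (not_lt.mpr this)
  have hθinj : Function.Injective θ.1 := θ.2.injective
  refine ⟨toLex (θ.1 t₀, t₀), ?_, ?_⟩
  · intro v hv
    obtain ⟨i, t, rfl⟩ : ∃ i t, v = toLex (i, t) := ⟨(ofLex v).1, (ofLex v).2, rfl⟩
    rw [Prod.Lex.toLex_lt_toLex] at hv
    simp only at hv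
    show Eexp θ σ (toLex (i, t)) = Dexp θ (toLex (i, t))
    rw [Eexp_apply, Dexp_apply]
    by_cases htt : t < t₀
    · rw [h2 t htt]
    · have hi : i < θ.1 t₀ := by
        rcases hv with hv | ⟨-, hv⟩
        · exact hv
        · exact absurd hv htt
      have h3 : θ.1 t ≠ i := by
        intro h
        have : θ.1 t₀ ≤ θ.1 t := θ.2.monotone (not_lt.mp htt)
        rw [h] at this
        exact absurd hi (not_lt.mpr this)
      have h4 : θ.1 (σ t) ≠ i := by
        intro h
        have h5 : σ t < t₀ := by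
          rw [← h] at hi
          exact θ.2.lt_iff_lt.mp hi
        have h6 := h2 (σ t) h5
        have h7 : σ t = t := σ.injective h6
        rw [h7] at h5
        exact htt h5
      rw [if_neg h3, if_neg h4]
  · show Eexp θ σ (toLex (θ.1 t₀, t₀)) < Dexp θ (toLex (θ.1 t₀, t₀))
    rw [Eexp_apply, Dexp_apply, if_pos rfl, if_neg]
    · exact Nat.zero_lt_one
    · intro h
      exact h1 (hθinj h)

theorem Eexp_le (θ : Idx d n) (σ : Equiv.Perm (Fin d)) :
    Eexp θ σ ≼[MonomialOrder.lex] Dexp θ := by
  by_cases hσ : σ = 1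
  · rw [hσ]; exact le_refl _
  · exact le_of_lt (Eexp_lt θ σ hσ)

theorem Eexp_ne (θ : Idx d n) (σ : Equiv.Perm (Fin d)) (hσ : σ ≠ 1) : Eexp θ σ ≠ Dexp θ := by
  intro h
  have := Eexp_lt θ σ hσ
  rw [h] at this
  exact lt_irrefl _ this

end Groth.Agent.H16.SM
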