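import Mathlib
import Groth.Prelude.Def_W4bk4grassmannianPl
import Groth.Agent.H16.SM4

set_option autoImplicit false
set_option linter.unusedSectionVars false

/-! The generic matrix of a Schubert cell and the leading terms of its minors. -/

namespace Groth.Agent.H16.SM

open W4bk4grassmannian MvPolynomial
open scoped MonomialOrder

universe u

variable {d n : ℕ}

theorem not_le_iff (φ τ : Idx d n) : ¬ φ ≤ τ ↔ ∃ t, τ.1 t < φ.1 t := by
  constructor
  · intro h
    by_contra hcon
    push Not at hcon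
    exact h (fun t => hcon t)
  · rintro ⟨t, ht⟩ h
    exact absurd (h t) (not_le.mpr ht)

/-- minors on rows `φ ≰ τ` of a matrix in Schubert form vanish. -/
theorem det_submatrix_eq_zero_of_schubert {R : Type*} [CommRing R] (A : Matrix (Fin n) (Fin d) R)
    (τ φ : Idx d n) (hA : ∀ i t, τ.1 t < i → A i t = 0) (hφ : ¬ φ ≤ τ) :
    (A.submatrix φ.1 id).det = 0 := by
  obtain ⟨t₁, ht₁⟩ := (not_le_iff φ τ).mp hφ
  rw [Matrix.det_apply]
  refine Finset.sum_eq_zero (fun σ _ => ?_)
  -- pigeonhole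
  have hex : ∃ i : Fin d, i ≤ t₁ ∧ t₁ ≤ σ i := by
    by_contra hcon
    push Not at hcon
    have hmaps : ∀ i ∈ Finset.Iic t₁, σ i ∈ Finset.Iio t₁ := by
      intro i hi
      exact Finset.mem_Iio.mpr (hcon i (Finset.mem_Iic.mp hi))
    have := Finset.card_le_card_of_injOn σ hmaps (fun x _ y _ h => σ.injective h)
    rw [Fin.card_Iic, Fin.card_Iio] at this
    omega
  obtain ⟨i, hi1, hi2⟩ := hex
  have hz : A.submatrix φ.1 id (σ i) i = 0 := by
    rw [Matrix.submatrix_apply]
    apply hA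
    calc τ.1 (id i) ≤ τ.1 t₁ := τ.2.monotone hi1
      _ < φ.1 t₁ := ht₁
      _ ≤ φ.1 (σ i) := φ.2.monotone hi2
  have hp : ∏ j, A.submatrix φ.1 id (σ j) j = 0 := Finset.prod_eq_zero (Finset.mem_univ i) hz
  rw [hp, smul_zero]

variable (K : Type u) [Field K]

/-- the generic matrix in Schubert form. -/
noncomputable def G (τ : Idx d n) : Matrix (Fin n) (Fin d) (MvPolynomial (Var d n) K) :=
  fun i t => if i ≤ τ.1 t then X (toLex (i, t)) else 0

/-- the minor of the generic Schubert matrix on the rows `θ`. -/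
noncomputable def gminor (τ θ : Idx d n) : MvPolynomial (Var d n) K :=
  ((G K τ).submatrix θ.1 id).det

theorem prod_G (τ θ : Idx d n) (σ : Equiv.Perm (Fin d)) :
    ∏ t, (G K τ).submatrix θ.1 id (σ t) t =
      if ∀ t, θ.1 (σ t) ≤ τ.1 t then monomial (Eexp θ σ) (1 : K) else 0 := by
  by_cases h : ∀ t, θ.1 (σ t) ≤ τ.1 t
  · rw [if_pos h]
    unfold Eexp
    rw [MvPolynomial.monomial_sum_one]
    refine Finset.prod_congr rfl (fun t _ => ?_)
    rw [Matrix.submatrix_apply]
    unfold G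
    rw [id, if_pos (h t)]
    rfl
  · rw [if_neg h]
    push Not at h
    obtain ⟨t, ht⟩ := h
    apply Finset.prod_eq_zero (Finset.mem_univ t)
    rw [Matrix.submatrix_apply]
    unfold G
    rw [id, if_neg (not_le.mpr ht)]

theorem coeff_term (τ θ : Idx d n) (σ : Equiv.Perm (Fin d)) (e : Var d n →₀ ℕ)
    (he : e ≠ Eexp θ σ) :
    coeff e (Equiv.Perm.sign σ • ∏ t, (G K τ).submatrix θ.1 id (σ t) t) = 0 := by
  rw [prod_G]
  have h0 : coeff e (if ∀ t, θ.1 (σ t) ≤ τ.1 t then monomial (Eexp θ σ) (1 : K) else 0) = 0 := by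
    split_ifs
    · rw [coeff_monomial, if_neg (Ne.symm he)]
    · rw [coeff_zero]
  rcases Int.units_eq_one_or (Equiv.Perm.sign σ) with h | h
  · rw [h, one_smul, h0]
  · rw [h, Units.neg_smul, one_smul, coeff_neg, h0, neg_zero]

theorem coeff_Dexp_gminor (τ θ : Idx d n) (hθ : θ ≤ τ) : coeff (Dexp θ) (gminor K τ θ) = 1 := by
  unfold gminor
  rw [Matrix.det_apply, coeff_sum, Finset.sum_eq_single (1 : Equiv.Perm (Fin d))]
  · rw [prod_G, Equiv.Perm.sign_one, one_smul,
      if_pos (show ∀ t, θ.1 ((1 : Equiv.Perm (Fin d)) t) ≤ τ.1 t from fun t => hθ t)]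
    show coeff (Dexp θ) (monomial (Dexp θ) (1 : K)) = 1
    rw [coeff_monomial, if_pos rfl]
  · intro σ _ hσ
    exact coeff_term K τ θ σ (Dexp θ) (Eexp_ne θ σ hσ).symm
  · intro h; exact absurd (Finset.mem_univ _) h

theorem support_gminor_le (τ θ : Idx d n) :
    ∀ e ∈ (gminor K τ θ).support, e ≼[MonomialOrder.lex] Dexp θ := by
  intro e he
  rw [mem_support_iff] at he
  unfold gminor at he
  rw [Matrix.det_apply, coeff_sum] at he
  obtain ⟨σ, -, hσ⟩ := Finset.exists_ne_zero_of_sum_ne_zero he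
  have : e = Eexp θ σ := by
    by_contra hne
    exact hσ (coeff_term K τ θ σ e hne)
  rw [this]
  exact Eexp_le θ σ

theorem degree_gminor (τ θ : Idx d n) (hθ : θ ≤ τ) :
    MonomialOrder.lex.degree (gminor K τ θ) = Dexp θ := by
  apply MonomialOrder.lex.toSyn.injective
  apply le_antisymm
  · exact MonomialOrder.degree_le_iff.mpr (support_gminor_le K τ θ)
  · apply MonomialOrder.le_degree
    rw [mem_support_iff, coeff_Dexp_gminor K τ θ hθ]
    exact one_ne_zero

theorem monic_gminor (τ θ : Idx d n) (hθ : θ ≤ τ) :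
    MonomialOrder.lex.Monic (gminor K τ θ) := by
  unfold MonomialOrder.Monic MonomialOrder.leadingCoeff
  rw [degree_gminor K τ θ hθ, coeff_Dexp_gminor K τ θ hθ]

theorem gminor_eq_zero (τ θ : Idx d n) (hθ : ¬ θ ≤ τ) : gminor K τ θ = 0 := by
  unfold gminor
  apply det_submatrix_eq_zero_of_schubert (G K τ) τ θ _ hθ
  intro i t h
  unfold G
  rw [if_neg (not_le.mpr h)]

/-- the matrix in Schubert form with entries given by a point. -/
def Apt (τ : Idx d n) (a : Var d n → K) : Matrix (Fin n) (Fin d) K :=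
  fun i t => if i ≤ τ.1 t then a (toLex (i, t)) else 0

theorem eval_gminor (τ θ : Idx d n) (a : Var d n → K) :
    eval a (gminor K τ θ) = ((Apt K τ a).submatrix θ.1 id).det := by
  unfold gminor
  rw [RingHom.map_det]
  congr 1
  ext s t
  simp only [RingHom.mapMatrix_apply, Matrix.map_apply, Matrix.submatrix_apply, id]
  unfold G Apt
  split_ifs
  · rw [eval_X]
  · rw [map_zero]

theorem Apt_schubert (τ φ : Idx d n) (a : Var d n → K) (hφ : ¬ φ ≤ τ) :
    ((Apt K τ a).submatrix φ.1 id).det = 0 := by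
  apply det_submatrix_eq_zero_of_schubert (Apt K τ a) τ φ _ hφ
  intro i t h
  unfold Apt
  rw [if_neg (not_le.mpr h)]

end Groth.Agent.H16.SM
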