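import Mathlib
import Groth.Prelude.Def_W4bk4grassmannianPl
import Groth.Agent.H16.SM5

set_option autoImplicit false
set_option linter.unusedSectionVars false

/-! Leading exponents of standard monomials determine the chain; a family of polynomials with
distinct leading exponents is linearly independent. -/

namespace Groth.Agent.H16.SM

open W4bk4grassmannian MvPolynomial
open scoped MonomialOrder

universe u

variable {d n : ℕ}

/-- membership in a lower set of `Fin m` is detected by its cardinality. -/
theorem mem_lower_iff {m : ℕ} (S : Finset (Fin m)) (hS : ∀ a b : Fin m, a ≤ b → b ∈ S → a ∈ S)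
    (k : Fin m) : k ∈ S ↔ k.val < S.card := by
  constructor
  · intro hk
    have hsub : Finset.Iic k ⊆ S := fun a ha => hS a k (Finset.mem_Iic.mp ha) hk
    have := Finset.card_le_card hsub
    rw [Fin.card_Iic] at this
    omega
  · intro hk
    by_contra hkn
    have hsub : S ⊆ Finset.Iio k := by
      intro s hs
      rw [Finset.mem_Iio]
      by_contra hle
      exact hkn (hS k s (not_lt.mp hle) hs)
    have := Finset.card_le_card hsub
    rw [Fin.card_Iio] at this
    omega

/-- an antitone sequence is determined by its counting function. -/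
theorem antitone_eq_of_card_eq {m : ℕ} (f g : Fin m → Fin n) (hf : Antitone f) (hg : Antitone g)
    (h : ∀ i : Fin n, (Finset.univ.filter fun k => f k = i).card =
      (Finset.univ.filter fun k => g k = i).card) : f = g := by
  have hcard : ∀ (f : Fin m → Fin n) (i : Fin n), (Finset.univ.filter fun k => i < f k).card =
      ∑ i' ∈ Finset.Ioi i, (Finset.univ.filter fun k => f k = i').card := by
    intro f i
    rw [Finset.card_eq_sum_card_fiberwise (f := f) (t := Finset.Ioi i)]
    · refine Finset.sum_congr rfl (fun i' hi' => ?_)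
      congr 1
      ext k
      simp only [Finset.mem_filter, Finset.mem_univ, true_and]
      constructor
      · rintro ⟨-, h2⟩; exact h2
      · intro h2; rw [h2]; exact ⟨Finset.mem_Ioi.mp hi', rfl⟩
    · intro k hk
      exact Finset.mem_coe.mpr (Finset.mem_Ioi.mpr (Finset.mem_filter.mp hk).2)
  have hgt : ∀ (f : Fin m → Fin n), Antitone f → ∀ (i : Fin n) (k : Fin m),
      i < f k ↔ k.val < (Finset.univ.filter fun k => i < f k).card := by
    intro f hf i k
    rw [← mem_lower_iff (Finset.univ.filter fun k => i < f k)]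
    · simp only [Finset.mem_filter, Finset.mem_univ, true_and]
    · intro a b hab hb
      simp only [Finset.mem_filter, Finset.mem_univ, true_and] at hb ⊢
      exact lt_of_lt_of_le hb (hf hab)
  have hiff : ∀ (i : Fin n) (k : Fin m), i < f k ↔ i < g k := by
    intro i k
    rw [hgt f hf, hgt g hg, hcard f, hcard g]
    rw [Finset.sum_congr rfl (fun i' _ => h i')]
  funext k
  apply le_antisymm
  · by_contra hlt
    have := (hiff (g k) k).mp (not_le.mp hlt)
    exact lt_irrefl _ this
  · by_contra hlt
    have := (hiff (f k) k).mpr (not_le.mp hlt)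
    exact lt_irrefl _ this

/-- the leading exponent of the standard monomial of a chain. -/
noncomputable def DD {m : ℕ} (c : Fin m → Idx d n) : Var d n →₀ ℕ := ∑ k, Dexp (c k)

theorem DD_apply {m : ℕ} (c : Fin m → Idx d n) (i : Fin n) (t : Fin d) :
    DD c (toLex (i, t)) = (Finset.univ.filter fun k => (c k).1 t = i).card := by
  unfold DD
  rw [Finsupp.finsetSum_apply, Finset.card_filter]
  refine Finset.sum_congr rfl (fun k _ => ?_)
  rw [Dexp_apply]

theorem DD_sum {m : ℕ} (c : Fin m → Idx d n) (t : Fin d) :
    ∑ i : Fin n, DD c (toLex (i, t)) = m := by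
  have h1 : ∀ i : Fin n, DD c (toLex (i, t)) =
      (Finset.univ.filter fun k => (c k).1 t = i).card := fun i => DD_apply c i t
  rw [Finset.sum_congr rfl (fun i _ => h1 i)]
  have := Finset.card_eq_sum_card_fiberwise (s := (Finset.univ : Finset (Fin m)))
    (f := fun k => (c k).1 t) (t := (Finset.univ : Finset (Fin n)))
    (fun k _ => Finset.mem_coe.mpr (Finset.mem_univ _))
  rw [Finset.card_univ, Fintype.card_fin] at this
  exact this.symm

theorem DD_injective (hd : 0 < d) {m m' : ℕ} (c : Fin m → Idx d n) (c' : Fin m' → Idx d n)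
    (hc : Antitone c) (hc' : Antitone c') (h : DD c = DD c') :
    (⟨m, c⟩ : Σ m : ℕ, (Fin m → Idx d n)) = ⟨m', c'⟩ := by
  have hm : m = m' := by
    rw [← DD_sum c ⟨0, hd⟩, ← DD_sum c' ⟨0, hd⟩, h]
  subst hm
  have : c = c' := by
    funext k
    apply Subtype.ext
    funext t
    have h1 := antitone_eq_of_card_eq (fun k => (c k).1 t) (fun k => (c' k).1 t)
      (fun a b hab => hc hab t) (fun a b hab => hc' hab t)
      (fun i => by rw [← DD_apply c i t, ← DD_apply c' i t, h])
    exact congrFun h1 k
  rw [this]

variable {K : Type u} [Field K]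

/-- polynomials with distinct leading exponents are linearly independent (finset form). -/
theorem eq_zero_of_degree_injOn {σ ι : Type*} (mo : MonomialOrder σ)
    (f : ι → MvPolynomial σ K) (s : Finset ι) (g : ι → K)
    (h0 : ∑ i ∈ s, g i • f i = 0) (hne : ∀ i ∈ s, f i ≠ 0)
    (hinj : ∀ i ∈ s, ∀ j ∈ s, mo.degree (f i) = mo.degree (f j) → i = j) :
    ∀ i ∈ s, g i = 0 := by
  classical
  by_contra hcon
  push Not at hcon
  have hne' : (s.filter fun i => g i ≠ 0).Nonempty := by
    obtain ⟨i, hi, hgi⟩ := hcon
    exact ⟨i, Finset.mem_filter.mpr ⟨hi, hgi⟩⟩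
  obtain ⟨i₀, hi₀, hmax⟩ := Finset.exists_max_image (s.filter fun i => g i ≠ 0)
    (fun i => mo.toSyn (mo.degree (f i))) hne'
  have hi₀s : i₀ ∈ s := (Finset.mem_filter.mp hi₀).1
  have hgi₀ : g i₀ ≠ 0 := (Finset.mem_filter.mp hi₀).2
  have hcoef := congrArg (coeff (mo.degree (f i₀))) h0
  rw [coeff_sum, coeff_zero, Finset.sum_eq_single i₀] at hcoef
  · rw [coeff_smul, smul_eq_mul] at hcoef
    rcases mul_eq_zero.mp hcoef with h | h
    · exact hgi₀ h
    · exact (mo.coeff_degree_ne_zero_iff.mpr (hne i₀ hi₀s)) h
  · intro i his hii₀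
    rw [coeff_smul, smul_eq_mul]
    by_cases hgi : g i = 0
    · rw [hgi, zero_mul]
    · have hle := hmax i (Finset.mem_filter.mpr ⟨his, hgi⟩)
      have hne2 : mo.degree (f i) ≠ mo.degree (f i₀) := fun h => hii₀ (hinj i his i₀ hi₀s h)
      have hlt : mo.toSyn (mo.degree (f i)) < mo.toSyn (mo.degree (f i₀)) :=
        lt_of_le_of_ne hle (fun h => hne2 (mo.toSyn.injective h))
      rw [mo.coeff_eq_zero_of_lt hlt, mul_zero]
  · intro h; exact absurd hi₀s h

end Groth.Agent.H16.SM
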