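import Mathlib
import Groth.Agent.H16.ST1

set_option autoImplicit false
set_option linter.style.haveILetI false

/-! Straightening for Plücker coordinates: the shuffle relation of a pivot. -/

namespace Groth.Agent.H16.ST

open MvPolynomial W4bk4grassmannian

universe u

variable {d n : ℕ}

/-- the identity shuffle. -/
def A₀ (r : Fin d) : Finset (Fin (d + 1)) := Finset.univ.filter (fun a : Fin (d + 1) => a.val ≤ r.val)

theorem mem_A₀ {r : Fin d} {a : Fin (d + 1)} : a ∈ A₀ r ↔ a.val ≤ r.val := by
  simp [A₀]

theorem sum_shuffleI_gt {i j : Idx d n} {r : Fin d} (hp : IsPivot i j r)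
    (A : Finset (Fin (d + 1))) (hA : A.card = r.val + 1) (hne : A ≠ A₀ r) :
    ssum i < ∑ t, (shuffleI i j r A hA t).val := by
  have hmr := movingRows_strictMono hp.2
  set e := A.orderEmbOfFin hA with he
  have hle : ∀ u : Fin (r.val + 1), u.val ≤ (e u).val :=
    val_le_of_strictMono e e.strictMono
  unfold ssum
  refine Finset.sum_lt_sum (fun t _ => ?_) ?_
  · unfold shuffleI
    split_ifs with h
    · have h1 := hle ⟨t.val, by omega⟩
      have h2 : (⟨t.val, by omega⟩ : Fin (d + 1)) ≤ e ⟨t.val, by omega⟩ := Fin.le_def.mpr h1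
      have h3 := hmr.monotone h2
      rw [movingRows_of_le i j r ⟨t.val, by omega⟩ h] at h3
      exact Fin.le_def.mp h3
    · exact le_rfl
  · -- a strict position
    have hex : ∃ u : Fin (r.val + 1), (e u).val ≠ u.val := by
      by_contra hcon
      push Not at hcon
      apply hne
      ext x
      rw [mem_A₀, ← Finset.image_orderEmbOfFin_univ A hA, Finset.mem_image]
      constructor
      · rintro ⟨u, -, rfl⟩
        have := hcon u
        have hu := u.isLt
        rw [← he, this]
        omega
      · intro hx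
        refine ⟨⟨x.val, by omega⟩, Finset.mem_univ _, ?_⟩
        apply Fin.ext
        exact hcon ⟨x.val, by omega⟩
    obtain ⟨u, hu⟩ := hex
    have hu' : u.val < (e u).val := lt_of_le_of_ne (hle u) (Ne.symm hu)
    have hur : u.val ≤ r.val := by have := u.isLt; omega
    refine ⟨⟨u.val, lt_of_le_of_lt hur r.isLt⟩, Finset.mem_univ _, ?_⟩
    unfold shuffleI
    rw [dif_pos hur]
    have h2 : (⟨u.val, by omega⟩ : Fin (d + 1)) < e u := Fin.lt_def.mpr hu'
    have h3 := hmr h2
    rw [movingRows_of_le i j r ⟨u.val, by omega⟩ hur] at h3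
    exact Fin.lt_def.mp h3

theorem card_A₀ (r : Fin d) : (A₀ r).card = r.val + 1 := by
  have h : A₀ r = (Finset.univ : Finset (Fin (r.val + 1))).map
      ⟨fun u => (⟨u.val, by have := u.isLt; have := r.isLt; omega⟩ : Fin (d + 1)),
        fun u v h => Fin.ext (by simpa using h)⟩ := by
    ext x
    rw [mem_A₀, Finset.mem_map]
    constructor
    · intro hx
      exact ⟨⟨x.val, by omega⟩, Finset.mem_univ _, Fin.ext rfl⟩
    · rintro ⟨u, -, rfl⟩
      have := u.isLt
      simp only [Function.Embedding.coeFn_mk]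
      omega
  rw [h, Finset.card_map, Finset.card_univ, Fintype.card_fin]

theorem orderEmb_A₀ (r : Fin d) (u : Fin (r.val + 1)) :
    ((A₀ r).orderEmbOfFin (card_A₀ r) u).val = u.val := by
  have h := Finset.orderEmbOfFin_unique (card_A₀ r)
    (f := fun u : Fin (r.val + 1) => (⟨u.val, by have := u.isLt; have := r.isLt; omega⟩ : Fin (d + 1)))
    (fun x => by rw [mem_A₀]; have := x.isLt; simp only; omega)
    (fun x y hxy => Fin.mk_lt_mk.mpr hxy)
  have := congrFun h u
  rw [← this]

theorem card_A₀_compl (r : Fin d) : (A₀ r)ᶜ.card = d - r.val := by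
  rw [Finset.card_compl, card_A₀, Fintype.card_fin]; omega

theorem orderEmb_A₀_compl (r : Fin d) (u : Fin (d - r.val)) :
    (((A₀ r)ᶜ).orderEmbOfFin (card_A₀_compl r) u).val = u.val + r.val + 1 := by
  have h := Finset.orderEmbOfFin_unique (card_A₀_compl r)
    (f := fun u : Fin (d - r.val) =>
      (⟨u.val + r.val + 1, by have := u.isLt; have := r.isLt; omega⟩ : Fin (d + 1)))
    (fun x => by rw [Finset.mem_compl, mem_A₀]; simp only; omega)
    (fun x y hxy => Fin.mk_lt_mk.mpr (by have : x.val < y.val := hxy; omega))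
  have := congrFun h u
  rw [← this]

theorem shuffleI_A₀ (i j : Idx d n) (r : Fin d) :
    shuffleI i j r (A₀ r) (card_A₀ r) = i.1 := by
  funext t
  unfold shuffleI
  split_ifs with h
  · have h1 := orderEmb_A₀ r ⟨t.val, by omega⟩
    rw [movingRows_of_le i j r _ (by rw [h1]; exact h)]
    exact congrArg i.1 (Fin.ext h1)
  · rfl

theorem shuffleJ_A₀ (i j : Idx d n) (r : Fin d) :
    shuffleJ i j r (A₀ r) (card_A₀ r) = j.1 := by
  funext t
  unfold shuffleJ
  split_ifs with h
  · rfl
  · have ht := t.isLt
    have h1 := orderEmb_A₀_compl r ⟨t.val - r.val, by omega⟩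
    rw [movingRows_of_gt i j r _ (by rw [h1]; simp only; omega)]
    refine congrArg j.1 (Fin.ext ?_)
    simp only [h1]
    omega

theorem shuffleSign_A₀ (r : Fin d) : shuffleSign r (A₀ r) = 0 := by
  unfold shuffleSign
  have h : (A₀ r).sum (fun a => a.val) = ∑ u ∈ Finset.range (r.val + 1), u := by
    have h1 : A₀ r = (Finset.univ : Finset (Fin (r.val + 1))).map
        ⟨fun u => (⟨u.val, by have := u.isLt; have := r.isLt; omega⟩ : Fin (d + 1)),
          fun u v h => Fin.ext (by simpa using h)⟩ := by
      ext x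
      rw [mem_A₀, Finset.mem_map]
      constructor
      · intro hx
        exact ⟨⟨x.val, by omega⟩, Finset.mem_univ _, Fin.ext rfl⟩
      · rintro ⟨u, -, rfl⟩
        have := u.isLt
        simp only [Function.Embedding.coeFn_mk]
        omega
    rw [h1, Finset.sum_map]
    simp only [Function.Embedding.coeFn_mk]
    rw [Fin.sum_univ_eq_sum_range (fun u => u) (r.val + 1)]
  rw [h, Finset.sum_range_id, Nat.add_sub_cancel, mul_comm, Nat.sub_self]

end Groth.Agent.H16.ST
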