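import Mathlib
import Groth.Agent.H16.ST2

set_option autoImplicit false
set_option linter.style.haveILetI false

/-! Straightening for Plücker coordinates: standard monomials span. -/

namespace Groth.Agent.H16.ST

open MvPolynomial W4bk4grassmannian

universe u

variable {d n : ℕ} (K : Type u) [CommRing K]

/-- the quotient map. -/
noncomputable abbrev π : PlRing K d n →+* PlRing K d n ⧸ plIdealTop (d := d) (n := n) K :=
  Ideal.Quotient.mk (plIdealTop (d := d) (n := n) K)

/-- the products of two coordinates whose first factor has a larger entry sum. -/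
def T (i : Idx d n) : Set (PlRing K d n ⧸ plIdealTop (d := d) (n := n) K) :=
  {z | ∃ i' j' : Idx d n, ssum i < ssum i' ∧ z = π K (X i' * X j')}

theorem shuffleTerm_A₀ (i j : Idx d n) (r : Fin d) :
    shuffleTerm K i j r (A₀ r) = X i * X j := by
  unfold shuffleTerm
  rw [dif_pos (card_A₀ r), shuffleI_A₀, shuffleJ_A₀, shuffleSign_A₀, pow_zero, one_mul,
    coord_idx, coord_idx]

theorem shuffleTerm_mem {i j : Idx d n} {r : Fin d} (hp : IsPivot i j r)
    (A : Finset (Fin (d + 1))) (hne : A ≠ A₀ r) :
    π K (shuffleTerm K i j r A) ∈ Submodule.span K (T K i) := by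
  unfold shuffleTerm
  split_ifs with hA
  · have hgt := sum_shuffleI_gt hp A hA hne
    rcases coord_cases K (shuffleI i j r A hA) with h1 | ⟨i', h1, hs1⟩
    · rw [h1, mul_zero, zero_mul, map_zero]
      exact Submodule.zero_mem _
    rcases coord_cases K (shuffleJ i j r A hA) with h2 | ⟨j', h2, -⟩
    · rw [h2, mul_zero, map_zero]
      exact Submodule.zero_mem _
    have hmem : π K (X i' * X j') ∈ Submodule.span K (T K i) :=
      Submodule.subset_span ⟨i', j', by rw [hs1]; exact hgt, rfl⟩
    have hneg : π K (-(X i' * X j')) ∈ Submodule.span K (T K i) := by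
      rw [map_neg]; exact Submodule.neg_mem _ hmem
    rcases neg_one_pow_eq_or (PlRing K d n) (shuffleSign r A) with h3 | h3 <;>
      rcases h1 with h1 | h1 <;> rcases h2 with h2 | h2 <;> rw [h3, h1, h2] <;>
      first
        | (convert hmem using 2; ring1)
        | (convert hneg using 2; ring1)
  · rw [map_zero]
    exact Submodule.zero_mem _

theorem pair_mem {i j : Idx d n} {r : Fin d} (hp : IsPivot i j r) :
    π K (X i * X j) ∈ Submodule.span K (T K i) := by
  classical
  have hrel : shuffleRel K i j r ∈ plIdealTop (d := d) (n := n) K :=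
    Ideal.subset_span ⟨i, j, r, hp, rfl⟩
  have h0 : π K (shuffleRel K i j r) = 0 := Ideal.Quotient.eq_zero_iff_mem.mpr hrel
  unfold shuffleRel at h0
  rw [← Finset.add_sum_erase _ _ (Finset.mem_univ (A₀ r)), shuffleTerm_A₀, map_add, map_sum] at h0
  have h1 : π K (X i * X j) =
      -∑ A ∈ Finset.univ.erase (A₀ r), π K (shuffleTerm K i j r A) := eq_neg_of_add_eq_zero_left h0
  rw [h1]
  refine Submodule.neg_mem _ (Submodule.sum_mem _ (fun A hA => ?_))
  exact shuffleTerm_mem K hp A (Finset.ne_of_mem_erase hA)

theorem exists_pivot {i j : Idx d n} (h : ¬ j ≤ i) : ∃ r, IsPivot i j r := by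
  classical
  have hex : ∃ t, i.1 t < j.1 t := by
    by_contra hcon
    push Not at hcon
    exact h (fun t => hcon t)
  set S := Finset.univ.filter (fun t => i.1 t < j.1 t) with hS
  have hSne : S.Nonempty := by
    obtain ⟨t, ht⟩ := hex
    exact ⟨t, by rw [hS, Finset.mem_filter]; exact ⟨Finset.mem_univ _, ht⟩⟩
  refine ⟨S.min' hSne, fun t ht => ?_, ?_⟩
  · by_contra hcon
    have htS : t ∈ S := by
      rw [hS, Finset.mem_filter]; exact ⟨Finset.mem_univ _, not_le.mp hcon⟩
    exact absurd (Finset.min'_le S t htS) (not_le.mpr ht)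
  · have := Finset.min'_mem S hSne
    exact (Finset.mem_filter.mp this).2

end Groth.Agent.H16.ST
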