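import Mathlib
import Groth.Agent.H16.ST3

set_option autoImplicit false
set_option linter.style.haveILetI false

/-! Straightening for Plücker coordinates: standard monomials span (main induction). -/

namespace Groth.Agent.H16.ST

open MvPolynomial W4bk4grassmannian

universe u

variable {d n : ℕ} (K : Type u) [CommRing K]

/-- the span of the standard monomials. -/
noncomputable def W : Submodule K (PlRing K d n ⧸ plIdealTop (d := d) (n := n) K) :=
  Submodule.span K (Set.range fun c : (Σ m : ℕ, {c : Fin m → Idx d n // Antitone c}) =>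
    π K (chainMon K c.2.1))

/-- the measure of a tuple: the deficits of the entry sums. -/
def meas {m : ℕ} (c : Fin m → Idx d n) : Fin m → ℕ := fun k => d * n - ssum (c k)

/-- lexicographic comparison of measures. -/
def Rel {m : ℕ} (c' c : Fin m → Idx d n) : Prop :=
  ∃ k, (∀ t, t < k → meas c' t = meas c t) ∧ meas c' k < meas c k

theorem rel_wf {m : ℕ} : WellFounded (Rel (d := d) (n := n) (m := m)) := by
  have h := InvImage.wf (meas (d := d) (n := n) (m := m))
    (Pi.Lex.wellFounded (ι := Fin m) (α := fun _ => ℕ) (· < ·)
      (s := fun _ a b => a < b) (fun _ => Nat.lt_wfRel.wf))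
  exact h

theorem chainMon_mem {m : ℕ} (c : Fin m → Idx d n) : π K (chainMon K c) ∈ W K := by
  classical
  refine (rel_wf (d := d) (n := n) (m := m)).induction
    (C := fun c => π K (chainMon K c) ∈ W K) c ?_
  intro c ih
  by_cases hanti : Antitone c
  · exact Submodule.subset_span ⟨⟨m, c, hanti⟩, rfl⟩
  obtain ⟨k, l, hkl, hnot⟩ : ∃ k l, k ≤ l ∧ ¬ c l ≤ c k := by
    by_contra hcon
    push Not at hcon
    exact hanti (fun k l hkl => hcon k l hkl)
  have hne : k ≠ l := by
    rintro rfl
    exact hnot le_rfl
  obtain ⟨r, hp⟩ := exists_pivot hnot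
  have hpair := pair_mem K hp
  have hl : l ∈ Finset.univ.erase k := Finset.mem_erase.mpr ⟨hne.symm, Finset.mem_univ l⟩
  set Rst : PlRing K d n := ∏ k' ∈ (Finset.univ.erase k).erase l, X (c k') with hRst
  have hfac : chainMon K c = X (c k) * X (c l) * Rst := by
    unfold chainMon
    rw [← Finset.mul_prod_erase _ _ (Finset.mem_univ k), ← Finset.mul_prod_erase _ _ hl, mul_assoc]
  rw [hfac, map_mul]
  have key : ∀ z ∈ Submodule.span K (T K (c k)), z * π K Rst ∈ W K := by
    intro z hz
    induction hz using Submodule.span_induction with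
    | mem z hz =>
      obtain ⟨i', j', hlt, rfl⟩ := hz
      set c' := Function.update (Function.update c k i') l j' with hc'def
      have hc'k : c' k = i' := by
        rw [hc'def, Function.update_of_ne hne, Function.update_self]
      have hc'l : c' l = j' := Function.update_self ..
      have hc' : ∀ k', k' ≠ k → k' ≠ l → c' k' = c k' := fun k' h1 h2 => by
        rw [hc'def, Function.update_of_ne h2, Function.update_of_ne h1]
      have hfac' : chainMon K c' = X i' * X j' * Rst := by
        unfold chainMon
        rw [← Finset.mul_prod_erase _ _ (Finset.mem_univ k), ← Finset.mul_prod_erase _ _ hl,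
          hc'k, hc'l, mul_assoc]
        congr 2
        refine Finset.prod_congr rfl (fun k' hk' => ?_)
        rw [hc' k' (Finset.ne_of_mem_erase (Finset.mem_of_mem_erase hk'))
          (Finset.ne_of_mem_erase hk')]
      rw [← map_mul, ← hfac']
      refine ih c' ⟨k, fun t ht => ?_, ?_⟩
      · show d * n - ssum (c' t) = d * n - ssum (c t)
        rw [hc' t (ne_of_lt ht) (ne_of_lt (lt_of_lt_of_le ht hkl))]
      · show d * n - ssum (c' k) < d * n - ssum (c k)
        rw [hc'k]
        have := ssum_le i'
        omega
    | zero => rw [zero_mul]; exact Submodule.zero_mem _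
    | add x y _ _ hx hy => rw [add_mul]; exact Submodule.add_mem _ hx hy
    | smul a x _ hx => rw [smul_mul_assoc]; exact Submodule.smul_mem _ a hx
  exact key _ hpair

/-- every polynomial is a combination of monomials of tuples. -/
theorem all_span (p : PlRing K d n) :
    p ∈ Submodule.span K (Set.range fun c : (Σ m : ℕ, (Fin m → Idx d n)) => chainMon K c.2) := by
  induction p using MvPolynomial.induction_on with
  | C a =>
    have h1 : (C a : PlRing K d n) = a • chainMon K (fun k : Fin 0 => k.elim0) := by
      unfold chainMon
      rw [Finset.univ_eq_empty, Finset.prod_empty, MvPolynomial.smul_eq_C_mul, mul_one]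
    rw [h1]
    exact Submodule.smul_mem _ a (Submodule.subset_span ⟨⟨0, _⟩, rfl⟩)
  | add p q hp hq => exact Submodule.add_mem _ hp hq
  | mul_X p θ hp =>
    induction hp using Submodule.span_induction with
    | mem x hx =>
      obtain ⟨⟨m, c⟩, rfl⟩ := hx
      refine Submodule.subset_span ⟨⟨m + 1, Fin.snoc c θ⟩, ?_⟩
      show chainMon K (Fin.snoc c θ : Fin (m + 1) → Idx d n) = chainMon K c * X θ
      unfold chainMon
      rw [Fin.prod_univ_castSucc]
      simp
    | zero => rw [zero_mul]; exact Submodule.zero_mem _
    | add x y _ _ hx hy => rw [add_mul]; exact Submodule.add_mem _ hx hy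
    | smul a x _ hx => rw [smul_mul_assoc]; exact Submodule.smul_mem _ a hx

theorem main : Submodule.span K (Set.range fun c : (Σ m : ℕ, {c : Fin m → Idx d n // Antitone c}) =>
    Ideal.Quotient.mk (plIdealTop (d := d) (n := n) K) (chainMon K c.2.1)) = ⊤ := by
  rw [eq_top_iff]
  rintro z -
  obtain ⟨p, rfl⟩ := Ideal.Quotient.mk_surjective z
  have hp := all_span K p
  induction hp using Submodule.span_induction with
  | mem x hx =>
    obtain ⟨⟨m, c⟩, rfl⟩ := hx
    exact chainMon_mem K c
  | zero => rw [map_zero]; exact Submodule.zero_mem _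
  | add x y _ _ hx hy => rw [map_add]; exact Submodule.add_mem _ hx hy
  | smul a x _ hx =>
    have h1 : Ideal.Quotient.mk (plIdealTop (d := d) (n := n) K) (a • x) =
        a • Ideal.Quotient.mk (plIdealTop (d := d) (n := n) K) x := rfl
    rw [h1]
    exact Submodule.smul_mem _ a hx

end Groth.Agent.H16.ST
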