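import Mathlib
import Groth.Prelude.Def_W4bk4grassmannianPl
import Groth.Agent.H16.SM3
import Groth.Agent.H16.SM6
import Groth.Agent.H16.ST4

set_option autoImplicit false
set_option linter.unusedSectionVars false

/-! Standard monomial basis of the coordinate rings of unions of Schubert varieties. -/

namespace Groth.Agent.H16.SM

open W4bk4grassmannian MvPolynomial
open scoped MonomialOrder

universe u

variable (K : Type u) [Field K] {d n : ℕ}

/-- restriction of Plücker polynomials to the generic matrix of a Schubert cell. -/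
noncomputable def Phi (τ : Idx d n) : PlRing K d n →ₐ[K] MvPolynomial (Var d n) K :=
  aeval (fun θ => gminor K τ θ)

theorem Phi_X (τ θ : Idx d n) : Phi K τ (X θ) = gminor K τ θ := by
  unfold Phi; rw [aeval_X]

theorem Phi_chainMon (τ : Idx d n) {m : ℕ} (c : Fin m → Idx d n) :
    Phi K τ (chainMon K c) = ∏ k, gminor K τ (c k) := by
  unfold chainMon
  rw [map_prod]
  exact Finset.prod_congr rfl (fun k _ => Phi_X K τ (c k))

theorem evalMinors_apply (A : Matrix (Fin n) (Fin d) K) (f : PlRing K d n) :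
    evalMinors K d n A f = eval (fun θ : Idx d n => (A.submatrix θ.1 id).det) f := rfl

theorem eval_Phi (τ : Idx d n) (a : Var d n → K) (f : PlRing K d n) :
    eval a (Phi K τ f) = evalMinors K d n (Apt K τ a) f := by
  induction f using MvPolynomial.induction_on with
  | C c =>
    rw [evalMinors_apply, eval_C]
    unfold Phi
    rw [aeval_C, algebraMap_eq, eval_C]
  | add p q hp hq => rw [map_add, map_add, map_add, hp, hq]
  | mul_X p θ hp =>
    rw [map_mul, map_mul, map_mul, hp, Phi_X, eval_gminor, evalMinors_apply, evalMinors_apply,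
      eval_X]

theorem mem_schubertVanishing_iff (τ : Idx d n) (f : PlRing K d n) :
    f ∈ schubertVanishing K d n τ ↔ ∀ A : Matrix (Fin n) (Fin d) K,
      (∀ φ : Idx d n, ¬ φ ≤ τ → (A.submatrix φ.1 id).det = 0) →
        eval (fun θ : Idx d n => (A.submatrix θ.1 id).det) f = 0 := by
  unfold schubertVanishing
  simp only [Ideal.mem_iInf]
  rfl

theorem Phi_eq_zero_of_mem [Infinite K] (τ : Idx d n) (f : PlRing K d n)
    (hf : f ∈ schubertVanishing K d n τ) : Phi K τ f = 0 := by
  apply MvPolynomial.funext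
  intro a
  rw [eval_Phi, map_zero, evalMinors_apply]
  exact (mem_schubertVanishing_iff K τ f).mp hf (Apt K τ a)
    (fun φ hφ => Apt_schubert K τ φ a hφ)

theorem X_mem_schubertVanishing (τ φ : Idx d n) (hφ : ¬ φ ≤ τ) :
    (X φ : PlRing K d n) ∈ schubertVanishing K d n τ := by
  rw [mem_schubertVanishing_iff]
  intro A hA
  rw [eval_X]
  exact hA φ hφ

theorem shuffleRel_mem_schubertVanishing (τ : Idx d n) (i j : Idx d n) (r : Fin d) :
    shuffleRel K i j r ∈ schubertVanishing K d n τ := by
  rw [mem_schubertVanishing_iff]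
  intro A _
  exact eval_shuffleRel_eq_zero A i j r

theorem plIdealTop_le (τ : Idx d n) : plIdealTop (d := d) (n := n) K ≤ schubertVanishing K d n τ := by
  unfold plIdealTop
  rw [Ideal.span_le]
  rintro f ⟨i, j, r, -, rfl⟩
  exact shuffleRel_mem_schubertVanishing K τ i j r

theorem plIdeal_le (τ : Idx d n) : plIdeal K τ ≤ schubertVanishing K d n τ := by
  unfold plIdeal
  rw [Ideal.span_le]
  rintro f (⟨i, j, r, -, rfl⟩ | ⟨φ, hφ, rfl⟩)
  · exact shuffleRel_mem_schubertVanishing K τ i j r
  · exact X_mem_schubertVanishing K τ φ hφ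

theorem chainMon_mem_of_not_le (τ : Idx d n) {m : ℕ} (c : Fin m → Idx d n)
    (h : ¬ ∀ k, c k ≤ τ) : chainMon K c ∈ schubertVanishing K d n τ := by
  push Not at h
  obtain ⟨k, hk⟩ := h
  unfold chainMon
  exact Ideal.mem_of_dvd _ (Finset.dvd_prod_of_mem _ (Finset.mem_univ k))
    (X_mem_schubertVanishing K τ (c k) hk)

theorem Phi_chainMon_ne_zero (τ : Idx d n) {m : ℕ} (c : Fin m → Idx d n) (h : ∀ k, c k ≤ τ) :
    Phi K τ (chainMon K c) ≠ 0 := by
  rw [Phi_chainMon]
  exact (MonomialOrder.Monic.prod (fun k _ => monic_gminor K τ (c k) (h k))).ne_zero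

theorem degree_Phi_chainMon (τ : Idx d n) {m : ℕ} (c : Fin m → Idx d n) (h : ∀ k, c k ≤ τ) :
    MonomialOrder.lex.degree (Phi K τ (chainMon K c)) = DD c := by
  rw [Phi_chainMon, MonomialOrder.degree_prod
    (fun k _ => (monic_gminor K τ (c k) (h k)).ne_zero)]
  unfold DD
  exact Finset.sum_congr rfl (fun k _ => degree_gminor K τ (c k) (h k))

theorem sigma_ext {P : ∀ m : ℕ, (Fin m → Idx d n) → Prop}
    (x y : Σ m : ℕ, {c : Fin m → Idx d n // P m c})
    (h : (⟨x.1, x.2.1⟩ : Σ m : ℕ, (Fin m → Idx d n)) = ⟨y.1, y.2.1⟩) : x = y := by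
  obtain ⟨m, c, hc⟩ := x
  obtain ⟨m', c', hc'⟩ := y
  simp only at h
  obtain ⟨rfl, h2⟩ := Sigma.mk.inj_iff.mp h
  have := eq_of_heq h2
  subst this
  rfl

/-- linear independence of the standard monomials on a union of Schubert varieties. -/
theorem li_union [Infinite K] (hd : 0 < d) {ι : Type*} (τs : ι → Idx d n) :
    LinearIndependent K (fun c : (Σ m : ℕ, {c : Fin m → Idx d n //
        Antitone c ∧ ∃ i, ∀ k, c k ≤ τs i}) =>
      Ideal.Quotient.mk (⨅ i, schubertVanishing K d n (τs i)) (chainMon K c.2.1)) := by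
  classical
  rw [linearIndependent_iff']
  intro s g hsum c₀ hc₀
  obtain ⟨i, hi⟩ := c₀.2.2.2
  -- the relation as a polynomial
  have hP : ∑ c ∈ s, g c • chainMon K c.2.1 ∈ ⨅ i, schubertVanishing K d n (τs i) := by
    rw [← Ideal.Quotient.eq_zero_iff_mem, map_sum]
    rw [← hsum]
    refine Finset.sum_congr rfl (fun c _ => ?_)
    rfl
  have hPi : ∑ c ∈ s, g c • chainMon K c.2.1 ∈ schubertVanishing K d n (τs i) :=
    (Ideal.mem_iInf.mp hP) i
  have h0 := Phi_eq_zero_of_mem K (τs i) _ hPi
  rw [map_sum] at h0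
  have h1 : ∑ c ∈ s, g c • Phi K (τs i) (chainMon K c.2.1) = 0 := by
    rw [← h0]
    refine Finset.sum_congr rfl (fun c _ => ?_)
    rw [map_smul]
  -- restrict to the chains below τs i
  have h2 : ∑ c ∈ s.filter (fun c => ∀ k, c.2.1 k ≤ τs i),
      g c • Phi K (τs i) (chainMon K c.2.1) = 0 := by
    rw [Finset.sum_filter_of_ne, h1]
    intro c _ hne
    by_contra hcon
    apply hne
    rw [Phi_eq_zero_of_mem K (τs i) _ (chainMon_mem_of_not_le K (τs i) c.2.1 hcon), smul_zero]
  refine eq_zero_of_degree_injOn MonomialOrder.lex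
    (fun c : (Σ m : ℕ, {c : Fin m → Idx d n // Antitone c ∧ ∃ i, ∀ k, c k ≤ τs i}) =>
      Phi K (τs i) (chainMon K c.2.1))
    (s.filter (fun c => ∀ k, c.2.1 k ≤ τs i)) g h2 ?_ ?_ c₀
    (Finset.mem_filter.mpr ⟨hc₀, hi⟩)
  · intro c hc
    exact Phi_chainMon_ne_zero K (τs i) c.2.1 (Finset.mem_filter.mp hc).2
  · intro c hc c' hc' hdeg
    rw [degree_Phi_chainMon K (τs i) c.2.1 (Finset.mem_filter.mp hc).2,
      degree_Phi_chainMon K (τs i) c'.2.1 (Finset.mem_filter.mp hc').2] at hdeg
    exact sigma_ext c c' (DD_injective hd c.2.1 c'.2.1 c.2.2.1 c'.2.2.1 hdeg)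

/-- the standard monomials on a union of Schubert varieties span its coordinate ring. -/
theorem span_union {ι : Type*} (τs : ι → Idx d n) :
    Submodule.span K (Set.range fun c : (Σ m : ℕ, {c : Fin m → Idx d n //
        Antitone c ∧ ∃ i, ∀ k, c k ≤ τs i}) =>
      Ideal.Quotient.mk (⨅ i, schubertVanishing K d n (τs i)) (chainMon K c.2.1)) = ⊤ := by
  classical
  set J := ⨅ i, schubertVanishing K d n (τs i) with hJ
  have hle : plIdealTop (d := d) (n := n) K ≤ J := le_iInf (fun i => plIdealTop_le K (τs i))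
  rw [eq_top_iff]
  rintro z -
  obtain ⟨p, rfl⟩ := Ideal.Quotient.mk_surjective z
  -- p is a combination of chain monomials modulo plIdealTop
  have hp : Ideal.Quotient.mk (plIdealTop (d := d) (n := n) K) p ∈
      Submodule.span K (Set.range fun c : (Σ m : ℕ, {c : Fin m → Idx d n // Antitone c}) =>
        Ideal.Quotient.mk (plIdealTop (d := d) (n := n) K) (chainMon K c.2.1)) := by
    rw [ST.main K]; exact Submodule.mem_top
  -- push forward along the quotient map
  let L : (PlRing K d n ⧸ plIdealTop (d := d) (n := n) K) →ₐ[K] (PlRing K d n ⧸ J) :=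
    Ideal.Quotient.factorₐ K hle
  have hL : ∀ q : PlRing K d n, L (Ideal.Quotient.mk _ q) = Ideal.Quotient.mk J q := fun q => rfl
  rw [← hL p]
  have key : ∀ w ∈ Submodule.span K (Set.range fun c : (Σ m : ℕ, {c : Fin m → Idx d n //
      Antitone c}) => Ideal.Quotient.mk (plIdealTop (d := d) (n := n) K) (chainMon K c.2.1)),
      L w ∈ Submodule.span K (Set.range fun c : (Σ m : ℕ, {c : Fin m → Idx d n //
        Antitone c ∧ ∃ i, ∀ k, c k ≤ τs i}) => Ideal.Quotient.mk J (chainMon K c.2.1)) := by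
    intro w hw
    induction hw using Submodule.span_induction with
    | mem x hx =>
      obtain ⟨c, rfl⟩ := hx
      rw [hL]
      by_cases hc : ∃ i, ∀ k, c.2.1 k ≤ τs i
      · exact Submodule.subset_span ⟨⟨c.1, c.2.1, c.2.2, hc⟩, rfl⟩
      · push Not at hc
        have : chainMon K c.2.1 ∈ J := by
          rw [hJ, Ideal.mem_iInf]
          intro i
          apply chainMon_mem_of_not_le K (τs i) c.2.1
          push Not
          exact hc i
        rw [Ideal.Quotient.eq_zero_iff_mem.mpr this]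
        exact Submodule.zero_mem _
    | zero => rw [map_zero]; exact Submodule.zero_mem _
    | add x y _ _ hx hy => rw [map_add]; exact Submodule.add_mem _ hx hy
    | smul a x _ hx => rw [map_smul]; exact Submodule.smul_mem _ a hx
  exact key _ hp

end Groth.Agent.H16.SM
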