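import Mathlib
import Groth.Prelude.Def_W4bk4grassmannianPl
import Groth.Agent.H16.SM7

set_option autoImplicit false
set_option linter.unusedSectionVars false

/-! The shuffle relations and the vanishing coordinates generate the ideal of a Schubert variety. -/

namespace Groth.Agent.H16.SM

open W4bk4grassmannian MvPolynomial

universe u

variable (K : Type u) [Field K] {d n : ℕ}

/-- spanning by restricted standard monomials modulo any ideal containing the shuffle relations and
the other standard monomials. -/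
theorem span_of_le {ι : Type*} (τs : ι → Idx d n) (J : Ideal (PlRing K d n))
    (hle : plIdealTop (d := d) (n := n) K ≤ J)
    (hmem : ∀ (m : ℕ) (c : Fin m → Idx d n), Antitone c → (¬ ∃ i, ∀ k, c k ≤ τs i) →
      chainMon K c ∈ J) :
    Submodule.span K (Set.range fun c : (Σ m : ℕ, {c : Fin m → Idx d n //
        Antitone c ∧ ∃ i, ∀ k, c k ≤ τs i}) =>
      Ideal.Quotient.mk J (chainMon K c.2.1)) = ⊤ := by
  classical
  rw [eq_top_iff]
  rintro z -
  obtain ⟨p, rfl⟩ := Ideal.Quotient.mk_surjective z
  have hp : Ideal.Quotient.mk (plIdealTop (d := d) (n := n) K) p ∈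
      Submodule.span K (Set.range fun c : (Σ m : ℕ, {c : Fin m → Idx d n // Antitone c}) =>
        Ideal.Quotient.mk (plIdealTop (d := d) (n := n) K) (chainMon K c.2.1)) := by
    rw [ST.main K]; exact Submodule.mem_top
  let L : (PlRing K d n ⧸ plIdealTop (d := d) (n := n) K) →ₐ[K] (PlRing K d n ⧸ J) :=
    Ideal.Quotient.factorₐ K hle
  have hL : ∀ q : PlRing K d n, L (Ideal.Quotient.mk _ q) = Ideal.Quotient.mk J q := fun q => rfl
  rw [← hL p]
  have key : ∀ w ∈ Submodule.span K (Set.range fun c : (Σ m : ℕ, {c : Fin m → Idx d n //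
      Antitone c}) => Ideal.Quotient.mk (plIdealTop (d := d) (n := n) K) (chainMon K c.2.1)),
      L w ∈ Submodule.span K (Set.range fun c : (Σ m : ℕ, {c : Fin m → Idx d n //
        Antitone c ∧ ∃ i, ∀ k, c k ≤ τs i}) => Ideal.Quotient.mk J (chainMon K c.2.1)) := by
    intro w hw
    induction hw using Submodule.span_induction with
    | mem x hx =>
      obtain ⟨c, rfl⟩ := hx
      rw [hL]
      by_cases hc : ∃ i, ∀ k, c.2.1 k ≤ τs i
      · exact Submodule.subset_span ⟨⟨c.1, c.2.1, c.2.2, hc⟩, rfl⟩
      · rw [Ideal.Quotient.eq_zero_iff_mem.mpr (hmem c.1 c.2.1 c.2.2 hc)]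
        exact Submodule.zero_mem _
    | zero => rw [map_zero]; exact Submodule.zero_mem _
    | add x y _ _ hx hy => rw [map_add]; exact Submodule.add_mem _ hx hy
    | smul a x _ hx => rw [map_smul]; exact Submodule.smul_mem _ a hx
  exact key _ hp

theorem plIdealTop_le_plIdeal (τ : Idx d n) : plIdealTop (d := d) (n := n) K ≤ plIdeal K τ := by
  unfold plIdealTop plIdeal
  exact Ideal.span_mono Set.subset_union_left

theorem X_mem_plIdeal (τ φ : Idx d n) (hφ : ¬ φ ≤ τ) : (X φ : PlRing K d n) ∈ plIdeal K τ := by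
  unfold plIdeal
  exact Ideal.subset_span (Or.inr ⟨φ, hφ, rfl⟩)

/-- the main theorem: `I(τ) = J(τ)`. -/
theorem plIdeal_eq [Infinite K] (hd : 0 < d) (τ : Idx d n) :
    plIdeal K τ = schubertVanishing K d n τ := by
  classical
  apply le_antisymm (plIdeal_le K τ)
  intro f hf
  set τs : Fin 1 → Idx d n := fun _ => τ with hτs
  have hJ' : (⨅ i, schubertVanishing K d n (τs i)) = schubertVanishing K d n τ := by
    show (⨅ _ : Fin 1, schubertVanishing K d n τ) = schubertVanishing K d n τ
    exact iInf_const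
  have hspan := span_of_le K τs (plIdeal K τ) (plIdealTop_le_plIdeal K τ) (by
    intro m c _ hc
    push Not at hc
    obtain ⟨k, hk⟩ := hc 0
    unfold chainMon
    exact Ideal.mem_of_dvd _ (Finset.dvd_prod_of_mem _ (Finset.mem_univ k))
      (X_mem_plIdeal K τ (c k) hk))
  have hli := li_union K hd τs
  have hfspan : Ideal.Quotient.mk (plIdeal K τ) f ∈ Submodule.span K
      (Set.range fun c : (Σ m : ℕ, {c : Fin m → Idx d n //
        Antitone c ∧ ∃ i, ∀ k, c k ≤ τs i}) =>
      Ideal.Quotient.mk (plIdeal K τ) (chainMon K c.2.1)) := by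
    rw [hspan]; exact Submodule.mem_top
  obtain ⟨l, hl⟩ := (Finsupp.mem_span_range_iff_exists_finsupp).mp hfspan
  -- the polynomial P
  set P : PlRing K d n := l.sum fun c a => a • chainMon K c.2.1 with hP
  have hPf : Ideal.Quotient.mk (plIdeal K τ) P = Ideal.Quotient.mk (plIdeal K τ) f := by
    rw [← hl, hP, Finsupp.sum, Finsupp.sum, map_sum]
    refine Finset.sum_congr rfl (fun c _ => ?_)
    rfl
  have hdiff : P - f ∈ plIdeal K τ := Ideal.Quotient.eq.mp hPf
  have hPJ : P ∈ schubertVanishing K d n τ := by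
    have := Ideal.add_mem _ (plIdeal_le K τ hdiff) hf
    rwa [sub_add_cancel] at this
  have hl0 : l = 0 := by
    apply (linearIndependent_iff.mp hli) l
    rw [Finsupp.linearCombination_apply]
    have : (l.sum fun c a => a • Ideal.Quotient.mk (⨅ i, schubertVanishing K d n (τs i))
        (chainMon K c.2.1)) = Ideal.Quotient.mk (⨅ i, schubertVanishing K d n (τs i)) P := by
      rw [hP, Finsupp.sum, Finsupp.sum, map_sum]
      refine Finset.sum_congr rfl (fun c _ => ?_)
      rfl
    rw [this, Ideal.Quotient.eq_zero_iff_mem, hJ']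
    exact hPJ
  have hP0 : P = 0 := by rw [hP, hl0, Finsupp.sum_zero_index]
  rw [hP0, zero_sub] at hdiff
  exact (Ideal.neg_mem_iff _).mp hdiff

end Groth.Agent.H16.SM
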