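import Mathlib
import Groth.Prelude.Def_W4bk4grassmannianPl
import Groth.Agent.H16.SM8

set_option autoImplicit false
set_option linter.unusedSectionVars false

/-! The generic matrix of a Richardson-type cell (entries between a lower and an upper bound) and
the leading terms of its minors. -/

namespace Groth.Agent.H16.SM

open W4bk4grassmannian MvPolynomial
open scoped MonomialOrder

universe u

variable {d n : ℕ}

variable (K : Type u) [Field K]

/-- the generic matrix with entries `(i, t)` for `lo t ≤ i ≤ τ t`. -/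
noncomputable def G2 (lo : Fin d → Fin n) (τ : Idx d n) :
    Matrix (Fin n) (Fin d) (MvPolynomial (Var d n) K) :=
  fun i t => if lo t ≤ i ∧ i ≤ τ.1 t then X (toLex (i, t)) else 0

/-- the minor of the two-sided generic matrix on the rows `θ`. -/
noncomputable def gminor2 (lo : Fin d → Fin n) (τ θ : Idx d n) : MvPolynomial (Var d n) K :=
  ((G2 K lo τ).submatrix θ.1 id).det

theorem prod_G2 (lo : Fin d → Fin n) (τ θ : Idx d n) (σ : Equiv.Perm (Fin d)) :
    ∏ t, (G2 K lo τ).submatrix θ.1 id (σ t) t =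
      if ∀ t, lo t ≤ θ.1 (σ t) ∧ θ.1 (σ t) ≤ τ.1 t then monomial (Eexp θ σ) (1 : K) else 0 := by
  by_cases h : ∀ t, lo t ≤ θ.1 (σ t) ∧ θ.1 (σ t) ≤ τ.1 t
  · rw [if_pos h]
    unfold Eexp
    rw [MvPolynomial.monomial_sum_one]
    refine Finset.prod_congr rfl (fun t _ => ?_)
    rw [Matrix.submatrix_apply]
    unfold G2
    rw [id, if_pos (h t)]
    rfl
  · rw [if_neg h]
    push Not at h
    obtain ⟨t, ht⟩ := h
    apply Finset.prod_eq_zero (Finset.mem_univ t)
    rw [Matrix.submatrix_apply]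
    unfold G2
    rw [id, if_neg]
    rintro ⟨h1, h2⟩
    exact absurd h2 (not_le.mpr (ht h1))

theorem coeff_term2 (lo : Fin d → Fin n) (τ θ : Idx d n) (σ : Equiv.Perm (Fin d))
    (e : Var d n →₀ ℕ) (he : e ≠ Eexp θ σ) :
    coeff e (Equiv.Perm.sign σ • ∏ t, (G2 K lo τ).submatrix θ.1 id (σ t) t) = 0 := by
  rw [prod_G2]
  have h0 : coeff e (if ∀ t, lo t ≤ θ.1 (σ t) ∧ θ.1 (σ t) ≤ τ.1 t
      then monomial (Eexp θ σ) (1 : K) else 0) = 0 := by
    split_ifs
    · rw [coeff_monomial, if_neg (Ne.symm he)]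
    · rw [coeff_zero]
  rcases Int.units_eq_one_or (Equiv.Perm.sign σ) with h | h
  · rw [h, one_smul, h0]
  · rw [h, Units.neg_smul, one_smul, coeff_neg, h0, neg_zero]

theorem coeff_Dexp_gminor2 (lo : Fin d → Fin n) (τ θ : Idx d n)
    (hθ : ∀ t, lo t ≤ θ.1 t ∧ θ.1 t ≤ τ.1 t) : coeff (Dexp θ) (gminor2 K lo τ θ) = 1 := by
  unfold gminor2
  rw [Matrix.det_apply, coeff_sum, Finset.sum_eq_single (1 : Equiv.Perm (Fin d))]
  · rw [prod_G2, Equiv.Perm.sign_one, one_smul,
      if_pos (show ∀ t, lo t ≤ θ.1 ((1 : Equiv.Perm (Fin d)) t) ∧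
        θ.1 ((1 : Equiv.Perm (Fin d)) t) ≤ τ.1 t from fun t => hθ t)]
    show coeff (Dexp θ) (monomial (Dexp θ) (1 : K)) = 1
    rw [coeff_monomial, if_pos rfl]
  · intro σ _ hσ
    exact coeff_term2 K lo τ θ σ (Dexp θ) (Eexp_ne θ σ hσ).symm
  · intro h; exact absurd (Finset.mem_univ _) h

theorem support_gminor2_le (lo : Fin d → Fin n) (τ θ : Idx d n) :
    ∀ e ∈ (gminor2 K lo τ θ).support, e ≼[MonomialOrder.lex] Dexp θ := by
  intro e he
  rw [mem_support_iff] at he
  unfold gminor2 at he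
  rw [Matrix.det_apply, coeff_sum] at he
  obtain ⟨σ, -, hσ⟩ := Finset.exists_ne_zero_of_sum_ne_zero he
  have : e = Eexp θ σ := by
    by_contra hne
    exact hσ (coeff_term2 K lo τ θ σ e hne)
  rw [this]
  exact Eexp_le θ σ

theorem degree_gminor2 (lo : Fin d → Fin n) (τ θ : Idx d n)
    (hθ : ∀ t, lo t ≤ θ.1 t ∧ θ.1 t ≤ τ.1 t) :
    MonomialOrder.lex.degree (gminor2 K lo τ θ) = Dexp θ := by
  apply MonomialOrder.lex.toSyn.injective
  apply le_antisymm
  · exact MonomialOrder.degree_le_iff.mpr (support_gminor2_le K lo τ θ)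
  · apply MonomialOrder.le_degree
    rw [mem_support_iff, coeff_Dexp_gminor2 K lo τ θ hθ]
    exact one_ne_zero

theorem monic_gminor2 (lo : Fin d → Fin n) (τ θ : Idx d n)
    (hθ : ∀ t, lo t ≤ θ.1 t ∧ θ.1 t ≤ τ.1 t) :
    MonomialOrder.lex.Monic (gminor2 K lo τ θ) := by
  unfold MonomialOrder.Monic MonomialOrder.leadingCoeff
  rw [degree_gminor2 K lo τ θ hθ, coeff_Dexp_gminor2 K lo τ θ hθ]

/-- the matrix with entries given by a point. -/
def Apt2 (lo : Fin d → Fin n) (τ : Idx d n) (a : Var d n → K) : Matrix (Fin n) (Fin d) K :=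
  fun i t => if lo t ≤ i ∧ i ≤ τ.1 t then a (toLex (i, t)) else 0

theorem eval_gminor2 (lo : Fin d → Fin n) (τ θ : Idx d n) (a : Var d n → K) :
    eval a (gminor2 K lo τ θ) = ((Apt2 K lo τ a).submatrix θ.1 id).det := by
  unfold gminor2
  rw [RingHom.map_det]
  congr 1
  ext s t
  simp only [RingHom.mapMatrix_apply, Matrix.map_apply, Matrix.submatrix_apply, id]
  unfold G2 Apt2
  split_ifs
  · rw [eval_X]
  · rw [map_zero]

theorem Apt2_schubert (lo : Fin d → Fin n) (τ φ : Idx d n) (a : Var d n → K) (hφ : ¬ φ ≤ τ) :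
    ((Apt2 K lo τ a).submatrix φ.1 id).det = 0 := by
  apply det_submatrix_eq_zero_of_schubert (Apt2 K lo τ a) τ φ _ hφ
  intro i t h
  unfold Apt2
  rw [if_neg]
  rintro ⟨-, h2⟩
  exact absurd h2 (not_le.mpr h)

/-- restriction of Plücker polynomials to the two-sided generic matrix. -/
noncomputable def Phi2 (lo : Fin d → Fin n) (τ : Idx d n) :
    PlRing K d n →ₐ[K] MvPolynomial (Var d n) K :=
  aeval (fun θ => gminor2 K lo τ θ)

theorem Phi2_X (lo : Fin d → Fin n) (τ θ : Idx d n) : Phi2 K lo τ (X θ) = gminor2 K lo τ θ := by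
  unfold Phi2; rw [aeval_X]

theorem Phi2_chainMon (lo : Fin d → Fin n) (τ : Idx d n) {m : ℕ} (c : Fin m → Idx d n) :
    Phi2 K lo τ (chainMon K c) = ∏ k, gminor2 K lo τ (c k) := by
  unfold chainMon
  rw [map_prod]
  exact Finset.prod_congr rfl (fun k _ => Phi2_X K lo τ (c k))

theorem eval_Phi2 (lo : Fin d → Fin n) (τ : Idx d n) (a : Var d n → K) (f : PlRing K d n) :
    eval a (Phi2 K lo τ f) = evalMinors K d n (Apt2 K lo τ a) f := by
  induction f using MvPolynomial.induction_on with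
  | C c =>
    rw [evalMinors_apply, eval_C]
    unfold Phi2
    rw [aeval_C, algebraMap_eq, eval_C]
  | add p q hp hq => rw [map_add, map_add, map_add, hp, hq]
  | mul_X p θ hp =>
    rw [map_mul, map_mul, map_mul, hp, Phi2_X, eval_gminor2, evalMinors_apply, evalMinors_apply,
      eval_X]

theorem Phi2_eq_zero_of_mem [Infinite K] (lo : Fin d → Fin n) (τ : Idx d n) (f : PlRing K d n)
    (hf : f ∈ schubertVanishing K d n τ) : Phi2 K lo τ f = 0 := by
  apply MvPolynomial.funext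
  intro a
  rw [eval_Phi2, map_zero, evalMinors_apply]
  exact (mem_schubertVanishing_iff K τ f).mp hf (Apt2 K lo τ a)
    (fun φ hφ => Apt2_schubert K lo τ φ a hφ)

theorem Phi2_chainMon_ne_zero (lo : Fin d → Fin n) (τ : Idx d n) {m : ℕ} (c : Fin m → Idx d n)
    (h : ∀ k t, lo t ≤ (c k).1 t ∧ (c k).1 t ≤ τ.1 t) :
    Phi2 K lo τ (chainMon K c) ≠ 0 := by
  rw [Phi2_chainMon]
  exact (MonomialOrder.Monic.prod (fun k _ => monic_gminor2 K lo τ (c k) (h k))).ne_zero

theorem degree_Phi2_chainMon (lo : Fin d → Fin n) (τ : Idx d n) {m : ℕ} (c : Fin m → Idx d n)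
    (h : ∀ k t, lo t ≤ (c k).1 t ∧ (c k).1 t ≤ τ.1 t) :
    MonomialOrder.lex.degree (Phi2 K lo τ (chainMon K c)) = DD c := by
  rw [Phi2_chainMon, MonomialOrder.degree_prod
    (fun k _ => (monic_gminor2 K lo τ (c k) (h k)).ne_zero)]
  unfold DD
  exact Finset.sum_congr rfl (fun k _ => degree_gminor2 K lo τ (c k) (h k))

end Groth.Agent.H16.SM
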