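import Mathlib
import Groth.Prelude.Def_W4bk4grassmannianPl
import Groth.Agent.H16.SN1

set_option autoImplicit false
set_option linter.unusedSectionVars false

/-! The least Plücker coordinate is prime on every Schubert variety. -/

namespace Groth.Agent.H16.SM

open W4bk4grassmannian MvPolynomial
open scoped MonomialOrder

universe u

variable {d n : ℕ}

theorem idx_add_le (θ : Idx d n) : ∀ (k : ℕ) (s : Fin d) (h : s.val + k < d),
    (θ.1 s).val + k ≤ (θ.1 ⟨s.val + k, h⟩).val := by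
  intro k
  induction k with
  | zero => intro s h; exact le_refl _
  | succ k ih =>
    intro s h
    have h1 := ih s (by omega)
    have h2 : (θ.1 ⟨s.val + k, by omega⟩).val < (θ.1 ⟨s.val + (k + 1), h⟩).val :=
      θ.2 (Fin.mk_lt_mk.mpr (by omega))
    omega

/-- the least element of `I(d,n)`. -/
def iota (hdn : d < n) : Idx d n := ⟨fun t => ⟨t.val, lt_trans t.isLt hdn⟩, fun _ _ h => h⟩

/-- the lower bound `(0, 1, …, d - 2, d)`. -/
def lo1 (hdn : d < n) : Fin d → Fin n :=
  fun t => if t.val + 1 = d then ⟨d, hdn⟩ else ⟨t.val, lt_trans t.isLt hdn⟩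

theorem iota_le (hdn : d < n) (θ : Idx d n) : iota hdn ≤ θ := by
  intro t
  show (⟨t.val, _⟩ : Fin n) ≤ θ.1 t
  exact Fin.mk_le_of_le_val (ST.val_le_of_strictMono θ.1 θ.2 t)

theorem lo1_le (hdn : d < n) (θ : Idx d n) (hθ : θ ≠ iota hdn) : ∀ t, lo1 hdn t ≤ θ.1 t := by
  intro t
  unfold lo1
  by_cases ht : t.val + 1 = d
  · rw [if_pos ht]
    apply Fin.mk_le_of_le_val
    by_contra hlt
    push Not at hlt
    apply hθ
    apply Subtype.ext
    funext s
    apply Fin.ext
    show (θ.1 s).val = s.val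
    have h1 := ST.val_le_of_strictMono θ.1 θ.2 s
    have h2 := idx_add_le θ (t.val - s.val) s (by have := s.isLt; omega)
    have h3 : (⟨s.val + (t.val - s.val), by have := s.isLt; omega⟩ : Fin d) = t := by
      apply Fin.ext; simp only; have := s.isLt; omega
    rw [h3] at h2
    have := s.isLt
    omega
  · rw [if_neg ht]
    exact Fin.mk_le_of_le_val (ST.val_le_of_strictMono θ.1 θ.2 t)

variable (K : Type u) [Field K]

theorem gminor2_iota (hd : 0 < d) (hdn : d < n) (w : Idx d n) :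
    gminor2 K (lo1 hdn) w (iota hdn) = 0 := by
  unfold gminor2
  apply Matrix.det_eq_zero_of_column_eq_zero ⟨d - 1, by omega⟩
  intro s
  rw [Matrix.submatrix_apply]
  unfold G2
  rw [if_neg]
  rintro ⟨h1, -⟩
  unfold lo1 at h1
  rw [id, if_pos (by simp only; omega)] at h1
  have h2 : d ≤ ((iota hdn).1 s).val := h1
  have h3 : ((iota hdn).1 s).val = s.val := rfl
  have := s.isLt
  omega

/-- `J(w) + (X_ι)` is the kernel of the restriction to the two-sided generic matrix. -/
theorem sup_eq_ker [Infinite K] (hd : 0 < d) (hdn : d < n) (w : Idx d n) :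
    schubertVanishing K d n w ⊔ Ideal.span {(X (iota hdn) : PlRing K d n)} =
      RingHom.ker (Phi2 K (lo1 hdn) w).toRingHom := by
  classical
  set P := schubertVanishing K d n w ⊔ Ideal.span {(X (iota hdn) : PlRing K d n)} with hP
  set Ψ := Phi2 K (lo1 hdn) w with hΨ
  have hPle : P ≤ RingHom.ker Ψ.toRingHom := by
    apply sup_le
    · intro f hf
      exact RingHom.mem_ker.mpr (Phi2_eq_zero_of_mem K (lo1 hdn) w f hf)
    · rw [Ideal.span_le]
      intro f hf
      rw [Set.mem_singleton_iff] at hf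
      rw [hf]
      apply RingHom.mem_ker.mpr
      show Ψ (X (iota hdn)) = 0
      rw [hΨ, Phi2_X, gminor2_iota K hd hdn w]
  apply le_antisymm hPle
  intro f hf
  have hf0 : Ψ f = 0 := RingHom.mem_ker.mp hf
  have hspan := span_of_le K (fun _ : Unit => w) P
    (le_trans (plIdealTop_le K w) le_sup_left) (by
      intro m c _ hc
      apply Ideal.mem_sup_left
      apply chainMon_mem_of_not_le K w c
      intro h
      exact hc ⟨(), h⟩)
  have hfspan : Ideal.Quotient.mk P f ∈ Submodule.span K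
      (Set.range fun c : (Σ m : ℕ, {c : Fin m → Idx d n //
        Antitone c ∧ ∃ _i : Unit, ∀ k, c k ≤ w}) =>
      Ideal.Quotient.mk P (chainMon K c.2.1)) := by
    rw [hspan]; exact Submodule.mem_top
  obtain ⟨l, hl⟩ := (Finsupp.mem_span_range_iff_exists_finsupp).mp hfspan
  -- split the support
  set s₂ := l.support.filter (fun c => ¬ ∃ k, c.2.1 k = iota hdn) with hs₂
  set s₁ := l.support.filter (fun c => ∃ k, c.2.1 k = iota hdn) with hs₁
  set P₂ : PlRing K d n := ∑ c ∈ s₂, l c • chainMon K c.2.1 with hP₂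
  set P₁ : PlRing K d n := ∑ c ∈ s₁, l c • chainMon K c.2.1 with hP₁
  have hsum : Ideal.Quotient.mk P (P₁ + P₂) = Ideal.Quotient.mk P f := by
    rw [← hl, hP₁, hP₂, hs₁, hs₂, Finset.sum_filter_add_sum_filter_not, Finsupp.sum, map_sum]
    refine Finset.sum_congr rfl (fun c _ => ?_)
    rfl
  have hP₁mem : P₁ ∈ P := by
    rw [hP₁]
    apply Ideal.sum_mem
    intro c hc
    obtain ⟨k, hk⟩ := (Finset.mem_filter.mp hc).2
    apply Ideal.mem_sup_right
    rw [MvPolynomial.smul_eq_C_mul]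
    apply Ideal.mul_mem_left
    unfold chainMon
    apply Ideal.mem_of_dvd _ (Finset.dvd_prod_of_mem _ (Finset.mem_univ k))
    rw [hk]
    exact Ideal.subset_span rfl
  have hdiff : P₁ + P₂ - f ∈ P := Ideal.Quotient.eq.mp hsum
  have hfP₂ : f - P₂ ∈ P := by
    have h1 := Ideal.sub_mem _ hP₁mem hdiff
    have h2 : P₁ - (P₁ + P₂ - f) = f - P₂ := by ring
    rwa [h2] at h1
  have hΨP₂ : Ψ P₂ = 0 := by
    have h1 : Ψ (f - P₂) = 0 := RingHom.mem_ker.mp (hPle hfP₂)
    rw [map_sub, hf0, zero_sub, neg_eq_zero] at h1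
    exact h1
  have hcoef : ∀ c ∈ s₂, l c = 0 := by
    have h2 : ∑ c ∈ s₂, l c • Ψ (chainMon K c.2.1) = 0 := by
      rw [← hΨP₂, hP₂, map_sum]
      refine Finset.sum_congr rfl (fun c _ => ?_)
      rw [map_smul]
    have hbd : ∀ c ∈ s₂, ∀ k t, lo1 hdn t ≤ (c.2.1 k).1 t ∧ (c.2.1 k).1 t ≤ w.1 t := by
      intro c hc k t
      have hne : c.2.1 k ≠ iota hdn := fun h => (Finset.mem_filter.mp hc).2 ⟨k, h⟩
      obtain ⟨_, hw⟩ := c.2.2.2
      exact ⟨lo1_le hdn (c.2.1 k) hne t, hw k t⟩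
    refine eq_zero_of_degree_injOn MonomialOrder.lex
      (fun c : (Σ m : ℕ, {c : Fin m → Idx d n // Antitone c ∧ ∃ _i : Unit, ∀ k, c k ≤ w}) =>
        Ψ (chainMon K c.2.1)) s₂ l h2 ?_ ?_
    · intro c hc
      exact Phi2_chainMon_ne_zero K (lo1 hdn) w c.2.1 (hbd c hc)
    · intro c hc c' hc' hdeg
      rw [hΨ, degree_Phi2_chainMon K (lo1 hdn) w c.2.1 (hbd c hc),
        degree_Phi2_chainMon K (lo1 hdn) w c'.2.1 (hbd c' hc')] at hdeg
      exact sigma_ext c c' (DD_injective hd c.2.1 c'.2.1 c.2.2.1 c'.2.2.1 hdeg)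
  have hP₂0 : P₂ = 0 := by
    rw [hP₂]
    apply Finset.sum_eq_zero
    intro c hc
    rw [hcoef c hc, zero_smul]
  rw [hP₂0, sub_zero] at hfP₂
  exact hfP₂

theorem X_iota_not_mem [Infinite K] (hdn : d < n) (w : Idx d n) :
    (X (iota hdn) : PlRing K d n) ∉ schubertVanishing K d n w := by
  intro h
  have h1 := Phi_eq_zero_of_mem K w _ h
  rw [Phi_X] at h1
  exact (monic_gminor K w (iota hdn) (iota_le hdn w)).ne_zero h1

/-- the class of `X_ι` is a prime element of `S/J(w)`. -/
theorem prime_X_iota [Infinite K] (hd : 0 < d) (hdn : d < n) (w : Idx d n) :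
    Prime (Ideal.Quotient.mk (schubertVanishing K d n w) (X (iota hdn))) := by
  set J := schubertVanishing K d n w with hJ
  set P := J ⊔ Ideal.span {(X (iota hdn) : PlRing K d n)} with hP
  have hPprime : P.IsPrime := by
    rw [hP, hJ, sup_eq_ker K hd hdn w]
    exact RingHom.ker_isPrime _
  refine ⟨?_, ?_, ?_⟩
  · intro h
    exact X_iota_not_mem K hdn w (Ideal.Quotient.eq_zero_iff_mem.mp h)
  · intro hu
    obtain ⟨u, hu⟩ := hu.exists_right_inv
    obtain ⟨u', rfl⟩ := Ideal.Quotient.mk_surjective u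
    rw [← map_mul, ← map_one (Ideal.Quotient.mk J), Ideal.Quotient.eq] at hu
    have h1 : X (iota hdn) * u' - 1 ∈ P := Ideal.mem_sup_left hu
    have h2 : X (iota hdn) * u' ∈ P :=
      Ideal.mul_mem_right _ _ (Ideal.mem_sup_right (Ideal.subset_span rfl))
    have h3 : (1 : PlRing K d n) ∈ P := by
      have := Ideal.sub_mem _ h2 h1
      rwa [sub_sub_cancel] at this
    exact hPprime.ne_top ((Ideal.eq_top_iff_one _).mpr h3)
  · intro a b hab
    obtain ⟨a', rfl⟩ := Ideal.Quotient.mk_surjective a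
    obtain ⟨b', rfl⟩ := Ideal.Quotient.mk_surjective b
    obtain ⟨c, hc⟩ := hab
    obtain ⟨c', rfl⟩ := Ideal.Quotient.mk_surjective c
    rw [← map_mul, ← map_mul, Ideal.Quotient.eq] at hc
    have h1 : a' * b' ∈ P := by
      have h2 : X (iota hdn) * c' ∈ P :=
        Ideal.mul_mem_right _ _ (Ideal.mem_sup_right (Ideal.subset_span rfl))
      have := Ideal.add_mem _ (Ideal.mem_sup_left hc) h2
      rwa [sub_add_cancel] at this
    have key : ∀ x : PlRing K d n, x ∈ P →
        Ideal.Quotient.mk J (X (iota hdn)) ∣ Ideal.Quotient.mk J x := by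
      intro x hx
      obtain ⟨j, hj, y, hy, rfl⟩ := Submodule.mem_sup.mp hx
      obtain ⟨e, rfl⟩ := Ideal.mem_span_singleton'.mp hy
      refine ⟨Ideal.Quotient.mk J e, ?_⟩
      rw [map_add, Ideal.Quotient.eq_zero_iff_mem.mpr hj, zero_add, map_mul, mul_comm]
    rcases hPprime.mem_or_mem h1 with h | h
    · exact Or.inl (key a' h)
    · exact Or.inr (key b' h)

end Groth.Agent.H16.SM
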