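import Mathlib
import Groth.Prelude.Def_W4bk4grassmannianPl
import Groth.Agent.H16.PQ3
import Groth.Agent.H16.SN2

set_option autoImplicit false
set_option linter.unusedSectionVars false
set_option linter.style.haveILetI false

/-! Counting functions for strictly increasing tuples. -/

namespace Groth.Agent.H16.BT

open W4bk4grassmannian

/-- the number of entries below `x`. -/
def cnt {k N : ℕ} (θ : Fin k → Fin N) (x : ℕ) : ℕ :=
  (Finset.univ.filter fun i : Fin k => (θ i).val < x).card

theorem cnt_le {k N : ℕ} (θ : Fin k → Fin N) (x : ℕ) : cnt θ x ≤ k := by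
  unfold cnt
  calc _ ≤ (Finset.univ : Finset (Fin k)).card := Finset.card_filter_le _ _
    _ = k := by rw [Finset.card_univ, Fintype.card_fin]

theorem cnt_of_le {k N : ℕ} (θ : Fin k → Fin N) (x : ℕ) (hx : N ≤ x) : cnt θ x = k := by
  unfold cnt
  rw [Finset.filter_true_of_mem, Finset.card_univ, Fintype.card_fin]
  intro i _
  exact lt_of_lt_of_le (θ i).isLt hx

theorem lt_cnt_iff {k N : ℕ} (θ : Fin k → Fin N) (hθ : StrictMono θ) (x : ℕ) (j : Fin k) :
    j.val < cnt θ x ↔ (θ j).val < x := by
  constructor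
  · intro h
    by_contra hnot
    have hsub : (Finset.univ.filter fun i : Fin k => (θ i).val < x) ⊆ Finset.Iio j := by
      intro i hi
      rw [Finset.mem_filter] at hi
      rw [Finset.mem_Iio]
      by_contra hle
      push Not at hle
      have h1 : (θ j).val ≤ (θ i).val := Fin.le_def.mp (hθ.monotone hle)
      omega
    have := Finset.card_le_card hsub
    rw [Fin.card_Iio] at this
    unfold cnt at h
    omega
  · intro h
    have hsub : Finset.Iic j ⊆ (Finset.univ.filter fun i : Fin k => (θ i).val < x) := by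
      intro i hi
      rw [Finset.mem_Iic] at hi
      rw [Finset.mem_filter]
      refine ⟨Finset.mem_univ _, ?_⟩
      have h1 : (θ i).val ≤ (θ j).val := Fin.le_def.mp (hθ.monotone hi)
      omega
    have := Finset.card_le_card hsub
    rw [Fin.card_Iic] at this
    unfold cnt
    omega

theorem dom_iff_cnt {k k' N N' : ℕ} (θ : Fin k → Fin N) (hθ : StrictMono θ)
    (θ' : Fin k' → Fin N') (hθ' : StrictMono θ') :
    (k ≤ k' ∧ ∀ (j : Fin k) (j' : Fin k'), j.val = j'.val → (θ' j').val ≤ (θ j).val) ↔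
      ∀ x, cnt θ x ≤ cnt θ' x := by
  constructor
  · rintro ⟨hk, h⟩ x
    by_contra hlt
    push Not at hlt
    have hck : cnt θ' x < k := lt_of_lt_of_le hlt (cnt_le θ x)
    have h1 : (θ ⟨cnt θ' x, hck⟩).val < x := (lt_cnt_iff θ hθ x ⟨cnt θ' x, hck⟩).mp hlt
    have h2 := h ⟨cnt θ' x, hck⟩ ⟨cnt θ' x, by omega⟩ rfl
    have h3 : (⟨cnt θ' x, by omega⟩ : Fin k').val < cnt θ' x :=
      (lt_cnt_iff θ' hθ' x ⟨cnt θ' x, by omega⟩).mpr (by omega)
    exact lt_irrefl _ h3
  · intro h
    constructor
    · have h1 := h (max N N')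
      rw [cnt_of_le θ _ (le_max_left _ _)] at h1
      exact h1.trans (cnt_le θ' _)
    · intro j j' hjj'
      by_contra hlt
      push Not at hlt
      have h1 : j.val < cnt θ ((θ j).val + 1) := (lt_cnt_iff θ hθ _ j).mpr (by omega)
      have h2 := h ((θ j).val + 1)
      have h3 : j'.val < cnt θ' ((θ j).val + 1) := by omega
      have h4 := (lt_cnt_iff θ' hθ' _ j').mp h3
      omega

theorem le_iff_cnt {k N : ℕ} (θ θ' : Idx k N) : θ ≤ θ' ↔ ∀ x, cnt θ'.1 x ≤ cnt θ.1 x := by
  rw [← dom_iff_cnt θ'.1 θ'.2 θ.1 θ.2]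
  constructor
  · intro h
    refine ⟨le_rfl, fun j j' hjj' => ?_⟩
    have : j' = j := Fin.ext hjj'.symm
    rw [this]
    exact Fin.le_def.mp (h j)
  · rintro ⟨-, h⟩ j
    exact Fin.le_def.mpr (h j j rfl)

theorem cnt_eq_card_image {k N : ℕ} (g : Fin k → Fin N) (hg : Function.Injective g) (x : ℕ) :
    cnt g x = ((Finset.univ.image g).filter fun y => y.val < x).card := by
  classical
  rw [Finset.filter_image, Finset.card_image_of_injective _ hg]
  rfl

theorem cnt_eq_of_image_eq {k N : ℕ} (g g' : Fin k → Fin N) (hg : Function.Injective g)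
    (hg' : Function.Injective g') (h : Finset.univ.image g = Finset.univ.image g') (x : ℕ) :
    cnt g x = cnt g' x := by
  rw [cnt_eq_card_image g hg, cnt_eq_card_image g' hg', h]

theorem card_fin_lt {n x : ℕ} (hx : x ≤ n) :
    (Finset.univ.filter fun j : Fin n => j.val < x).card = x := by
  have := Fin.card_filter_val_lt (n := n) (m := x)
  rw [min_eq_right hx] at this
  exact this

end Groth.Agent.H16.BT
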