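import Mathlib
import Groth.Prelude.Def_W4bk4grassmannianPl
import Groth.Agent.H16.BT1

set_option autoImplicit false
set_option linter.unusedSectionVars false
set_option linter.style.haveILetI false

/-! The dictionary between minors of an `m × n` matrix and Plücker indices in `I(n, n + m)`. -/

namespace Groth.Agent.H16.BT

open W4bk4grassmannian

variable {m n t : ℕ}

/-- the row tuple of `[I_n ; Z']` (with `Z'` the row-reversed block) attached to rows `f` and
columns `h` of `Z`. -/
noncomputable def rho (f : Fin t → Fin m) (h : Fin t → Fin n) (j : Fin n) : Fin (n + m) :=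
  if hj : ∃ k, h k = j then
    ⟨n + (m - 1 - (f (Classical.choose hj)).val), by
      have := (f (Classical.choose hj)).isLt; omega⟩
  else ⟨j.val, by have := j.isLt; omega⟩

theorem rho_apply (f : Fin t → Fin m) (h : Fin t → Fin n) (hh : Function.Injective h) (k : Fin t) :
    (rho f h (h k)).val = n + (m - 1 - (f k).val) := by
  have hj : ∃ k', h k' = h k := ⟨k, rfl⟩
  unfold rho
  rw [dif_pos hj]
  have : Classical.choose hj = k := hh (Classical.choose_spec hj)
  show n + (m - 1 - (f (Classical.choose hj)).val) = _
  rw [this]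

theorem rho_of_not (f : Fin t → Fin m) (h : Fin t → Fin n) (j : Fin n) (hj : ¬ ∃ k, h k = j) :
    (rho f h j).val = j.val := by
  unfold rho
  rw [dif_neg hj]

theorem rho_injective (f : Fin t → Fin m) (h : Fin t → Fin n) (hf : Function.Injective f)
    (hh : Function.Injective h) : Function.Injective (rho f h) := by
  intro j j' hjj'
  have hv := congrArg Fin.val hjj'
  by_cases hj : ∃ k, h k = j
  · obtain ⟨k, rfl⟩ := hj
    rw [rho_apply f h hh] at hv
    by_cases hj' : ∃ k, h k = j'
    · obtain ⟨k', rfl⟩ := hj'
      rw [rho_apply f h hh] at hv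
      have h1 := (f k).isLt
      have h2 := (f k').isLt
      have : (f k).val = (f k').val := by omega
      rw [hf (Fin.ext this)]
    · rw [rho_of_not f h j' hj'] at hv
      have := j'.isLt
      omega
  · rw [rho_of_not f h j hj] at hv
    by_cases hj' : ∃ k, h k = j'
    · obtain ⟨k', rfl⟩ := hj'
      rw [rho_apply f h hh] at hv
      have := j.isLt
      omega
    · rw [rho_of_not f h j' hj'] at hv
      exact Fin.ext hv

/-- counting below `x ≤ n`. -/
theorem cnt_rho_low (f : Fin t → Fin m) (h : Fin t → Fin n) (hh : Function.Injective h)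
    (x : ℕ) (hx : x ≤ n) : cnt (rho f h) x + cnt h x = x := by
  classical
  have h0 := Finset.card_filter_add_card_filter_not
    (s := Finset.univ.filter fun j : Fin n => j.val < x) (fun j : Fin n => ∃ k, h k = j)
  rw [card_fin_lt hx] at h0
  have h1 : cnt (rho f h) x = ((Finset.univ.filter fun j : Fin n => j.val < x).filter
      fun j => ¬ ∃ k, h k = j).card := by
    unfold cnt
    congr 1
    ext j
    simp only [Finset.mem_filter, Finset.mem_univ, true_and]
    constructor
    · intro hj
      have hnot : ¬ ∃ k, h k = j := by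
        rintro ⟨k, rfl⟩
        rw [rho_apply f h hh] at hj
        omega
      rw [rho_of_not f h j hnot] at hj
      exact ⟨hj, hnot⟩
    · rintro ⟨hj, hnot⟩
      rw [rho_of_not f h j hnot]
      exact hj
  have h2 : cnt h x = ((Finset.univ.filter fun j : Fin n => j.val < x).filter
      fun j => ∃ k, h k = j).card := by
    unfold cnt
    rw [← Finset.card_image_of_injective _ hh]
    congr 1
    ext j
    simp only [Finset.mem_filter, Finset.mem_univ, true_and, Finset.mem_image]
    constructor
    · rintro ⟨k, hk, rfl⟩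
      exact ⟨hk, k, rfl⟩
    · rintro ⟨hj, k, rfl⟩
      exact ⟨k, hj, rfl⟩
  omega

/-- counting below `x` for `n ≤ x ≤ n + m`. -/
theorem cnt_rho_high (f : Fin t → Fin m) (h : Fin t → Fin n) (hh : Function.Injective h)
    (x : ℕ) (hx : n ≤ x) (hx' : x ≤ n + m) : cnt (rho f h) x + cnt f (n + m - x) = n := by
  classical
  have h0 := Finset.card_filter_add_card_filter_not
    (s := Finset.univ.filter fun j : Fin n => (rho f h j).val < x) (fun j : Fin n => ∃ k, h k = j)
  have h0' := Finset.card_filter_add_card_filter_not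
    (s := (Finset.univ : Finset (Fin n))) (fun j : Fin n => ∃ k, h k = j)
  rw [Finset.card_univ, Fintype.card_fin] at h0'
  have h0'' := Finset.card_filter_add_card_filter_not
    (s := (Finset.univ : Finset (Fin t))) (fun k : Fin t => (f k).val < n + m - x)
  rw [Finset.card_univ, Fintype.card_fin] at h0''
  have h1 : ((Finset.univ.filter fun j : Fin n => (rho f h j).val < x).filter
      fun j => ¬ ∃ k, h k = j) = Finset.univ.filter fun j : Fin n => ¬ ∃ k, h k = j := by
    ext j
    simp only [Finset.mem_filter, Finset.mem_univ, true_and]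
    constructor
    · rintro ⟨-, hnot⟩; exact hnot
    · intro hnot
      refine ⟨?_, hnot⟩
      rw [rho_of_not f h j hnot]
      have := j.isLt
      omega
  have h2 : ((Finset.univ.filter fun j : Fin n => (rho f h j).val < x).filter
      fun j => ∃ k, h k = j).card =
      (Finset.univ.filter fun k : Fin t => ¬ (f k).val < n + m - x).card := by
    rw [← Finset.card_image_of_injective _ hh]
    congr 1
    ext j
    simp only [Finset.mem_filter, Finset.mem_univ, true_and, Finset.mem_image]
    constructor
    · rintro ⟨hj, k, rfl⟩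
      rw [rho_apply f h hh] at hj
      refine ⟨k, ?_, rfl⟩
      have := (f k).isLt
      omega
    · rintro ⟨k, hk, rfl⟩
      refine ⟨?_, k, rfl⟩
      rw [rho_apply f h hh]
      have := (f k).isLt
      omega
  have h3 : (Finset.univ.filter fun j : Fin n => ∃ k, h k = j).card = t := by
    have : (Finset.univ.filter fun j : Fin n => ∃ k, h k = j) = Finset.univ.image h := by
      ext j
      simp only [Finset.mem_filter, Finset.mem_univ, true_and, Finset.mem_image]
    rw [this, Finset.card_image_of_injective _ hh, Finset.card_univ, Fintype.card_fin]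
  rw [h1, h2] at h0
  unfold cnt
  omega

/-- the Plücker index of a minor. -/
noncomputable def Theta (M : MinorIdx m n) : Idx n (n + m) :=
  sortIdx n (n + m) (rho M.2.1.1 M.2.2.1)
    ((PQ.card_image_iff _).mpr (rho_injective _ _ M.2.1.2.injective M.2.2.2.injective))

theorem cnt_Theta (M : MinorIdx m n) (x : ℕ) :
    cnt (Theta M).1 x = cnt (rho M.2.1.1 M.2.2.1) x := by
  apply cnt_eq_of_image_eq _ _ (Theta M).2.injective
    (rho_injective _ _ M.2.1.2.injective M.2.2.2.injective)
  exact PQ.image_sortIdx _ _

theorem cnt_Theta_low (M : MinorIdx m n) (x : ℕ) (hx : x ≤ n) :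
    cnt (Theta M).1 x + cnt M.2.2.1 x = x := by
  rw [cnt_Theta]
  exact cnt_rho_low _ _ M.2.2.2.injective x hx

theorem cnt_Theta_high (M : MinorIdx m n) (x : ℕ) (hx : n ≤ x) (hx' : x ≤ n + m) :
    cnt (Theta M).1 x + cnt M.2.1.1 (n + m - x) = n := by
  rw [cnt_Theta]
  exact cnt_rho_high _ _ M.2.2.2.injective x hx hx'

theorem minorGE_iff_cnt (M M' : MinorIdx m n) :
    MinorGE M M' ↔ (∀ y, cnt M.2.1.1 y ≤ cnt M'.2.1.1 y) ∧ (∀ x, cnt M.2.2.1 x ≤ cnt M'.2.2.1 x) := by
  rw [← dom_iff_cnt M.2.1.1 M.2.1.2 M'.2.1.1 M'.2.1.2,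
    ← dom_iff_cnt M.2.2.1 M.2.2.2 M'.2.2.1 M'.2.2.2]
  unfold MinorGE
  constructor
  · rintro ⟨h1, h2⟩
    exact ⟨⟨by omega, fun j j' hjj' => Fin.le_def.mp (h2 j j' hjj').1⟩,
      ⟨by omega, fun j j' hjj' => Fin.le_def.mp (h2 j j' hjj').2⟩⟩
  · rintro ⟨⟨h1, h2⟩, ⟨-, h3⟩⟩
    exact ⟨by omega, fun j j' hjj' =>
      ⟨Fin.le_def.mpr (h2 j j' hjj'), Fin.le_def.mpr (h3 j j' hjj')⟩⟩

theorem Theta_le_iff (M M' : MinorIdx m n) : Theta M ≤ Theta M' ↔ MinorGE M M' := by
  rw [le_iff_cnt, minorGE_iff_cnt]
  constructor
  · intro h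
    constructor
    · intro y
      by_cases hy : y ≤ m
      · have h1 := cnt_Theta_high M (n + m - y) (by omega) (by omega)
        have h2 := cnt_Theta_high M' (n + m - y) (by omega) (by omega)
        have h3 := h (n + m - y)
        have : n + m - (n + m - y) = y := by omega
        rw [this] at h1 h2
        omega
      · rw [cnt_of_le _ y (by omega), cnt_of_le _ y (by omega)]
        have h1 := cnt_Theta_high M n le_rfl (by omega)
        have h2 := cnt_Theta_high M' n le_rfl (by omega)
        have h3 := h n
        have : n + m - n = m := by omega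
        rw [this, cnt_of_le _ m le_rfl] at h1 h2
        omega
    · intro x
      by_cases hx : x ≤ n
      · have h1 := cnt_Theta_low M x hx
        have h2 := cnt_Theta_low M' x hx
        have h3 := h x
        omega
      · rw [cnt_of_le _ x (by omega), cnt_of_le _ x (by omega)]
        have h1 := cnt_Theta_low M n le_rfl
        have h2 := cnt_Theta_low M' n le_rfl
        have h3 := h n
        rw [cnt_of_le _ n le_rfl] at h1 h2
        omega
  · rintro ⟨hA, hB⟩ x
    by_cases hx : x ≤ n
    · have h1 := cnt_Theta_low M x hx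
      have h2 := cnt_Theta_low M' x hx
      have h3 := hB x
      omega
    · by_cases hx' : x ≤ n + m
      · have h1 := cnt_Theta_high M x (by omega) hx'
        have h2 := cnt_Theta_high M' x (by omega) hx'
        have h3 := hA (n + m - x)
        omega
      · rw [cnt_of_le _ x (by omega), cnt_of_le _ x (by omega)]

theorem cnt_Theta_n (M : MinorIdx m n) : cnt (Theta M).1 n + (M.1 + 1) = n := by
  have h1 := cnt_Theta_high M n le_rfl (by omega)
  have : n + m - n = m := by omega
  rw [this, cnt_of_le _ m le_rfl] at h1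
  exact h1

theorem minorGE_antisymm (M M' : MinorIdx m n) (h1 : MinorGE M M') (h2 : MinorGE M' M) :
    M = M' := by
  obtain ⟨s, A, B⟩ := M
  obtain ⟨s', A', B'⟩ := M'
  obtain ⟨hs, h⟩ := h1
  obtain ⟨hs', h'⟩ := h2
  have hss : s = s' := le_antisymm hs hs'
  subst hss
  have hA : A = A' := by
    apply Subtype.ext
    funext j
    exact le_antisymm (h' j j rfl).1 (h j j rfl).1
  have hB : B = B' := by
    apply Subtype.ext
    funext j
    exact le_antisymm (h' j j rfl).2 (h j j rfl).2
  rw [hA, hB]

theorem Theta_injective : Function.Injective (Theta (m := m) (n := n)) := by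
  intro M M' h
  apply minorGE_antisymm
  · rw [← Theta_le_iff, h]
  · rw [← Theta_le_iff, h]

end Groth.Agent.H16.BT
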