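import Mathlib
import Groth.Prelude.Def_W4bk4grassmannianPl
import Groth.Agent.H16.BT2

set_option autoImplicit false
set_option linter.unusedSectionVars false
set_option linter.style.haveILetI false

/-! The Schubert index of a determinantal variety and the inverse dictionary. -/

namespace Groth.Agent.H16.BT

open W4bk4grassmannian

variable {m n : ℕ}

/-- the index of the Schubert variety whose opposite cell is `D_t`. -/
def phiT (m n t : ℕ) (ht : 1 ≤ t) (htm : t ≤ m + 1) : Idx n (n + m) :=
  ⟨fun i => if i.val + t ≤ n then ⟨t - 1 + i.val, by have := i.isLt; omega⟩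
    else ⟨m + i.val, by have := i.isLt; omega⟩, by
    intro i j hij
    have hij' : i.val < j.val := Fin.lt_def.mp hij
    rw [Fin.lt_def]
    dsimp only
    by_cases hi : i.val + t ≤ n
    · by_cases hj : j.val + t ≤ n
      · rw [if_pos hi, if_pos hj]; show t - 1 + i.val < t - 1 + j.val; omega
      · rw [if_pos hi, if_neg hj]; show t - 1 + i.val < m + j.val; omega
    · by_cases hj : j.val + t ≤ n
      · omega
      · rw [if_neg hi, if_neg hj]; show m + i.val < m + j.val; omega⟩

theorem le_phiT_iff (t : ℕ) (ht : 1 ≤ t) (htm : t ≤ m + 1) (θ : Idx n (n + m)) :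
    θ ≤ phiT m n t ht htm ↔ n ≤ cnt θ.1 n + (t - 1) := by
  constructor
  · intro h
    by_cases htn : t ≤ n
    · have h1 : (θ.1 ⟨n - t, by omega⟩).val ≤ ((phiT m n t ht htm).1 ⟨n - t, by omega⟩).val :=
        Fin.le_def.mp (h ⟨n - t, by omega⟩)
      have h2 : ((phiT m n t ht htm).1 ⟨n - t, by omega⟩).val = t - 1 + (n - t) := by
        unfold phiT
        simp only
        rw [if_pos (by show n - t + t ≤ n; omega)]
      have h3 : (⟨n - t, by omega⟩ : Fin n).val < cnt θ.1 n :=
        (lt_cnt_iff θ.1 θ.2 n ⟨n - t, by omega⟩).mpr (by omega)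
      simp only at h3
      omega
    · omega
  · intro h i
    rw [Fin.le_def]
    by_cases hi : i.val + t ≤ n
    · have h2 : ((phiT m n t ht htm).1 i).val = t - 1 + i.val := by
        unfold phiT
        simp only
        rw [if_pos hi]
      rw [h2]
      have h3 : (θ.1 ⟨n - t, by omega⟩).val < n :=
        (lt_cnt_iff θ.1 θ.2 n ⟨n - t, by omega⟩).mp (by show n - t < cnt θ.1 n; omega)
      have h4 := SM.idx_add_le θ (n - t - i.val) i (by omega)
      have h5 : (⟨i.val + (n - t - i.val), by omega⟩ : Fin n) = ⟨n - t, by omega⟩ :=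
        Fin.ext (by show i.val + (n - t - i.val) = n - t; omega)
      rw [h5] at h4
      omega
    · have h2 : ((phiT m n t ht htm).1 i).val = m + i.val := by
        unfold phiT
        simp only
        rw [if_neg hi]
      rw [h2]
      have h4 := SM.idx_add_le θ (n - 1 - i.val) i (by have := i.isLt; omega)
      have h5 := (θ.1 ⟨i.val + (n - 1 - i.val), by have := i.isLt; omega⟩).isLt
      omega

theorem Theta_le_phiT_iff (t : ℕ) (ht : 1 ≤ t) (htm : t ≤ m + 1) (M : MinorIdx m n) :
    Theta M ≤ phiT m n t ht htm ↔ M.1 + 1 ≤ t - 1 := by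
  rw [le_phiT_iff]
  have := cnt_Theta_n M
  omega

theorem cnt_iota (hm : n < n + m) : cnt (SM.iota hm).1 n = n := by
  unfold cnt
  rw [Finset.filter_true_of_mem, Finset.card_univ, Fintype.card_fin]
  intro i _
  exact i.isLt

theorem Theta_ne_iota (hm : n < n + m) (M : MinorIdx m n) : Theta M ≠ SM.iota hm := by
  intro h
  have h1 := cnt_Theta_n M
  rw [h, cnt_iota] at h1
  omega

theorem eq_iota_of_cnt (hm : n < n + m) (θ : Idx n (n + m)) (h : cnt θ.1 n = n) :
    θ = SM.iota hm := by
  apply Subtype.ext
  funext i
  apply Fin.ext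
  show (θ.1 i).val = i.val
  have h1 := ST.val_le_of_strictMono θ.1 θ.2 i
  have h2 := SM.idx_add_le θ (n - 1 - i.val) i (by have := i.isLt; omega)
  have h3 : (θ.1 ⟨i.val + (n - 1 - i.val), by have := i.isLt; omega⟩).val < n :=
    (lt_cnt_iff θ.1 θ.2 n _).mp (by rw [h]; exact Fin.isLt _)
  omega

/-- every non-bottom index comes from a minor. -/
theorem exists_Theta_eq (hm : n < n + m) (θ : Idx n (n + m)) (hθ : θ ≠ SM.iota hm) :
    ∃ M : MinorIdx m n, Theta M = θ := by
  classical
  have hq : cnt θ.1 n < n := by
    have := cnt_le θ.1 n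
    rcases Nat.lt_or_ge (cnt θ.1 n) n with h | h
    · exact h
    · exact absurd (eq_iota_of_cnt hm θ (le_antisymm this h)) hθ
  set SA : Finset (Fin m) :=
    Finset.univ.filter fun a : Fin m => ∃ i, (θ.1 i).val = n + (m - 1 - a.val) with hSA
  set SB : Finset (Fin n) := Finset.univ.filter fun j : Fin n => ¬ ∃ i, (θ.1 i).val = j.val with hSB
  have hsplit := Finset.card_filter_add_card_filter_not
    (s := (Finset.univ : Finset (Fin n))) (fun i : Fin n => (θ.1 i).val < n)
  rw [Finset.card_univ, Fintype.card_fin] at hsplit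
  have hcardA : SA.card + cnt θ.1 n = n := by
    have : SA.card = (Finset.univ.filter fun i : Fin n => ¬ (θ.1 i).val < n).card := by
      symm
      apply Finset.card_bij (fun i _ => (⟨m - 1 - ((θ.1 i).val - n), by
        have := (θ.1 i).isLt; omega⟩ : Fin m))
      · intro i hi
        simp only [Finset.mem_filter, Finset.mem_univ, true_and] at hi
        rw [hSA]
        simp only [Finset.mem_filter, Finset.mem_univ, true_and]
        refine ⟨i, ?_⟩
        have := (θ.1 i).isLt
        omega
      · intro i hi i' hi' h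
        simp only [Finset.mem_filter, Finset.mem_univ, true_and] at hi hi'
        have h1 := congrArg Fin.val h
        simp only at h1
        have := (θ.1 i).isLt
        have := (θ.1 i').isLt
        apply θ.2.injective
        apply Fin.ext
        omega
      · intro a ha
        rw [hSA] at ha
        simp only [Finset.mem_filter, Finset.mem_univ, true_and] at ha
        obtain ⟨i, hi⟩ := ha
        refine ⟨i, ?_, ?_⟩
        · simp only [Finset.mem_filter, Finset.mem_univ, true_and]
          omega
        · apply Fin.ext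
          have := a.isLt
          show m - 1 - ((θ.1 i).val - n) = a.val
          omega
    unfold cnt
    omega
  have hcardB : SB.card + cnt θ.1 n = n := by
    have h1 := Finset.card_filter_add_card_filter_not
      (s := (Finset.univ : Finset (Fin n))) (fun j : Fin n => ∃ i, (θ.1 i).val = j.val)
    rw [Finset.card_univ, Fintype.card_fin] at h1
    have : (Finset.univ.filter fun j : Fin n => ∃ i, (θ.1 i).val = j.val).card = cnt θ.1 n := by
      symm
      unfold cnt
      apply Finset.card_bij (fun i hi => (⟨(θ.1 i).val, (Finset.mem_filter.mp hi).2⟩ : Fin n))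
      · intro i hi
        simp only [Finset.mem_filter, Finset.mem_univ, true_and]
        exact ⟨i, rfl⟩
      · intro i hi i' hi' h
        have h1 := congrArg Fin.val h
        simp only at h1
        exact θ.2.injective (Fin.ext h1)
      · intro j hj
        simp only [Finset.mem_filter, Finset.mem_univ, true_and] at hj
        obtain ⟨i, hi⟩ := hj
        refine ⟨i, ?_, ?_⟩
        · simp only [Finset.mem_filter, Finset.mem_univ, true_and]
          rw [hi]; exact j.isLt
        · exact Fin.ext hi
    rw [hSB]
    omega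
  obtain ⟨s, hs⟩ : ∃ s, n - cnt θ.1 n = s + 1 := ⟨n - cnt θ.1 n - 1, by omega⟩
  have hA : SA.card = s + 1 := by omega
  have hB : SB.card = s + 1 := by omega
  set M : MinorIdx m n := ⟨s, ⟨fun k => SA.orderEmbOfFin hA k, (SA.orderEmbOfFin hA).strictMono⟩,
    ⟨fun k => SB.orderEmbOfFin hB k, (SB.orderEmbOfFin hB).strictMono⟩⟩ with hM
  refine ⟨M, ?_⟩
  apply PQ.idx_ext_of_image
  have hrinj := rho_injective M.2.1.1 M.2.2.1 M.2.1.2.injective M.2.2.2.injective
  have himg : Finset.univ.image (Theta M).1 = Finset.univ.image (rho M.2.1.1 M.2.2.1) :=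
    PQ.image_sortIdx _ _
  rw [himg]
  apply Finset.eq_of_subset_of_card_le
  · intro y hy
    obtain ⟨j, -, rfl⟩ := Finset.mem_image.mp hy
    rw [Finset.mem_image]
    by_cases hj : ∃ k, M.2.2.1 k = j
    · obtain ⟨k, rfl⟩ := hj
      have hmem : SA.orderEmbOfFin hA k ∈ SA := Finset.orderEmbOfFin_mem SA hA k
      obtain ⟨i, hi⟩ := (Finset.mem_filter.mp hmem).2
      refine ⟨i, Finset.mem_univ _, ?_⟩
      apply Fin.ext
      rw [rho_apply _ _ M.2.2.2.injective, hi]
    · have hjB : j ∉ SB := by
        intro hjB
        apply hj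
        have : j ∈ Finset.univ.image (fun k => SB.orderEmbOfFin hB k) := by
          rw [Finset.image_orderEmbOfFin_univ]; exact hjB
        obtain ⟨k, -, hk⟩ := Finset.mem_image.mp this
        exact ⟨k, hk⟩
      rw [hSB] at hjB
      simp only [Finset.mem_filter, Finset.mem_univ, true_and, not_not] at hjB
      obtain ⟨i, hi⟩ := hjB
      refine ⟨i, Finset.mem_univ _, ?_⟩
      apply Fin.ext
      rw [rho_of_not _ _ j hj, hi]
  · rw [Finset.card_image_of_injective _ θ.2.injective, Finset.card_image_of_injective _ hrinj]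

end Groth.Agent.H16.BT
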