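import Mathlib

/-! General determinant lemmas used for S11275 (cell minors vs. minors of the generic block). -/

namespace Groth.Agent.H16.CM

open Matrix

/-- If all `t × t` minors on a fixed set of `t` rows of a square matrix lie in an ideal, so does the
determinant. -/
theorem det_mem_of_rows {R : Type*} [CommRing R] (J : Ideal R) (t : ℕ) :
    ∀ (n : ℕ) (M : Matrix (Fin n) (Fin n) R) (ρ : Fin t → Fin n), Function.Injective ρ →
      (∀ c : Fin t → Fin n, (M.submatrix ρ c).det ∈ J) → M.det ∈ J := by
  intro n
  induction n with
  | zero =>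
    intro M ρ hρ h
    have ht : t = 0 := by
      rcases Nat.eq_zero_or_pos t with h0 | h0
      · exact h0
      · exact (ρ ⟨0, h0⟩).elim0
    subst ht
    have := h ρ
    rwa [Matrix.det_isEmpty, ← Matrix.det_isEmpty (A := M)] at this
  | succ n ih =>
    intro M ρ hρ h
    by_cases hs : Function.Surjective ρ
    · have hbij : Function.Bijective ρ := ⟨hρ, hs⟩
      have hcard : t = n + 1 := by
        have := Fintype.card_of_bijective hbij
        simpa using this
      subst hcard
      let σ : Equiv.Perm (Fin (n + 1)) := Equiv.ofBijective ρ hbij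
      have h1 : (M.submatrix σ id).det = Equiv.Perm.sign σ * M.det := Matrix.det_permute σ M
      have h2 : (M.submatrix σ id).det ∈ J := h id
      have h3 : M.det = ((Equiv.Perm.sign σ : ℤ) : R) * (M.submatrix σ id).det := by
        rw [h1, ← mul_assoc]
        have : ((Equiv.Perm.sign σ : ℤ) : R) * ((Equiv.Perm.sign σ : ℤ) : R) = 1 := by
          rw [← Int.cast_mul]
          have := Int.units_mul_self (Equiv.Perm.sign σ)
          rw [← Units.val_mul, this]; simp
        rw [this, one_mul]
      rw [h3]
      exact J.mul_mem_left _ h2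
    · have : ∃ i, ∀ k, ρ k ≠ i := by
        by_contra hc
        push Not at hc
        exact hs (fun i => hc i)
      obtain ⟨i, hi⟩ := this
      rw [Matrix.det_succ_row M i]
      refine J.sum_mem (fun j _ => J.mul_mem_left _ ?_)
      have hex : ∀ k, ∃ z, i.succAbove z = ρ k := fun k => Fin.exists_succAbove_eq (hi k)
      choose ρ' hρ' using hex
      refine ih _ ρ' ?_ ?_
      · intro a b hab
        apply hρ
        rw [← hρ' a, ← hρ' b, hab]
      · intro c
        have : ((M.submatrix i.succAbove j.succAbove).submatrix ρ' c) =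
            M.submatrix ρ (j.succAbove ∘ c) := by
          ext a b
          simp [Matrix.submatrix_apply, hρ']
        rw [this]
        exact h _

/-- If the rows of a square matrix outside the range of an injective `B` are standard basis rows,
the determinant equals the minor on the rows and columns `B`. -/
theorem det_eq_submatrix_of_id_rows {R : Type*} [CommRing R] {d t : ℕ}
    (N : Matrix (Fin d) (Fin d) R) (B : Fin t → Fin d) (hB : Function.Injective B)
    (hN : ∀ j, j ∉ Set.range B → ∀ l, N j l = if j = l then 1 else 0) :
    N.det = (N.submatrix B B).det := by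
  classical
  let p : Fin d → Prop := fun j => j ∈ Set.range B
  let e : {j // p j} ⊕ {j // ¬ p j} ≃ Fin d := Equiv.sumCompl p
  have h1 : (N.submatrix e e).det = N.det := Matrix.det_submatrix_equiv_self e N
  have h2 : N.submatrix e e =
      Matrix.fromBlocks (N.submatrix (fun i : {j // p j} => i.1) (fun i : {j // p j} => i.1))
        (N.submatrix (fun i : {j // p j} => i.1) (fun i : {j // ¬ p j} => i.1))
        0 1 := by
    ext (i | i) (j | j)
    · simp [e]
    · simp [e]
    · have := hN i.1 i.2 j.1
      have hne : i.1 ≠ j.1 := fun h => i.2 (h ▸ j.2)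
      simp [e, this, hne]
    · have := hN i.1 i.2 j.1
      simp only [e, Matrix.submatrix_apply, Equiv.sumCompl_apply_inr, Matrix.fromBlocks_apply₂₂,
        Matrix.one_apply, this]
      by_cases hij : i = j
      · subst hij; simp
      · have : i.1 ≠ j.1 := fun h => hij (Subtype.ext h)
        simp [hij, this]
  rw [← h1, h2, Matrix.det_fromBlocks_zero₂₁, Matrix.det_one, mul_one]
  let e' : Fin t ≃ {j // p j} := Equiv.ofInjective B hB
  have h3 := Matrix.det_submatrix_equiv_self e'
    (N.submatrix (fun i : {j // p j} => i.1) (fun i : {j // p j} => i.1))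
  rw [← h3]
  congr 1

/-- Sorting an injective tuple. -/
theorem exists_sort {d m : ℕ} (ρ : Fin d → Fin m) (hρ : Function.Injective ρ) :
    ∃ σ : Equiv.Perm (Fin d), StrictMono (ρ ∘ σ) := by
  refine ⟨Tuple.sort ρ, (Tuple.monotone_sort ρ).strictMono_of_injective ?_⟩
  exact hρ.comp (Tuple.sort ρ).injective

/-- A strictly monotone tuple with at least `t` values `≥ d` has its `(d-t)`-th value `≥ d`. -/
theorem le_of_card_le {d m t : ℕ} (θ : Fin d → Fin m) (hθ : StrictMono θ) (hd : 0 < d) (ht : 0 < t)
    (hc : t ≤ (Finset.univ.filter fun j : Fin d => d ≤ (θ j).val).card) :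
    d ≤ (θ ⟨d - t, Nat.sub_lt hd ht⟩).val := by
  by_contra hlt
  push Not at hlt
  have hsub : (Finset.univ.filter fun j : Fin d => d ≤ (θ j).val) ⊆
      Finset.Ioi (⟨d - t, Nat.sub_lt hd ht⟩ : Fin d) := by
    intro j hj
    rw [Finset.mem_filter] at hj
    rw [Finset.mem_Ioi]
    by_contra hle
    push Not at hle
    have := hθ.monotone hle
    have h2 : (θ j).val ≤ (θ ⟨d - t, Nat.sub_lt hd ht⟩).val := this
    omega
  have := Finset.card_le_card hsub
  rw [Fin.card_Ioi] at this
  simp only at this
  omega

end Groth.Agent.H16.CM
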