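import Mathlib
import Groth.Prelude.Def_W4bk4grassmannianPl
import Groth.Agent.H16.SN2

set_option autoImplicit false
set_option linter.unusedSectionVars false

/-! Standard pairs: spanning, weights, and linear independence after restriction to a Schubert
cell. -/

namespace Groth.Agent.H16.SM

open W4bk4grassmannian MvPolynomial
open scoped MonomialOrder

universe u

variable {d n : ℕ}

/-- the largest element of `I(d,n)`. -/
def top (hdn : d ≤ n) : Idx d n :=
  ⟨fun t => ⟨n - d + t.val, by have := t.isLt; omega⟩, fun a b h => by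
    show n - d + a.val < n - d + b.val
    have : a.val < b.val := h
    omega⟩

theorem le_top' (hdn : d ≤ n) (θ : Idx d n) : θ ≤ top hdn := by
  intro t
  show θ.1 t ≤ (⟨n - d + t.val, _⟩ : Fin n)
  apply Fin.le_def.mpr
  show (θ.1 t).val ≤ n - d + t.val
  have h1 := idx_add_le θ (d - 1 - t.val) t (by have := t.isLt; omega)
  have h2 := (θ.1 ⟨t.val + (d - 1 - t.val), by have := t.isLt; omega⟩).isLt
  have := t.isLt
  omega

variable (K : Type u) [Field K]

theorem mem_vanishing_iff (f : PlRing K d n) :
    f ∈ vanishing K d n ↔ ∀ A : Matrix (Fin n) (Fin d) K,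
      eval (fun θ : Idx d n => (A.submatrix θ.1 id).det) f = 0 := by
  unfold vanishing
  simp only [Ideal.mem_iInf]
  rfl

theorem vanishing_le (w : Idx d n) : vanishing K d n ≤ schubertVanishing K d n w := by
  intro f hf
  rw [mem_vanishing_iff] at hf
  rw [mem_schubertVanishing_iff]
  intro A _
  exact hf A

theorem plIdealTop_le_vanishing : plIdealTop (d := d) (n := n) K ≤ vanishing K d n := by
  unfold plIdealTop
  rw [Ideal.span_le]
  rintro f ⟨i, j, r, -, rfl⟩
  show shuffleRel K i j r ∈ vanishing K d n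
  rw [mem_vanishing_iff]
  intro A
  exact eval_shuffleRel_eq_zero A i j r

/-- the standard pairs. -/
abbrev SPair (d n : ℕ) : Type := {p : Idx d n × Idx d n // p.2 ≤ p.1}

/-- the monomial of a pair. -/
noncomputable def pmon (p : SPair d n) : PlRing K d n := X p.1.1 * X p.1.2

/-- products of two coordinates are combinations of standard pairs modulo the shuffle relations. -/
theorem pair_span : ∀ (N : ℕ) (i j : Idx d n), d * n - ST.ssum i ≤ N →
    ST.π K (X i * X j) ∈ Submodule.span K (Set.range fun p : SPair d n => ST.π K (pmon K p)) := by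
  intro N
  induction N using Nat.strong_induction_on with
  | _ N ih =>
    intro i j hN
    by_cases hji : j ≤ i
    · exact Submodule.subset_span ⟨⟨(i, j), hji⟩, rfl⟩
    · obtain ⟨r, hp⟩ := ST.exists_pivot hji
      have hpair := ST.pair_mem K hp
      have key : ∀ z ∈ Submodule.span K (ST.T K i),
          z ∈ Submodule.span K (Set.range fun p : SPair d n => ST.π K (pmon K p)) := by
        intro z hz
        induction hz using Submodule.span_induction with
        | mem z hz =>
          obtain ⟨i', j', hlt, rfl⟩ := hz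
          have h1 := ST.ssum_le i'
          exact ih (d * n - ST.ssum i') (by omega) i' j' le_rfl
        | zero => exact Submodule.zero_mem _
        | add x y _ _ hx hy => exact Submodule.add_mem _ hx hy
        | smul a x _ hx => exact Submodule.smul_mem _ a hx
      exact key _ hpair

/-- exponents of standard pairs determine the pair. -/
theorem pair_exp_injective (p q : SPair d n)
    (h : Dexp p.1.1 + Dexp p.1.2 = Dexp q.1.1 + Dexp q.1.2) : p = q := by
  have hval : ∀ (i : Fin n) (t : Fin d),
      (if p.1.1.1 t = i then 1 else 0) + (if p.1.2.1 t = i then 1 else 0) =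
      ((if q.1.1.1 t = i then 1 else 0) + (if q.1.2.1 t = i then 1 else 0) : ℕ) := by
    intro i t
    have := congrArg (fun e : Var d n →₀ ℕ => e (toLex (i, t))) h
    simp only [Finsupp.add_apply, Dexp_apply] at this
    exact this
  have key : ∀ (p q : SPair d n), (∀ (i : Fin n) (t : Fin d),
      (if p.1.1.1 t = i then 1 else 0) + (if p.1.2.1 t = i then 1 else 0) =
      ((if q.1.1.1 t = i then 1 else 0) + (if q.1.2.1 t = i then 1 else 0) : ℕ)) →
      ∀ t, p.1.1.1 t ≤ q.1.1.1 t := by
    intro p q hv t
    by_contra hlt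
    push Not at hlt
    have h1 := hv (p.1.1.1 t) t
    rw [if_pos rfl] at h1
    have h2 : q.1.1.1 t ≠ p.1.1.1 t := ne_of_lt hlt
    have h3 : q.1.2.1 t ≠ p.1.1.1 t := ne_of_lt (lt_of_le_of_lt (q.2 t) hlt)
    rw [if_neg h2, if_neg h3] at h1
    omega
  have h1 : p.1.1 = q.1.1 := by
    apply Subtype.ext
    funext t
    exact le_antisymm (key p q hval t) (key q p (fun i t => (hval i t).symm) t)
  have h2 : p.1.2 = q.1.2 := by
    apply Subtype.ext
    funext t
    have h3 := hval (p.1.2.1 t) t
    rw [h1, if_pos rfl] at h3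
    by_contra hne
    rw [if_neg (Ne.symm hne)] at h3
    omega
  exact Subtype.ext (Prod.ext h1 h2)

theorem Phi_pmon (w : Idx d n) (p : SPair d n) :
    Phi K w (pmon K p) = gminor K w p.1.1 * gminor K w p.1.2 := by
  unfold pmon
  rw [map_mul, Phi_X, Phi_X]

theorem Phi_pmon_monic (w : Idx d n) (p : SPair d n) (hp : p.1.1 ≤ w) :
    MonomialOrder.lex.Monic (Phi K w (pmon K p)) := by
  rw [Phi_pmon]
  exact (monic_gminor K w p.1.1 hp).mul (monic_gminor K w p.1.2 (le_trans p.2 hp))

theorem degree_Phi_pmon (w : Idx d n) (p : SPair d n) (hp : p.1.1 ≤ w) :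
    MonomialOrder.lex.degree (Phi K w (pmon K p)) = Dexp p.1.1 + Dexp p.1.2 := by
  rw [Phi_pmon, MonomialOrder.degree_mul (monic_gminor K w p.1.1 hp).ne_zero
    (monic_gminor K w p.1.2 (le_trans p.2 hp)).ne_zero,
    degree_gminor K w p.1.1 hp, degree_gminor K w p.1.2 (le_trans p.2 hp)]

theorem Phi_pmon_eq_zero (w : Idx d n) (p : SPair d n) (hp : ¬ p.1.1 ≤ w) :
    Phi K w (pmon K p) = 0 := by
  rw [Phi_pmon, gminor_eq_zero K w p.1.1 hp, zero_mul]

/-- linear independence of the standard pairs below `w` after restriction. -/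
theorem pairs_li (w : Idx d n) (s : Finset (SPair d n)) (g : SPair d n → K)
    (h : ∑ p ∈ s, g p • Phi K w (pmon K p) = 0) : ∀ p ∈ s, p.1.1 ≤ w → g p = 0 := by
  classical
  intro p₀ hp₀ hle₀
  have h2 : ∑ p ∈ s.filter (fun p => p.1.1 ≤ w), g p • Phi K w (pmon K p) = 0 := by
    rw [Finset.sum_filter_of_ne, h]
    intro p _ hne
    by_contra hcon
    apply hne
    rw [Phi_pmon_eq_zero K w p hcon, smul_zero]
  refine eq_zero_of_degree_injOn MonomialOrder.lex (fun p : SPair d n => Phi K w (pmon K p))
    (s.filter (fun p => p.1.1 ≤ w)) g h2 ?_ ?_ p₀ (Finset.mem_filter.mpr ⟨hp₀, hle₀⟩)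
  · intro p hp
    exact (Phi_pmon_monic K w p (Finset.mem_filter.mp hp).2).ne_zero
  · intro p hp q hq hdeg
    rw [degree_Phi_pmon K w p (Finset.mem_filter.mp hp).2,
      degree_Phi_pmon K w q (Finset.mem_filter.mp hq).2] at hdeg
    exact pair_exp_injective p q hdeg

end Groth.Agent.H16.SM
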