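import Mathlib
import Groth.Prelude.Def_W4bk4grassmannianPl
import Groth.Agent.H16.BT3
import Groth.Agent.H16.CM1
import Groth.Agent.H16.SM8
import Groth.Agent.H16.SO1
import Groth.Prelude.Def_CAlgX

set_option autoImplicit false
set_option linter.unusedSectionVars false
set_option linter.style.haveILetI false

/-! The cell map from the Plücker ring to the coordinate ring of matrices. -/

namespace Groth.Agent.H16.BT

open W4bk4grassmannian MvPolynomial

universe u

variable (K : Type u) [Field K] (m n : ℕ)

/-- the matrix `[I_n ; Z']` with `Z'` the row-reversed generic matrix. -/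
noncomputable def Ncell : Matrix (Fin (n + m)) (Fin n) (MvPolynomial (Fin m × Fin n) K) :=
  Matrix.of fun i j => if h : i.val < n then (if i.val = j.val then 1 else 0)
    else X ((⟨m - 1 - (i.val - n), by have := i.isLt; omega⟩ : Fin m), j)

/-- the cell map. -/
noncomputable def piCell : PlRing K n (n + m) →ₐ[K] MvPolynomial (Fin m × Fin n) K :=
  aeval fun θ : Idx n (n + m) => ((Ncell K m n).submatrix θ.1 id).det

theorem piCell_X (θ : Idx n (n + m)) :
    piCell K m n (X θ) = ((Ncell K m n).submatrix θ.1 id).det := by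
  unfold piCell; rw [aeval_X]

variable {m n}

theorem Ncell_low (i : Fin (n + m)) (j : Fin n) (hi : i.val < n) :
    Ncell K m n i j = if i.val = j.val then 1 else 0 := by
  unfold Ncell
  rw [Matrix.of_apply, dif_pos hi]

theorem Ncell_high (i : Fin (n + m)) (j : Fin n) (hi : ¬ i.val < n) (a : Fin m)
    (ha : a.val = m - 1 - (i.val - n)) : Ncell K m n i j = X (a, j) := by
  unfold Ncell
  rw [Matrix.of_apply, dif_neg hi]
  congr 2
  exact Fin.ext ha.symm

theorem det_rho {t : ℕ} (f : Fin t → Fin m) (h : Fin t → Fin n) (hh : Function.Injective h) :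
    ((Ncell K m n).submatrix (rho f h) id).det = ((genMatrix K m n).submatrix f h).det := by
  rw [CM.det_eq_submatrix_of_id_rows ((Ncell K m n).submatrix (rho f h) id) h hh]
  · congr 1
    ext k l
    rw [Matrix.submatrix_apply, Matrix.submatrix_apply, Matrix.submatrix_apply, id]
    rw [Ncell_high K _ _ (by rw [rho_apply f h hh]; omega) (f k)
      (by rw [rho_apply f h hh]; have := (f k).isLt; omega)]
    rfl
  · intro j hj l
    have hj' : ¬ ∃ k, h k = j := fun ⟨k, hk⟩ => hj ⟨k, hk⟩
    rw [Matrix.submatrix_apply, id, Ncell_low K _ _ (by rw [rho_of_not f h j hj']; exact j.isLt),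
      rho_of_not f h j hj']
    by_cases hjl : j = l
    · rw [if_pos hjl, if_pos (by rw [hjl])]
    · rw [if_neg hjl, if_neg (fun h' => hjl (Fin.ext h'))]

/-- the sign of a minor. -/
noncomputable def sgn (M : MinorIdx m n) : K := (-1) ^ invCount n (n + m) (rho M.2.1.1 M.2.2.1)

theorem sgn_mul_self (M : MinorIdx m n) : sgn K M * sgn K M = 1 := by
  unfold sgn
  rw [← mul_pow]
  simp

theorem minorOf_eq (M : MinorIdx m n) :
    minorOf K M = C (sgn K M) * piCell K m n (X (Theta M)) := by
  unfold minorOf
  rw [← det_rho K M.2.1.1 M.2.2.1 M.2.2.2.injective, piCell_X]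
  have h1 := PQ.br_minors (Ncell K m n) (rho M.2.1.1 M.2.2.1)
  rw [PQ.br_of_card _ _ ((PQ.card_image_iff _).mpr
    (rho_injective _ _ M.2.1.2.injective M.2.2.2.injective))] at h1
  rw [← h1]
  unfold sgn Theta
  rw [map_pow, map_neg, map_one]

theorem piCell_Theta (M : MinorIdx m n) :
    piCell K m n (X (Theta M)) = C (sgn K M) * minorOf K M := by
  rw [minorOf_eq, ← mul_assoc, ← map_mul, sgn_mul_self, map_one, one_mul]

theorem piCell_X_iota (hm : n < n + m) : piCell K m n (X (SM.iota hm)) = 1 := by
  rw [piCell_X]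
  have : (Ncell K m n).submatrix (SM.iota hm).1 id = 1 := by
    apply Matrix.ext
    intro i j
    rw [Matrix.submatrix_apply, id, Ncell_low K _ _ (by exact i.isLt), Matrix.one_apply]
    show (if i.val = j.val then (1 : MvPolynomial (Fin m × Fin n) K) else 0) = _
    by_cases hij : i = j
    · rw [if_pos hij, if_pos (by rw [hij])]
    · rw [if_neg hij, if_neg (fun h' => hij (Fin.ext h'))]
  rw [this, Matrix.det_one]

/-- the matrix `[I_n ; z']` of a point. -/
noncomputable def Nz (z : Fin m × Fin n → K) : Matrix (Fin (n + m)) (Fin n) K :=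
  (Ncell K m n).map (eval z)

theorem eval_det_Ncell (z : Fin m × Fin n → K) (a : Fin n → Fin (n + m)) :
    eval z ((Ncell K m n).submatrix a id).det = ((Nz K z).submatrix a id).det := by
  rw [RingHom.map_det]
  rfl

theorem eval_piCell (z : Fin m × Fin n → K) (f : PlRing K n (n + m)) :
    eval z (piCell K m n f) = eval (fun θ : Idx n (n + m) => ((Nz K z).submatrix θ.1 id).det) f := by
  induction f using MvPolynomial.induction_on with
  | C c =>
    have : piCell K m n (C c) = C c := by
      unfold piCell; rw [aeval_C]; rfl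
    rw [this, eval_C, eval_C]
  | add p q hp hq => rw [map_add, map_add, map_add, hp, hq]
  | mul_X p θ hp =>
    rw [map_mul, map_mul, map_mul, hp, piCell_X, eval_X, eval_det_Ncell]

theorem piCell_eq_zero_of_mem_vanishing [Infinite K] (f : PlRing K n (n + m))
    (hf : f ∈ vanishing K n (n + m)) : piCell K m n f = 0 := by
  apply MvPolynomial.funext
  intro z
  rw [eval_piCell, map_zero]
  exact (SM.mem_vanishing_iff K f).mp hf (Nz K z)

theorem det_mem_minorIdeal (t : ℕ) (θ : Idx n (n + m)) (hθ : cnt θ.1 n + t ≤ n) :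
    ((Ncell K m n).submatrix θ.1 id).det ∈ CAlgX.minorIdeal (genMatrix K m n) t := by
  apply CM.det_mem_of_rows _ t n _ (fun k : Fin t => (⟨cnt θ.1 n + k.val, by
    have := k.isLt; omega⟩ : Fin n))
  · intro k k' hkk'
    have := congrArg Fin.val hkk'
    simp only at this
    exact Fin.ext (by omega)
  · intro c
    have hrow : ∀ k : Fin t, ¬ (θ.1 ⟨cnt θ.1 n + k.val, by have := k.isLt; omega⟩).val < n := by
      intro k hlt
      have := (lt_cnt_iff θ.1 θ.2 n ⟨cnt θ.1 n + k.val, by have := k.isLt; omega⟩).mpr hlt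
      simp only at this
      omega
    have hlt : ∀ k : Fin t, m - 1 -
        ((θ.1 ⟨cnt θ.1 n + k.val, by have := k.isLt; omega⟩).val - n) < m := by
      intro k
      have := (θ.1 ⟨cnt θ.1 n + k.val, by have := k.isLt; omega⟩).isLt
      have := hrow k
      omega
    have : ((Ncell K m n).submatrix θ.1 id).submatrix (fun k : Fin t =>
        (⟨cnt θ.1 n + k.val, by have := k.isLt; omega⟩ : Fin n)) c =
        (genMatrix K m n).submatrix (fun k : Fin t => (⟨_, hlt k⟩ : Fin m)) c := by
      apply Matrix.ext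
      intro k l
      rw [Matrix.submatrix_apply, Matrix.submatrix_apply, Matrix.submatrix_apply, id]
      rw [Ncell_high K _ _ (hrow k) (⟨_, hlt k⟩ : Fin m) rfl]
      rfl
    rw [this]
    exact Ideal.subset_span ⟨(_, c), rfl⟩

theorem piCell_mem [Infinite K] (hn : 0 < n) (t : ℕ) (ht : 1 ≤ t) (htm : t ≤ m + 1)
    (f : PlRing K n (n + m)) (hf : f ∈ schubertVanishing K n (n + m) (phiT m n t ht htm)) :
    piCell K m n f ∈ CAlgX.minorIdeal (genMatrix K m n) t := by
  rw [← SM.plIdeal_eq K hn] at hf
  have hle : plIdeal K (phiT m n t ht htm) ≤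
      Ideal.comap (piCell K m n).toRingHom (CAlgX.minorIdeal (genMatrix K m n) t) := by
    unfold plIdeal
    rw [Ideal.span_le]
    rintro g (⟨i, j, r, hp, rfl⟩ | ⟨φ, hφ, rfl⟩)
    · rw [SetLike.mem_coe, Ideal.mem_comap]
      show piCell K m n (shuffleRel K i j r) ∈ CAlgX.minorIdeal (genMatrix K m n) t
      rw [piCell_eq_zero_of_mem_vanishing K _
        (SM.plIdealTop_le_vanishing K (Ideal.subset_span ⟨i, j, r, hp, rfl⟩))]
      exact Ideal.zero_mem _
    · rw [SetLike.mem_coe, Ideal.mem_comap]
      show piCell K m n (X φ) ∈ CAlgX.minorIdeal (genMatrix K m n) t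
      rw [piCell_X]
      apply det_mem_minorIdeal
      rw [le_phiT_iff] at hφ
      omega
  exact hle hf

theorem eval_eq_zero_of_mem_minorIdeal (t : ℕ) (ht : 1 ≤ t) (htm : t ≤ m + 1)
    (z : Fin m × Fin n → K)
    (hz : ∀ θ : Idx n (n + m), ¬ θ ≤ phiT m n t ht htm → ((Nz K z).submatrix θ.1 id).det = 0)
    (g : MvPolynomial (Fin m × Fin n) K) (hg : g ∈ CAlgX.minorIdeal (genMatrix K m n) t) :
    eval z g = 0 := by
  have hle : CAlgX.minorIdeal (genMatrix K m n) t ≤ RingHom.ker (eval z) := by
    unfold CAlgX.minorIdeal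
    rw [Ideal.span_le]
    rintro _ ⟨⟨f, h⟩, rfl⟩
    rw [SetLike.mem_coe, RingHom.mem_ker]
    show eval z ((genMatrix K m n).submatrix f h).det = 0
    by_cases hh : Function.Injective h
    · rw [← det_rho K f h hh, eval_det_Ncell, ← PQ.br_minors]
      by_cases hr : Function.Injective (rho f h)
      · have hc := (PQ.card_image_iff _).mpr hr
        rw [PQ.br_of_card _ _ hc, hz, mul_zero]
        rw [le_phiT_iff]
        have h1 : cnt (sortIdx n (n + m) (rho f h) hc).1 n = cnt (rho f h) n :=
          cnt_eq_of_image_eq _ _ (sortIdx n (n + m) (rho f h) hc).2.injective hr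
            (PQ.image_sortIdx _ _) n
        have h2 := cnt_rho_high f h hh n le_rfl (by omega)
        have h3 : n + m - n = m := by omega
        rw [h3, cnt_of_le f m le_rfl] at h2
        omega
      · exact PQ.br_of_not_injective _ _ hr
    · unfold Function.Injective at hh
      push Not at hh
      obtain ⟨a, b, hab, hne⟩ := hh
      rw [Matrix.det_zero_of_column_eq hne, map_zero]
      intro k
      rw [Matrix.submatrix_apply, Matrix.submatrix_apply, hab]
  exact RingHom.mem_ker.mp (hle hg)

end Groth.Agent.H16.BT
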