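import Mathlib
import Groth.Prelude.Def_W4bk4grassmannianPl
import Groth.Agent.H16.BT4

set_option autoImplicit false
set_option linter.unusedSectionVars false
set_option linter.style.haveILetI false

/-! Linear independence of the standard bitableaux modulo the determinantal ideal. -/

namespace Groth.Agent.H16.BT

open W4bk4grassmannian MvPolynomial

universe u

variable {m n : ℕ}

/-- index type of the standard bitableaux of minors of size at most `t - 1`. -/
abbrev BTIdx (m n t : ℕ) : Type := Σ k : ℕ, {c : Fin k → MinorIdx m n //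
  (∀ i, (c i).1 + 1 ≤ t - 1) ∧ ∀ i j, i < j → MinorGE (c i) (c j)}

/-- index type of the standard monomials on the Schubert variety. -/
abbrev ChIdx (m n t : ℕ) (ht : 1 ≤ t) (htm : t ≤ m + 1) : Type :=
  Σ L : ℕ, {c : Fin L → Idx n (n + m) //
    Antitone c ∧ ∃ i : Unit, ∀ k, c k ≤ (fun _ : Unit => phiT m n t ht htm) i}

/-- the padded chain of Plücker indices of a bitableau. -/
noncomputable def padFun (hm' : n < n + m) {k : ℕ} (c : Fin k → MinorIdx m n) (L : ℕ)
    (i : Fin L) : Idx n (n + m) :=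
  if h : i.val < k then Theta (c (Fin.rev ⟨i.val, h⟩)) else SM.iota hm'

theorem padFun_antitone (hm' : n < n + m) {k : ℕ} (c : Fin k → MinorIdx m n)
    (hc : ∀ i j, i < j → MinorGE (c i) (c j)) (L : ℕ) : Antitone (padFun hm' c L) := by
  intro i j hij
  have hij' : i.val ≤ j.val := Fin.le_def.mp hij
  unfold padFun
  by_cases hj : j.val < k
  · have hi : i.val < k := by omega
    rw [dif_pos hj, dif_pos hi]
    rcases Nat.eq_or_lt_of_le hij' with h | h
    · have : (⟨i.val, hi⟩ : Fin k) = ⟨j.val, hj⟩ := Fin.ext h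
      rw [this]
    · rw [Theta_le_iff]
      apply hc
      rw [Fin.lt_def, Fin.val_rev, Fin.val_rev]
      simp only
      omega
  · rw [dif_neg hj]
    exact SM.iota_le hm' _

theorem padFun_le (hm' : n < n + m) (t : ℕ) (ht : 1 ≤ t) (htm : t ≤ m + 1) {k : ℕ}
    (c : Fin k → MinorIdx m n) (hc : ∀ i, (c i).1 + 1 ≤ t - 1) (L : ℕ) (i : Fin L) :
    padFun hm' c L i ≤ phiT m n t ht htm := by
  unfold padFun
  by_cases hi : i.val < k
  · rw [dif_pos hi, Theta_le_phiT_iff]
    exact hc _
  · rw [dif_neg hi]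
    exact SM.iota_le hm' _

/-- the padded chain, as an index of a standard monomial. -/
noncomputable def pad (hm' : n < n + m) (t : ℕ) (ht : 1 ≤ t) (htm : t ≤ m + 1) (D : ℕ)
    (T : BTIdx m n t) : ChIdx m n t ht htm :=
  ⟨max D (T.1 + 1), ⟨padFun hm' T.2.1 (max D (T.1 + 1)),
    padFun_antitone hm' T.2.1 T.2.2.2 _, ⟨(), padFun_le hm' t ht htm T.2.1 T.2.2.1 _⟩⟩⟩

/-- the entries of a chain, extended by the bottom index. -/
noncomputable def proj (hm' : n < n + m) (t : ℕ) (ht : 1 ≤ t) (htm : t ≤ m + 1)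
    (C : ChIdx m n t ht htm) (i : ℕ) : Idx n (n + m) :=
  if h : i < C.1 then C.2.1 ⟨i, h⟩ else SM.iota hm'

theorem proj_pad (hm' : n < n + m) (t : ℕ) (ht : 1 ≤ t) (htm : t ≤ m + 1) (D : ℕ)
    (T : BTIdx m n t) (i : ℕ) :
    proj hm' t ht htm (pad hm' t ht htm D T) i =
      if h : i < T.1 then Theta (T.2.1 (Fin.rev ⟨i, h⟩)) else SM.iota hm' := by
  unfold proj
  by_cases hi : i < (pad hm' t ht htm D T).1
  · rw [dif_pos hi]
    show padFun hm' T.2.1 _ ⟨i, hi⟩ = _
    unfold padFun
    rfl
  · rw [dif_neg hi]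
    have hi' : ¬ i < T.1 := by
      have : (pad hm' t ht htm D T).1 = max D (T.1 + 1) := rfl
      rw [this] at hi
      have := le_max_right D (T.1 + 1)
      omega
    rw [dif_neg hi']

theorem pad_injective (hm' : n < n + m) (t : ℕ) (ht : 1 ≤ t) (htm : t ≤ m + 1) (D : ℕ) :
    Function.Injective (pad hm' t ht htm D) := by
  intro T T' hTT'
  have key : ∀ i : ℕ, (if h : i < T.1 then Theta (T.2.1 (Fin.rev ⟨i, h⟩)) else SM.iota hm') =
      (if h : i < T'.1 then Theta (T'.2.1 (Fin.rev ⟨i, h⟩)) else SM.iota hm') := by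
    intro i
    rw [← proj_pad hm' t ht htm D T i, ← proj_pad hm' t ht htm D T' i, hTT']
  obtain ⟨k, c, hc⟩ := T
  obtain ⟨k', c', hc'⟩ := T'
  simp only at key
  have hkk' : k = k' := by
    rcases lt_trichotomy k k' with h | h | h
    · exfalso
      have := key k
      rw [dif_neg (lt_irrefl k), dif_pos h] at this
      exact Theta_ne_iota hm' _ this.symm
    · exact h
    · exfalso
      have := key k'
      rw [dif_pos h, dif_neg (lt_irrefl k')] at this
      exact Theta_ne_iota hm' _ this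
  subst hkk'
  have hcc' : c = c' := by
    funext j
    have := key (Fin.rev j).val
    rw [dif_pos (Fin.rev j).isLt, dif_pos (Fin.rev j).isLt] at this
    have h2 : Fin.rev (⟨(Fin.rev j).val, (Fin.rev j).isLt⟩ : Fin k) = j := Fin.rev_rev j
    rw [h2] at this
    exact Theta_injective this
  subst hcc'
  rfl

/-- product over `Fin L` of a function supported below `k ≤ L`. -/
theorem prod_fin_eq {α : Type*} [CommMonoid α] (G : ℕ → α) (k L : ℕ) (hkL : k ≤ L)
    (hG : ∀ i, k ≤ i → G i = 1) : ∏ i : Fin L, G i.val = ∏ i : Fin k, G i.val := by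
  rw [Fin.prod_univ_eq_prod_range G L, Fin.prod_univ_eq_prod_range G k]
  symm
  apply Finset.prod_subset (Finset.range_subset_range.mpr hkL)
  intro i _ hi
  rw [Finset.mem_range, not_lt] at hi
  exact hG i hi

end Groth.Agent.H16.BT
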