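import Mathlib
import Groth.Prelude.Def_W4bk4grassmannianPl
import Groth.Agent.H16.BT5

set_option autoImplicit false
set_option linter.unusedSectionVars false
set_option linter.style.haveILetI false

/-! Linear independence of the standard bitableaux modulo the determinantal ideal: the proof. -/

namespace Groth.Agent.H16.BT

open W4bk4grassmannian MvPolynomial

universe u

variable (K : Type u) [Field K] {m n : ℕ}

/-- the sign of a bitableau. -/
noncomputable def eps {k : ℕ} (c : Fin k → MinorIdx m n) : K := ∏ i, sgn K (c i)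

theorem eps_mul_self {k : ℕ} (c : Fin k → MinorIdx m n) : eps K c * eps K c = 1 := by
  unfold eps
  rw [← Finset.prod_mul_distrib]
  exact Finset.prod_eq_one (fun i _ => sgn_mul_self K (c i))

theorem det_Nz_eq (z : Fin m × Fin n → K) (θ : Idx n (n + m)) :
    ((Nz K z).submatrix θ.1 id).det = eval z (piCell K m n (X θ)) := by
  rw [eval_piCell, eval_X]

theorem det_Nz_iota (hm' : n < n + m) (z : Fin m × Fin n → K) :
    ((Nz K z).submatrix (SM.iota hm').1 id).det = 1 := by
  rw [det_Nz_eq, piCell_X_iota, map_one]

theorem det_Nz_Theta (z : Fin m × Fin n → K) (M : MinorIdx m n) :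
    ((Nz K z).submatrix (Theta M).1 id).det = sgn K M * eval z (minorOf K M) := by
  rw [det_Nz_eq, piCell_Theta, map_mul, eval_C]

theorem prod_padFun_Nz (hm' : n < n + m) (z : Fin m × Fin n → K) {k : ℕ}
    (c : Fin k → MinorIdx m n) (L : ℕ) (hkL : k ≤ L) :
    ∏ i : Fin L, ((Nz K z).submatrix (padFun hm' c L i).1 id).det =
      eps K c * eval z (∏ i, minorOf K (c i)) := by
  set G : ℕ → K := fun i => if h : i < k then
    ((Nz K z).submatrix (Theta (c (Fin.rev ⟨i, h⟩))).1 id).det else 1 with hG
  have h1 : ∏ i : Fin L, ((Nz K z).submatrix (padFun hm' c L i).1 id).det =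
      ∏ i : Fin L, G i.val := by
    refine Finset.prod_congr rfl (fun i _ => ?_)
    rw [hG]
    unfold padFun
    by_cases hi : i.val < k
    · simp only [dif_pos hi]
    · simp only [dif_neg hi]
      exact det_Nz_iota K hm' z
  rw [h1, prod_fin_eq G k L hkL (fun i hi => by rw [hG]; simp only; rw [dif_neg (by omega)])]
  have h2 : ∏ i : Fin k, G i.val =
      ∏ i : Fin k, ((Nz K z).submatrix (Theta (c (Fin.rev i))).1 id).det := by
    refine Finset.prod_congr rfl (fun i _ => ?_)
    rw [hG]
    simp only [dif_pos i.isLt]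
  have h3 : ∏ i : Fin k, ((Nz K z).submatrix (Theta (c (Fin.rev i))).1 id).det =
      ∏ i : Fin k, ((Nz K z).submatrix (Theta (c i)).1 id).det :=
    Equiv.prod_comp Fin.revPerm (fun i => ((Nz K z).submatrix (Theta (c i)).1 id).det)
  rw [h2, h3]
  unfold eps
  rw [map_prod, ← Finset.prod_mul_distrib]
  refine Finset.prod_congr rfl (fun i _ => ?_)
  exact det_Nz_Theta K z (c i)

/-- the points of the Schubert cone with nonvanishing bottom coordinate come from the cell. -/
theorem exists_cell_point (hm' : n < n + m) (A : Matrix (Fin (n + m)) (Fin n) K)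
    (hA : (A.submatrix (SM.iota hm').1 id).det ≠ 0) :
    ∃ z : Fin m × Fin n → K, ∀ θ : Idx n (n + m),
      (A.submatrix θ.1 id).det = ((Nz K z).submatrix θ.1 id).det *
        (A.submatrix (SM.iota hm').1 id).det := by
  classical
  set g := A.submatrix (SM.iota hm').1 id with hg
  have hgu : IsUnit g.det := isUnit_iff_ne_zero.mpr hA
  set A' := A * g⁻¹ with hA'
  have hAA' : A = A' * g := by
    rw [hA', Matrix.mul_assoc, Matrix.nonsing_inv_mul g hgu, Matrix.mul_one]
  have htop : A'.submatrix (SM.iota hm').1 id = 1 := by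
    have : A'.submatrix (SM.iota hm').1 id = g * g⁻¹ := by
      apply Matrix.ext
      intro i j
      rw [hA', Matrix.submatrix_apply, Matrix.mul_apply, Matrix.mul_apply]
      rfl
    rw [this, Matrix.mul_nonsing_inv g hgu]
  refine ⟨fun p => A' ⟨n + (m - 1 - p.1.val), by have := p.1.isLt; omega⟩ p.2, ?_⟩
  have hNz : Nz K (fun p : Fin m × Fin n =>
      A' ⟨n + (m - 1 - p.1.val), by have := p.1.isLt; omega⟩ p.2) = A' := by
    apply Matrix.ext
    intro i j
    unfold Nz
    rw [Matrix.map_apply]
    by_cases hi : i.val < n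
    · rw [Ncell_low K i j hi]
      have h1 : A' i j = (A'.submatrix (SM.iota hm').1 id) ⟨i.val, hi⟩ j := by
        rw [Matrix.submatrix_apply]
        rfl
      rw [h1, htop, Matrix.one_apply]
      by_cases hij : i.val = j.val
      · rw [if_pos hij, if_pos (Fin.ext hij), map_one]
      · rw [if_neg hij, if_neg (fun h => hij (congrArg Fin.val h)), map_zero]
    · rw [Ncell_high K i j hi ⟨m - 1 - (i.val - n), by have := i.isLt; omega⟩ rfl, eval_X]
      congr 1
      apply Fin.ext
      show n + (m - 1 - (m - 1 - (i.val - n))) = i.val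
      have := i.isLt
      omega
  intro θ
  rw [hNz]
  have : A.submatrix θ.1 id = (A'.submatrix θ.1 id) * g := by
    apply Matrix.ext
    intro i j
    conv_lhs => rw [hAA']
    rw [Matrix.submatrix_apply, Matrix.mul_apply, Matrix.mul_apply]
    rfl
  rw [this, Matrix.det_mul]

theorem bt_li [Infinite K] (hm : 0 < m) (hn : 0 < n) (t : ℕ) (ht : 1 ≤ t) (htm : t ≤ m + 1) :
    LinearIndependent K (fun c : BTIdx m n t =>
      Ideal.Quotient.mk (CAlgX.minorIdeal (genMatrix K m n) t)
        (Finset.univ.prod fun i => minorOf K (c.2.1 i))) := by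
  classical
  have hm' : n < n + m := by omega
  rw [linearIndependent_iff']
  intro s g hsum T₀ hT₀
  set D := s.sup (fun T => T.1) + 1 with hD
  have hDT : ∀ T ∈ s, max D (T.1 + 1) = D := by
    intro T hT
    have : T.1 ≤ s.sup (fun T => T.1) := Finset.le_sup (f := fun T : BTIdx m n t => T.1) hT
    rw [max_eq_left]
    omega
  -- the combination lies in the determinantal ideal
  have hf : ∑ T ∈ s, g T • (Finset.univ.prod fun i => minorOf K (T.2.1 i)) ∈
      CAlgX.minorIdeal (genMatrix K m n) t := by
    rw [← Ideal.Quotient.eq_zero_iff_mem, map_sum, ← hsum]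
    refine Finset.sum_congr rfl (fun T _ => ?_)
    rw [Algebra.smul_def, map_mul, Algebra.smul_def]
    rfl
  -- the homogenized combination vanishes on the Schubert cone
  have hF : ∑ T ∈ s, (g T * eps K T.2.1) • chainMon K (pad hm' t ht htm D T).2.1 ∈
      ⨅ i : Unit, schubertVanishing K n (n + m) ((fun _ : Unit => phiT m n t ht htm) i) := by
    rw [Ideal.mem_iInf]
    intro _
    rw [SM.mem_schubertVanishing_iff]
    intro A hA
    rw [map_sum]
    by_cases hdet : (A.submatrix (SM.iota hm').1 id).det = 0
    · apply Finset.sum_eq_zero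
      intro T hT
      rw [smul_eval]
      have : eval (fun θ : Idx n (n + m) => (A.submatrix θ.1 id).det)
          (chainMon K (pad hm' t ht htm D T).2.1) = 0 := by
        unfold chainMon
        rw [map_prod]
        have hlt : T.1 < max D (T.1 + 1) := by
          have := le_max_right D (T.1 + 1); omega
        apply Finset.prod_eq_zero (Finset.mem_univ (⟨T.1, hlt⟩ : Fin (max D (T.1 + 1))))
        rw [eval_X]
        have : (pad hm' t ht htm D T).2.1 ⟨T.1, hlt⟩ = SM.iota hm' := by
          show padFun hm' T.2.1 _ ⟨T.1, hlt⟩ = _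
          unfold padFun
          rw [dif_neg (lt_irrefl _)]
        exact (congrArg (fun θ : Idx n (n + m) => (A.submatrix θ.1 id).det) this).trans hdet
      rw [this, mul_zero]
    · obtain ⟨z, hz⟩ := exists_cell_point K hm' A hdet
      have hzS : ∀ θ : Idx n (n + m), ¬ θ ≤ phiT m n t ht htm →
          ((Nz K z).submatrix θ.1 id).det = 0 := by
        intro θ hθ
        have h1 := hA θ hθ
        rw [hz θ] at h1
        rcases mul_eq_zero.mp h1 with h | h
        · exact h
        · exact absurd h hdet
      have hzf := eval_eq_zero_of_mem_minorIdeal K t ht htm z hzS _ hf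
      have hterm : ∀ T ∈ s, eval (fun θ : Idx n (n + m) => (A.submatrix θ.1 id).det)
          ((g T * eps K T.2.1) • chainMon K (pad hm' t ht htm D T).2.1) =
          (A.submatrix (SM.iota hm').1 id).det ^ D *
            eval z (g T • (Finset.univ.prod fun i => minorOf K (T.2.1 i))) := by
        intro T hT
        rw [smul_eval, smul_eval]
        unfold chainMon
        rw [map_prod]
        have h1 : ∏ i, eval (fun θ : Idx n (n + m) => (A.submatrix θ.1 id).det)
            (X ((pad hm' t ht htm D T).2.1 i)) =
            ∏ i : Fin (max D (T.1 + 1)),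
              (((Nz K z).submatrix (padFun hm' T.2.1 (max D (T.1 + 1)) i).1 id).det *
                (A.submatrix (SM.iota hm').1 id).det) := by
          refine Finset.prod_congr rfl (fun i _ => ?_)
          rw [eval_X, hz]
          rfl
        rw [h1, Finset.prod_mul_distrib, Finset.prod_const, Finset.card_univ, Fintype.card_fin,
          prod_padFun_Nz K hm' z T.2.1 _ (by have := le_max_right D (T.1 + 1); omega), hDT T hT]
        have := eps_mul_self K T.2.1
        calc g T * eps K T.2.1 * (eps K T.2.1 * eval z (∏ i, minorOf K (T.2.1 i)) *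
              (A.submatrix (SM.iota hm').1 id).det ^ D)
            = (eps K T.2.1 * eps K T.2.1) * ((A.submatrix (SM.iota hm').1 id).det ^ D *
              (g T * eval z (∏ i, minorOf K (T.2.1 i)))) := by ring
          _ = _ := by rw [this, one_mul]
      rw [Finset.sum_congr rfl hterm, ← Finset.mul_sum, ← map_sum, hzf, mul_zero]
  -- conclude by the independence of the standard monomials
  have hli := (SM.li_union K hn (fun _ : Unit => phiT m n t ht htm)).comp
    (pad hm' t ht htm D) (pad_injective hm' t ht htm D)
  rw [linearIndependent_iff'] at hli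
  have hsum' : ∑ T ∈ s, (g T * eps K T.2.1) •
      (Ideal.Quotient.mk (⨅ i : Unit, schubertVanishing K n (n + m)
        ((fun _ : Unit => phiT m n t ht htm) i))) (chainMon K (pad hm' t ht htm D T).2.1) = 0 := by
    rw [← Ideal.Quotient.eq_zero_iff_mem.mpr hF, map_sum]
    refine Finset.sum_congr rfl (fun T _ => ?_)
    rfl
  have h0 : g T₀ * eps K T₀.2.1 = 0 := hli s (fun T => g T * eps K T.2.1) hsum' T₀ hT₀
  have h1 : g T₀ * (eps K T₀.2.1 * eps K T₀.2.1) = 0 := by
    rw [← mul_assoc, h0, zero_mul]
  rwa [eps_mul_self, mul_one] at h1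

end Groth.Agent.H16.BT
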