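import Mathlib
import Groth.Prelude.Def_W4bk4grassmannianPl
import Groth.Agent.H16.BT6

set_option autoImplicit false
set_option linter.unusedSectionVars false
set_option linter.style.haveILetI false

/-! The standard bitableaux span the determinantal ring. -/

namespace Groth.Agent.H16.BT

open W4bk4grassmannian MvPolynomial

universe u

variable (K : Type u) [Field K] {m n : ℕ}

theorem piCell_C (c : K) : piCell K m n (C c) = C c := by
  unfold piCell; rw [aeval_C]; rfl

theorem piCell_surjective : Function.Surjective (piCell K m n) := by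
  intro g
  induction g using MvPolynomial.induction_on with
  | C c => exact ⟨C c, piCell_C K c⟩
  | add p q hp hq =>
    obtain ⟨P, rfl⟩ := hp
    obtain ⟨Q, rfl⟩ := hq
    exact ⟨P + Q, map_add _ _ _⟩
  | mul_X p x hp =>
    obtain ⟨P, rfl⟩ := hp
    obtain ⟨a, j⟩ := x
    set M₁ : MinorIdx m n := ⟨0, ⟨fun _ => a, fun i i' h => absurd (Fin.lt_def.mp h) (by
      have := i.isLt; have := i'.isLt; omega)⟩,
      ⟨fun _ => j, fun i i' h => absurd (Fin.lt_def.mp h) (by
      have := i.isLt; have := i'.isLt; omega)⟩⟩ with hM₁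
    have h1 : minorOf K M₁ = X (a, j) := by
      unfold minorOf
      rw [Matrix.det_fin_one]
      rfl
    refine ⟨P * (C (sgn K M₁) * X (Theta M₁)), ?_⟩
    rw [map_mul, map_mul, piCell_C, ← minorOf_eq, h1]

theorem exists_bitableau [Infinite K] (hm' : n < n + m) (t : ℕ) (ht : 1 ≤ t) (htm : t ≤ m + 1) :
    ∀ (L : ℕ) (c : Fin L → Idx n (n + m)), Antitone c → (∀ k, c k ≤ phiT m n t ht htm) →
      ∃ (T : BTIdx m n t) (u : K),
        piCell K m n (chainMon K c) = C u * ∏ i, minorOf K (T.2.1 i) := by
  intro L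
  induction L with
  | zero =>
    intro c _ _
    refine ⟨⟨0, ⟨Fin.elim0, fun i => i.elim0, fun i => i.elim0⟩⟩, 1, ?_⟩
    unfold chainMon
    rw [Finset.univ_eq_empty, Finset.prod_empty, Finset.prod_empty, map_one, map_one, mul_one]
  | succ L ih =>
    intro c hc hle
    by_cases hlast : c (Fin.last L) = SM.iota hm'
    · obtain ⟨T, u, hT⟩ := ih (c ∘ Fin.castSucc)
        (fun i j hij => hc (Fin.castSucc_le_castSucc_iff.mpr hij)) (fun k => hle _)
      refine ⟨T, u, ?_⟩
      rw [← hT]
      unfold chainMon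
      rw [Fin.prod_univ_castSucc, map_mul, hlast, piCell_X_iota, mul_one]
      rfl
    · have hne : ∀ i, c i ≠ SM.iota hm' := by
        intro i hi
        apply hlast
        apply le_antisymm _ (SM.iota_le hm' _)
        rw [← hi]
        exact hc (Fin.le_last i)
      choose Mf hMf using fun i => exists_Theta_eq hm' (c i) (hne i)
      refine ⟨⟨L + 1, ⟨fun i => Mf (Fin.rev i), ?_, ?_⟩⟩, ∏ i, sgn K (Mf i), ?_⟩
      · intro i
        rw [← Theta_le_phiT_iff t ht htm, hMf]
        exact hle _
      · intro i j hij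
        rw [← Theta_le_iff, hMf, hMf]
        exact hc (Fin.rev_le_rev.mpr hij.le)
      · unfold chainMon
        rw [map_prod]
        have h1 : ∏ i, piCell K m n (X (c i)) = ∏ i, (C (sgn K (Mf i)) * minorOf K (Mf i)) := by
          refine Finset.prod_congr rfl (fun i _ => ?_)
          rw [← hMf i, piCell_Theta]
        rw [h1, Finset.prod_mul_distrib, map_prod]
        congr 1
        exact (Equiv.prod_comp Fin.revPerm (fun i => minorOf K (Mf i))).symm

theorem bt_span [Infinite K] (hm : 0 < m) (hn : 0 < n) (t : ℕ) (ht : 1 ≤ t) (htm : t ≤ m + 1) :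
    Submodule.span K (Set.range fun c : BTIdx m n t =>
      Ideal.Quotient.mk (CAlgX.minorIdeal (genMatrix K m n) t)
        (Finset.univ.prod fun i => minorOf K (c.2.1 i))) = ⊤ := by
  classical
  have hm' : n < n + m := by omega
  rw [eq_top_iff]
  rintro x -
  obtain ⟨g, rfl⟩ := Ideal.Quotient.mk_surjective x
  obtain ⟨G, rfl⟩ := piCell_surjective K g
  have hspan := SM.span_union K (fun _ : Unit => phiT m n t ht htm)
  have hG : Ideal.Quotient.mk (⨅ i : Unit, schubertVanishing K n (n + m)
      ((fun _ : Unit => phiT m n t ht htm) i)) G ∈ Submodule.span K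
        (Set.range fun c : ChIdx m n t ht htm =>
          Ideal.Quotient.mk (⨅ i : Unit, schubertVanishing K n (n + m)
            ((fun _ : Unit => phiT m n t ht htm) i)) (chainMon K c.2.1)) := by
    rw [hspan]; exact Submodule.mem_top
  obtain ⟨l, hl⟩ := (Finsupp.mem_span_range_iff_exists_finsupp).mp hG
  set P : PlRing K n (n + m) := ∑ c ∈ l.support, l c • chainMon K c.2.1 with hP
  have hPG : Ideal.Quotient.mk (⨅ i : Unit, schubertVanishing K n (n + m)
      ((fun _ : Unit => phiT m n t ht htm) i)) P = Ideal.Quotient.mk _ G := by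
    rw [← hl, hP, Finsupp.sum, map_sum]
    refine Finset.sum_congr rfl (fun c _ => ?_)
    rfl
  have hdiff : G - P ∈ schubertVanishing K n (n + m) (phiT m n t ht htm) := by
    have := Ideal.Quotient.eq.mp hPG.symm
    exact Ideal.mem_iInf.mp this ()
  have hmem := piCell_mem K hn t ht htm _ hdiff
  rw [map_sub] at hmem
  have hmk : Ideal.Quotient.mk (CAlgX.minorIdeal (genMatrix K m n) t) (piCell K m n G) =
      Ideal.Quotient.mk _ (piCell K m n P) := Ideal.Quotient.eq.mpr hmem
  rw [hmk, hP, map_sum, map_sum]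
  apply Submodule.sum_mem
  intro c _
  obtain ⟨T, u, hT⟩ := exists_bitableau K hm' t ht htm c.1 c.2.1 c.2.2.1
    (fun k => by obtain ⟨_, h⟩ := c.2.2.2; exact h k)
  rw [map_smul, hT]
  have : Ideal.Quotient.mk (CAlgX.minorIdeal (genMatrix K m n) t)
      (l c • (C u * ∏ i, minorOf K (T.2.1 i))) =
      (l c * u) • Ideal.Quotient.mk (CAlgX.minorIdeal (genMatrix K m n) t)
        (∏ i, minorOf K (T.2.1 i)) := by
    rw [mul_smul, MvPolynomial.C_mul']
    rfl
  rw [this]
  exact Submodule.smul_mem _ _ (Submodule.subset_span ⟨T, rfl⟩)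

end Groth.Agent.H16.BT
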