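import Mathlib

set_option autoImplicit false
set_option linter.unusedSectionVars false
set_option linter.style.haveILetI false

/-! Rank, minors and rank factorization over a field. -/

namespace Groth.Agent.H16.BT

open Module

universe u

variable {K : Type u} [Field K]

/-- sum over `Fin L` of a function supported below `k ≤ L`. -/
theorem sum_fin_eq {α : Type*} [AddCommMonoid α] (G : ℕ → α) (k L : ℕ) (hkL : k ≤ L)
    (hG : ∀ i, k ≤ i → G i = 0) : ∑ i : Fin L, G i.val = ∑ i : Fin k, G i.val := by
  rw [Fin.sum_univ_eq_sum_range G L, Fin.sum_univ_eq_sum_range G k]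
  symm
  apply Finset.sum_subset (Finset.range_subset_range.mpr hkL)
  intro i _ hi
  rw [Finset.mem_range, not_lt] at hi
  exact hG i hi

theorem exists_minor_ne_zero {m q r : ℕ} (z : Matrix (Fin m) (Fin q) K) (hr : r ≤ z.rank) :
    ∃ (f : Fin r → Fin m) (h : Fin r → Fin q), (z.submatrix f h).det ≠ 0 := by
  classical
  -- independent columns
  obtain ⟨fc, hfc_mem, -, hfc_li⟩ :=
    Submodule.exists_fun_fin_finrank_span_eq K (Set.range z.col)
  have hR : finrank K (Submodule.span K (Set.range z.col)) = z.rank :=
    (Matrix.rank_eq_finrank_span_cols z).symm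
  choose hcol hhcol using hfc_mem
  have hr' : r ≤ finrank K (Submodule.span K (Set.range z.col)) := by rw [hR]; exact hr
  set h : Fin r → Fin q := fun i => hcol (Fin.castLE hr' i) with hh
  have hli1 : LinearIndependent K (fun i : Fin r => z.col (h i)) := by
    have := hfc_li.comp (Fin.castLE hr') (Fin.castLE_injective hr')
    have heq : (fun i : Fin r => z.col (h i)) = fc ∘ Fin.castLE hr' := by
      funext i
      exact hhcol _
    rw [heq]
    exact this
  -- the submatrix of these columns has rank r
  set W : Matrix (Fin m) (Fin r) K := z.submatrix id h with hW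
  have hWcol : W.col = fun i : Fin r => z.col (h i) := by
    funext i a
    rfl
  have hWrank : W.rank = r := by
    rw [Matrix.rank_eq_finrank_span_cols, hWcol, finrank_span_eq_card hli1, Fintype.card_fin]
  -- independent rows
  obtain ⟨fr, hfr_mem, -, hfr_li⟩ :=
    Submodule.exists_fun_fin_finrank_span_eq K (Set.range W.row)
  have hR' : finrank K (Submodule.span K (Set.range W.row)) = r := by
    rw [← Matrix.rank_eq_finrank_span_row, hWrank]
  choose hrow hhrow using hfr_mem
  set f : Fin r → Fin m := fun i => hrow (Fin.cast hR'.symm i) with hf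
  refine ⟨f, h, ?_⟩
  have hli2 : LinearIndependent K (z.submatrix f h).row := by
    have := hfr_li.comp (Fin.cast hR'.symm) (Fin.cast_injective _)
    have heq : (z.submatrix f h).row = fr ∘ Fin.cast hR'.symm := by
      funext i
      exact hhrow _
    rw [heq]
    exact this
  have hu := Matrix.linearIndependent_rows_iff_isUnit.mp hli2
  exact ((Matrix.isUnit_iff_isUnit_det _).mp hu).ne_zero

theorem rank_le_of_minors {m q n : ℕ} (z : Matrix (Fin m) (Fin q) K)
    (hz : ∀ (f : Fin (n + 1) → Fin m) (h : Fin (n + 1) → Fin q), (z.submatrix f h).det = 0) :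
    z.rank ≤ n := by
  by_contra hlt
  push Not at hlt
  obtain ⟨f, h, hne⟩ := exists_minor_ne_zero z (r := n + 1) hlt
  exact hne (hz f h)

theorem exists_factorization {m q n : ℕ} (z : Matrix (Fin m) (Fin q) K) (hrank : z.rank ≤ n) :
    ∃ (u : Matrix (Fin m) (Fin n) K) (ξ : Matrix (Fin n) (Fin q) K), z = u * ξ := by
  classical
  obtain ⟨fc, -, hfc_span, -⟩ :=
    Submodule.exists_fun_fin_finrank_span_eq K (Set.range z.col)
  have hR : finrank K (Submodule.span K (Set.range z.col)) ≤ n := by
    rw [← Matrix.rank_eq_finrank_span_cols]; exact hrank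
  have hcolmem : ∀ j : Fin q, z.col j ∈ Submodule.span K (Set.range fc) := by
    intro j
    rw [hfc_span]
    exact Submodule.subset_span ⟨j, rfl⟩
  choose cj hcj using fun j => (Submodule.mem_span_range_iff_exists_fun K).mp (hcolmem j)
  refine ⟨Matrix.of fun i k => if hk : k.val < finrank K (Submodule.span K (Set.range z.col))
      then fc ⟨k.val, hk⟩ i else 0,
    Matrix.of fun k j => if hk : k.val < finrank K (Submodule.span K (Set.range z.col))
      then cj j ⟨k.val, hk⟩ else 0, ?_⟩
  apply Matrix.ext
  intro i j
  rw [Matrix.mul_apply]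
  simp only [Matrix.of_apply]
  have h1 := sum_fin_eq (fun k : ℕ => if hk : k < finrank K (Submodule.span K (Set.range z.col))
      then fc ⟨k, hk⟩ i * cj j ⟨k, hk⟩ else 0)
    (finrank K (Submodule.span K (Set.range z.col))) n hR
    (fun k hk => by rw [dif_neg (by omega)])
  have h2 : ∑ k : Fin n, (if hk : k.val < finrank K (Submodule.span K (Set.range z.col))
      then fc ⟨k.val, hk⟩ i else 0) * (if hk : k.val <
        finrank K (Submodule.span K (Set.range z.col)) then cj j ⟨k.val, hk⟩ else 0) =
      ∑ k : Fin n, (fun k : ℕ => if hk : k < finrank K (Submodule.span K (Set.range z.col))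
        then fc ⟨k, hk⟩ i * cj j ⟨k, hk⟩ else 0) k.val := by
    refine Finset.sum_congr rfl (fun k _ => ?_)
    by_cases hk : k.val < finrank K (Submodule.span K (Set.range z.col))
    · simp only [dif_pos hk]
    · simp only [dif_neg hk, mul_zero]
  rw [h2, h1]
  have h3 := congrFun (hcj j) i
  rw [Finset.sum_apply] at h3
  have h4 : z i j = z.col j i := rfl
  rw [h4, ← h3]
  refine Finset.sum_congr rfl (fun k _ => ?_)
  simp only [dif_pos k.isLt, Pi.smul_apply, smul_eq_mul]
  ring

/-- a product through a smaller dimension has vanishing determinant. -/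
theorem det_mul_eq_zero {R : Type*} [CommRing R] {n : ℕ} (B : Matrix (Fin (n + 1)) (Fin n) R)
    (C : Matrix (Fin n) (Fin (n + 1)) R) : (B * C).det = 0 := by
  set B' : Matrix (Fin (n + 1)) (Fin (n + 1)) R :=
    Matrix.of fun i k => if hk : k.val < n then B i ⟨k.val, hk⟩ else 0 with hB'
  set C' : Matrix (Fin (n + 1)) (Fin (n + 1)) R :=
    Matrix.of fun k j => if hk : k.val < n then C ⟨k.val, hk⟩ j else 0 with hC'
  have hBC : B * C = B' * C' := by
    apply Matrix.ext
    intro i j
    rw [Matrix.mul_apply, Matrix.mul_apply, Fin.sum_univ_castSucc]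
    have hlast : B' i (Fin.last n) * C' (Fin.last n) j = 0 := by
      rw [hB']
      simp only [Matrix.of_apply, Fin.val_last, lt_irrefl, dif_neg, not_false_eq_true, zero_mul]
    rw [hlast, add_zero]
    refine Finset.sum_congr rfl (fun k _ => ?_)
    rw [hB', hC']
    simp only [Matrix.of_apply, Fin.val_castSucc, dif_pos k.isLt]
  rw [hBC, Matrix.det_mul]
  have : B'.det = 0 := by
    apply Matrix.det_eq_zero_of_column_eq_zero (Fin.last n)
    intro i
    rw [hB']
    simp only [Matrix.of_apply, Fin.val_last, lt_irrefl, dif_neg, not_false_eq_true]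
  rw [this, zero_mul]

end Groth.Agent.H16.BT
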