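import Mathlib
import Groth.Prelude.Def_W4bk4grassmannianPl
import Groth.Agent.H16.BT7
import Groth.Agent.H16.BT8

set_option autoImplicit false
set_option linter.unusedSectionVars false
set_option linter.style.haveILetI false

/-! The second fundamental theorem for the general linear group. -/

namespace Groth.Agent.H16.BT

open W4bk4grassmannian MvPolynomial

universe u

variable (K : Type u) [Field K] {m n : ℕ}

theorem bt_core [Infinite K] (hm : 0 < m) (hn : 0 < n) (t : ℕ) (ht : 1 ≤ t) (htm : t ≤ m + 1)
    (s : Finset (BTIdx m n t)) (g : BTIdx m n t → K)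
    (hvan : ∀ z : Fin m × Fin n → K,
      (∀ θ : Idx n (n + m), ¬ θ ≤ phiT m n t ht htm → ((Nz K z).submatrix θ.1 id).det = 0) →
        eval z (∑ T ∈ s, g T • (Finset.univ.prod fun i => minorOf K (T.2.1 i))) = 0) :
    ∀ T ∈ s, g T = 0 := by
  classical
  have hm' : n < n + m := by omega
  intro T₀ hT₀
  set D := s.sup (fun T => T.1) + 1 with hD
  have hDT : ∀ T ∈ s, max D (T.1 + 1) = D := by
    intro T hT
    have : T.1 ≤ s.sup (fun T => T.1) := Finset.le_sup (f := fun T : BTIdx m n t => T.1) hT
    rw [max_eq_left]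
    omega
  -- the homogenized combination vanishes on the Schubert cone
  have hF : ∑ T ∈ s, (g T * eps K T.2.1) • chainMon K (pad hm' t ht htm D T).2.1 ∈
      ⨅ i : Unit, schubertVanishing K n (n + m) ((fun _ : Unit => phiT m n t ht htm) i) := by
    rw [Ideal.mem_iInf]
    intro _
    rw [SM.mem_schubertVanishing_iff]
    intro A hA
    rw [map_sum]
    by_cases hdet : (A.submatrix (SM.iota hm').1 id).det = 0
    · apply Finset.sum_eq_zero
      intro T hT
      rw [smul_eval]
      have : eval (fun θ : Idx n (n + m) => (A.submatrix θ.1 id).det)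
          (chainMon K (pad hm' t ht htm D T).2.1) = 0 := by
        unfold chainMon
        rw [map_prod]
        have hlt : T.1 < max D (T.1 + 1) := by
          have := le_max_right D (T.1 + 1); omega
        apply Finset.prod_eq_zero (Finset.mem_univ (⟨T.1, hlt⟩ : Fin (max D (T.1 + 1))))
        rw [eval_X]
        have : (pad hm' t ht htm D T).2.1 ⟨T.1, hlt⟩ = SM.iota hm' := by
          show padFun hm' T.2.1 _ ⟨T.1, hlt⟩ = _
          unfold padFun
          rw [dif_neg (lt_irrefl _)]
        exact (congrArg (fun θ : Idx n (n + m) => (A.submatrix θ.1 id).det) this).trans hdet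
      rw [this, mul_zero]
    · obtain ⟨z, hz⟩ := exists_cell_point K hm' A hdet
      have hzS : ∀ θ : Idx n (n + m), ¬ θ ≤ phiT m n t ht htm →
          ((Nz K z).submatrix θ.1 id).det = 0 := by
        intro θ hθ
        have h1 := hA θ hθ
        rw [hz θ] at h1
        rcases mul_eq_zero.mp h1 with h | h
        · exact h
        · exact absurd h hdet
      have hzf := hvan z hzS
      have hterm : ∀ T ∈ s, eval (fun θ : Idx n (n + m) => (A.submatrix θ.1 id).det)
          ((g T * eps K T.2.1) • chainMon K (pad hm' t ht htm D T).2.1) =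
          (A.submatrix (SM.iota hm').1 id).det ^ D *
            eval z (g T • (Finset.univ.prod fun i => minorOf K (T.2.1 i))) := by
        intro T hT
        rw [smul_eval, smul_eval]
        unfold chainMon
        rw [map_prod]
        have h1 : ∏ i, eval (fun θ : Idx n (n + m) => (A.submatrix θ.1 id).det)
            (X ((pad hm' t ht htm D T).2.1 i)) =
            ∏ i : Fin (max D (T.1 + 1)),
              (((Nz K z).submatrix (padFun hm' T.2.1 (max D (T.1 + 1)) i).1 id).det *
                (A.submatrix (SM.iota hm').1 id).det) := by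
          refine Finset.prod_congr rfl (fun i _ => ?_)
          rw [eval_X, hz]
          rfl
        rw [h1, Finset.prod_mul_distrib, Finset.prod_const, Finset.card_univ, Fintype.card_fin,
          prod_padFun_Nz K hm' z T.2.1 _ (by have := le_max_right D (T.1 + 1); omega), hDT T hT]
        have := eps_mul_self K T.2.1
        calc g T * eps K T.2.1 * (eps K T.2.1 * eval z (∏ i, minorOf K (T.2.1 i)) *
              (A.submatrix (SM.iota hm').1 id).det ^ D)
            = (eps K T.2.1 * eps K T.2.1) * ((A.submatrix (SM.iota hm').1 id).det ^ D *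
              (g T * eval z (∏ i, minorOf K (T.2.1 i)))) := by ring
          _ = _ := by rw [this, one_mul]
      rw [Finset.sum_congr rfl hterm, ← Finset.mul_sum, ← map_sum, hzf, mul_zero]
  -- conclude by the independence of the standard monomials
  have hli := (SM.li_union K hn (fun _ : Unit => phiT m n t ht htm)).comp
    (pad hm' t ht htm D) (pad_injective hm' t ht htm D)
  rw [linearIndependent_iff'] at hli
  have hsum' : ∑ T ∈ s, (g T * eps K T.2.1) •
      (Ideal.Quotient.mk (⨅ i : Unit, schubertVanishing K n (n + m)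
        ((fun _ : Unit => phiT m n t ht htm) i))) (chainMon K (pad hm' t ht htm D T).2.1) = 0 := by
    rw [← Ideal.Quotient.eq_zero_iff_mem.mpr hF, map_sum]
    refine Finset.sum_congr rfl (fun T _ => ?_)
    rfl
  have h0 : g T₀ * eps K T₀.2.1 = 0 := hli s (fun T => g T * eps K T.2.1) hsum' T₀ hT₀
  have h1 : g T₀ * (eps K T₀.2.1 * eps K T₀.2.1) = 0 := by
    rw [← mul_assoc, h0, zero_mul]
  rwa [eps_mul_self, mul_one] at h1


/-- minors of size exceeding the number of rows vanish. -/
theorem minorIdeal_eq_bot (q k : ℕ) (hk : m < k) :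
    CAlgX.minorIdeal (genMatrix K m q) k = ⊥ := by
  unfold CAlgX.minorIdeal
  rw [Ideal.span_eq_bot]
  rintro _ ⟨⟨f, h⟩, rfl⟩
  show ((genMatrix K m q).submatrix f h).det = 0
  obtain ⟨a, b, hab, hfab⟩ := Fintype.exists_ne_map_eq_of_card_lt f (by
    rw [Fintype.card_fin, Fintype.card_fin]; exact hk)
  apply Matrix.det_zero_of_row_eq hab
  funext j
  show genMatrix K m q (f a) (h j) = genMatrix K m q (f b) (h j)
  rw [hfab]

theorem eval_pairingMap (r q : ℕ) (p : (Fin m × Fin r) ⊕ (Fin r × Fin q) → K)
    (G : MvPolynomial (Fin m × Fin q) K) :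
    eval p (pairingMap K r m q G) =
      eval (fun x : Fin m × Fin q => ∑ k : Fin r, p (Sum.inl (x.1, k)) * p (Sum.inr (k, x.2))) G := by
  induction G using MvPolynomial.induction_on with
  | C c =>
    have : pairingMap K r m q (C c) = C c := by
      unfold pairingMap; rw [aeval_C]; rfl
    rw [this, eval_C, eval_C]
  | add P Q hP hQ => rw [map_add, map_add, map_add, hP, hQ]
  | mul_X P x hP =>
    rw [map_mul, map_mul, map_mul, hP, eval_X]
    congr 1
    unfold pairingMap
    rw [aeval_X, map_sum]
    refine Finset.sum_congr rfl (fun k _ => ?_)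
    rw [map_mul, eval_X, eval_X]

theorem minorIdeal_le_ker (r q : ℕ) :
    CAlgX.minorIdeal (genMatrix K m q) (r + 1) ≤ RingHom.ker (pairingMap K r m q).toRingHom := by
  unfold CAlgX.minorIdeal
  rw [Ideal.span_le]
  rintro _ ⟨⟨f, h⟩, rfl⟩
  rw [SetLike.mem_coe, RingHom.mem_ker]
  show pairingMap K r m q ((genMatrix K m q).submatrix f h).det = 0
  rw [AlgHom.map_det]
  have : (pairingMap K r m q).mapMatrix ((genMatrix K m q).submatrix f h) =
      (Matrix.of fun (a : Fin (r + 1)) (k : Fin r) =>
        (X (Sum.inl (f a, k)) : PairRing K r m q)) *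
      (Matrix.of fun (k : Fin r) (b : Fin (r + 1)) =>
        (X (Sum.inr (k, h b)) : PairRing K r m q)) := by
    apply Matrix.ext
    intro a b
    rw [Matrix.mul_apply]
    show pairingMap K r m q (X (f a, h b)) = _
    unfold pairingMap
    rw [aeval_X]
    rfl
  rw [this]
  exact det_mul_eq_zero _ _

theorem ker_le_minorIdeal [Infinite K] (hm : 0 < m) (r q : ℕ) (hq : 0 < q) :
    RingHom.ker (pairingMap K r m q).toRingHom ≤ CAlgX.minorIdeal (genMatrix K m q) (r + 1) := by
  classical
  intro F hF
  have hF0 : pairingMap K r m q F = 0 := RingHom.mem_ker.mp hF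
  have ht : 1 ≤ min (r + 1) (m + 1) := by
    rw [le_min_iff]; omega
  have htm : min (r + 1) (m + 1) ≤ m + 1 := min_le_right _ _
  have hI : CAlgX.minorIdeal (genMatrix K m q) (min (r + 1) (m + 1)) =
      CAlgX.minorIdeal (genMatrix K m q) (r + 1) := by
    rcases Nat.lt_or_ge m r with h | h
    · rw [min_eq_right (by omega), minorIdeal_eq_bot K q (m + 1) (by omega),
        minorIdeal_eq_bot K q (r + 1) (by omega)]
    · rw [min_eq_left (by omega)]
  rw [← hI]
  have hspan := bt_span K hm hq (min (r + 1) (m + 1)) ht htm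
  have hFs : Ideal.Quotient.mk (CAlgX.minorIdeal (genMatrix K m q) (min (r + 1) (m + 1))) F ∈
      Submodule.span K (Set.range fun c : BTIdx m q (min (r + 1) (m + 1)) =>
        Ideal.Quotient.mk (CAlgX.minorIdeal (genMatrix K m q) (min (r + 1) (m + 1)))
          (Finset.univ.prod fun i => minorOf K (c.2.1 i))) := by
    rw [hspan]; exact Submodule.mem_top
  obtain ⟨l, hl⟩ := (Finsupp.mem_span_range_iff_exists_finsupp).mp hFs
  set P : MvPolynomial (Fin m × Fin q) K :=
    ∑ T ∈ l.support, l T • (Finset.univ.prod fun i => minorOf K (T.2.1 i)) with hP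
  have hPF : Ideal.Quotient.mk (CAlgX.minorIdeal (genMatrix K m q) (min (r + 1) (m + 1))) P =
      Ideal.Quotient.mk _ F := by
    rw [← hl, hP, Finsupp.sum, map_sum]
    refine Finset.sum_congr rfl (fun c _ => ?_)
    rfl
  have hdiff : P - F ∈ CAlgX.minorIdeal (genMatrix K m q) (min (r + 1) (m + 1)) :=
    Ideal.Quotient.eq.mp hPF
  have hP0 : pairingMap K r m q P = 0 := by
    have h1 : P - F ∈ RingHom.ker (pairingMap K r m q).toRingHom := by
      rw [hI] at hdiff
      exact minorIdeal_le_ker K r q hdiff
    have h2 : pairingMap K r m q (P - F) = 0 := RingHom.mem_ker.mp h1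
    rw [map_sub, hF0, sub_zero] at h2
    exact h2
  have hzero := bt_core K hm hq (min (r + 1) (m + 1)) ht htm l.support (fun T => l T) (by
    intro z hz
    show eval z P = 0
    -- the matrix of the point has rank at most `r`
    set Zm : Matrix (Fin m) (Fin q) K := Matrix.of fun i j => z (i, j) with hZm
    have hminors : ∀ (f : Fin (r + 1) → Fin m) (h : Fin (r + 1) → Fin q),
        (Zm.submatrix f h).det = 0 := by
      intro f h
      have h1 : ((genMatrix K m q).submatrix f h).det ∈
          CAlgX.minorIdeal (genMatrix K m q) (min (r + 1) (m + 1)) := by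
        rw [hI]
        exact Ideal.subset_span ⟨(f, h), rfl⟩
      have h2 := eval_eq_zero_of_mem_minorIdeal K _ ht htm z hz _ h1
      rw [RingHom.map_det] at h2
      rw [← h2]
      congr 1
      apply Matrix.ext
      intro a b
      show z (f a, h b) = eval z (X (f a, h b))
      rw [eval_X]
    obtain ⟨u, ξ, huξ⟩ := exists_factorization Zm (rank_le_of_minors Zm hminors)
    have h3 := eval_pairingMap K r q
      (Sum.elim (fun x : Fin m × Fin r => u x.1 x.2) (fun x : Fin r × Fin q => ξ x.1 x.2)) P
    rw [hP0, map_zero] at h3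
    have hz' : (fun x : Fin m × Fin q => ∑ k : Fin r,
        Sum.elim (fun x : Fin m × Fin r => u x.1 x.2) (fun x : Fin r × Fin q => ξ x.1 x.2)
          (Sum.inl (x.1, k)) *
        Sum.elim (fun x : Fin m × Fin r => u x.1 x.2) (fun x : Fin r × Fin q => ξ x.1 x.2)
          (Sum.inr (k, x.2))) = z := by
      funext x
      have : z x = Zm x.1 x.2 := rfl
      rw [this, huξ, Matrix.mul_apply]
      rfl
    rw [hz'] at h3
    exact h3.symm)
  have hsupp : l.support = ∅ := by
    rw [Finset.eq_empty_iff_forall_notMem]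
    intro T hT
    exact (Finsupp.mem_support_iff.mp hT) (hzero T hT)
  have hPz : P = 0 := by
    rw [hP, hsupp, Finset.sum_empty]
  rw [hPz, zero_sub] at hdiff
  exact (Ideal.neg_mem_iff _).mp hdiff

theorem ker_eq_bot_of_isEmpty (r q : ℕ) [IsEmpty (Fin m × Fin q)] :
    RingHom.ker (pairingMap K r m q).toRingHom = ⊥ := by
  rw [eq_bot_iff]
  intro F hF
  have hF0 : pairingMap K r m q F = 0 := RingHom.mem_ker.mp hF
  rw [MvPolynomial.eq_C_of_isEmpty F] at hF0 ⊢
  have : pairingMap K r m q (C (coeff 0 F)) = C (coeff 0 F) := by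
    unfold pairingMap; rw [aeval_C]; rfl
  rw [this] at hF0
  have := (MvPolynomial.C_injective _ K) (hF0.trans C_0.symm)
  rw [this, C_0]
  exact Ideal.zero_mem _

theorem minorIdeal_eq_bot_of_isEmpty (k q : ℕ) [IsEmpty (Fin m × Fin q)] :
    CAlgX.minorIdeal (genMatrix K m q) (k + 1) = ⊥ := by
  unfold CAlgX.minorIdeal
  rw [Ideal.span_eq_bot]
  rintro _ ⟨⟨f, h⟩, rfl⟩
  exact (IsEmpty.false (f 0, h 0)).elim

theorem sft [Infinite K] (m r q : ℕ) :
    RingHom.ker (pairingMap K r m q).toRingHom = CAlgX.minorIdeal (genMatrix K m q) (r + 1) := by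
  by_cases hmq : 0 < m ∧ 0 < q
  · exact le_antisymm (ker_le_minorIdeal K hmq.1 r q hmq.2) (minorIdeal_le_ker K r q)
  · haveI : IsEmpty (Fin m × Fin q) := by
      rw [isEmpty_prod]
      rcases not_and_or.mp hmq with h | h
      · left
        have : m = 0 := by omega
        subst this
        exact Fin.isEmpty'
      · right
        have : q = 0 := by omega
        subst this
        exact Fin.isEmpty'
    rw [ker_eq_bot_of_isEmpty, minorIdeal_eq_bot_of_isEmpty]


end Groth.Agent.H16.BT
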