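import Groth.Agent.H16.SV15
set_option autoImplicit false
set_option linter.unusedSimpArgs false

namespace Groth.Agent.Helper16.Hasse

open FunFld Module

variable {k : Type*} [Field k]

/-- the binomial matrix with lower indices `0, …, n-1` is a Vandermonde matrix up to factorials -/
theorem det_binomMat_range {n : ℕ} (J : Fin n → ℕ) :
    (binomMat k J (fun s : Fin n => (s : ℕ))).det * ∏ s : Fin n, (((s : ℕ).factorial : ℕ) : k) =
      (Matrix.vandermonde (fun r : Fin n => ((J r : ℕ) : k))).det := by
  classical
  rw [Matrix.det_eval_matrixOfPolynomials_eq_det_vandermonde (fun r : Fin n => ((J r : ℕ) : k))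
    (fun s : Fin n => descPochhammer k (s : ℕ)) (fun s => descPochhammer_natDegree k (s : ℕ))
    (fun s => monic_descPochhammer k (s : ℕ))]
  have e : (Matrix.of fun (i j : Fin n) => (descPochhammer k (j : ℕ)).eval ((J i : ℕ) : k)) =
      binomMat k J (fun s : Fin n => (s : ℕ)) *
        Matrix.diagonal (fun s : Fin n => (((s : ℕ).factorial : ℕ) : k)) := by
    ext i j
    rw [Matrix.mul_diagonal, Matrix.of_apply, descPochhammer_eval_eq_descFactorial,
      Nat.descFactorial_eq_factorial_mul_choose]
    unfold binomMat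
    rw [Matrix.of_apply]
    push_cast
    ring
  rw [e, Matrix.det_mul, Matrix.det_diagonal]

theorem natCast_injOn_of_lt (p : ℕ) [CharP k p] {a b : ℕ} (ha : p = 0 ∨ a < p)
    (hb : p = 0 ∨ b < p) (h : (a : k) = (b : k)) : a = b := by
  rcases ha with h0 | ha
  · subst h0
    haveI : CharZero k := CharP.charP_to_charZero k
    exact Nat.cast_injective h
  · rcases hb with h0 | hb
    · subst h0; omega
    · rw [CharP.natCast_eq_natCast k p] at h
      exact Nat.ModEq.eq_of_lt_of_lt h ha hb

/-- nonvanishing of the binomial determinant for lower indices `0, …, n-1` -/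
theorem det_binomMat_range_ne_zero {n : ℕ} (p : ℕ) [CharP k p] (J : Fin n → ℕ)
    (hJ : StrictMono J) (hlt : p = 0 ∨ ∀ l, J l < p) :
    (binomMat k J (fun s : Fin n => (s : ℕ))).det ≠ 0 := by
  intro h0
  have h1 := det_binomMat_range (k := k) J
  rw [h0, zero_mul] at h1
  have h2 : (Matrix.vandermonde (fun r : Fin n => ((J r : ℕ) : k))).det ≠ 0 := by
    rw [Matrix.det_vandermonde_ne_zero_iff]
    intro a b hab
    apply hJ.injective
    refine natCast_injOn_of_lt (k := k) p ?_ ?_ hab
    · rcases hlt with h | h
      · exact Or.inl h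
      · exact Or.inr (h a)
    · rcases hlt with h | h
      · exact Or.inl h
      · exact Or.inr (h b)
  exact h2 h1.symm

/-- nonvanishing of the binomial determinant for lower indices `1, …, n` -/
theorem det_binomMat_succ_ne_zero {n : ℕ} (p : ℕ) [CharP k p] (J : Fin n → ℕ)
    (hJ : StrictMono J) (hpos : ∀ l, 1 ≤ J l) (hlt : p = 0 ∨ ∀ l, J l < p) :
    (binomMat k J (fun s : Fin n => (s : ℕ) + 1)).det ≠ 0 := by
  classical
  obtain ⟨J', hJ'⟩ : ∃ J' : Fin n → ℕ, J' = fun l => J l - 1 := ⟨_, rfl⟩
  have hJ'mono : StrictMono J' := by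
    intro a b hab
    have := hJ hab
    have := hpos a
    rw [hJ']
    simp only
    omega
  have hJ'lt : p = 0 ∨ ∀ l, J' l < p := by
    rcases hlt with h | h
    · exact Or.inl h
    · right
      intro l
      have := h l
      rw [hJ']
      simp only
      omega
  have h1 := det_binomMat_range_ne_zero (k := k) p J' hJ'mono hJ'lt
  have e : Matrix.diagonal (fun r : Fin n => ((J r : ℕ) : k)) *
      binomMat k J' (fun s : Fin n => (s : ℕ)) =
      binomMat k J (fun s : Fin n => (s : ℕ) + 1) *
        Matrix.diagonal (fun s : Fin n => (((s : ℕ) + 1 : ℕ) : k)) := by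
    ext r s
    rw [Matrix.diagonal_mul, Matrix.mul_diagonal]
    unfold binomMat
    rw [Matrix.of_apply, Matrix.of_apply, hJ']
    simp only
    have h2 := Nat.add_one_mul_choose_eq (J r - 1) (s : ℕ)
    have h3 : J r - 1 + 1 = J r := by have := hpos r; omega
    rw [h3] at h2
    have h4 : ((J r * (J r - 1).choose (s : ℕ) : ℕ) : k) =
        (((J r).choose ((s : ℕ) + 1) * ((s : ℕ) + 1) : ℕ) : k) := by
      rw [h2]
    push_cast at h4 ⊢
    exact h4
  have hdet := congrArg Matrix.det e
  rw [Matrix.det_mul, Matrix.det_mul, Matrix.det_diagonal, Matrix.det_diagonal] at hdet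
  intro h0
  rw [h0, zero_mul] at hdet
  have hJne : ∏ r : Fin n, ((J r : ℕ) : k) ≠ 0 := by
    rw [Finset.prod_ne_zero_iff]
    intro r _ hr
    have h5 : ((J r : ℕ) : k) = ((0 : ℕ) : k) := by rw [hr, Nat.cast_zero]
    have h6 := natCast_injOn_of_lt (k := k) p (a := J r) (b := 0) ?_ ?_ h5
    · have := hpos r; omega
    · rcases hlt with h | h
      · exact Or.inl h
      · exact Or.inr (h r)
    · rcases hlt with h | h
      · exact Or.inl h
      · right
        have := h r
        omega
  exact (mul_ne_zero hJne h1) hdet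

end Groth.Agent.Helper16.Hasse
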