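import Mathlib
import Groth.Prelude.Def_W4bk4goldsch23FF
import Groth.Agent.Lib.Helper17.FF5

set_option autoImplicit false
set_option linter.style.haveILetI false

/-! Finite-dimensional approximation of elements with bounded pole at a place. -/

namespace Groth.Agent.H16.CD

open FunFld Module
open Groth.Agent.Helper17.FF

section W

variable {k K : Type*} [Field k] [Field K] [Algebra k K]

theorem le_exp_neg_one_of_lt_one {x : WithZero (Multiplicative ℤ)} (hx : x < 1) :
    x ≤ WithZero.exp (-1 : ℤ) := by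
  rcases eq_or_ne x 0 with rfl | h0
  · exact zero_le
  · rw [← WithZero.exp_log h0] at hx ⊢
    rw [← WithZero.exp_zero, WithZero.exp_lt_exp] at hx
    rw [WithZero.exp_le_exp]
    omega

theorem exists_lifts (hK : IsFunctionField k K) (P : Place k K) :
    ∃ U : Submodule k K, FiniteDimensional k U ∧
      ∀ a : K, P.1 a ≤ 1 → ∃ u ∈ U, P.1 (a - u) < 1 := by
  classical
  haveI := residue_finite hK P
  let e := Module.finBasis k (IsLocalRing.ResidueField P.O)
  have hsurj := IsLocalRing.residue_surjective (R := P.O)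
  choose u hu using fun l => hsurj (e l)
  refine ⟨Submodule.span k (Set.range fun l => ((u l : P.O) : K)),
    FiniteDimensional.span_of_finite k (Set.finite_range _), ?_⟩
  intro a ha
  let a' : P.O := ⟨a, ha⟩
  obtain ⟨ρ, hρ⟩ : ∃ ρ, ρ = IsLocalRing.residue P.O a' := ⟨_, rfl⟩
  let w : P.O := ∑ l, algebraMap k P.O (e.repr ρ l) * u l
  have hw : IsLocalRing.residue P.O w = ρ := by
    rw [map_sum]
    conv_rhs => rw [← e.sum_repr ρ]
    refine Finset.sum_congr rfl (fun l _ => ?_)
    rw [map_mul, hu]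
    exact (Algebra.smul_def (e.repr ρ l) (e l)).symm
  refine ⟨(w : K), ?_, ?_⟩
  · have h1 : (w : K) = ∑ l, (e.repr ρ l) • ((u l : P.O) : K) := by
      show ((∑ l, algebraMap k P.O (e.repr ρ l) * u l : P.O) : K) = _
      rw [AddSubmonoidClass.coe_finsetSum]
      refine Finset.sum_congr rfl (fun l _ => ?_)
      rw [Algebra.smul_def]
      rfl
    rw [h1]
    exact Submodule.sum_mem _ (fun l _ => Submodule.smul_mem _ _ (Submodule.subset_span ⟨l, rfl⟩))
  · have h2 : IsLocalRing.residue P.O (a' - w) = 0 := by rw [map_sub, hw, hρ, sub_self]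
    rw [IsLocalRing.residue_eq_zero_iff] at h2
    have h3 := (Groth.Agent.Helper17.FF.mem_maximalIdeal_iff P _).1 h2
    exact h3

theorem exists_W (hK : IsFunctionField k K) (P : Place k K) (N : ℕ) :
    ∃ W : Submodule k K, FiniteDimensional k W ∧
      ∀ a : K, P.1 a ≤ WithZero.exp (N : ℤ) → ∃ w ∈ W, P.1 (a - w) ≤ 1 := by
  classical
  obtain ⟨t, ht⟩ := exists_uniformizer P
  have ht0 : t ≠ 0 := fun h => by
    rw [h, map_zero] at ht; exact WithZero.exp_ne_zero ht.symm
  obtain ⟨U, hU, hUa⟩ := exists_lifts hK P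
  induction N with
  | zero =>
    refine ⟨⊥, inferInstance, fun a ha => ⟨0, Submodule.zero_mem _, ?_⟩⟩
    rw [sub_zero]
    simpa using ha
  | succ N ih =>
    obtain ⟨W, hW, hWa⟩ := ih
    haveI := hW
    haveI := hU
    refine ⟨W ⊔ U.map (LinearMap.mulLeft k ((t⁻¹) ^ (N + 1))), inferInstance, ?_⟩
    intro a ha
    have h1 : P.1 (t ^ (N + 1) * a) ≤ 1 := by
      rw [map_mul, map_pow, ht, ← WithZero.exp_nsmul]
      calc WithZero.exp ((N + 1) • (-1 : ℤ)) * P.1 a
          ≤ WithZero.exp ((N + 1) • (-1 : ℤ)) * WithZero.exp ((N + 1 : ℕ) : ℤ) :=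
            mul_le_mul' le_rfl ha
        _ = 1 := by
            rw [← WithZero.exp_add, ← WithZero.exp_zero]
            congr 1
            simp
    obtain ⟨u, hu, hua⟩ := hUa _ h1
    have h2 := le_exp_neg_one_of_lt_one hua
    have h3 : P.1 (a - (t⁻¹) ^ (N + 1) * u) ≤ WithZero.exp (N : ℤ) := by
      have e1 : a - (t⁻¹) ^ (N + 1) * u = (t⁻¹) ^ (N + 1) * (t ^ (N + 1) * a - u) := by
        rw [mul_sub, ← mul_assoc, ← mul_pow, inv_mul_cancel₀ ht0, one_pow, one_mul]
      rw [e1, map_mul, map_pow, map_inv₀, ht, ← WithZero.exp_neg, ← WithZero.exp_nsmul]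
      calc WithZero.exp ((N + 1) • (- (-1 : ℤ))) * P.1 (t ^ (N + 1) * a - u)
          ≤ WithZero.exp ((N + 1) • (- (-1 : ℤ))) * WithZero.exp (-1 : ℤ) :=
            mul_le_mul' le_rfl h2
        _ = WithZero.exp (N : ℤ) := by
            rw [← WithZero.exp_add]
            congr 1
            simp
    obtain ⟨w, hw, hwa⟩ := hWa _ h3
    refine ⟨w + (t⁻¹) ^ (N + 1) * u, ?_, ?_⟩
    · exact Submodule.add_mem _ (Submodule.mem_sup_left hw)
        (Submodule.mem_sup_right (Submodule.mem_map.2 ⟨u, hu, rfl⟩))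
    · have e2 : a - (w + (t⁻¹) ^ (N + 1) * u) = a - (t⁻¹) ^ (N + 1) * u - w := by ring
      rw [e2]
      exact hwa

end W

end Groth.Agent.H16.CD
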