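import Mathlib
import Groth.Prelude.Def_W4bk4goldsch23FF
import Groth.Prelude.Def_W4bk4goldsch23Ext
import Groth.Agent.Lib.Helper17.FFIC
import Groth.Agent.Lib.Helper17.FFWk

set_option autoImplicit false
set_option linter.style.haveILetI false

/-! Nonsingular places with respect to constant field extensions: coordinates. -/

namespace Groth.Agent.H16.NS

open FunFld Module
open scoped TensorProduct
open Groth.Agent.Helper17.FF

section Adj

variable {k k₁ K L ι : Type*} [Field k] [Field k₁] [Field K] [Field L]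
  [Algebra k k₁] [Algebra k K] [Algebra K L] [Algebra k₁ L] [Algebra k L]
  [IsScalarTower k k₁ L] [IsScalarTower k K L] [Fintype ι]

theorem repr_algebraMap (β : Module.Basis ι k k₁) (𝔅 : Module.Basis ι K L)
    (h𝔅 : ∀ i, 𝔅 i = algebraMap k₁ L (β i)) (x : k₁) (i : ι) :
    𝔅.repr (algebraMap k₁ L x) i = algebraMap k K (β.repr x i) := by
  classical
  have h1 : algebraMap k₁ L x = ∑ j, algebraMap k K (β.repr x j) • 𝔅 j := by
    conv_lhs => rw [← β.sum_repr x]
    rw [map_sum]
    refine Finset.sum_congr rfl (fun j _ => ?_)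
    rw [Algebra.smul_def, map_mul, h𝔅, Algebra.smul_def, ← IsScalarTower.algebraMap_apply,
      ← IsScalarTower.algebraMap_apply]
  rw [h1, 𝔅.repr_sum_self]

theorem mem_adjoin_iff (R : Subring K) (hkR : ∀ c : k, algebraMap k K c ∈ R)
    (β : Module.Basis ι k k₁) (𝔅 : Module.Basis ι K L)
    (h𝔅 : ∀ i, 𝔅 i = algebraMap k₁ L (β i)) (z : L) :
    z ∈ Algebra.adjoin (R.map (algebraMap K L)) (Set.range (algebraMap k₁ L)) ↔
      ∀ i, 𝔅.repr z i ∈ R := by
  classical
  constructor
  · intro hz
    induction hz using Algebra.adjoin_induction with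
    | mem w hw =>
      obtain ⟨x, rfl⟩ := hw
      intro i
      rw [repr_algebraMap β 𝔅 h𝔅]
      exact hkR _
    | algebraMap a =>
      obtain ⟨r, hr, hra⟩ := a.2
      intro i
      have h1 : algebraMap (R.map (algebraMap K L)) L a = r • algebraMap k₁ L 1 := by
        rw [map_one, Algebra.smul_def, mul_one]
        exact hra.symm
      rw [h1, map_smul, Finsupp.smul_apply, repr_algebraMap β 𝔅 h𝔅, smul_eq_mul]
      exact R.mul_mem hr (hkR _)
    | add a b _ _ ha hb =>
      intro i
      rw [map_add, Finsupp.add_apply]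
      exact R.add_mem (ha i) (hb i)
    | mul a b _ _ ha hb =>
      intro i
      have h1 : a * b = ∑ j, ∑ l, (𝔅.repr a j * 𝔅.repr b l) • algebraMap k₁ L (β j * β l) := by
        conv_lhs => rw [← 𝔅.sum_repr a, ← 𝔅.sum_repr b]
        rw [Finset.sum_mul_sum]
        refine Finset.sum_congr rfl (fun j _ => Finset.sum_congr rfl (fun l _ => ?_))
        rw [h𝔅, h𝔅, map_mul, smul_mul_smul_comm]
      rw [h1, map_sum, Finsupp.coe_finsetSum, Finset.sum_apply]
      refine R.sum_mem (fun j _ => ?_)
      rw [map_sum, Finsupp.coe_finsetSum, Finset.sum_apply]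
      refine R.sum_mem (fun l _ => ?_)
      rw [map_smul, Finsupp.smul_apply, repr_algebraMap β 𝔅 h𝔅, smul_eq_mul]
      exact R.mul_mem (R.mul_mem (ha j) (hb l)) (hkR _)
  · intro hz
    rw [← 𝔅.sum_repr z]
    refine Subalgebra.sum_mem _ (fun i _ => ?_)
    rw [Algebra.smul_def, h𝔅]
    refine Subalgebra.mul_mem _ ?_ (Algebra.subset_adjoin ⟨β i, rfl⟩)
    have h2 : algebraMap K L (𝔅.repr z i) =
        algebraMap (R.map (algebraMap K L)) L ⟨algebraMap K L (𝔅.repr z i), ⟨_, hz i, rfl⟩⟩ := rfl
    rw [h2]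
    exact Subalgebra.algebraMap_mem _ _

end Adj

end Groth.Agent.H16.NS
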