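import Mathlib
import Groth.Agent.H16.NS1
import Groth.Agent.Lib.Helper17.FFCU

set_option autoImplicit false
set_option linter.style.haveILetI false

/-! Nonsingular places with respect to constant field extensions: conversion to valuations. -/

namespace Groth.Agent.H16.NS

open FunFld Module
open scoped TensorProduct
open Groth.Agent.Helper17.FF

universe u v w u₁

section Conv

variable {k : Type u} {K : Type v} {L : Type w} [Field k] [Field K] [Field L] [Algebra k K]
  [Algebra K L] [Algebra k L] [IsScalarTower k K L] [FiniteDimensional K L]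
  {k₁ : Type u₁} [Field k₁] [Algebra k k₁] [Algebra k₁ L] [IsScalarTower k k₁ L]
  [Algebra.IsIntegral k k₁]

theorem integralClosure_eq_adjoin_iff (hK : IsWeakFF k K) (P : Place k K) :
    integralClosure (P.O.toSubring.map (algebraMap K L)) L =
      Algebra.adjoin (P.O.toSubring.map (algebraMap K L)) (Set.range (algebraMap k₁ L)) ↔
    ∀ z : L, (∀ Q : Place k L, IsOver Q P → Q.1 z ≤ 1) →
      z ∈ Algebra.adjoin (P.O.toSubring.map (algebraMap K L)) (Set.range (algebraMap k₁ L)) := by
  classical
  letI algOL : Algebra P.O L := ((algebraMap K L).comp P.O.subtype).toAlgebra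
  haveI : IsScalarTower P.O K L := IsScalarTower.of_algebraMap_eq (fun _ => rfl)
  obtain ⟨hmem, -⟩ := integralClosure_eq_and_finite (K' := L) hK P
  let ψ : P.O →+* (P.O.toSubring.map (algebraMap K L)) :=
    ((algebraMap K L).comp P.O.subtype).codRestrict (P.O.toSubring.map (algebraMap K L))
      (fun r => ⟨r.1, r.2, rfl⟩)
  letI : Algebra P.O (P.O.toSubring.map (algebraMap K L)) := ψ.toAlgebra
  haveI : IsScalarTower P.O (P.O.toSubring.map (algebraMap K L)) L :=
    IsScalarTower.of_algebraMap_eq (fun _ => rfl)
  have hAval : ∀ (Q : Place k L), IsOver Q P → ∀ a : (P.O.toSubring.map (algebraMap K L)),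
      Q.1 (algebraMap (P.O.toSubring.map (algebraMap K L)) L a) ≤ 1 := by
    rintro Q ⟨e, he⟩ a
    obtain ⟨r, hr, hra⟩ := a.2
    show Q.1 (a : L) ≤ 1
    rw [← hra]
    exact (isOverWith_le_one_iff he r).2 hr
  constructor
  · intro heq z hz
    rw [← heq]
    have h1 : z ∈ integralClosure P.O L := (hmem z).2 hz
    have h2 : IsIntegral P.O z := h1
    exact h2.tower_top (A := (P.O.toSubring.map (algebraMap K L)))
  · intro hall
    apply le_antisymm
    · intro z hz
      apply hall
      intro Q hQ
      exact val_le_one_of_isIntegral' Q.1 (hAval Q hQ) hz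
    · apply Algebra.adjoin_le
      rintro _ ⟨x, rfl⟩
      have hx : IsIntegral k x := Algebra.IsIntegral.isIntegral x
      obtain ⟨p, hp, hpx⟩ := hx
      let φ : k →+* (P.O.toSubring.map (algebraMap K L)) :=
        (algebraMap k L).codRestrict (P.O.toSubring.map (algebraMap K L))
          (fun c => ⟨algebraMap k K c, P.2.1 c, (IsScalarTower.algebraMap_apply k K L c).symm⟩)
      refine ⟨p.map φ, hp.map φ, ?_⟩
      rw [Polynomial.eval₂_map]
      have h3 : (algebraMap (P.O.toSubring.map (algebraMap K L)) L).comp φ = algebraMap k L := rfl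
      rw [h3, IsScalarTower.algebraMap_eq k k₁ L, ← Polynomial.hom_eval₂, hpx, map_zero]

end Conv

section CB

variable {k : Type*} {k' : Type*} {K : Type*} {K' : Type*} [Field k] [Field k'] [Field K]
    [Field K'] [Algebra k k'] [Algebra k K] [Algebra K K'] [Algebra k' K'] [Algebra k K']
    [IsScalarTower k k' K'] [IsScalarTower k K K'] {ι : Type*}

/-- a `k`-basis of `k'` as a `K`-basis of `K' = k' ⊗ K`. -/
noncomputable def constBasis
    (h : Function.Bijective (Algebra.TensorProduct.productMap
      (IsScalarTower.toAlgHom k k' K') (IsScalarTower.toAlgHom k K K')))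
    (β : Module.Basis ι k k') : Module.Basis ι K K' :=
  (Algebra.TensorProduct.basis K β).map (CU.constEquivR h).toLinearEquiv

theorem constBasis_apply
    (h : Function.Bijective (Algebra.TensorProduct.productMap
      (IsScalarTower.toAlgHom k k' K') (IsScalarTower.toAlgHom k K K')))
    (β : Module.Basis ι k k') (i : ι) : constBasis h β i = algebraMap k' K' (β i) := by
  unfold constBasis
  rw [Module.Basis.map_apply, Algebra.TensorProduct.basis_apply]
  show CU.constEquivR h ((1 : K) ⊗ₜ[k] β i) = _
  rw [CU.constEquivR_tmul, map_one, one_mul]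

end CB

end Groth.Agent.H16.NS
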