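import Mathlib
import Groth.Agent.H16.CD1
import Groth.Agent.H16.NS2

set_option autoImplicit false
set_option linter.style.haveILetI false

/-! The conductor of `O_P[k']` in the integral closure of `O_P` in `k' ⊗ K`. -/

namespace Groth.Agent.H16.CD

open FunFld Module
open scoped TensorProduct
open Groth.Agent.Helper17.FF Groth.Agent.H16.NS

universe u v

section Main

variable {k k' : Type u} {K K' : Type v} [Field k] [Field k'] [Field K] [Field K']
    [Algebra k k'] [FiniteDimensional k k'] [Algebra k K] [Algebra K K'] [Algebra k' K']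
    [Algebra k K'] [IsScalarTower k k' K'] [IsScalarTower k K K']

theorem conductor
    (h : Function.Bijective (Algebra.TensorProduct.productMap
      (IsScalarTower.toAlgHom k k' K') (IsScalarTower.toAlgHom k K K')))
    (hK : IsFunctionField k K)
    (P : Place k K) [Algebra P.O K'] [IsScalarTower P.O K K'] :
    (∃ V : Submodule k K', FiniteDimensional k V ∧ ∀ r ∈ integralClosure P.O K',
        ∃ s ∈ Algebra.adjoin P.O (Set.range (algebraMap k' K')), r - s ∈ V) ∧
    (∃ c ∈ integralClosure P.O K', c ≠ 0 ∧ ∀ r ∈ integralClosure P.O K',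
        c * r ∈ Algebra.adjoin P.O (Set.range (algebraMap k' K'))) := by
  classical
  haveI : FiniteDimensional K K' := CU.finite_const h
  have hKw : IsWeakFF k K := IsWeakFF.of_isFunctionField hK
  obtain ⟨-, hfin⟩ := integralClosure_eq_and_finite (K' := K') hKw P
  let b := Module.finBasis k k'
  let B' := constBasis h b
  have hB' : ∀ i, B' i = algebraMap k' K' (b i) := constBasis_apply h b
  have hmap : ∀ r : P.O, algebraMap P.O K' r = algebraMap K K' (r : K) := fun r =>
    IsScalarTower.algebraMap_apply P.O K K' r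
  -- membership in the adjoin from integral coordinates
  have hadj : ∀ z : K', (∀ i, P.1 (B'.repr z i) ≤ 1) →
      z ∈ Algebra.adjoin P.O (Set.range (algebraMap k' K')) := by
    intro z hz
    rw [← B'.sum_repr z]
    refine Subalgebra.sum_mem _ (fun i _ => ?_)
    rw [Algebra.smul_def, hB']
    refine Subalgebra.mul_mem _ ?_ (Algebra.subset_adjoin ⟨b i, rfl⟩)
    have h2 : algebraMap K K' (B'.repr z i) = algebraMap P.O K' ⟨B'.repr z i, hz i⟩ :=
      (hmap ⟨B'.repr z i, hz i⟩).symm
    rw [h2]
    exact Subalgebra.algebraMap_mem _ _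
  -- a bound for the coordinates of integral elements
  obtain ⟨S, hS⟩ := hfin.fg_top
  have hfg : ∃ T : Finset K', ∀ r ∈ integralClosure P.O K',
      r ∈ Submodule.span P.O (T : Set K') := by
    refine ⟨S.image (fun x => (x : K')), fun r hr => ?_⟩
    have h1 : (⟨r, hr⟩ : integralClosure P.O K') ∈ Submodule.span P.O (S : Set _) := by
      rw [hS]; trivial
    have h2 := Submodule.apply_mem_span_image_of_mem_span
      (Subalgebra.val (integralClosure P.O K')).toLinearMap h1
    simpa using h2
  obtain ⟨T, hT⟩ := hfg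
  set N : ℕ := (∑ r ∈ T, ∑ i, |WithZero.log (P.1 (B'.repr r i))|).toNat with hN
  have hNle : ∀ r ∈ T, ∀ i, P.1 (B'.repr r i) ≤ WithZero.exp (N : ℤ) := by
    intro r hr i
    rcases eq_or_ne (P.1 (B'.repr r i)) 0 with h0 | h0
    · rw [h0]; exact zero_le
    rw [← WithZero.exp_log h0, WithZero.exp_le_exp]
    have h1 : |WithZero.log (P.1 (B'.repr r i))| ≤
        ∑ i, |WithZero.log (P.1 (B'.repr r i))| :=
      Finset.single_le_sum (f := fun i => |WithZero.log (P.1 (B'.repr r i))|)
        (fun _ _ => abs_nonneg _) (Finset.mem_univ i)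
    have h2 : ∑ i, |WithZero.log (P.1 (B'.repr r i))| ≤
        ∑ r ∈ T, ∑ i, |WithZero.log (P.1 (B'.repr r i))| :=
      Finset.single_le_sum (f := fun r => ∑ i, |WithZero.log (P.1 (B'.repr r i))|)
        (fun _ _ => Finset.sum_nonneg (fun _ _ => abs_nonneg _)) hr
    have h3 := le_abs_self (WithZero.log (P.1 (B'.repr r i)))
    have h4 : (0 : ℤ) ≤ ∑ r ∈ T, ∑ i, |WithZero.log (P.1 (B'.repr r i))| :=
      Finset.sum_nonneg (fun _ _ => Finset.sum_nonneg (fun _ _ => abs_nonneg _))
    rw [hN, Int.toNat_of_nonneg h4]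
    linarith
  have hbound' : ∀ r ∈ Submodule.span P.O (T : Set K'), ∀ i,
      P.1 (B'.repr r i) ≤ WithZero.exp (N : ℤ) := by
    intro r h1
    induction h1 using Submodule.span_induction with
    | mem x hx => exact hNle x hx
    | zero => intro i; simp
    | add x y _ _ hx hy =>
      intro i
      rw [map_add, Finsupp.add_apply]
      exact (P.1.map_add _ _).trans (max_le (hx i) (hy i))
    | smul o x _ hx =>
      intro i
      have e1 : o • x = (o : K) • x := by
        rw [Algebra.smul_def, Algebra.smul_def, hmap]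
      rw [e1, map_smul, Finsupp.smul_apply, smul_eq_mul, map_mul]
      calc P.1 (o : K) * P.1 (B'.repr x i) ≤ 1 * WithZero.exp (N : ℤ) := mul_le_mul' o.2 (hx i)
        _ = WithZero.exp (N : ℤ) := one_mul _
  have hbound : ∀ r ∈ integralClosure P.O K', ∀ i, P.1 (B'.repr r i) ≤ WithZero.exp (N : ℤ) :=
    fun r hr => hbound' r (hT r hr)
  obtain ⟨t, ht⟩ := exists_uniformizer P
  have ht0 : t ≠ 0 := fun h => by
    rw [h, map_zero] at ht; exact WithZero.exp_ne_zero ht.symm
  have htN : P.1 (t ^ N) = WithZero.exp (-(N : ℤ)) := by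
    rw [map_pow, ht, ← WithZero.exp_nsmul]
    congr 1
    simp
  refine ⟨?_, ?_⟩
  · obtain ⟨W, hW, hWa⟩ := exists_W hK P N
    haveI := hW
    let f : Fin (finrank k k') → K →ₗ[k] K' := fun i =>
      (LinearMap.mulRight k (B' i)).comp (IsScalarTower.toAlgHom k K K').toLinearMap
    refine ⟨⨆ i, W.map (f i), inferInstance, ?_⟩
    intro r hr
    have hb := hbound r hr
    choose w hw hwa using fun i => hWa (B'.repr r i) (hb i)
    refine ⟨∑ i, (B'.repr r i - w i) • B' i, ?_, ?_⟩
    · apply hadj
      intro i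
      rw [B'.repr_sum_self]
      exact hwa i
    · have e1 : r - ∑ i, (B'.repr r i - w i) • B' i = ∑ i, w i • B' i := by
        have h0 : r = ∑ i, B'.repr r i • B' i := (B'.sum_repr r).symm
        calc r - ∑ i, (B'.repr r i - w i) • B' i
            = ∑ i, B'.repr r i • B' i - ∑ i, (B'.repr r i - w i) • B' i := by rw [← h0]
          _ = ∑ i, w i • B' i := by
            rw [← Finset.sum_sub_distrib]
            refine Finset.sum_congr rfl (fun i _ => ?_)
            rw [sub_smul, sub_sub_cancel]
      rw [e1]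
      refine Submodule.sum_mem _ (fun i _ => ?_)
      apply Submodule.mem_iSup_of_mem i
      refine Submodule.mem_map.2 ⟨w i, hw i, ?_⟩
      show algebraMap K K' (w i) * B' i = _
      rw [Algebra.smul_def]
  · refine ⟨algebraMap K K' (t ^ N), ?_, ?_, ?_⟩
    · have h1 : P.1 (t ^ N) ≤ 1 := by
        rw [htN, ← WithZero.exp_zero, WithZero.exp_le_exp]; omega
      have h2 : algebraMap K K' (t ^ N) = algebraMap P.O K' ⟨t ^ N, h1⟩ :=
        (hmap ⟨t ^ N, h1⟩).symm
      rw [h2]
      exact Subalgebra.algebraMap_mem _ _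
    · exact (map_ne_zero _).2 (pow_ne_zero _ ht0)
    · intro r hr
      apply hadj
      intro i
      rw [← Algebra.smul_def, map_smul, Finsupp.smul_apply, smul_eq_mul, map_mul, htN]
      calc WithZero.exp (-(N : ℤ)) * P.1 (B'.repr r i)
          ≤ WithZero.exp (-(N : ℤ)) * WithZero.exp (N : ℤ) := mul_le_mul' le_rfl (hbound r hr i)
        _ = 1 := by rw [← WithZero.exp_add, neg_add_cancel, WithZero.exp_zero]

end Main

end Groth.Agent.H16.CD
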