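import Groth.Agent.H16.CM1
import Groth.Prelude.Def_W4bk4grassmannianPl
import Groth.Prelude.Def_CAlgX

/-! S11275: the ideal of the cell minors with at least `t` rows in the generic block equals the
ideal of `t × t` minors of the generic block. -/

universe u

namespace Groth.Agent.H16.CM

open Matrix W4bk4grassmannian MvPolynomial

variable (K : Type u) [CommRing K] (d r t : ℕ)

/-- The ideal generated by the cell minors with `θ_{d-t} ≥ d`. -/
noncomputable def cellIdeal (hd : 0 < d) (ht : 0 < t) : Ideal (CellRing K d r) :=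
  Ideal.span {f : CellRing K d r | ∃ θ : Idx d (d + r),
        d ≤ (θ.1 ⟨d - t, Nat.sub_lt hd ht⟩).val ∧ f = cellMinor K d r θ}

theorem det_rows_mem (hd : 0 < d) (ht : 0 < t) (ρ : Fin d → Fin (d + r))
    (hc : t ≤ (Finset.univ.filter fun j : Fin d => d ≤ (ρ j).val).card) :
    ((cellMatrix K d r).submatrix ρ id).det ∈ cellIdeal K d r t hd ht := by
  classical
  by_cases hρ : Function.Injective ρ
  · obtain ⟨σ, hσ⟩ := exists_sort ρ hρ
    have h1 : (((cellMatrix K d r).submatrix ρ id).submatrix σ id).det =
        Equiv.Perm.sign σ * ((cellMatrix K d r).submatrix ρ id).det := Matrix.det_permute σ _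
    have h2 : ((cellMatrix K d r).submatrix ρ id).submatrix σ id =
        (cellMatrix K d r).submatrix (ρ ∘ σ) id := by
      ext a b; simp
    have hcard : (Finset.univ.filter fun j : Fin d => d ≤ ((ρ ∘ σ) j).val).card =
        (Finset.univ.filter fun j : Fin d => d ≤ (ρ j).val).card := by
      apply Finset.card_bij (fun j _ => σ j)
      · intro j hj
        simpa using hj
      · intro a _ b _ hab
        exact σ.injective hab
      · intro b hb
        refine ⟨σ.symm b, ?_, by simp⟩
        simpa using hb
    have hle := le_of_card_le (ρ ∘ σ) hσ hd ht (by rw [hcard]; exact hc)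
    have hmem : ((cellMatrix K d r).submatrix (ρ ∘ σ) id).det ∈ cellIdeal K d r t hd ht :=
      Ideal.subset_span ⟨⟨ρ ∘ σ, hσ⟩, hle, rfl⟩
    have h3 : ((cellMatrix K d r).submatrix ρ id).det =
        ((Equiv.Perm.sign σ : ℤ) : CellRing K d r) *
          ((cellMatrix K d r).submatrix (ρ ∘ σ) id).det := by
      rw [← h2, h1, ← mul_assoc]
      have : ((Equiv.Perm.sign σ : ℤ) : CellRing K d r) *
          ((Equiv.Perm.sign σ : ℤ) : CellRing K d r) = 1 := by
        rw [← Int.cast_mul]
        have := Int.units_mul_self (Equiv.Perm.sign σ)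
        rw [← Units.val_mul, this]; simp
      rw [this, one_mul]
    rw [h3]
    exact Ideal.mul_mem_left _ _ hmem
  · have : ∃ a b, a ≠ b ∧ ρ a = ρ b := by
      by_contra hcon
      push Not at hcon
      apply hρ
      intro a b hab
      by_contra hne
      exact hcon a b hne hab
    obtain ⟨a, b, hne, hab⟩ := this
    rw [Matrix.det_zero_of_row_eq hne]
    · exact Ideal.zero_mem _
    · ext l
      simp [hab]

theorem le_minorIdeal (hd : 0 < d) (ht : 0 < t) (htd : t ≤ d) :
    cellIdeal K d r t hd ht ≤ CAlgX.minorIdeal (genMatrix K r d) t := by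
  classical
  apply Ideal.span_le.mpr
  rintro f ⟨θ, hθ, rfl⟩
  unfold cellMinor
  refine det_mem_of_rows _ t d _ (fun k : Fin t => (⟨d - t + k.val, by omega⟩ : Fin d)) ?_ ?_
  · intro a b hab
    simp only [Fin.mk.injEq] at hab
    exact Fin.ext (by omega)
  · intro c
    have hge : ∀ k : Fin t, d ≤ (θ.1 ⟨d - t + k.val, by omega⟩).val := by
      intro k
      have : θ.1 ⟨d - t, Nat.sub_lt hd ht⟩ ≤ θ.1 ⟨d - t + k.val, by omega⟩ :=
        θ.2.monotone (by simp [Fin.le_def])
      have h2 : (θ.1 ⟨d - t, Nat.sub_lt hd ht⟩).val ≤ (θ.1 ⟨d - t + k.val, by omega⟩).val := this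
      omega
    have hlt : ∀ k : Fin t, (θ.1 ⟨d - t + k.val, by omega⟩).val - d < r := by
      intro k
      have := (θ.1 ⟨d - t + k.val, by omega⟩).isLt
      have := hge k
      omega
    have heq : (((cellMatrix K d r).submatrix θ.1 id).submatrix
        (fun k : Fin t => (⟨d - t + k.val, by omega⟩ : Fin d)) c) =
        (genMatrix K r d).submatrix (fun k : Fin t => ⟨_, hlt k⟩) c := by
      ext a b
      have := hge a
      simp only [Matrix.submatrix_apply, id_eq, cellMatrix, genMatrix, Matrix.of_apply]
      rw [dif_neg (by omega)]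
    rw [heq]
    exact Ideal.subset_span ⟨(_, c), rfl⟩

theorem minorIdeal_le (hd : 0 < d) (ht : 0 < t) (htd : t ≤ d) :
    CAlgX.minorIdeal (genMatrix K r d) t ≤ cellIdeal K d r t hd ht := by
  classical
  apply Ideal.span_le.mpr
  rintro f ⟨⟨A, B⟩, rfl⟩
  simp only
  by_cases hB : Function.Injective B
  · -- the row function
    have hlt : ∀ k : Fin t, d + (A k).val < d + r := fun k => by have := (A k).isLt; omega
    let ρ : Fin d → Fin (d + r) := fun j =>
      if h : ∃ k, B k = j then ⟨d + (A h.choose).val, hlt _⟩ else ⟨j.val, by have := j.isLt; omega⟩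
    have hρB : ∀ k, ρ (B k) = ⟨d + (A k).val, hlt k⟩ := by
      intro k
      have h : ∃ k', B k' = B k := ⟨k, rfl⟩
      have hk : h.choose = k := hB h.choose_spec
      simp only [ρ, dif_pos h, hk]
    have hρn : ∀ j, j ∉ Set.range B → ρ j = ⟨j.val, by have := j.isLt; omega⟩ := by
      intro j hj
      have h : ¬ ∃ k, B k = j := fun ⟨k, hk⟩ => hj ⟨k, hk⟩
      simp only [ρ, dif_neg h]
    have hc : t ≤ (Finset.univ.filter fun j : Fin d => d ≤ (ρ j).val).card := by
      have hsub : Finset.univ.image B ⊆ Finset.univ.filter fun j : Fin d => d ≤ (ρ j).val := by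
        intro j hj
        rw [Finset.mem_image] at hj
        obtain ⟨k, _, rfl⟩ := hj
        rw [Finset.mem_filter]
        refine ⟨Finset.mem_univ _, ?_⟩
        rw [hρB]
        simp
      have := Finset.card_le_card hsub
      rwa [Finset.card_image_of_injective _ hB, Finset.card_univ, Fintype.card_fin] at this
    have hmem := det_rows_mem K d r t hd ht ρ hc
    have h1 := det_eq_submatrix_of_id_rows ((cellMatrix K d r).submatrix ρ id) B hB (by
      intro j hj l
      simp only [Matrix.submatrix_apply, id_eq, hρn j hj, cellMatrix, Matrix.of_apply]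
      rw [dif_pos j.isLt]
      by_cases hjl : j = l
      · subst hjl; simp
      · have : j.val ≠ l.val := fun h => hjl (Fin.ext h)
        simp [hjl, this])
    have h2 : (((cellMatrix K d r).submatrix ρ id).submatrix B B) =
        (genMatrix K r d).submatrix A B := by
      ext a b
      simp only [Matrix.submatrix_apply, id_eq, hρB, cellMatrix, genMatrix, Matrix.of_apply]
      rw [dif_neg (by omega)]
      simp only [Nat.add_sub_cancel_left, Fin.eta]
    rw [← h2, ← h1]
    exact hmem
  · have : ∃ a b, a ≠ b ∧ B a = B b := by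
      by_contra hcon
      push Not at hcon
      apply hB
      intro a b hab
      by_contra hne
      exact hcon a b hne hab
    obtain ⟨a, b, hne, hab⟩ := this
    rw [Matrix.det_zero_of_column_eq hne]
    · exact Ideal.zero_mem _
    · intro k
      simp [hab]

theorem main (hd : 0 < d) (ht : 0 < t) (htd : t ≤ d) :
    Ideal.span {f : CellRing K d r | ∃ θ : Idx d (d + r),
        d ≤ (θ.1 ⟨d - t, Nat.sub_lt hd ht⟩).val ∧ f = cellMinor K d r θ} =
      CAlgX.minorIdeal (genMatrix K r d) t :=
  le_antisymm (le_minorIdeal K d r t hd ht htd) (minorIdeal_le K d r t hd ht htd)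

end Groth.Agent.H16.CM
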