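import Groth.Agent.H16.Taylor2
import Groth.Agent.Lib.Helper17.FF20
set_option autoImplicit false
set_option linter.unusedSimpArgs false

namespace Groth.Agent.Helper16.Hasse

open FunFld Module Groth.Agent.Helper17.FF Groth.Agent.Helper16.Emb

variable {k K : Type*} [Field k] [Field K] [Algebra k K]

theorem single_nonneg_apply (P R : Place k K) {a : ℤ} (ha : 0 ≤ a) :
    (0 : ℤ) ≤ (Finsupp.single P a : Divisor k K) R := by
  classical
  rw [Finsupp.single_apply]; split_ifs <;> simp [ha]

/-- canonical orders and gaps -/
theorem canon_gap [IsAlgClosed k] (hK : IsFunctionField k K) {C' : Divisor k K}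
    (hC' : IsCanonical k K C') (P : Place k K) (h1 : (1 : K) ∈ L C')
    (hreg : ∀ f ∈ L C', P.1 f ≤ 1) {j : ℕ} (hj : 1 ≤ j) :
    (∃ f ∈ L C', P.1 f = WithZero.exp (-(j : ℤ))) ↔
      L (Finsupp.single P ((j : ℤ) + 1) : Divisor k K) = L (Finsupp.single P (j : ℤ)) := by
  classical
  obtain ⟨hellC, hdegC⟩ := (isCanonical_iff hK C').mp hC'
  have hdP : P.deg = 1 := Groth.Agent.Helper16.LLS.deg_eq_one hK P
  -- (1) `C' P = 0`
  have hCP : C' P = 0 := by
    have h0 : 0 ≤ C' P := by
      have := h1 P
      rw [map_one, ← WithZero.exp_zero, WithZero.exp_le_exp] at this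
      exact this
    by_contra hne
    have hpos : 1 ≤ C' P := by omega
    have hle : L C' ≤ L (C' - Finsupp.single P 1) := by
      intro f hf R
      by_cases hR : R = P
      · subst hR
        rw [Finsupp.sub_apply, Finsupp.single_eq_same]
        refine (hreg f hf).trans ?_
        rw [← WithZero.exp_zero, WithZero.exp_le_exp]
        omega
      · rw [Finsupp.sub_apply, Finsupp.single_eq_of_ne (Ne.symm (Ne.symm hR)), sub_zero]
        exact hf R
    have := L_finite hK (C' - Finsupp.single P 1)
    have h2 : ell C' ≤ ell (C' - Finsupp.single P 1) := Submodule.finrank_mono hle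
    have h3 := riemann_roch hK hC' (Finsupp.single P 1)
    rw [deg_single, hdP] at h3
    have h4 : ell (C' - Finsupp.single P 1) ≤ ell C' := by
      have := L_finite hK C'
      apply Submodule.finrank_mono
      apply L_mono
      intro R
      rw [Finsupp.sub_apply]
      have := single_nonneg_apply (k := k) (K := K) P R (by norm_num : (0 : ℤ) ≤ 1)
      linarith
    have h5 : ell (C' - Finsupp.single P 1) = genus k K := by omega
    rw [h5] at h3
    have h6 : 2 ≤ ell (Finsupp.single P 1 : Divisor k K) := by
      have : (ell (Finsupp.single P 1 : Divisor k K) : ℤ) = 2 := by push_cast at h3 ⊢; linarith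
      omega
    have hg0 := genus_eq_zero_of_ell_single hK hdP h6
    rw [hg0] at hdegC
    have hbot := L_eq_bot_of_deg_neg hK C' (by rw [hdegC]; norm_num)
    rw [hbot, Submodule.mem_bot] at h1
    exact one_ne_zero h1
  set Dj : Divisor k K := Finsupp.single P (j : ℤ) with hDj
  set Dj1 : Divisor k K := Finsupp.single P ((j : ℤ) + 1) with hDj1
  have hsub : C' - Dj1 = (C' - Dj) - Finsupp.single P 1 := by
    rw [hDj, hDj1, Finsupp.single_add]; abel
  have hle1 : Dj ≤ Dj1 := by
    intro R
    rw [hDj, hDj1]
    classical
    rw [Finsupp.single_apply, Finsupp.single_apply]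
    split_ifs <;> omega
  have := L_finite hK (C' - Dj)
  have := L_finite hK (C' - Dj1)
  have := L_finite hK Dj
  have := L_finite hK Dj1
  have hba : ell (C' - Dj1) ≤ ell (C' - Dj) := by
    apply Submodule.finrank_mono
    apply L_mono
    intro R
    have := hle1 R
    rw [Finsupp.sub_apply, Finsupp.sub_apply]
    linarith
  have hmono : ell Dj ≤ ell Dj1 := Submodule.finrank_mono (L_mono hle1)
  have hstep := ell_le hK hle1
  have hdegs : Dj1.deg - Dj.deg = 1 := by
    rw [hDj, hDj1, deg_single, deg_single, hdP]; push_cast; ring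
  have rr1 := riemann_roch hK hC' Dj
  have rr2 := riemann_roch hK hC' Dj1
  -- (2)
  have h2 : (∃ f ∈ L C', P.1 f = WithZero.exp (-(j : ℤ))) ↔ ell (C' - Dj1) < ell (C' - Dj) := by
    constructor
    · rintro ⟨f, hf, hfP⟩
      apply Submodule.finrank_lt_finrank_of_lt
      refine lt_of_le_of_ne (L_mono ?_) ?_
      · intro R
        have := hle1 R
        rw [Finsupp.sub_apply, Finsupp.sub_apply]
        linarith
      · intro heq
        have hfj : f ∈ L (C' - Dj) := by
          intro R
          by_cases hR : R = P
          · subst hR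
            rw [Finsupp.sub_apply, hDj, Finsupp.single_eq_same, hCP, zero_sub, hfP]
          · rw [Finsupp.sub_apply, hDj, Finsupp.single_eq_of_ne (Ne.symm (Ne.symm hR)), sub_zero]
            exact hf R
        rw [← heq, hsub] at hfj
        have hval : P.1 f = WithZero.exp ((C' - Dj) P) := by
          rw [Finsupp.sub_apply, hDj, Finsupp.single_eq_same, hCP, zero_sub, hfP]
        exact not_mem_of_val_eq hval hfj
    · intro hlt
      have hnle : ¬ L (C' - Dj) ≤ L (C' - Dj1) := by
        intro hle
        have := Submodule.finrank_mono hle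
        unfold ell at hlt
        omega
      rw [SetLike.not_le_iff_exists] at hnle
      obtain ⟨f, hf1, hf2⟩ := hnle
      rw [hsub] at hf2
      have hval := val_eq_of_not_mem hf1 hf2
      rw [Finsupp.sub_apply, hDj, Finsupp.single_eq_same, hCP, zero_sub] at hval
      refine ⟨f, L_mono ?_ hf1, hval⟩
      intro R
      rw [Finsupp.sub_apply]
      have := single_nonneg_apply (k := k) (K := K) P R (Int.natCast_nonneg j)
      linarith
  rw [h2]
  constructor
  · intro hlt
    apply le_antisymm
    · have heq : ell Dj1 = ell Dj := by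
        have : (ell (C' - Dj1) : ℤ) < ell (C' - Dj) := by exact_mod_cast hlt
        have : (ell Dj1 : ℤ) = ell Dj := by linarith
        exact_mod_cast this
      have := Submodule.eq_of_le_of_finrank_eq (L_mono hle1) (by unfold ell at heq; exact heq.symm)
      rw [this]
    · exact L_mono hle1
  · intro heq
    have : (ell Dj1 : ℤ) = ell Dj := by unfold ell; rw [heq]
    have : (ell (C' - Dj1) : ℤ) < ell (C' - Dj) := by linarith
    exact_mod_cast this

end Groth.Agent.Helper16.Hasse
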