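import Groth.Agent.H16.SV13
set_option autoImplicit false
set_option linter.unusedSimpArgs false

namespace Groth.Agent.Helper16.Hasse

open FunFld Module Groth.Agent.Helper17.FF

variable {k K : Type*} [Field k] [Field K] [Algebra k K] {n : ℕ}

theorem linearIndependent_comb (φ : Fin (n + 1) → K) (hφ : LinearIndependent k φ)
    (A : Matrix (Fin (n + 1)) (Fin (n + 1)) k) (hA : A.det ≠ 0) :
    LinearIndependent k (fun i => ∑ j, A i j • φ j) := by
  classical
  rw [Fintype.linearIndependent_iff]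
  intro g hg
  have h1 : ∑ i, g i • ∑ j, A i j • φ j = ∑ j, (∑ i, g i * A i j) • φ j := by
    simp_rw [Finset.smul_sum, smul_smul]
    rw [Finset.sum_comm]
    refine Finset.sum_congr rfl fun j _ => ?_
    rw [Finset.sum_smul]
  rw [h1] at hg
  have h2 := Fintype.linearIndependent_iff.mp hφ _ hg
  have h3 : Matrix.vecMul g A = 0 := by
    funext j
    exact h2 j
  have h4 := Matrix.eq_zero_of_vecMul_eq_zero hA h3
  intro i
  rw [h4]
  rfl

theorem comb_inv (φ : Fin (n + 1) → K) (A : Matrix (Fin (n + 1)) (Fin (n + 1)) k)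
    (hA : A.det ≠ 0) (i : Fin (n + 1)) :
    ∑ j, A⁻¹ i j • ∑ l, A j l • φ l = φ i := by
  classical
  have h1 : ∑ j, A⁻¹ i j • ∑ l, A j l • φ l = ∑ l, (∑ j, A⁻¹ i j * A j l) • φ l := by
    simp_rw [Finset.smul_sum, smul_smul]
    rw [Finset.sum_comm]
    refine Finset.sum_congr rfl fun j _ => ?_
    rw [Finset.sum_smul]
  rw [h1]
  have h2 : ∀ l, ∑ j, A⁻¹ i j * A j l = (1 : Matrix (Fin (n + 1)) (Fin (n + 1)) k) i l := by
    intro l
    rw [← Matrix.mul_apply, Matrix.nonsing_inv_mul A (isUnit_iff_ne_zero.mpr hA)]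
  simp_rw [h2, Matrix.one_apply, ite_smul, one_smul, zero_smul]
  rw [Finset.sum_ite_eq]
  simp

/-- the divisor of an equivalent map -/
theorem mapDiv_comb (hK : IsFunctionField k K) (P : Place k K) (φ φ' : Fin (n + 1) → K)
    (hφ : LinearIndependent k φ) (y : K) (hy : y ≠ 0)
    (A : Matrix (Fin (n + 1)) (Fin (n + 1)) k) (hA : A.det ≠ 0)
    (h : ∀ i, φ' i = y * ∑ j, A i j • φ j) :
    mapDiv k φ' P = mapDiv k φ P - P.ord y := by
  classical
  have hφ0 : ∀ i, φ i ≠ 0 := fun i => hφ.ne_zero i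
  have hφ₁ := linearIndependent_comb φ hφ A hA
  have hφ'0 : ∀ i, φ' i ≠ 0 := by
    intro i
    rw [h i]
    exact mul_ne_zero hy (hφ₁.ne_zero i)
  have hinv : ∀ i, φ i = y⁻¹ * ∑ j, A⁻¹ i j • φ' j := by
    intro i
    have e : ∀ j, A⁻¹ i j • φ' j = y * (A⁻¹ i j • ∑ l, A j l • φ l) := by
      intro j
      rw [h j, mul_smul_comm]
    simp_rw [e]
    rw [← Finset.mul_sum, comb_inv φ A hA i, ← mul_assoc, inv_mul_cancel₀ hy, one_mul]
  have h1 := mapDiv_le_of_comb hK P φ φ' hφ0 hφ'0 y A h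
  have h2 := mapDiv_le_of_comb hK P φ' φ hφ'0 hφ0 y⁻¹ A⁻¹ hinv
  rw [val_eq_exp_neg_ord P hy, ← WithZero.exp_add, WithZero.exp_le_exp] at h1
  rw [val_eq_exp_neg_ord P (inv_ne_zero hy), ord_inv, ← WithZero.exp_add,
    WithZero.exp_le_exp] at h2
  omega

end Groth.Agent.Helper16.Hasse
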