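import Groth.Agent.H16.SV9
import Groth.Agent.Lib.Helper17.FFW3
set_option autoImplicit false
set_option linter.unusedSimpArgs false

namespace Groth.Agent.Helper16.Hasse

open FunFld Module Groth.Agent.Helper17.FF

variable {k K : Type*} [Field k] [Field K] [Algebra k K] {n : ℕ}

theorem residue_isSeparable [IsAlgClosed k] (hK : IsFunctionField k K) (P : Place k K) :
    Algebra.IsSeparable k (IsLocalRing.ResidueField P.O) := by
  have hb := algebraMap_bijective hK P
  refine ⟨fun x => ?_⟩
  obtain ⟨c, rfl⟩ := hb.2 x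
  exact isSeparable_algebraMap c

open scoped KaehlerDifferential in
/-- `dx = D_s(x) ds` -/
theorem D_eq_smul_D (hK : IsFunctionField k K) (hg : IsGeometric k K) {s : K}
    (Hs : K →ₐ[k] PowerSeries K) (hHs : LocRes.IsHasseFamily s Hs) (x : K) :
    KaehlerDifferential.D k K x = LocRes.hasseD Hs 1 x • KaehlerDifferential.D k K s := by
  have hs := Groth.Agent.Helper17.Hasse.D_ne_zero_of_isHasseFamily hHs
  have h1 := (finrank_eq_one_iff_of_nonzero' (KaehlerDifferential.D k K s) hs).mp
    (finrank_kaehler hK hg)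
  obtain ⟨a, ha⟩ := h1 (KaehlerDifferential.D k K x)
  have h2 := congrArg (Derivation.liftKaehlerDifferential
    (Groth.Agent.Helper17.Hasse.derivOne s Hs hHs)) ha
  rw [map_smul, Derivation.liftKaehlerDifferential_comp_D,
    Derivation.liftKaehlerDifferential_comp_D, Groth.Agent.Helper17.Hasse.derivOne_self,
    Groth.Agent.Helper17.Hasse.derivOne_apply, smul_eq_mul, mul_one] at h2
  rw [← ha, h2]
  rfl

theorem hasseD_one_ne_zero [IsAlgClosed k] (hK : IsFunctionField k K) (P : Place k K) {s : K}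
    (Hs : K →ₐ[k] PowerSeries K) (hHs : LocRes.IsHasseFamily s Hs) {t : K}
    (ht : P.1 t = WithZero.exp (-1 : ℤ)) : LocRes.hasseD Hs 1 t ≠ 0 := by
  have hg := isGeometric_of_perfect k K hK
  haveI := residue_isSeparable hK P
  have h1 := D_uniformizer_ne_zero hK hg P t ht
  intro h0
  apply h1
  rw [D_eq_smul_D hK hg Hs hHs t, h0, zero_smul]

/-- the columns of Hasse derivatives (with respect to a local parameter) of a `k`-independent tuple
integral at `P` span `K^(n+1)` -/
theorem span_hcol_eq_top [IsAlgClosed k] (hK : IsFunctionField k K) (P : Place k K) {t : K}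
    (ht : P.1 t = WithZero.exp (-1 : ℤ)) (Ht : K →ₐ[k] PowerSeries K)
    (hHt : LocRes.IsHasseFamily t Ht) (ψ : Fin (n + 1) → K) (hψ : LinearIndependent k ψ)
    (hint : ∀ i, P.1 (ψ i) ≤ 1) (τ : K →ₐ[k] K) :
    Submodule.span K (Set.range (hcol τ Ht ψ)) = ⊤ := by
  classical
  by_contra hne
  obtain ⟨f, hf0, hfker⟩ := Submodule.exists_le_ker_of_lt_top _ (lt_top_iff_ne_top.mpr hne)
  -- rows independent
  have hD : ∀ (i : Fin (n + 1)) (j : ℕ), P.1 (LocRes.hasseD Ht j (ψ i)) ≤ 1 := fun i j =>
    hasse_mem_SP hK P ht Ht hHt (hint i) j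
  have hres : LinearIndependent (IsLocalRing.ResidueField P.O)
      (fun i : Fin (n + 1) => fun j : ℕ => evalP P (LocRes.hasseD Ht j (ψ i))) := by
    rw [Fintype.linearIndependent_iff]
    intro β hβ
    have hsurj := (algebraMap_bijective hK P).2
    choose c hc using fun i => hsurj (β i)
    obtain ⟨g, hg⟩ : ∃ g : K, g = ∑ i, c i • ψ i := ⟨_, rfl⟩
    have hsm : ∀ (j : ℕ) (i : Fin (n + 1)), P.1 (c i • LocRes.hasseD Ht j (ψ i)) ≤ 1 := by
      intro j i
      rw [Algebra.smul_def, map_mul]
      calc P.1 (algebraMap k K (c i)) * P.1 (LocRes.hasseD Ht j (ψ i)) ≤ 1 * 1 :=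
            mul_le_mul' (P.2.1 (c i)) (hD i j)
        _ = 1 := one_mul _
    have hgle : P.1 g ≤ 1 := by
      rw [hg]
      apply Valuation.map_sum_le
      intro i _
      have := hsm 0 i
      rwa [hasseD_zero Ht hHt] at this
    have hev : ∀ j : ℕ, evalP P (LocRes.hasseD Ht j g) = 0 := by
      intro j
      rw [hg, hasseD_sum_smul, evalP_sum P _ _ (fun i _ => hsm j i)]
      have h1 := congrFun hβ j
      simp only [Finset.sum_apply, Pi.smul_apply, smul_eq_mul, Pi.zero_apply] at h1
      rw [← h1]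
      refine Finset.sum_congr rfl fun i _ => ?_
      rw [evalP_smul P _ (hD i j), Algebra.smul_def, hc]
    have hall : ∀ j : ℕ, P.1 g ≤ WithZero.exp (-(j : ℤ)) := fun j =>
      val_le_of_taylor_zero hK P ht Ht hHt hgle j (fun m _ => hev m)
    have hg0 : g = 0 := by
      by_contra hne
      have hv : P.1 g ≠ 0 := (map_ne_zero P.1).mpr hne
      obtain ⟨a, ha⟩ : ∃ a : ℤ, P.1 g = WithZero.exp a := ⟨_, (WithZero.exp_log hv).symm⟩
      have h1 := hall ((-a).toNat + 1)
      rw [ha, WithZero.exp_le_exp] at h1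
      have h2 := Int.self_le_toNat (-a)
      push_cast at h1
      omega
    rw [hg] at hg0
    have hc0 := Fintype.linearIndependent_iff.mp hψ c hg0
    intro i
    rw [← hc i, hc0 i, map_zero]
  have hrows := rows_indep_of_residue P
    (Matrix.of fun (i : Fin (n + 1)) (j : ℕ) => LocRes.hasseD Ht j (ψ i)) (fun i j => hD i j) hres
  apply hf0
  have hcoef := Fintype.linearIndependent_iff.mp hrows (fun i => f (fun j => if i = j then 1 else 0)) (by
    funext j
    simp only [Finset.sum_apply, Pi.smul_apply, smul_eq_mul, Pi.zero_apply, Matrix.of_apply]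
    have h1 : hcol τ Ht ψ (j + 1) ∈ LinearMap.ker f :=
      hfker (Submodule.subset_span ⟨j + 1, rfl⟩)
    rw [LinearMap.mem_ker, LinearMap.pi_apply_eq_sum_univ f] at h1
    refine Eq.trans (Finset.sum_congr rfl fun i _ => ?_) h1
    rw [smul_eq_mul, mul_comm]
    rfl)
  refine LinearMap.ext fun v => ?_
  rw [LinearMap.pi_apply_eq_sum_univ f v, LinearMap.zero_apply]
  apply Finset.sum_eq_zero
  intro i _
  rw [hcoef i, smul_zero]

end Groth.Agent.Helper16.Hasse
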