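import Groth.Agent.H16.SV2
set_option autoImplicit false
set_option linter.unusedSimpArgs false

namespace Groth.Agent.Helper16.Hasse

open FunFld Module Groth.Agent.Helper17.FF

variable {k K : Type*} [Field k] [Field K] [Algebra k K] {n : ℕ}

/-- Valuation of the generalized Wronskian determinant of an adapted basis at a fixed place. -/
theorem wr_adapted [IsAlgClosed k] (hK : IsFunctionField k K) (τ : K →ₐ[k] K) (P : Place k K)
    (hP : IsFixedPt τ P) {t : K} (ht : P.1 t = WithZero.exp (-1 : ℤ)) (H : K →ₐ[k] PowerSeries K)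
    (hH : LocRes.IsHasseFamily t H) (ψ : Fin (n + 1) → K) (J : Fin n → ℕ)
    (h0v : P.1 (ψ 0) = 1) (h0e : evalP P (ψ 0) = 1)
    (hl : ∀ l : Fin n, P.1 (ψ l.succ) = WithZero.exp (-(J l : ℤ)) ∧
      evalP P (ψ l.succ / t ^ J l) = 1)
    (hJpos : ∀ l, 1 ≤ J l)
    (I : Fin n → ℕ) :
    P.1 (wrMat τ H ψ I).det ≤ WithZero.exp (-(∑ l, ((J l : ℤ) - I l))) ∧
    (((∀ l, 0 < I l) ∨ IsStrongFixedPt τ P) →
      (P.1 (wrMat τ H ψ I).det = WithZero.exp (-(∑ l, ((J l : ℤ) - I l))) ↔
        (binomMat k J I).det ≠ 0)) := by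
  classical
  have ht0 : t ≠ 0 := t_ne_zero hK P ht H hH
  obtain ⟨jj, hjj⟩ : ∃ jj : Fin (n + 1) → ℕ, jj = Fin.cases 0 J := ⟨_, rfl⟩
  have hjj0 : jj 0 = 0 := by rw [hjj]; rfl
  have hjjs : ∀ l : Fin n, jj l.succ = J l := fun l => by rw [hjj]; rfl
  have hψv : ∀ i, P.1 (ψ i) ≤ WithZero.exp (-(jj i : ℤ)) := by
    intro i
    refine Fin.cases ?_ (fun l => ?_) i
    · rw [hjj0, h0v]; simp
    · rw [hjjs, (hl l).1]
  obtain ⟨S, hS⟩ : ∃ S : Fin (n + 1) → K, S = Fin.cases 1 (fun l => t ^ I l) := ⟨_, rfl⟩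
  have hS0 : S 0 = 1 := by rw [hS]; rfl
  have hSs : ∀ l : Fin n, S l.succ = t ^ I l := fun l => by rw [hS]; rfl
  obtain ⟨N, hN⟩ : ∃ N : Matrix (Fin (n + 1)) (Fin (n + 1)) K,
      N = Matrix.of fun i c => wrMat τ H ψ I i c * S c / t ^ jj i := ⟨_, rfl⟩
  have hscale := det_scale (wrMat τ H ψ I) N (fun i => t ^ jj i) S (by
    intro i c
    rw [hN, Matrix.of_apply]
    field_simp)
  have hprodS : ∏ c, S c = t ^ (∑ l, I l) := by
    rw [Fin.prod_univ_succ, hS0, one_mul, ← Finset.prod_pow_eq_pow_sum]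
    exact Finset.prod_congr rfl fun l _ => hSs l
  have hprodr : ∏ i, t ^ jj i = t ^ (∑ l, J l) := by
    rw [Fin.prod_univ_succ, hjj0, pow_zero, one_mul, ← Finset.prod_pow_eq_pow_sum]
    exact Finset.prod_congr rfl fun l _ => by rw [hjjs]
  have hpow : ∀ m : ℕ, P.1 (t ^ m) = WithZero.exp (-(m : ℤ)) := by
    intro m
    rw [map_pow, ht, ← WithZero.exp_nsmul]; congr 1; simp
  -- entries of N
  have hN0 : ∀ i, N i 0 = τ (ψ i) / t ^ jj i := by
    intro i
    rw [hN, Matrix.of_apply, hS0, mul_one]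
    rfl
  have hNs : ∀ i (l : Fin n), N i l.succ = LocRes.hasseD H (I l) (ψ i) * t ^ I l / t ^ jj i := by
    intro i l
    rw [hN, Matrix.of_apply, hSs]
    rfl
  have hNle : ∀ i c, P.1 (N i c) ≤ 1 := by
    intro i c
    refine Fin.cases ?_ (fun l => ?_) c
    · rw [hN0]
      exact val_div_pow P ht (tau_val_pow_le hK hP ht (hψv i))
    · rw [hNs]
      exact (hasse_entry hK P ht H hH (hψv i) (I l)).1
  obtain ⟨hdetle, hdetev⟩ := det_regular P N hNle
  -- the valuation identity
  have hE : P.1 (wrMat τ H ψ I).det =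
      WithZero.exp (-(∑ l, ((J l : ℤ) - I l))) * P.1 N.det := by
    have h1 := congrArg P.1 hscale
    rw [map_mul, map_mul, hprodS, hprodr, hpow, hpow] at h1
    have h2 : P.1 (wrMat τ H ψ I).det =
        WithZero.exp (-((∑ l, J l : ℕ) : ℤ)) * P.1 N.det * (WithZero.exp (-((∑ l, I l : ℕ) : ℤ)))⁻¹ := by
      rw [eq_mul_inv_iff_mul_eq₀ WithZero.exp_ne_zero]
      exact h1
    rw [h2, ← WithZero.exp_neg, mul_right_comm, ← WithZero.exp_add]
    congr 2
    rw [Finset.sum_sub_distrib]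
    push_cast
    ring
  refine ⟨?_, ?_⟩
  · rw [hE]
    calc WithZero.exp (-(∑ l, ((J l : ℤ) - I l))) * P.1 N.det
        ≤ WithZero.exp (-(∑ l, ((J l : ℤ) - I l))) * 1 := mul_le_mul' le_rfl hdetle
      _ = _ := mul_one _
  · intro hcase
    have hstep1 : P.1 (wrMat τ H ψ I).det = WithZero.exp (-(∑ l, ((J l : ℤ) - I l))) ↔
        evalP P N.det ≠ 0 := by
      rw [hE, mul_eq_left₀ WithZero.exp_ne_zero, Ne, evalP_eq_zero_iff P hdetle, not_lt]
      constructor
      · intro h; exact le_of_eq h.symm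
      · intro h; exact le_antisymm hdetle h
    rw [hstep1, hdetev]
    -- the residue matrix
    obtain ⟨Nb, hNb⟩ : ∃ Nb : Matrix (Fin (n + 1)) (Fin (n + 1)) (IsLocalRing.ResidueField P.O),
        Nb = Matrix.of fun i c => evalP P (N i c) := ⟨_, rfl⟩
    rw [← hNb]
    have h00 : Nb 0 0 = 1 := by
      rw [hNb, Matrix.of_apply, hN0, hjj0, pow_zero, div_one, evalP_tau hK hP (le_of_eq h0v), h0e]
    have hss : ∀ r l : Fin n, Nb r.succ l.succ =
        (((J r).choose (I l) : ℕ) : IsLocalRing.ResidueField P.O) := by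
      intro r l
      rw [hNb, Matrix.of_apply, hNs, (hasse_entry hK P ht H hH (hψv r.succ) (I l)).2, hjjs,
        (hl r).2, mul_one]
    have hsub : Nb.submatrix Fin.succ Fin.succ =
        (algebraMap k (IsLocalRing.ResidueField P.O)).mapMatrix (binomMat k J I) := by
      ext r l
      rw [Matrix.submatrix_apply, hss, RingHom.mapMatrix_apply, Matrix.map_apply]
      unfold binomMat
      rw [Matrix.of_apply, map_natCast]
    have hdet : Nb.det = algebraMap k (IsLocalRing.ResidueField P.O) (binomMat k J I).det := by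
      rw [RingHom.map_det, ← hsub]
      rcases hcase with hI | hS
      · have h0s : ∀ l : Fin n, Nb 0 l.succ = 0 := by
          intro l
          rw [hNb, Matrix.of_apply, hNs, (hasse_entry hK P ht H hH (hψv 0) (I l)).2, hjj0,
            Nat.choose_eq_zero_of_lt (hI l), Nat.cast_zero, zero_mul]
        rw [Matrix.det_succ_row_zero, Finset.sum_eq_single 0]
        · rw [h00, Fin.succAbove_zero]; simp
        · intro j _ hj
          obtain ⟨l, rfl⟩ := Fin.exists_succ_eq_of_ne_zero hj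
          rw [h0s]; simp
        · intro h; exact absurd (Finset.mem_univ _) h
      · have hs0 : ∀ r : Fin n, Nb r.succ 0 = 0 := by
          intro r
          rw [hNb, Matrix.of_apply, hN0, hjjs]
          have hle : P.1 (τ (ψ r.succ) / t ^ J r) < 1 := by
            rw [val_div_pow_eq P ht]
            calc P.1 (τ (ψ r.succ)) * WithZero.exp ((J r : ℕ) : ℤ)
                ≤ WithZero.exp (-((2 * J r : ℕ) : ℤ)) * WithZero.exp ((J r : ℕ) : ℤ) :=
                  mul_le_mul' (tau_val_pow_le_strong hK hS ht (le_of_eq (hl r).1)) le_rfl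
              _ = WithZero.exp (-((J r : ℕ) : ℤ)) := by
                  rw [← WithZero.exp_add]; congr 1; push_cast; ring
              _ < 1 := exp_neg_pos_lt_one (hJpos r)
          exact (evalP_eq_zero_iff P (le_of_lt hle)).mpr hle
        rw [Matrix.det_succ_column_zero, Finset.sum_eq_single 0]
        · rw [h00, Fin.succAbove_zero]; simp
        · intro j _ hj
          obtain ⟨l, rfl⟩ := Fin.exists_succ_eq_of_ne_zero hj
          rw [hs0]; simp
        · intro h; exact absurd (Finset.mem_univ _) h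
    rw [hdet]
    exact map_ne_zero _

end Groth.Agent.Helper16.Hasse
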