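import Groth.Agent.H16.Taylor
set_option autoImplicit false
set_option linter.unusedSimpArgs false

namespace Groth.Agent.Helper16.Hasse

open FunFld Module Groth.Agent.Helper17.FF

variable {k K : Type*} [Field k] [Field K] [Algebra k K] {n : ℕ}

theorem hasseD_zero {t : K} (H : K →ₐ[k] PowerSeries K) (hH : LocRes.IsHasseFamily t H) (y : K) :
    LocRes.hasseD H 0 y = y := by
  rw [LocRes.hasseD_apply, PowerSeries.coeff_zero_eq_constantCoeff_apply, hH.2]

theorem hasseD_sum_smul (H : K →ₐ[k] PowerSeries K) (m : ℕ) {ι : Type*} (s : Finset ι)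
    (c : ι → k) (φ : ι → K) :
    LocRes.hasseD H m (∑ i ∈ s, c i • φ i) = ∑ i ∈ s, c i • LocRes.hasseD H m (φ i) := by
  have := map_sum ((PowerSeries.coeff (R := K) m).restrictScalars k ∘ₗ H.toLinearMap)
    (fun i => c i • φ i) s
  simp only [LinearMap.coe_comp, LinearMap.coe_restrictScalars, Function.comp_apply,
    AlgHom.toLinearMap_apply, map_smul] at this
  exact this

theorem hcolAt_zero_eq {t : K} (P : Place k K) (H : K →ₐ[k] PowerSeries K)
    (hH : LocRes.IsHasseFamily t H) (φ : Fin (n + 1) → K) :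
    hcolAt P H φ 0 = hcolAt P H φ 1 := by
  funext i
  show evalP P (φ i) = evalP P (LocRes.hasseD H 0 (φ i))
  rw [hasseD_zero H hH]

variable [IsAlgClosed k] (hK : IsFunctionField k K) (P : Place k K) {t : K}
  (ht : P.1 t = WithZero.exp (-1 : ℤ)) (H : K →ₐ[k] PowerSeries K)
  (hH : LocRes.IsHasseFamily t H)

include hK ht hH

theorem dot_hcolAt (φ : Fin (n + 1) → K) (hφ : ∀ i, P.1 (φ i) ≤ 1) (c : Fin (n + 1) → k)
    (m : ℕ) :
    ∑ i, algebraMap k (IsLocalRing.ResidueField P.O) (c i) * hcolAt P H φ (m + 1) i =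
      evalP P (LocRes.hasseD H m (∑ i, c i • φ i)) := by
  rw [hasseD_sum_smul, evalP_sum]
  · refine Finset.sum_congr rfl (fun i _ => ?_)
    have hle : P.1 (LocRes.hasseD H m (φ i)) ≤ 1 := hasse_mem_SP hK P ht H hH (hφ i) m
    rw [evalP_smul P (c i) hle, Algebra.smul_def]
    rfl
  · intro i _
    rw [Algebra.smul_def, map_mul]
    have hle : P.1 (LocRes.hasseD H m (φ i)) ≤ 1 := hasse_mem_SP hK P ht H hH (hφ i) m
    calc P.1 (algebraMap k K (c i)) * P.1 (LocRes.hasseD H m (φ i)) ≤ 1 * 1 :=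
          mul_le_mul' (P.2.1 _) hle
      _ = 1 := one_mul _

theorem val_sum_smul_le (φ : Fin (n + 1) → K) (hφ : ∀ i, P.1 (φ i) ≤ 1) (c : Fin (n + 1) → k) :
    P.1 (∑ i, c i • φ i) ≤ 1 := by
  apply Valuation.map_sum_le
  intro i _
  rw [Algebra.smul_def, map_mul]
  calc P.1 (algebraMap k K (c i)) * P.1 (φ i) ≤ 1 * 1 := mul_le_mul' (P.2.1 _) (hφ i)
    _ = 1 := one_mul _

/-- `j ≥ 1` is an order of `φ` at `P` iff some function in the span has order `j` at `P` -/
theorem jump_iff (φ : Fin (n + 1) → K) (hφ : ∀ i, P.1 (φ i) ≤ 1) {j : ℕ} (hj : 1 ≤ j) :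
    IsJump (IsLocalRing.ResidueField P.O) (hcolAt P H φ) (j + 1) ↔
      ∃ f ∈ Submodule.span k (Set.range φ), P.1 f = WithZero.exp (-(j : ℤ)) := by
  classical
  constructor
  · intro hjump
    unfold IsJump at hjump
    obtain ⟨Λ, hΛx, hΛp⟩ := Submodule.exists_dual_map_eq_bot_of_notMem hjump inferInstance
    have hsurj := (algebraMap_bijective hK P).2
    choose c hc using fun i : Fin (n + 1) =>
      hsurj (Λ (fun l => if i = l then 1 else 0))
    have hΛ : ∀ v : Fin (n + 1) → IsLocalRing.ResidueField P.O,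
        Λ v = ∑ i, algebraMap k (IsLocalRing.ResidueField P.O) (c i) * v i := by
      intro v
      rw [LinearMap.pi_apply_eq_sum_univ Λ v]
      refine Finset.sum_congr rfl (fun i _ => ?_)
      rw [hc, smul_eq_mul, mul_comm]
    refine ⟨∑ i, c i • φ i, ?_, ?_⟩
    · exact Submodule.sum_mem _ (fun i _ => Submodule.smul_mem _ _
        (Submodule.subset_span (Set.mem_range_self i)))
    · have hkill : ∀ m < j, evalP P (LocRes.hasseD H m (∑ i, c i • φ i)) = 0 := by
        intro m hm
        rw [← dot_hcolAt hK P ht H hH φ hφ c m, ← hΛ]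
        have : Λ (hcolAt P H φ (m + 1)) ∈
            (Submodule.span (IsLocalRing.ResidueField P.O)
              (hcolAt P H φ '' Set.Iio (j + 1))).map Λ :=
          Submodule.mem_map_of_mem (Submodule.subset_span ⟨m + 1, by simp; omega, rfl⟩)
        rw [hΛp, Submodule.mem_bot] at this
        exact this
      have hle := val_le_of_taylor_zero hK P ht H hH (val_sum_smul_le hK P ht H hH φ hφ c) j hkill
      rw [← taylor_ne_zero_iff hK P ht H hH hle, ← dot_hcolAt hK P ht H hH φ hφ c j, ← hΛ]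
      exact hΛx
  · rintro ⟨f, hfW, hfP⟩
    rw [Submodule.mem_span_range_iff_exists_fun] at hfW
    obtain ⟨c, rfl⟩ := hfW
    unfold IsJump
    intro hmem
    set Λ : (Fin (n + 1) → IsLocalRing.ResidueField P.O) →ₗ[IsLocalRing.ResidueField P.O]
        IsLocalRing.ResidueField P.O :=
      ∑ i, (algebraMap k (IsLocalRing.ResidueField P.O) (c i)) •
        (LinearMap.proj i : (Fin (n + 1) → IsLocalRing.ResidueField P.O) →ₗ[_] _) with hΛdef
    have hΛ : ∀ v : Fin (n + 1) → IsLocalRing.ResidueField P.O,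
        Λ v = ∑ i, algebraMap k (IsLocalRing.ResidueField P.O) (c i) * v i := by
      intro v
      rw [hΛdef, LinearMap.sum_apply]
      rfl
    have hle : Submodule.span (IsLocalRing.ResidueField P.O) (hcolAt P H φ '' Set.Iio (j + 1)) ≤
        LinearMap.ker Λ := by
      rw [Submodule.span_le]
      rintro _ ⟨m, hm, rfl⟩
      rw [SetLike.mem_coe, LinearMap.mem_ker]
      rw [Set.mem_Iio] at hm
      rcases Nat.eq_zero_or_pos m with rfl | hm0
      · rw [hcolAt_zero_eq P H hH, hΛ, dot_hcolAt hK P ht H hH φ hφ c 0]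
        exact taylor_zero_of_le hK P ht H hH (le_of_eq hfP) (by omega)
      · obtain ⟨m', rfl⟩ : ∃ m', m = m' + 1 := ⟨m - 1, by omega⟩
        rw [hΛ, dot_hcolAt hK P ht H hH φ hφ c m']
        exact taylor_zero_of_le hK P ht H hH (le_of_eq hfP) (by omega)
    have h0 := LinearMap.mem_ker.mp (hle hmem)
    rw [hΛ, dot_hcolAt hK P ht H hH φ hφ c j] at h0
    exact (taylor_ne_zero_iff hK P ht H hH (le_of_eq hfP)).mpr hfP h0

end Groth.Agent.Helper16.Hasse
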