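import Groth.Agent.H16.Binom
import Groth.Agent.H16.SV14
import Groth.Agent.S12597
import Groth.Agent.S12598
import Groth.Agent.S12600
import Groth.Agent.S12601
import Groth.Agent.S12605
import Groth.Agent.S12607
set_option autoImplicit false
set_option linter.unusedSimpArgs false

namespace Groth.Agent.Helper16.Hasse

open FunFld Module Groth.Agent.Helper17.FF Groth.Agent.Helper16.Emb

variable {k K : Type*} [Field k] [Field K] [Algebra k K] {n : ℕ}

/-- the order at a place of a nonzero element of `L(D)` is bounded by the degree -/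
theorem ord_add_le_deg [IsAlgClosed k] (hK : IsFunctionField k K) (D : Divisor k K) {w : K}
    (hw : w ∈ L D) (hw0 : w ≠ 0) (P : Place k K) : P.ord w + D P ≤ D.deg := by
  classical
  obtain ⟨E, hE⟩ : ∃ E : Divisor k K, E = FunFld.div k w + D := ⟨_, rfl⟩
  have hE0 : ∀ Q : Place k K, 0 ≤ E Q := by
    intro Q
    rw [hE, Finsupp.add_apply, div_apply hK]
    have := (val_le_exp_iff Q hw0 (D Q)).mp (hw Q)
    omega
  have hE' : (0 : Divisor k K) ≤ E - Finsupp.single P (E P) := by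
    intro Q
    rw [Finsupp.zero_apply, Finsupp.sub_apply]
    by_cases hQ : Q = P
    · rw [hQ, Finsupp.single_eq_same, sub_self]
    · rw [Finsupp.single_eq_of_ne (Ne.symm (Ne.symm hQ)), sub_zero]
      exact hE0 Q
  have h1 := deg_nonneg hE'
  rw [deg_sub, deg_single, Groth.Agent.Helper16.LLS.deg_eq_one hK P, hE, deg_add, deg_div hK,
    Finsupp.add_apply, div_apply hK] at h1
  push_cast at h1
  linarith

theorem strictMono_add_le {J : Fin n → ℕ} (hJ : StrictMono J) (c : ℕ)
    (h0 : ∀ h : 0 < n, c ≤ J ⟨0, h⟩) : ∀ l : Fin n, (l : ℕ) + c ≤ J l := by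
  rintro ⟨m, hm⟩
  induction m with
  | zero => simpa using h0 hm
  | succ m ih =>
    have h1 := ih (by omega)
    have h2 : J ⟨m, by omega⟩ < J ⟨m + 1, hm⟩ := hJ (by simp [Fin.lt_def])
    simp only at h1 ⊢
    omega

/-- the common core of the classicality statements -/
theorem classical_aux [IsAlgClosed k] (hK : IsFunctionField k K) (φ : Fin (n + 1) → K)
    (hφ : LinearIndependent k φ)
    (hchar : ringChar k = 0 ∨ (mapDiv k φ).deg < ringChar k)
    (τ : K →ₐ[k] K) (s : K) (H : K →ₐ[k] PowerSeries K) (hH : LocRes.IsHasseFamily s H)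
    (P : Place k K) (hP : IsFixedPt τ P) (I : Fin n → ℕ) (hI : StrictMono I)
    (hcrit : (∀ l, 0 < I l) ∨ IsStrongFixedPt τ P)
    (hbin : ∀ J : Fin n → ℕ, StrictMono J → (∀ l, 1 ≤ J l) →
      (ringChar k = 0 ∨ ∀ l, J l < ringChar k) → (binomMat k J I).det ≠ 0)
    (hlow : ∀ (H' : K →ₐ[k] PowerSeries K) (t' : K), LocRes.IsHasseFamily t' H' →
      ∀ (ψ : Fin (n + 1) → K) (J : Fin n → ℕ), IsOrders K (hcol τ H' ψ) J → ∀ l, I l ≤ J l) :
    IsOrders K (hcol τ H φ) I := by
  classical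
  have hφ0 : ∀ i, φ i ≠ 0 := fun i => hφ.ne_zero i
  obtain ⟨t, ht⟩ := P.2.2 (WithZero.exp (-1 : ℤ))
  have hDt := hasseD_one_ne_zero hK P H hH ht
  obtain ⟨Ht, hHt⟩ := exists_hasse H hH t hDt
  obtain ⟨j, hj⟩ := exists_val_eq_mapDiv hK φ hφ0 P
  have hjP : ∀ i, P.1 (φ i) ≤ P.1 (φ j) := fun i => by
    rw [hj]; exact val_le_mapDiv hK φ hφ0 P i
  obtain ⟨y, hy⟩ : ∃ y : K, y = (φ j)⁻¹ := ⟨_, rfl⟩
  have hy0 : y ≠ 0 := by rw [hy]; exact inv_ne_zero (hφ0 j)
  have hyφ : ∀ i, (y • φ) i = y * φ i := fun i => rfl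
  have hφ' : LinearIndependent k (y • φ) := by
    have h1 := hφ.map' (LinearMap.mulLeft k y) (by
      rw [LinearMap.ker_eq_bot]
      intro a b hab
      exact mul_left_cancel₀ hy0 hab)
    exact h1
  have hnorm : ∀ i, P.1 ((y • φ) i) ≤ 1 := by
    intro i
    rw [hyφ, hy, map_mul, map_inv₀, inv_mul_le_iff₀ (zero_lt_iff.mpr
      ((map_ne_zero P.1).mpr (hφ0 j))), mul_one]
    exact hjP i
  have hone : (y • φ) j = 1 := by rw [hyφ, hy, inv_mul_cancel₀ (hφ0 j)]
  have heff : (1 : K) ∈ Submodule.span k (Set.range (y • φ)) := by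
    rw [← hone]; exact Submodule.subset_span ⟨j, rfl⟩
  have hunit : ∃ i, P.1 ((y • φ) i) = 1 := ⟨j, by rw [hone, map_one]⟩
  obtain ⟨JP, hJP⟩ := exists_orders_at hK P ht Ht hHt (y • φ) hφ' hnorm hunit
  obtain ⟨⟨φ'', hspan, -, -, hl⟩, -⟩ :=
    Groth.Agent.S12607.result k K hK P (y • φ) hφ' heff hnorm t ht Ht hHt JP hJP
  have h0 : (0 : ℕ) ∉ Set.range JP := by
    rw [hJP.2 0]
    unfold FunFld.IsJump
    rw [not_not]
    apply Submodule.subset_span
    refine ⟨0, by simp, ?_⟩
    exact hcolAt_zero_eq P Ht hHt (y • φ)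
  have hpos : ∀ l, 1 ≤ JP l := fun l => Nat.pos_of_ne_zero (fun h => h0 ⟨l, h⟩)
  -- the divisor of the normalized map
  have hφ'0 : ∀ i, (y • φ) i ≠ 0 := fun i => hφ'.ne_zero i
  have hDP : mapDiv k (y • φ) P = 0 := by
    obtain ⟨i, hi⟩ := exists_val_eq_mapDiv hK (y • φ) hφ'0 P
    have h1 := val_le_mapDiv hK (y • φ) hφ'0 P j
    rw [hone, map_one] at h1
    have h2 := hnorm i
    rw [hi] at h2
    have h3 : (WithZero.exp (mapDiv k (y • φ) P) : WithZero (Multiplicative ℤ)) =
        WithZero.exp (0 : ℤ) := by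
      rw [WithZero.exp_zero]; exact le_antisymm h2 h1
    exact WithZero.exp_injective h3
  have hDeq : mapDiv k (y • φ) = mapDiv k φ - FunFld.div k y := by
    ext Q
    rw [Finsupp.sub_apply, div_apply hK]
    apply mapDiv_comb hK Q φ (y • φ) hφ y hy0 1 (by rw [Matrix.det_one]; exact one_ne_zero)
    intro i
    rw [hyφ]
    congr 1
    rw [Finset.sum_eq_single i]
    · simp
    · intro b _ hb
      rw [Matrix.one_apply_ne (Ne.symm hb), zero_smul]
    · intro h; exact absurd (Finset.mem_univ i) h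
  have hdegeq : (mapDiv k (y • φ)).deg = (mapDiv k φ).deg := by
    rw [hDeq, deg_sub, deg_div hK, sub_zero]
  have hbound : ∀ l, (JP l : ℤ) ≤ (mapDiv k φ).deg := by
    intro l
    have hmem : φ'' l.succ ∈ L (mapDiv k (y • φ)) := by
      apply span_le_L_mapDiv hK (y • φ) hφ'0
      rw [← hspan]
      exact Submodule.subset_span ⟨l.succ, rfl⟩
    have hne : φ'' l.succ ≠ 0 := by
      intro h
      have := (hl l).1
      rw [h, map_zero] at this
      exact WithZero.exp_ne_zero this.symm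
    have h1 := ord_add_le_deg hK _ hmem hne P
    rw [hDP, add_zero, hdegeq] at h1
    have h2 : P.ord (φ'' l.succ) = JP l := by
      have := (val_eq_exp_iff P hne (-(JP l : ℤ))).mp (hl l).1
      omega
    rw [h2] at h1
    exact h1
  have hlt : ringChar k = 0 ∨ ∀ l, JP l < ringChar k := by
    rcases hchar with h | h
    · exact Or.inl h
    · right
      intro l
      have := hbound l
      have h3 : (JP l : ℤ) < (ringChar k : ℤ) := lt_of_le_of_lt this h
      exact_mod_cast h3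
  have hdetb := hbin JP hJP.1 hpos hlt
  have h5 := Groth.Agent.S12605.result k K hK τ P hP (y • φ) hφ' heff hnorm t ht Ht hHt JP hJP I hI
  have hval := (h5.2 hcrit).mpr hdetb
  have hdet : (wrMat τ Ht (y • φ) I).det ≠ 0 := by
    intro h
    rw [h, map_zero] at hval
    exact WithZero.exp_ne_zero hval.symm
  obtain ⟨J'', hJ'', -⟩ := Groth.Agent.S12600.result k K hK (y • φ) hφ' τ t Ht hHt
  have hle := Groth.Agent.S12601.result k K hK (y • φ) hφ' τ t Ht hHt J'' hJ'' I hI hdet
  have hge := hlow Ht t hHt (y • φ) J'' hJ''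
  have hJeq : J'' = I := funext fun l => le_antisymm (hle l) (hge l)
  rw [hJeq] at hJ''
  have h6 := (Groth.Agent.S12598.result k K hK (y • φ) hφ' τ s H hH t Ht hHt).1 I
  have h7 := (Groth.Agent.S12597.result k K hK φ hφ τ s H hH y hy0).1 I
  exact h7.mp (h6.mp hJ'')

end Groth.Agent.Helper16.Hasse
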