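import Groth.Agent.H16.LocRing
set_option autoImplicit false
set_option linter.unusedSimpArgs false

namespace Groth.Agent.Helper16.Emb

open FunFld Module Groth.Agent.Helper17.FF

variable {k K : Type*} [Field k] [Field K] [Algebra k K] {n : ℕ}

/-- a nonzero function is a unit at all but finitely many places -/
theorem finite_val_ne_one (hK : IsFunctionField k K) {z : K} (hz : z ≠ 0) :
    {P : Place k K | P.1 z ≠ 1}.Finite := by
  refine (finite_support_ord hK z).subset ?_
  intro P hP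
  simp only [Set.mem_setOf_eq] at hP
  simp only [Function.mem_support]
  intro h0
  exact hP ((ord_eq_zero_iff P hz).mp h0)

/-- evaluating a homogeneous polynomial at a rescaled point -/
theorem aeval_smul_of_homogeneous {σ : Type*} [Fintype σ] (g : MvPolynomial σ k) {d : ℕ}
    (hg : g.IsHomogeneous d) (φ : σ → K) (c : K) :
    MvPolynomial.aeval (fun i => c * φ i) g = c ^ d * MvPolynomial.aeval φ g := by
  rw [MvPolynomial.aeval_def, MvPolynomial.aeval_def, MvPolynomial.eval₂_eq', MvPolynomial.eval₂_eq',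
    Finset.mul_sum]
  refine Finset.sum_congr rfl (fun m hm => ?_)
  have hdeg : ∑ i, m i = d := by
    have := hg (MvPolynomial.mem_support_iff.mp hm)
    rw [← Finsupp.degree_eq_sum]
    rw [← this]
    exact (Finsupp.degree_eq_weight_one (R := ℕ)) ▸ rfl
  have e : ∏ i, (c * φ i) ^ m i = c ^ d * ∏ i, φ i ^ m i := by
    simp only [mul_pow]
    rw [Finset.prod_mul_distrib, Finset.prod_pow_eq_pow_sum, hdeg]
  rw [e]
  ring


/-- the divisor of a projective map with nonzero entries, evaluated at a place -/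
theorem mapDiv_apply (hK : IsFunctionField k K) (φ : Fin (n + 1) → K) (hφ0 : ∀ i, φ i ≠ 0)
    (P : Place k K) :
    mapDiv k φ P = -Finset.univ.inf' Finset.univ_nonempty (fun i => P.ord (φ i)) := by
  classical
  have hfin : (Function.support fun P : Place k K =>
      -Finset.univ.inf' Finset.univ_nonempty (fun i => P.ord (φ i))).Finite := by
    refine (Set.finite_iUnion (fun i => finite_support_ord hK (φ i))).subset ?_
    intro Q hQ
    simp only [Function.mem_support] at hQ
    by_contra hnot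
    simp only [Set.mem_iUnion, Function.mem_support, not_exists, not_not] at hnot
    apply hQ
    simp [hnot]
  unfold mapDiv
  rw [dif_pos hfin]
  rfl

theorem val_le_mapDiv (hK : IsFunctionField k K) (φ : Fin (n + 1) → K) (hφ0 : ∀ i, φ i ≠ 0)
    (P : Place k K) (i : Fin (n + 1)) : P.1 (φ i) ≤ WithZero.exp (mapDiv k φ P) := by
  rw [mapDiv_apply hK φ hφ0, val_eq_exp_neg_ord P (hφ0 i), WithZero.exp_le_exp, neg_le_neg_iff]
  exact Finset.inf'_le _ (Finset.mem_univ i)

theorem exists_val_eq_mapDiv (hK : IsFunctionField k K) (φ : Fin (n + 1) → K)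
    (hφ0 : ∀ i, φ i ≠ 0) (P : Place k K) :
    ∃ i, P.1 (φ i) = WithZero.exp (mapDiv k φ P) := by
  obtain ⟨i, -, hi⟩ := Finset.exists_mem_eq_inf' Finset.univ_nonempty (fun i => P.ord (φ i))
  refine ⟨i, ?_⟩
  rw [mapDiv_apply hK φ hφ0, val_eq_exp_neg_ord P (hφ0 i), hi]

theorem top_iff (hK : IsFunctionField k K) (φ : Fin (n + 1) → K) (hφ0 : ∀ i, φ i ≠ 0)
    (P : Place k K) (j : Fin (n + 1)) :
    (∀ i, P.1 (φ i) ≤ P.1 (φ j)) ↔ P.1 (φ j) = WithZero.exp (mapDiv k φ P) := by
  constructor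
  · intro h
    obtain ⟨i, hi⟩ := exists_val_eq_mapDiv hK φ hφ0 P
    exact le_antisymm (val_le_mapDiv hK φ hφ0 P j) (hi ▸ h i)
  · intro h i
    rw [h]
    exact val_le_mapDiv hK φ hφ0 P i

theorem mem_L_mapDiv (hK : IsFunctionField k K) (φ : Fin (n + 1) → K) (hφ0 : ∀ i, φ i ≠ 0)
    (i : Fin (n + 1)) : φ i ∈ L (mapDiv k φ) := by
  intro P
  exact val_le_mapDiv hK φ hφ0 P i

theorem span_le_L_mapDiv (hK : IsFunctionField k K) (φ : Fin (n + 1) → K) (hφ0 : ∀ i, φ i ≠ 0) :
    Submodule.span k (Set.range φ) ≤ L (mapDiv k φ) := by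
  rw [Submodule.span_le]
  rintro _ ⟨i, rfl⟩
  exact mem_L_mapDiv hK φ hφ0 i


/-- base-point-free pencil inside a base-point-free subspace of `L(E)` -/
theorem exists_bpf_pencil_sub [IsAlgClosed k] (hK : IsFunctionField k K) (E : Divisor k K)
    (W : Submodule k K) (hW : W ≤ L E)
    (hex : ∀ Q : Place k K, ∃ x ∈ W, Q.1 x = WithZero.exp (E Q)) :
    ∃ s t : K, s ∈ W ∧ t ∈ W ∧ s ≠ 0 ∧ t ≠ 0 ∧
      ∀ Q : Place k K, Q.1 s = WithZero.exp (E Q) ∨ Q.1 t = WithZero.exp (E Q) := by
  classical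
  obtain ⟨Q₀⟩ := exists_place hK
  obtain ⟨s, hs, hsQ⟩ := hex Q₀
  have hs0 : s ≠ 0 := by
    rintro rfl
    rw [map_zero] at hsQ
    exact WithZero.exp_ne_zero hsQ.symm
  set Z : Set (Place k K) := {Q | Q.1 s ≠ WithZero.exp (E Q)} with hZdef
  have hZfin : Z.Finite := by
    apply Set.Finite.subset (FunFld.div k s + E).support.finite_toSet
    intro Q hQ
    have hlt : Q.1 s < WithZero.exp (E Q) := lt_of_le_of_ne (hW hs Q) hQ
    rw [val_lt_exp_iff Q hs0] at hlt
    rw [Finset.mem_coe, Finsupp.mem_support_iff, Finsupp.add_apply, div_apply hK]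
    omega
  have : Finite ↥Z := hZfin.to_subtype
  let p : Option ↥Z → Submodule k ↥W := fun o =>
    match o with
    | none => ⊥
    | some Q => Submodule.comap W.subtype (L (E - Finsupp.single (Q : Place k K) 1))
  have hp : ∀ o, p o ≠ ⊤ := by
    intro o
    cases o with
    | none =>
      intro h
      have : (⟨s, hs⟩ : ↥W) ∈ (⊥ : Submodule k ↥W) := by
        show (⟨s, hs⟩ : ↥W) ∈ p none
        rw [h]; exact Submodule.mem_top
      rw [Submodule.mem_bot] at this
      exact hs0 (congrArg Subtype.val this)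
    | some Q =>
      intro h
      obtain ⟨x, hx, hxQ⟩ := hex (Q : Place k K)
      have : (⟨x, hx⟩ : ↥W) ∈ p (some Q) := by rw [h]; exact Submodule.mem_top
      exact not_mem_of_val_eq hxQ this
  obtain ⟨t', ht'⟩ := Submodule.exists_forall_notMem_of_forall_ne_top p hp
  refine ⟨s, t'.1, hs, t'.2, hs0, ?_, ?_⟩
  · intro h0
    apply ht' none
    show t' ∈ (⊥ : Submodule k ↥W)
    rw [Submodule.mem_bot]
    exact Subtype.ext h0
  · intro Q
    by_cases hQ : Q.1 s = WithZero.exp (E Q)
    · exact Or.inl hQ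
    · right
      have := ht' (some ⟨Q, hQ⟩)
      exact val_eq_of_not_mem (hW t'.2) this

end Groth.Agent.Helper16.Emb
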