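import Groth.Agent.H16.Cond
set_option autoImplicit false
set_option linter.unusedSimpArgs false

namespace Groth.Agent.Helper16.Emb

open FunFld Module Groth.Agent.Helper17.FF

variable {k K : Type*} [Field k] [Field K] [Algebra k K] {n : ℕ}

theorem ell_le_deg_add_one' (hK : IsFunctionField k K) (D : Divisor k K) (h : 0 < ell D) :
    (ell D : ℤ) ≤ 1 + D.deg := by
  obtain ⟨z, hz, hz0⟩ := exists_ne_zero_of_ell_pos h
  have hD' : 0 ≤ D + FunFld.div k z := by
    intro P
    have := (val_le_exp_iff P hz0 _).1 (hz P)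
    rw [Finsupp.add_apply, div_apply hK, Finsupp.zero_apply]
    linarith
  have h1 := ell_le_deg_add_one hK hD'
  rw [deg_add, deg_div hK, add_zero] at h1
  have h2 := ell_add_div hK D hz0
  unfold ell at h2 ⊢
  rw [h2] at h1
  exact h1

theorem deg_mapDiv_pos (hK : IsFunctionField k K) (hn : 1 ≤ n) (φ : Fin (n + 1) → K)
    (hφ : LinearIndependent k φ) : 1 ≤ (mapDiv k φ).deg := by
  have hφ0 : ∀ i, φ i ≠ 0 := fun i => hφ.ne_zero i
  have := L_finite hK (mapDiv k φ)
  have h1 : finrank k (Submodule.span k (Set.range φ)) = n + 1 := by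
    rw [finrank_span_eq_card hφ, Fintype.card_fin]
  have h2 : finrank k (Submodule.span k (Set.range φ)) ≤ ell (mapDiv k φ) :=
    Submodule.finrank_mono (span_le_L_mapDiv hK φ hφ0)
  have h3 := ell_le_deg_add_one' hK (mapDiv k φ) (by omega)
  have : (2 : ℤ) ≤ ell (mapDiv k φ) := by exact_mod_cast (by omega : 2 ≤ ell (mapDiv k φ))
  linarith

/-- graded generation: `L((m₀ + r) D) ⊆ W^r · L(m₀ D)` for `W ⊆ L(D)` base point free -/
theorem graded_gen [IsAlgClosed k] (hK : IsFunctionField k K) (D : Divisor k K) (hD : 1 ≤ D.deg)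
    (W : Submodule k K) (hW : W ≤ L D)
    (hex : ∀ Q : Place k K, ∃ x ∈ W, Q.1 x = WithZero.exp (D Q)) :
    ∀ r : ℕ, L ((2 * genus k K + 1 + r) • D) ≤ W ^ r * L ((2 * genus k K + 1) • D) := by
  obtain ⟨s, t, hs, ht, hs0, ht0, hst⟩ := exists_bpf_pencil_sub hK D W hW hex
  intro r
  induction r with
  | zero => rw [pow_zero, one_mul, add_zero]
  | succ r ih =>
    intro f hf
    set F : Divisor k K := (2 * genus k K + 1 + r) • D with hF
    have hFD : (2 * genus k K + 1 + (r + 1)) • D = F + D := by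
      rw [hF, ← add_assoc, succ_nsmul]
    rw [hFD] at hf
    have hdegF : F.deg = ((2 * genus k K + 1 + r : ℕ) : ℤ) * D.deg := deg_nsmul _ D
    have hγ : (0 : ℤ) ≤ (genus k K : ℤ) := Int.natCast_nonneg _
    have hr : (0 : ℤ) ≤ (r : ℤ) := Int.natCast_nonneg _
    have hbig : 2 * (genus k K : ℤ) + D.deg ≤ F.deg := by
      rw [hdegF]; push_cast
      nlinarith
    have e1 := ell_eq_of_deg_ge hK F (by linarith)
    have e2 := ell_eq_of_deg_ge hK (F + D) (by rw [deg_add]; linarith)
    have e3 := ell_eq_of_deg_ge hK (F - D) (by rw [deg_sub]; linarith)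
    rw [deg_add] at e2
    rw [deg_sub] at e3
    have hdim : ell (F + D) + ell (F - D) ≤ 2 * ell F := by
      have : (ell (F + D) : ℤ) + ell (F - D) ≤ 2 * ell F := by rw [e1, e2, e3]; linarith
      exact_mod_cast this
    obtain ⟨x, hx, y, hy, rfl⟩ := pencil_trick hK (hW hs) (hW ht) hs0 ht0 hst hdim f hf
    rw [pow_succ', mul_assoc]
    exact Submodule.add_mem _ (Submodule.mul_mem_mul hs (ih hx)) (Submodule.mul_mem_mul ht (ih hy))

end Groth.Agent.Helper16.Emb
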