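import Groth.Agent.H16.Cond2
set_option autoImplicit false
set_option linter.unusedSimpArgs false

namespace Groth.Agent.Helper16.Emb

open FunFld Module Groth.Agent.Helper17.FF

variable {k K : Type*} [Field k] [Field K] [Algebra k K] {n : ℕ}

/-- dehomogenization of degree `r` forms -/
theorem pow_div_mem_A (φ : Fin (n + 1) → K) (j : Fin (n + 1)) (r : ℕ) {w : K}
    (hw : w ∈ (Submodule.span k (Set.range φ)) ^ r) :
    w / φ j ^ r ∈ Algebra.adjoin k (Set.range fun i => φ i / φ j) := by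
  set A := Algebra.adjoin k (Set.range fun i => φ i / φ j) with hA
  induction r generalizing w with
  | zero =>
    rw [pow_zero, Submodule.mem_one] at hw
    obtain ⟨c, rfl⟩ := hw
    rw [pow_zero, div_one]
    exact A.algebraMap_mem c
  | succ r ih =>
    rw [pow_succ'] at hw
    refine Submodule.mul_induction_on hw ?_ ?_
    · intro a ha b hb
      have e : a * b / φ j ^ (r + 1) = (a / φ j) * (b / φ j ^ r) := by
        rw [pow_succ']; rw [div_mul_div_comm]
      rw [e]
      exact A.mul_mem (div_mem_A' φ j ha) (ih hb)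
    · intro x y hx hy
      rw [add_div]
      exact A.add_mem hx hy

/-- a bound for the pole orders of a nonzero function -/
theorem exists_pole_bound (hK : IsFunctionField k K) {x : K} (hx : x ≠ 0) :
    ∃ r : ℕ, ∀ Q : Place k K, Q.1 x ≤ WithZero.exp (r : ℤ) := by
  classical
  have hfin := finite_val_ne_one hK hx
  refine ⟨hfin.toFinset.sup (fun Q => (-(Q.ord x)).toNat), fun Q => ?_⟩
  by_cases hQ : Q.1 x = 1
  · rw [hQ]
    calc (1 : WithZero (Multiplicative ℤ)) = WithZero.exp (0 : ℤ) := WithZero.exp_zero.symm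
      _ ≤ _ := WithZero.exp_le_exp.mpr (Int.natCast_nonneg _)
  · have hmem : Q ∈ hfin.toFinset := by
      rw [Set.Finite.mem_toFinset]; exact hQ
    have h1 : (-(Q.ord x)).toNat ≤ hfin.toFinset.sup (fun Q => (-(Q.ord x)).toNat) :=
      Finset.le_sup (f := fun Q : Place k K => (-(Q.ord x)).toNat) hmem
    rw [val_eq_exp_neg_ord Q hx, WithZero.exp_le_exp]
    have h2 : -(Q.ord x) ≤ ((-(Q.ord x)).toNat : ℤ) := Int.self_le_toNat _
    have h3 : ((-(Q.ord x)).toNat : ℤ) ≤
        ((hfin.toFinset.sup (fun Q => (-(Q.ord x)).toNat) : ℕ) : ℤ) := by exact_mod_cast h1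
    linarith

/-- in the birational case every function is a quotient of elements of the affine ring -/
theorem exists_frac (φ : Fin (n + 1) → K) (hφ0 : ∀ i, φ i ≠ 0)
    (hbir : IntermediateField.adjoin k (Set.range fun i => φ i / φ 0) = ⊤) (j : Fin (n + 1))
    (z : K) :
    ∃ p q : K, p ∈ Algebra.adjoin k (Set.range fun i => φ i / φ j) ∧
      q ∈ Algebra.adjoin k (Set.range fun i => φ i / φ j) ∧ q ≠ 0 ∧ z * q = p := by
  set A := Algebra.adjoin k (Set.range fun i => φ i / φ j) with hA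
  have hz : z ∈ IntermediateField.adjoin k (Set.range fun i => φ i / φ 0) := by
    rw [hbir]; trivial
  rw [IntermediateField.mem_adjoin_iff_div] at hz
  obtain ⟨r, hr, s, hs, rfl⟩ := hz
  by_cases hs0 : s = 0
  · refine ⟨0, 1, A.zero_mem, A.one_mem, one_ne_zero, ?_⟩
    rw [hs0, div_zero, zero_mul]
  · obtain ⟨m₁, h₁⟩ := change_index (k := k) φ (hφ0 j) (hφ0 0) hr
    obtain ⟨m₂, h₂⟩ := change_index (k := k) φ (hφ0 j) (hφ0 0) hs
    refine ⟨r * (φ 0 / φ j) ^ (max m₁ m₂), s * (φ 0 / φ j) ^ (max m₁ m₂),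
      h₁ _ (le_max_left _ _), h₂ _ (le_max_right _ _), ?_, ?_⟩
    · exact mul_ne_zero hs0 (pow_ne_zero _ (div_ne_zero (hφ0 0) (hφ0 j)))
    · field_simp


/-- multiplication into `L(m D)` of a function regular at the finite places -/
theorem mul_pow_mem_L (hK : IsFunctionField k K) (φ : Fin (n + 1) → K) (hφ0 : ∀ i, φ i ≠ 0)
    (j : Fin (n + 1)) {x : K}
    (hx : ∀ Q : Place k K, (∀ i, Q.1 (φ i) ≤ Q.1 (φ j)) → Q.1 x ≤ 1) {r : ℕ}
    (hr : ∀ Q : Place k K, Q.1 x ≤ WithZero.exp (r : ℤ)) (m : ℕ) (hm : r ≤ m) :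
    x * φ j ^ m ∈ L (m • mapDiv k φ) := by
  intro Q
  rw [map_mul, map_pow, Finsupp.smul_apply, WithZero.exp_nsmul]
  by_cases hQ : ∀ i, Q.1 (φ i) ≤ Q.1 (φ j)
  · rw [(top_iff hK φ hφ0 Q j).mp hQ]
    calc Q.1 x * WithZero.exp (mapDiv k φ Q) ^ m ≤ 1 * WithZero.exp (mapDiv k φ Q) ^ m :=
          mul_le_mul' (hx Q hQ) le_rfl
      _ = _ := one_mul _
  · have hlt : Q.1 (φ j) < WithZero.exp (mapDiv k φ Q) :=
      lt_of_le_of_ne (val_le_mapDiv hK φ hφ0 Q j) (fun h => hQ ((top_iff hK φ hφ0 Q j).mpr h))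
    rw [val_lt_exp_iff_le] at hlt
    calc Q.1 x * Q.1 (φ j) ^ m ≤ WithZero.exp (m : ℤ) * WithZero.exp (mapDiv k φ Q - 1) ^ m :=
          mul_le_mul' ((hr Q).trans (WithZero.exp_le_exp.mpr (by exact_mod_cast hm)))
            (pow_le_pow_left' hlt m)
      _ = WithZero.exp (mapDiv k φ Q) ^ m := by
          rw [← WithZero.exp_nsmul, ← WithZero.exp_nsmul, ← WithZero.exp_add]
          congr 1
          simp only [nsmul_eq_mul]
          ring

/-- the conductor: a nonzero element of the affine ring multiplying every function regular at all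
finite places into the affine ring -/
theorem exists_conductor [IsAlgClosed k] (hK : IsFunctionField k K) (hn : 1 ≤ n)
    (φ : Fin (n + 1) → K) (hφ : LinearIndependent k φ)
    (hbir : IntermediateField.adjoin k (Set.range fun i => φ i / φ 0) = ⊤) (j : Fin (n + 1)) :
    ∃ c ∈ Algebra.adjoin k (Set.range fun i => φ i / φ j), c ≠ 0 ∧
      ∀ x : K, (∀ Q : Place k K, (∀ i, Q.1 (φ i) ≤ Q.1 (φ j)) → Q.1 x ≤ 1) →
        c * x ∈ Algebra.adjoin k (Set.range fun i => φ i / φ j) := by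
  classical
  have hφ0 : ∀ i, φ i ≠ 0 := fun i => hφ.ne_zero i
  set A := Algebra.adjoin k (Set.range fun i => φ i / φ j) with hA
  set D := mapDiv k φ with hD
  set W := Submodule.span k (Set.range φ) with hW
  set m₀ := 2 * genus k K + 1 with hm₀
  have hdeg : 1 ≤ D.deg := deg_mapDiv_pos hK hn φ hφ
  have hWL : W ≤ L D := span_le_L_mapDiv hK φ hφ0
  have hex : ∀ Q : Place k K, ∃ x ∈ W, Q.1 x = WithZero.exp (D Q) := by
    intro Q
    obtain ⟨i, hi⟩ := exists_val_eq_mapDiv hK φ hφ0 Q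
    exact ⟨φ i, Submodule.subset_span ⟨i, rfl⟩, hi⟩
  have hgen := graded_gen hK D hdeg W hWL hex
  have := L_finite hK (m₀ • D)
  set q := finrank k (L (m₀ • D)) with hq
  let b : Basis (Fin q) k (L (m₀ • D)) := Module.finBasis k _
  have hfrac : ∀ l : Fin q, ∃ p d : K, p ∈ A ∧ d ∈ A ∧ d ≠ 0 ∧ ((b l : K) / φ j ^ m₀) * d = p :=
    fun l => exists_frac φ hφ0 hbir j _
  choose p d hp hd hd0 hpd using hfrac
  have hcb : ∀ l, (∏ l', d l') * ((b l : K) / φ j ^ m₀) ∈ A := by
    intro l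
    rw [← Finset.mul_prod_erase _ _ (Finset.mem_univ l)]
    have e : (d l * ∏ x ∈ Finset.univ.erase l, d x) * ((b l : K) / φ j ^ m₀) =
        (∏ x ∈ Finset.univ.erase l, d x) * (((b l : K) / φ j ^ m₀) * d l) := by ring
    rw [e, hpd]
    exact A.mul_mem (Subalgebra.prod_mem _ (fun l' _ => hd l')) (hp l)
  have hcL : ∀ y ∈ L (m₀ • D), (∏ l', d l') * (y / φ j ^ m₀) ∈ A := by
    intro y hy
    obtain ⟨c, rfl⟩ := exists_coords b hy
    rw [Finset.sum_div, Finset.mul_sum]
    apply Subalgebra.sum_mem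
    intro l _
    have e : (∏ l', d l') * (algebraMap k K (c l) * (b l : K) / φ j ^ m₀) =
        algebraMap k K (c l) * ((∏ l', d l') * ((b l : K) / φ j ^ m₀)) := by ring
    rw [e]
    exact A.mul_mem (A.algebraMap_mem _) (hcb l)
  refine ⟨∏ l', d l', Subalgebra.prod_mem _ (fun l' _ => hd l'),
    Finset.prod_ne_zero_iff.mpr (fun l' _ => hd0 l'), ?_⟩
  intro x hx
  by_cases hx0 : x = 0
  · rw [hx0, mul_zero]; exact A.zero_mem
  obtain ⟨r, hr⟩ := exists_pole_bound hK hx0
  have hmem := mul_pow_mem_L hK φ hφ0 j hx hr (m₀ + r) (by omega)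
  have hmem' := hgen r hmem
  have key : ∀ y ∈ W ^ r * L (m₀ • D), (∏ l', d l') * (y / φ j ^ (m₀ + r)) ∈ A := by
    intro y hy
    refine Submodule.mul_induction_on hy ?_ ?_
    · intro w hw b' hb'
      have e : (∏ l', d l') * (w * b' / φ j ^ (m₀ + r)) =
          (w / φ j ^ r) * ((∏ l', d l') * (b' / φ j ^ m₀)) := by
        rw [pow_add]; field_simp
      rw [e]
      exact A.mul_mem (pow_div_mem_A φ j r hw) (hcL b' hb')
    · intro y₁ y₂ h₁ h₂
      rw [add_div, mul_add]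
      exact A.add_mem h₁ h₂
  have := key _ hmem'
  rwa [mul_div_assoc, div_self (pow_ne_zero _ (hφ0 j)), mul_one] at this

end Groth.Agent.Helper16.Emb
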