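import Groth.Agent.H16.LLS2
import Groth.Agent.Lib.Helper17.FF11
set_option autoImplicit false

namespace Groth.Agent.Helper16.LLS

open FunFld Module Groth.Agent.Helper17.FF

variable {k K : Type*} [Field k] [Field K] [Algebra k K]

theorem exists_const_sub_lt [IsAlgClosed k] (hK : IsFunctionField k K) (Q : Place k K) {z : K}
    (hz : Q.1 z ≤ 1) : ∃ c : k, Q.1 (z - algebraMap k K c) < 1 := by
  have hfin : @Module.Finite k (IsLocalRing.ResidueField Q.O) _ _
      (@Algebra.toModule _ _ _ _ (Place.algRes Q)) := residue_finite hK Q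
  have hint : @Algebra.IsIntegral k (IsLocalRing.ResidueField Q.O) _ _ (Place.algRes Q) :=
    @Algebra.IsIntegral.of_finite k _ _ _ (Place.algRes Q) hfin
  have hbij := @IsAlgClosed.algebraMap_bijective_of_isIntegral k _ _ _ _ _ (Place.algRes Q) hint
  let zO : Q.O := ⟨z, hz⟩
  obtain ⟨c, hc⟩ := hbij.2 (IsLocalRing.residue Q.O zO)
  refine ⟨c, ?_⟩
  have h1 : IsLocalRing.residue Q.O (zO - algebraMap k Q.O c) = 0 := by
    rw [map_sub, sub_eq_zero]
    exact hc.symm
  rw [IsLocalRing.residue_eq_zero_iff, mem_maximalIdeal_iff] at h1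
  exact h1

theorem exists_div_eq_single_sub_single [IsAlgClosed k] (hK : IsFunctionField k K)
    (hg : genus k K = 0) (X Y : Place k K) :
    ∃ s : K, s ≠ 0 ∧ FunFld.div k s = Finsupp.single X 1 - Finsupp.single Y 1 := by
  have h1 := delta_le_genus hK (Finsupp.single Y 1 - Finsupp.single X 1 : Divisor k K)
  unfold delta at h1
  rw [hg, deg_sub, deg_single, deg_single, deg_eq_one hK X, deg_eq_one hK Y] at h1
  have h2 : 0 < ell (Finsupp.single Y 1 - Finsupp.single X 1 : Divisor k K) := by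
    have : (0 : ℤ) < (ell (Finsupp.single Y 1 - Finsupp.single X 1 : Divisor k K) : ℤ) := by
      push_cast at h1; linarith
    exact_mod_cast this
  obtain ⟨z, hz, hz0⟩ := exists_ne_zero_of_ell_pos h2
  refine ⟨z, hz0, div_eq_of_mem hK hz0 hz ?_⟩
  rw [deg_single, deg_single, deg_eq_one hK X, deg_eq_one hK Y]

theorem val_pow_sub_const [CharZero k] (Q : Place k K) {s : K} {s₀ : k} (hs₀ : s₀ ≠ 0)
    (hπ : Q.1 (s - algebraMap k K s₀) = WithZero.exp (-1 : ℤ)) (m : ℕ) (hm : 0 < m) (μ : k) :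
    WithZero.exp (-1 : ℤ) ≤ Q.1 (s ^ m - algebraMap k K μ) := by
  set a := algebraMap k K s₀ with ha
  have hva : Q.1 a = 1 := val_const Q hs₀
  have hε : (WithZero.exp (-1 : ℤ) : WithZero (Multiplicative ℤ)) < 1 := exp_neg_one_lt_one
  have hvs : Q.1 s = 1 := by
    have : s = (s - a) + a := by ring
    rw [this, Valuation.map_add_eq_of_lt_right _ (by rw [hπ, hva]; exact hε), hva]
  -- geometric sums have valuation ≤ 1
  have hgeo : ∀ i : ℕ, Q.1 (∑ j ∈ Finset.range i, s ^ j * a ^ (i - 1 - j)) ≤ 1 := by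
    intro i
    apply Valuation.map_sum_le
    intro j _
    rw [map_mul, map_pow, map_pow, hvs, hva, one_pow, one_pow, one_mul]
  have hA : ∀ i : ℕ, Q.1 (s ^ i - a ^ i) < 1 := by
    intro i
    rw [← geom_sum₂_mul, map_mul, hπ]
    calc _ ≤ 1 * WithZero.exp (-1 : ℤ) := mul_le_mul' (hgeo i) le_rfl
      _ < 1 := by rw [one_mul]; exact hε
  set G := ∑ i ∈ Finset.range m, s ^ i * a ^ (m - 1 - i) with hG
  have hB : Q.1 (G - (m : K) * a ^ (m - 1)) < 1 := by
    have e : G - (m : K) * a ^ (m - 1) =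
        ∑ i ∈ Finset.range m, (s ^ i - a ^ i) * a ^ (m - 1 - i) := by
      rw [hG]
      have : (m : K) * a ^ (m - 1) = ∑ i ∈ Finset.range m, a ^ i * a ^ (m - 1 - i) := by
        rw [Finset.sum_congr rfl (fun i hi => by
          rw [Finset.mem_range] at hi
          rw [← pow_add]
          congr 1
          omega : ∀ i ∈ Finset.range m, a ^ i * a ^ (m - 1 - i) = a ^ (m - 1))]
        rw [Finset.sum_const, Finset.card_range, nsmul_eq_mul]
      rw [this, ← Finset.sum_sub_distrib]
      apply Finset.sum_congr rfl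
      intro i _
      ring
    rw [e]
    apply Valuation.map_sum_lt _ one_ne_zero
    intro i _
    rw [map_mul, map_pow, hva, one_pow, mul_one]
    exact hA i
  have hmc : Q.1 ((m : K) * a ^ (m - 1)) = 1 := by
    have : (m : K) * a ^ (m - 1) = algebraMap k K ((m : k) * s₀ ^ (m - 1)) := by
      rw [map_mul, map_pow, map_natCast]
    rw [this]
    apply val_const
    exact mul_ne_zero (Nat.cast_ne_zero.mpr (by omega)) (pow_ne_zero _ hs₀)
  have hvG : Q.1 G = 1 := by
    have : G = (G - (m : K) * a ^ (m - 1)) + (m : K) * a ^ (m - 1) := by ring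
    rw [this, Valuation.map_add_eq_of_lt_right _ (by rw [hmc]; exact hB), hmc]
  have hsm : Q.1 (s ^ m - a ^ m) = WithZero.exp (-1 : ℤ) := by
    rw [← geom_sum₂_mul, map_mul, ← hG, hvG, one_mul, hπ]
  have hdecomp : s ^ m - algebraMap k K μ = (s ^ m - a ^ m) + algebraMap k K (s₀ ^ m - μ) := by
    rw [map_sub, map_pow]; ring
  rw [hdecomp]
  rcases eq_or_ne (s₀ ^ m - μ) 0 with h0 | h0
  · rw [h0, map_zero, add_zero, hsm]
  · have hκ : Q.1 (algebraMap k K (s₀ ^ m - μ)) = 1 := val_const Q h0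
    rw [Valuation.map_add_eq_of_lt_right _ (by rw [hsm, hκ]; exact hε), hκ]
    exact hε.le

end Groth.Agent.Helper16.LLS
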