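import Groth.Agent.H16.Cond3
import Groth.Agent.H16.LLS3
set_option autoImplicit false
set_option linter.unusedSimpArgs false

namespace Groth.Agent.Helper16.Emb

open FunFld Module Groth.Agent.Helper17.FF

variable {k K : Type*} [Field k] [Field K] [Algebra k K] {n : ℕ}

/-- a function of the affine ring separating two finite places with different image points -/
theorem exists_sep [IsAlgClosed k] (hK : IsFunctionField k K) (φ : Fin (n + 1) → K)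
    (hφ0 : ∀ i, φ i ≠ 0) {j : Fin (n + 1)} {P Q : Place k K}
    (hjP : ∀ i, P.1 (φ i) ≤ P.1 (φ j)) (hjQ : ∀ i, Q.1 (φ i) ≤ Q.1 (φ j))
    (hPQ : ¬ SameImage φ P Q) :
    ∃ ℓ ∈ Algebra.adjoin k (Set.range fun i => φ i / φ j), Q.1 ℓ < 1 ∧ P.1 ℓ = 1 := by
  have hmem : ∀ i, φ i / φ j ∈ Algebra.adjoin k (Set.range fun i => φ i / φ j) :=
    fun i => Algebra.subset_adjoin (Set.mem_range_self i)
  have h1 : ¬ ∀ i, ∃ c : k, P.1 (φ i / φ j - algebraMap k K c) < 1 ∧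
      Q.1 (φ i / φ j - algebraMap k K c) < 1 := fun h => hPQ ⟨j, hφ0 j, hjP, hjQ, h⟩
  push_neg at h1
  obtain ⟨i, hi⟩ := h1
  obtain ⟨c, hc⟩ := Groth.Agent.Helper16.LLS.exists_const_sub_lt hK Q (A_le_O Q φ hjQ (hmem i))
  have hy : φ i / φ j - algebraMap k K c ∈ Algebra.adjoin k (Set.range fun i => φ i / φ j) :=
    Subalgebra.sub_mem _ (hmem i) (Subalgebra.algebraMap_mem _ _)
  refine ⟨_, hy, hc, le_antisymm (A_le_O P φ hjP hy) ?_⟩
  by_contra hlt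
  exact absurd hc (not_lt.mpr (hi c (not_le.mp hlt)))

/-- a function of the affine ring, a unit at `P`, vanishing at finitely many finite places with
image point different from that of `P` -/
theorem exists_sep_finset [IsAlgClosed k] (hK : IsFunctionField k K) (φ : Fin (n + 1) → K)
    (hφ0 : ∀ i, φ i ≠ 0) {j : Fin (n + 1)} {P : Place k K}
    (hjP : ∀ i, P.1 (φ i) ≤ P.1 (φ j)) (B : Finset (Place k K))
    (hB : ∀ Q ∈ B, (∀ i, Q.1 (φ i) ≤ Q.1 (φ j)) ∧ ¬ SameImage φ P Q) :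
    ∃ ℓ ∈ Algebra.adjoin k (Set.range fun i => φ i / φ j), P.1 ℓ = 1 ∧ ∀ Q ∈ B, Q.1 ℓ < 1 := by
  classical
  induction B using Finset.induction_on with
  | empty => exact ⟨1, Subalgebra.one_mem _, map_one _, fun Q hQ => absurd hQ (Finset.notMem_empty Q)⟩
  | insert Q B' hQB ih =>
    obtain ⟨ℓ, hℓ, hℓP, hℓB⟩ := ih (fun Q' hQ' => hB Q' (Finset.mem_insert_of_mem hQ'))
    obtain ⟨hQj, hQP⟩ := hB Q (Finset.mem_insert_self Q B')
    obtain ⟨ℓ₀, hℓ₀, hℓ₀Q, hℓ₀P⟩ := exists_sep hK φ hφ0 hjP hQj hQP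
    refine ⟨ℓ₀ * ℓ, Subalgebra.mul_mem _ hℓ₀ hℓ, by rw [map_mul, hℓ₀P, hℓP, one_mul], ?_⟩
    intro Q' hQ'
    rw [Finset.mem_insert] at hQ'
    rw [map_mul]
    rcases hQ' with rfl | hQ'
    · calc Q'.1 ℓ₀ * Q'.1 ℓ ≤ Q'.1 ℓ₀ * 1 := mul_le_mul' le_rfl (A_le_O Q' φ hQj hℓ)
        _ = Q'.1 ℓ₀ := mul_one _
        _ < 1 := hℓ₀Q
    · have hQ'j := (hB Q' (Finset.mem_insert_of_mem hQ')).1
      calc Q'.1 ℓ₀ * Q'.1 ℓ ≤ 1 * Q'.1 ℓ := mul_le_mul' (A_le_O Q' φ hQ'j hℓ₀) le_rfl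
        _ = Q'.1 ℓ := one_mul _
        _ < 1 := hℓB Q' hQ'

/-- S12532: functions vanishing to high order along the fibre belong to the local ring -/
theorem locring_of_vanishing [IsAlgClosed k] (hK : IsFunctionField k K) (hn : 1 ≤ n)
    (φ : Fin (n + 1) → K) (hφ : LinearIndependent k φ)
    (hbir : IntermediateField.adjoin k (Set.range fun i => φ i / φ 0) = ⊤) (P : Place k K)
    {j : Fin (n + 1)} (hjP : ∀ i, P.1 (φ i) ≤ P.1 (φ j)) :
    ∃ N : ℕ, ∀ z : K,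
      (∀ Q : Place k K, SameImage φ P Q → Q.1 z ≤ WithZero.exp (-(N : ℤ))) →
      ∃ h ∈ Algebra.adjoin k (Set.range fun i => φ i / φ j), P.1 h = 1 ∧
        z * h ∈ Algebra.adjoin k (Set.range fun i => φ i / φ j) := by
  classical
  have hφ0 : ∀ i, φ i ≠ 0 := fun i => hφ.ne_zero i
  set A := Algebra.adjoin k (Set.range fun i => φ i / φ j) with hA
  obtain ⟨c, hc, hc0, hcond⟩ := exists_conductor hK hn φ hφ hbir j
  obtain ⟨N, hN⟩ := exists_pole_bound hK (inv_ne_zero hc0)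
  have hN' : ∀ Q : Place k K, WithZero.exp (-(N : ℤ)) ≤ Q.1 c := by
    intro Q
    have h1 := hN Q
    rw [map_inv₀] at h1
    have hpos : 0 < Q.1 c := zero_lt_iff.mpr ((map_ne_zero Q.1).mpr hc0)
    rw [WithZero.exp_neg]
    rw [inv_le_comm₀ hpos (zero_lt_iff.mpr WithZero.exp_ne_zero)] at h1
    exact h1
  refine ⟨N, fun z hz => ?_⟩
  by_cases hz0 : z = 0
  · exact ⟨1, A.one_mem, map_one _, by rw [hz0, zero_mul]; exact A.zero_mem⟩
  have hzc0 : z / c ≠ 0 := div_ne_zero hz0 hc0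
  obtain ⟨M, hM⟩ := exists_pole_bound hK hzc0
  have hBfin : {Q : Place k K | (∀ i, Q.1 (φ i) ≤ Q.1 (φ j)) ∧ ¬ SameImage φ P Q ∧
      Q.1 c < Q.1 z}.Finite := by
    refine (finite_val_ne_one hK hzc0).subset ?_
    rintro Q ⟨-, -, hlt⟩
    show Q.1 (z / c) ≠ 1
    rw [map_div₀]
    have hpos : 0 < Q.1 c := zero_lt_iff.mpr ((map_ne_zero Q.1).mpr hc0)
    exact ne_of_gt ((one_lt_div₀ hpos).mpr hlt)
  obtain ⟨ℓ, hℓ, hℓP, hℓB⟩ := exists_sep_finset hK φ hφ0 hjP hBfin.toFinset (by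
    intro Q hQ
    rw [Set.Finite.mem_toFinset] at hQ
    exact ⟨hQ.1, hQ.2.1⟩)
  refine ⟨ℓ ^ M, A.pow_mem hℓ M, by rw [map_pow, hℓP, one_pow], ?_⟩
  have hreg : ∀ Q : Place k K, (∀ i, Q.1 (φ i) ≤ Q.1 (φ j)) → Q.1 (z * ℓ ^ M / c) ≤ 1 := by
    intro Q hQj
    have hpos : 0 < Q.1 c := zero_lt_iff.mpr ((map_ne_zero Q.1).mpr hc0)
    rw [map_div₀, div_le_one₀ hpos, map_mul, map_pow]
    have hℓQ : Q.1 ℓ ≤ 1 := A_le_O Q φ hQj hℓ
    have hℓQM : Q.1 ℓ ^ M ≤ 1 := pow_le_one' hℓQ M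
    by_cases hQP : SameImage φ P Q
    · calc Q.1 z * Q.1 ℓ ^ M ≤ WithZero.exp (-(N : ℤ)) * 1 := mul_le_mul' (hz Q hQP) hℓQM
        _ = WithZero.exp (-(N : ℤ)) := mul_one _
        _ ≤ Q.1 c := hN' Q
    · by_cases hlt : Q.1 c < Q.1 z
      · have hQB : Q ∈ hBfin.toFinset := by
          rw [Set.Finite.mem_toFinset]; exact ⟨hQj, hQP, hlt⟩
        have h1 : Q.1 ℓ ≤ WithZero.exp (-1 : ℤ) := by
          have : Q.1 ℓ < WithZero.exp (0 : ℤ) := by rw [WithZero.exp_zero]; exact hℓB Q hQB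
          rw [val_lt_exp_iff_le] at this
          simpa using this
        have h2 : Q.1 z ≤ WithZero.exp (M : ℤ) * Q.1 c := by
          have := hM Q
          rw [map_div₀, div_le_iff₀ hpos] at this
          exact this
        calc Q.1 z * Q.1 ℓ ^ M ≤ (WithZero.exp (M : ℤ) * Q.1 c) * WithZero.exp (-1 : ℤ) ^ M :=
              mul_le_mul' h2 (pow_le_pow_left' h1 M)
          _ = Q.1 c := by
              rw [← WithZero.exp_nsmul, mul_comm (WithZero.exp (M : ℤ)), mul_assoc,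
                ← WithZero.exp_add]
              have : (M : ℤ) + M • (-1 : ℤ) = 0 := by simp
              rw [this, WithZero.exp_zero, mul_one]
      · calc Q.1 z * Q.1 ℓ ^ M ≤ Q.1 c * 1 := mul_le_mul' (not_lt.mp hlt) hℓQM
          _ = Q.1 c := mul_one _
  have := hcond _ hreg
  rwa [mul_div_cancel₀ _ hc0] at this

end Groth.Agent.Helper16.Emb
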