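import Groth.Agent.H16.Cond4
set_option autoImplicit false
set_option linter.unusedSimpArgs false

namespace Groth.Agent.Helper16.Emb

open FunFld Module Groth.Agent.Helper17.FF

variable {k K : Type*} [Field k] [Field K] [Algebra k K] {n : ℕ}

/-- the local ring at `P`, computed in a fixed chart `j` (top at `P`) -/
def LocJ (φ : Fin (n + 1) → K) (j : Fin (n + 1)) (P : Place k K) (z : K) : Prop :=
  ∃ u ∈ Algebra.adjoin k (Set.range fun i => φ i / φ j),
    ∃ w ∈ Algebra.adjoin k (Set.range fun i => φ i / φ j), P.1 w = 1 ∧ z * w = u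

theorem LocJ.inLocRing {φ : Fin (n + 1) → K} {j : Fin (n + 1)} {P : Place k K} {z : K}
    (hj0 : φ j ≠ 0) (hjP : ∀ i, P.1 (φ i) ≤ P.1 (φ j)) (h : LocJ φ j P z) : InLocRing φ P z := by
  obtain ⟨u, hu, w, hw, hPw, hzw⟩ := h
  exact ⟨j, hj0, hjP, u, hu, w, hw, hPw, hzw⟩

theorem locJ_of_inLocRing {φ : Fin (n + 1) → K} {j : Fin (n + 1)} {P : Place k K} {z : K}
    (hj0 : φ j ≠ 0) (hjP : ∀ i, P.1 (φ i) ≤ P.1 (φ j)) (h : InLocRing φ P z) : LocJ φ j P z := by
  obtain ⟨j', hj'0, hj'P, u, hu, w, hw, hPw, hzw⟩ := h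
  have hPt : P.1 (φ j' / φ j) = 1 := by
    rw [map_div₀]
    have e : P.1 (φ j') = P.1 (φ j) := le_antisymm (hjP j') (hj'P j)
    rw [e]
    exact div_self ((map_ne_zero P.1).mpr hj0)
  obtain ⟨m₁, h₁⟩ := change_index (k := k) φ hj0 hj'0 hu
  obtain ⟨m₂, h₂⟩ := change_index (k := k) φ hj0 hj'0 hw
  refine ⟨u * (φ j' / φ j) ^ (max m₁ m₂), h₁ _ (le_max_left _ _),
    w * (φ j' / φ j) ^ (max m₁ m₂), h₂ _ (le_max_right _ _), ?_, ?_⟩
  · rw [map_mul, map_pow, hPw, hPt, one_pow, one_mul]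
  · rw [← mul_assoc, hzw]

theorem LocJ.of_mem {φ : Fin (n + 1) → K} {j : Fin (n + 1)} {P : Place k K} {z : K}
    (h : z ∈ Algebra.adjoin k (Set.range fun i => φ i / φ j)) : LocJ φ j P z :=
  ⟨z, h, 1, Subalgebra.one_mem _, map_one _, mul_one _⟩

theorem LocJ.add {φ : Fin (n + 1) → K} {j : Fin (n + 1)} {P : Place k K} {z₁ z₂ : K}
    (h₁ : LocJ φ j P z₁) (h₂ : LocJ φ j P z₂) : LocJ φ j P (z₁ + z₂) := by
  obtain ⟨u₁, hu₁, w₁, hw₁, hP₁, e₁⟩ := h₁
  obtain ⟨u₂, hu₂, w₂, hw₂, hP₂, e₂⟩ := h₂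
  refine ⟨u₁ * w₂ + u₂ * w₁, Subalgebra.add_mem _ (Subalgebra.mul_mem _ hu₁ hw₂)
    (Subalgebra.mul_mem _ hu₂ hw₁), w₁ * w₂, Subalgebra.mul_mem _ hw₁ hw₂, ?_, ?_⟩
  · rw [map_mul, hP₁, hP₂, one_mul]
  · rw [← e₁, ← e₂]; ring

theorem LocJ.mul {φ : Fin (n + 1) → K} {j : Fin (n + 1)} {P : Place k K} {z₁ z₂ : K}
    (h₁ : LocJ φ j P z₁) (h₂ : LocJ φ j P z₂) : LocJ φ j P (z₁ * z₂) := by
  obtain ⟨u₁, hu₁, w₁, hw₁, hP₁, e₁⟩ := h₁
  obtain ⟨u₂, hu₂, w₂, hw₂, hP₂, e₂⟩ := h₂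
  refine ⟨u₁ * u₂, Subalgebra.mul_mem _ hu₁ hu₂, w₁ * w₂, Subalgebra.mul_mem _ hw₁ hw₂, ?_, ?_⟩
  · rw [map_mul, hP₁, hP₂, one_mul]
  · rw [← e₁, ← e₂]; ring

theorem LocJ.pow {φ : Fin (n + 1) → K} {j : Fin (n + 1)} {P : Place k K} {z : K}
    (h : LocJ φ j P z) (m : ℕ) : LocJ φ j P (z ^ m) := by
  induction m with
  | zero => rw [pow_zero]; exact LocJ.of_mem (Subalgebra.one_mem _)
  | succ m ih => rw [pow_succ]; exact ih.mul h

/-- the local ring is contained in the valuation ring -/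
theorem LocJ.val_le {φ : Fin (n + 1) → K} {j : Fin (n + 1)} {P : Place k K} {z : K}
    (hjP : ∀ i, P.1 (φ i) ≤ P.1 (φ j)) (h : LocJ φ j P z) : P.1 z ≤ 1 := by
  obtain ⟨u, hu, w, hw, hPw, hzw⟩ := h
  have : P.1 z = P.1 u := by rw [← hzw, map_mul, hPw, mul_one]
  rw [this]
  exact A_le_O P φ hjP hu

/-- if the local ring contains a local parameter and all functions vanishing to high order at `P`,
then it is the whole valuation ring -/
theorem locJ_of_param [IsAlgClosed k] (hK : IsFunctionField k K) {φ : Fin (n + 1) → K}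
    {j : Fin (n + 1)} {P : Place k K} {t : K} (ht : LocJ φ j P t)
    (htP : P.1 t = WithZero.exp (-1 : ℤ)) (N : ℕ)
    (hN : ∀ z : K, P.1 z ≤ WithZero.exp (-(N : ℤ)) → LocJ φ j P z) :
    ∀ z : K, P.1 z ≤ 1 → LocJ φ j P z := by
  have ht0 : t ≠ 0 := by
    rintro rfl
    rw [map_zero] at htP
    exact WithZero.exp_ne_zero htP.symm
  have key : ∀ m : ℕ, ∀ z : K, P.1 z ≤ 1 →
      ∃ y, LocJ φ j P y ∧ P.1 (z - y) ≤ WithZero.exp (-(m : ℤ)) := by
    intro m
    induction m with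
    | zero =>
      intro z hz
      exact ⟨0, LocJ.of_mem (Subalgebra.zero_mem _), by simpa using hz⟩
    | succ m ih =>
      intro z hz
      obtain ⟨y, hy, hzy⟩ := ih z hz
      have hr : P.1 ((z - y) / t ^ m) ≤ 1 := by
        rw [map_div₀, map_pow, htP, ← WithZero.exp_nsmul]
        rw [div_le_one₀ (zero_lt_iff.mpr WithZero.exp_ne_zero)]
        convert hzy using 2
        simp
      obtain ⟨c, hc⟩ := Groth.Agent.Helper16.LLS.exists_const_sub_lt hK P hr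
      refine ⟨y + algebraMap k K c * t ^ m,
        hy.add ((LocJ.of_mem (Subalgebra.algebraMap_mem _ c)).mul (ht.pow m)), ?_⟩
      have e : z - (y + algebraMap k K c * t ^ m) =
          ((z - y) / t ^ m - algebraMap k K c) * t ^ m := by
        field_simp
        ring
      rw [e, map_mul, map_pow, htP, ← WithZero.exp_nsmul]
      have hc' : P.1 ((z - y) / t ^ m - algebraMap k K c) ≤ WithZero.exp (-1 : ℤ) := by
        have : P.1 ((z - y) / t ^ m - algebraMap k K c) < WithZero.exp (0 : ℤ) := by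
          rw [WithZero.exp_zero]; exact hc
        rw [val_lt_exp_iff_le] at this
        simpa using this
      calc P.1 ((z - y) / t ^ m - algebraMap k K c) * WithZero.exp (m • (-1 : ℤ))
          ≤ WithZero.exp (-1 : ℤ) * WithZero.exp (m • (-1 : ℤ)) := mul_le_mul' hc' le_rfl
        _ = WithZero.exp (-((m + 1 : ℕ) : ℤ)) := by
          rw [← WithZero.exp_add]
          congr 1
          simp only [nsmul_eq_mul]
          push_cast
          ring
  intro z hz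
  obtain ⟨y, hy, hzy⟩ := key N z hz
  have := (hN _ hzy).add hy
  rwa [sub_add_cancel] at this

end Groth.Agent.Helper16.Emb
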