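import Groth.Agent.H16.Cond5
import Groth.Agent.Lib.Helper17.FF26
set_option autoImplicit false
set_option linter.unusedSimpArgs false

namespace Groth.Agent.Helper16.Emb

open FunFld Module Groth.Agent.Helper17.FF

variable {k K : Type*} [Field k] [Field K] [Algebra k K] {n : ℕ}

/-- codimension two criterion for `W ∩ L(D - P - Q)` -/
theorem codim_two_iff [IsAlgClosed k] (hK : IsFunctionField k K) (D : Divisor k K)
    (W : Submodule k K) [FiniteDimensional k W] (hW : W ≤ L D) (P Q : Place k K)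
    (hbpf : ∃ g ∈ W, P.1 g = WithZero.exp (D P)) :
    finrank k ↥(W ⊓ L (D - Finsupp.single P 1 - Finsupp.single Q 1)) + 2 = finrank k ↥W ↔
      ∃ f ∈ W, f ∈ L (D - Finsupp.single P 1) ∧
        f ∉ L (D - Finsupp.single P 1 - Finsupp.single Q 1) := by
  have hWD : W ⊓ L D = W := inf_eq_left.mpr hW
  haveI : FiniteDimensional k ↥(W ⊓ L D) := by rw [hWD]; infer_instance
  haveI : FiniteDimensional k ↥(W ⊓ L (D - Finsupp.single P 1)) :=
    Submodule.finiteDimensional_of_le (inf_le_left : W ⊓ L (D - Finsupp.single P 1) ≤ W)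
  have h1 := finrank_inf_L_sub_single hK W (D - Finsupp.single P 1) Q
  have h2 := finrank_inf_L_sub_single hK W D P
  rw [Groth.Agent.Helper16.LLS.deg_eq_one hK] at h1 h2
  have h3 : finrank k ↥(W ⊓ L (D - Finsupp.single P 1)) < finrank k ↥(W ⊓ L D) := by
    apply Submodule.finrank_lt_finrank_of_lt
    refine lt_of_le_of_ne (inf_le_inf_left W (L_mono ?_)) ?_
    · intro R
      rw [Finsupp.sub_apply]
      have : (0 : ℤ) ≤ (Finsupp.single P (1 : ℤ)) R := by
        classical
        rw [Finsupp.single_apply]; split_ifs <;> norm_num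
      linarith
    · intro heq
      obtain ⟨g, hg, hgP⟩ := hbpf
      have : g ∈ W ⊓ L (D - Finsupp.single P 1) := by
        rw [heq]; exact ⟨hg, hW hg⟩
      exact not_mem_of_val_eq hgP this.2
  have h4 : finrank k ↥(W ⊓ L (D - Finsupp.single P 1 - Finsupp.single Q 1)) ≤
      finrank k ↥(W ⊓ L (D - Finsupp.single P 1)) := by
    apply finrank_inf_L_mono
    intro R
    rw [Finsupp.sub_apply]
    have : (0 : ℤ) ≤ (Finsupp.single Q (1 : ℤ)) R := by
      classical
      rw [Finsupp.single_apply]; split_ifs <;> norm_num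
    linarith
  have hc : finrank k ↥(W ⊓ L D) = finrank k ↥W := by rw [hWD]
  constructor
  · intro h
    by_contra hno
    push_neg at hno
    have hle : W ⊓ L (D - Finsupp.single P 1) ≤
        W ⊓ L (D - Finsupp.single P 1 - Finsupp.single Q 1) := by
      intro f hf
      exact ⟨hf.1, hno f hf.1 hf.2⟩
    haveI : FiniteDimensional k ↥(W ⊓ L (D - Finsupp.single P 1 - Finsupp.single Q 1)) :=
      Submodule.finiteDimensional_of_le
        (inf_le_left : W ⊓ L (D - Finsupp.single P 1 - Finsupp.single Q 1) ≤ W)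
    have := Submodule.finrank_mono hle
    omega
  · rintro ⟨f, hfW, hf1, hf2⟩
    have hlt : finrank k ↥(W ⊓ L (D - Finsupp.single P 1 - Finsupp.single Q 1)) <
        finrank k ↥(W ⊓ L (D - Finsupp.single P 1)) := by
      apply Submodule.finrank_lt_finrank_of_lt
      refine lt_of_le_of_ne (inf_le_inf_left W (L_mono ?_)) ?_
      · intro R
        rw [Finsupp.sub_apply]
        have : (0 : ℤ) ≤ (Finsupp.single Q (1 : ℤ)) R := by
          classical
          rw [Finsupp.single_apply]; split_ifs <;> norm_num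
        linarith
      · intro heq
        have : f ∈ W ⊓ L (D - Finsupp.single P 1 - Finsupp.single Q 1) := by
          rw [heq]; exact ⟨hfW, hf1⟩
        exact hf2 this.2
    omega


/-- the sections `φ_i - c_i φ_j` vanish at `P` -/
theorem g_mem_L (hK : IsFunctionField k K) (φ : Fin (n + 1) → K) (hφ0 : ∀ i, φ i ≠ 0)
    {j : Fin (n + 1)} {P : Place k K} (hjP : ∀ i, P.1 (φ i) ≤ P.1 (φ j)) {c : k} {i : Fin (n + 1)}
    (hc : P.1 (φ i / φ j - algebraMap k K c) < 1) :
    φ i - algebraMap k K c * φ j ∈ L (mapDiv k φ - Finsupp.single P 1) := by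
  classical
  have hW : φ i - algebraMap k K c * φ j ∈ L (mapDiv k φ) := by
    apply Submodule.sub_mem _ (mem_L_mapDiv hK φ hφ0 i)
    rw [← Algebra.smul_def]
    exact Submodule.smul_mem _ _ (mem_L_mapDiv hK φ hφ0 j)
  intro R
  by_cases hR : R = P
  · subst hR
    rw [Finsupp.sub_apply, Finsupp.single_eq_same, ← val_lt_exp_iff_le]
    have e : φ i - algebraMap k K c * φ j = (φ i / φ j - algebraMap k K c) * φ j := by
      field_simp [hφ0 j]
    rw [e, map_mul, ← (top_iff hK φ hφ0 R j).mp hjP]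
    have hpos : 0 < R.1 (φ j) := zero_lt_iff.mpr ((map_ne_zero R.1).mpr (hφ0 j))
    calc R.1 (φ i / φ j - algebraMap k K c) * R.1 (φ j) < 1 * R.1 (φ j) :=
          mul_lt_mul_of_pos_right hc hpos
      _ = R.1 (φ j) := one_mul _
  · rw [Finsupp.sub_apply, Finsupp.single_eq_of_ne (Ne.symm (Ne.symm hR)), sub_zero]
    exact hW R

theorem g_mem_W (φ : Fin (n + 1) → K) (i j : Fin (n + 1)) (c : k) :
    φ i - algebraMap k K c * φ j ∈ Submodule.span k (Set.range φ) := by
  apply Submodule.sub_mem _ (Submodule.subset_span (Set.mem_range_self i))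
  rw [← Algebra.smul_def]
  exact Submodule.smul_mem _ _ (Submodule.subset_span (Set.mem_range_self j))

/-- a section vanishing at `P` but not at a place `Q` with a different image point -/
theorem exists_section_sep (hK : IsFunctionField k K) (φ : Fin (n + 1) → K)
    (hφ0 : ∀ i, φ i ≠ 0) {j : Fin (n + 1)} {P Q : Place k K}
    (hjP : ∀ i, P.1 (φ i) ≤ P.1 (φ j)) (c : Fin (n + 1) → k)
    (hc : ∀ i, P.1 (φ i / φ j - algebraMap k K (c i)) < 1) (hPQ : ¬ SameImage φ P Q) :
    ∃ i, Q.1 (φ i - algebraMap k K (c i) * φ j) = WithZero.exp (mapDiv k φ Q) := by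
  by_contra hno
  push_neg at hno
  have hlt : ∀ i, Q.1 (φ i - algebraMap k K (c i) * φ j) < WithZero.exp (mapDiv k φ Q) := by
    intro i
    refine lt_of_le_of_ne ?_ (hno i)
    have := g_mem_W (k := k) φ i j (c i)
    exact span_le_L_mapDiv hK φ hφ0 this Q
  obtain ⟨j', hj'⟩ := exists_val_eq_mapDiv hK φ hφ0 Q
  have hcj : Q.1 (algebraMap k K (c j') * φ j) = Q.1 (φ j') := by
    by_contra hne
    have hle : Q.1 (algebraMap k K (c j') * φ j) ≤ Q.1 (φ j') := by
      rw [map_mul, hj']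
      calc Q.1 (algebraMap k K (c j')) * Q.1 (φ j) ≤ 1 * WithZero.exp (mapDiv k φ Q) :=
            mul_le_mul' (Q.2.1 _) (val_le_mapDiv hK φ hφ0 Q j)
        _ = _ := one_mul _
    have h1 := Valuation.map_sub_eq_of_lt_left Q.1 (lt_of_le_of_ne hle hne)
    have h2 := hlt j'
    rw [h1, hj'] at h2
    exact lt_irrefl _ h2
  have hjQ' : Q.1 (φ j) = WithZero.exp (mapDiv k φ Q) := by
    apply le_antisymm (val_le_mapDiv hK φ hφ0 Q j)
    rw [← hj', ← hcj, map_mul]
    calc Q.1 (algebraMap k K (c j')) * Q.1 (φ j) ≤ 1 * Q.1 (φ j) := mul_le_mul' (Q.2.1 _) le_rfl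
      _ = _ := one_mul _
  have hjQ : ∀ i, Q.1 (φ i) ≤ Q.1 (φ j) := (top_iff hK φ hφ0 Q j).mpr hjQ'
  apply hPQ
  refine ⟨j, hφ0 j, hjP, hjQ, fun i => ⟨c i, hc i, ?_⟩⟩
  have e : φ i / φ j - algebraMap k K (c i) = (φ i - algebraMap k K (c i) * φ j) / φ j := by
    field_simp [hφ0 j]
  have hpos : 0 < Q.1 (φ j) := zero_lt_iff.mpr ((map_ne_zero Q.1).mpr (hφ0 j))
  rw [e, map_div₀, div_lt_one₀ hpos, hjQ']
  exact hlt i

/-- if the local ring contains a local parameter then some `x_i - c_i` is a local parameter -/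
theorem exists_section_param (φ : Fin (n + 1) → K) {j : Fin (n + 1)} {P : Place k K}
    (hjP : ∀ i, P.1 (φ i) ≤ P.1 (φ j)) (c : Fin (n + 1) → k)
    (hc : ∀ i, P.1 (φ i / φ j - algebraMap k K (c i)) < 1) {t : K} (ht : LocJ φ j P t)
    (htP : P.1 t = WithZero.exp (-1 : ℤ)) :
    ∃ i, P.1 (φ i / φ j - algebraMap k K (c i)) = WithZero.exp (-1 : ℤ) := by
  obtain ⟨u, hu, w, hw, hPw, htw⟩ := ht
  have hPu : P.1 u = WithZero.exp (-1 : ℤ) := by rw [← htw, map_mul, hPw, mul_one, htP]
  obtain ⟨c₀, a, ha, eu⟩ := A_decomp φ j c hu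
  have hvd := val_decomp P φ hjP c hc (c₀ := c₀) ha
  have hc₀ : c₀ = 0 := by
    by_contra hne
    have := hvd.2 hne
    rw [← eu, hPu] at this
    have h2 : WithZero.exp (-1 : ℤ) < WithZero.exp (0 : ℤ) := WithZero.exp_lt_exp.mpr (by norm_num)
    rw [this, WithZero.exp_zero] at h2
    exact lt_irrefl _ h2
  by_contra hno
  push_neg at hno
  have hle2 : ∀ i, P.1 (φ i / φ j - algebraMap k K (c i)) ≤ WithZero.exp (-2 : ℤ) := by
    intro i
    have h1 : P.1 (φ i / φ j - algebraMap k K (c i)) < WithZero.exp (0 : ℤ) := by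
      rw [WithZero.exp_zero]; exact hc i
    rw [val_lt_exp_iff_le] at h1
    have h2 : P.1 (φ i / φ j - algebraMap k K (c i)) < WithZero.exp (-1 : ℤ) :=
      lt_of_le_of_ne (by simpa using h1) (hno i)
    rw [val_lt_exp_iff_le] at h2
    simpa using h2
  have hsum : P.1 u ≤ WithZero.exp (-2 : ℤ) := by
    rw [eu, hc₀, map_zero, zero_add]
    apply Valuation.map_sum_le
    intro i _
    rw [map_mul]
    calc P.1 (a i) * P.1 (φ i / φ j - algebraMap k K (c i)) ≤ 1 * WithZero.exp (-2 : ℤ) :=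
          mul_le_mul' (A_le_O P φ hjP (ha i)) (hle2 i)
      _ = _ := one_mul _
  rw [hPu, WithZero.exp_le_exp] at hsum
  norm_num at hsum

end Groth.Agent.Helper16.Emb
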