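import Groth.Agent.H16.Cond6
set_option autoImplicit false
set_option linter.unusedSimpArgs false

namespace Groth.Agent.Helper16.Emb

open FunFld Module Groth.Agent.Helper17.FF

variable {k K : Type*} [Field k] [Field K] [Algebra k K] {n : ℕ}

theorem deg_sum {ι : Type*} (s : Finset ι) (D : ι → Divisor k K) :
    (∑ i ∈ s, D i).deg = ∑ i ∈ s, (D i).deg := by
  classical
  induction s using Finset.induction_on with
  | empty => simp [deg_zero]
  | insert a s ha ih => rw [Finset.sum_insert ha, Finset.sum_insert ha, deg_add, ih]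

/-- RR: a function, unit at `P`, with poles only at `Pinf`, vanishing to prescribed orders at the
places of a finite set -/
theorem exists_unit_vanishing [IsAlgClosed k] (hK : IsFunctionField k K) (Pinf P : Place k K)
    (hP : P ≠ Pinf) (S : Finset (Place k K)) (hPS : P ∉ S) (m : Place k K → ℕ) :
    ∃ h : K, P.1 h = 1 ∧ (∀ Q ∈ S, Q ≠ Pinf → Q.1 h ≤ WithZero.exp (-(m Q : ℤ))) ∧
      ∀ Q, Q ≠ Pinf → Q.1 h ≤ 1 := by
  classical
  set M : ℤ := 2 * (genus k K : ℤ) + ∑ Q ∈ S, (m Q : ℤ) with hM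
  set E : Divisor k K := Finsupp.single Pinf M - ∑ Q ∈ S, Finsupp.single Q (m Q : ℤ) with hE
  have hEapp : ∀ Q, Q ≠ Pinf → E Q = -(if Q ∈ S then (m Q : ℤ) else 0) := by
    intro Q hQ
    rw [hE, Finsupp.sub_apply, Finsupp.single_eq_of_ne (Ne.symm (Ne.symm hQ)),
      Finsupp.finsetSum_apply, zero_sub]
    congr 1
    simp only [Finsupp.single_apply]
    rw [Finset.sum_ite_eq' S Q (fun Q' => (m Q' : ℤ))]
  have hdeg : E.deg = 2 * (genus k K : ℤ) := by
    rw [hE, deg_sub, deg_single, deg_sum, Groth.Agent.Helper16.LLS.deg_eq_one hK]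
    have : ∀ Q ∈ S, Divisor.deg (k := k) (K := K) (Finsupp.single Q (m Q : ℤ)) = (m Q : ℤ) := by
      intro Q _
      rw [deg_single, Groth.Agent.Helper16.LLS.deg_eq_one hK]; simp
    rw [Finset.sum_congr rfl this, hM]
    push_cast
    ring
  obtain ⟨h, hhL, hhP⟩ := exists_exact hK E (le_of_eq hdeg.symm) P
  refine ⟨h, ?_, ?_, ?_⟩
  · rw [hhP, hEapp P hP, if_neg hPS, neg_zero, WithZero.exp_zero]
  · intro Q hQS hQ
    have := hhL Q
    rwa [hEapp Q hQ, if_pos hQS] at this
  · intro Q hQ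
    have := hhL Q
    rw [hEapp Q hQ] at this
    refine this.trans ?_
    calc WithZero.exp (-(if Q ∈ S then (m Q : ℤ) else 0)) ≤ WithZero.exp (0 : ℤ) := by
          rw [WithZero.exp_le_exp]
          split_ifs
          · have : (0 : ℤ) ≤ (m Q : ℤ) := Int.natCast_nonneg _
            linarith
          · norm_num
      _ = 1 := WithZero.exp_zero

/-- there is a place where `φ j` is not of least order -/
theorem exists_not_top (hK : IsFunctionField k K) (hn : 1 ≤ n) (φ : Fin (n + 1) → K)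
    (hφ : LinearIndependent k φ) (j : Fin (n + 1)) :
    ∃ Q : Place k K, ¬ ∀ i, Q.1 (φ i) ≤ Q.1 (φ j) := by
  have hφ0 : ∀ i, φ i ≠ 0 := fun i => hφ.ne_zero i
  by_contra hno
  push_neg at hno
  have h1 : FunFld.div k (φ j) + mapDiv k φ = 0 := by
    ext Q
    have := (top_iff hK φ hφ0 Q j).mp (hno Q)
    rw [val_eq_exp_neg_ord Q (hφ0 j)] at this
    have := WithZero.exp_injective this
    rw [Finsupp.add_apply, div_apply hK, Finsupp.zero_apply]
    linarith
  have h2 := congrArg Divisor.deg h1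
  rw [deg_add, deg_div hK, deg_zero] at h2
  have := deg_mapDiv_pos hK hn φ hφ
  linarith

/-- the places where `φ j` is not of least order are finitely many -/
theorem finite_not_top (hK : IsFunctionField k K) (φ : Fin (n + 1) → K)
    (hφ0 : ∀ i, φ i ≠ 0) (j : Fin (n + 1)) :
    {Q : Place k K | ¬ ∀ i, Q.1 (φ i) ≤ Q.1 (φ j)}.Finite := by
  apply Set.Finite.subset (FunFld.div k (φ j) + mapDiv k φ).support.finite_toSet
  intro Q hQ
  simp only [Set.mem_setOf_eq] at hQ
  rw [top_iff hK φ hφ0 Q j] at hQ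
  have hlt : Q.1 (φ j) < WithZero.exp (mapDiv k φ Q) :=
    lt_of_le_of_ne (val_le_mapDiv hK φ hφ0 Q j) hQ
  rw [val_lt_exp_iff Q (hφ0 j)] at hlt
  rw [Finset.mem_coe, Finsupp.mem_support_iff, Finsupp.add_apply, div_apply hK]
  omega


theorem LocJ.inv {φ : Fin (n + 1) → K} {j : Fin (n + 1)} {P : Place k K} {x : K}
    (h : LocJ φ j P x) (hx : P.1 x = 1) : LocJ φ j P x⁻¹ := by
  obtain ⟨u, hu, w, hw, hPw, e⟩ := h
  have hx0 : x ≠ 0 := by
    rintro rfl
    rw [map_zero] at hx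
    exact zero_ne_one hx
  refine ⟨w, hw, u, hu, ?_, ?_⟩
  · rw [← e, map_mul, hx, hPw, one_mul]
  · rw [← e, ← mul_assoc, inv_mul_cancel₀ hx0, one_mul]

/-- at a finite place where the conductor is a unit the map is nonsingular -/
theorem nonsingular_of_conductor_unit [IsAlgClosed k] (hK : IsFunctionField k K) (hn : 1 ≤ n)
    (φ : Fin (n + 1) → K) (hφ : LinearIndependent k φ) {j : Fin (n + 1)} {c : K}
    (hc : c ∈ Algebra.adjoin k (Set.range fun i => φ i / φ j))
    (hcond : ∀ x : K, (∀ Q : Place k K, (∀ i, Q.1 (φ i) ≤ Q.1 (φ j)) → Q.1 x ≤ 1) →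
      c * x ∈ Algebra.adjoin k (Set.range fun i => φ i / φ j))
    {P : Place k K} (hjP : ∀ i, P.1 (φ i) ≤ P.1 (φ j)) (hcP : P.1 c = 1) :
    IsNonsingularAt φ P := by
  classical
  have hφ0 : ∀ i, φ i ≠ 0 := fun i => hφ.ne_zero i
  obtain ⟨Pinf, hPinf⟩ := exists_not_top hK hn φ hφ j
  have hPne : P ≠ Pinf := by
    rintro rfl
    exact hPinf hjP
  have hR : ∀ x : K, (∀ Q : Place k K, (∀ i, Q.1 (φ i) ≤ Q.1 (φ j)) → Q.1 x ≤ 1) →
      LocJ φ j P x := fun x hx => ⟨c * x, hcond x hx, c, hc, hcP, mul_comm _ _⟩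
  intro z hz
  by_cases hz0 : z = 0
  · rw [hz0]
    exact (LocJ.of_mem (Subalgebra.zero_mem _)).inLocRing (hφ0 j) hjP
  have hSfin : {Q : Place k K | 1 < Q.1 z}.Finite :=
    (finite_val_ne_one hK hz0).subset (fun Q hQ => ne_of_gt hQ)
  have hPS : P ∉ hSfin.toFinset := by
    rw [Set.Finite.mem_toFinset]
    exact not_lt.mpr hz
  obtain ⟨h, hhP, hhS, hhle⟩ := exists_unit_vanishing hK Pinf P hPne hSfin.toFinset hPS
    (fun Q => (-(Q.ord z)).toNat)
  have hnePinf : ∀ Q : Place k K, (∀ i, Q.1 (φ i) ≤ Q.1 (φ j)) → Q ≠ Pinf := by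
    rintro Q hQ rfl
    exact hPinf hQ
  have hh : LocJ φ j P h := hR h (fun Q hQ => hhle Q (hnePinf Q hQ))
  have hzh : LocJ φ j P (z * h) := by
    apply hR
    intro Q hQ
    rw [map_mul]
    by_cases hlt : 1 < Q.1 z
    · have hQS : Q ∈ hSfin.toFinset := by
        rw [Set.Finite.mem_toFinset]; exact hlt
      have h1 := hhS Q hQS (hnePinf Q hQ)
      have hneg : Q.ord z < 0 := (ord_neg_iff Q hz0).mpr hlt
      have h2 : ((-(Q.ord z)).toNat : ℤ) = -(Q.ord z) := Int.toNat_of_nonneg (by linarith)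
      rw [h2, neg_neg] at h1
      rw [val_eq_exp_neg_ord Q hz0]
      calc WithZero.exp (-(Q.ord z)) * Q.1 h ≤ WithZero.exp (-(Q.ord z)) * WithZero.exp (Q.ord z) :=
            mul_le_mul' le_rfl h1
        _ = 1 := by rw [← WithZero.exp_add, neg_add_cancel, WithZero.exp_zero]
    · calc Q.1 z * Q.1 h ≤ 1 * 1 := mul_le_mul' (not_lt.mp hlt) (hhle Q (hnePinf Q hQ))
        _ = 1 := one_mul _
  have hh0 : h ≠ 0 := by
    rintro rfl
    rw [map_zero] at hhP
    exact zero_ne_one hhP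
  have := hzh.mul (hh.inv hhP)
  rw [mul_assoc, mul_inv_cancel₀ hh0, mul_one] at this
  exact this.inLocRing (hφ0 j) hjP

/-- S11058: a birational projective map is nonsingular at all but finitely many places -/
theorem finite_singular [IsAlgClosed k] (hK : IsFunctionField k K) (hn : 1 ≤ n)
    (φ : Fin (n + 1) → K) (hφ : LinearIndependent k φ)
    (hbir : IntermediateField.adjoin k (Set.range fun i => φ i / φ 0) = ⊤) :
    {P : Place k K | ¬ IsNonsingularAt φ P}.Finite := by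
  have hφ0 : ∀ i, φ i ≠ 0 := fun i => hφ.ne_zero i
  obtain ⟨c, hc, hc0, hcond⟩ := exists_conductor hK hn φ hφ hbir 0
  refine ((finite_not_top hK φ hφ0 0).union (finite_val_ne_one hK hc0)).subset ?_
  intro P hP
  by_contra hnot
  simp only [Set.mem_union, Set.mem_setOf_eq, not_or, not_not] at hnot
  exact hP (nonsingular_of_conductor_unit hK hn φ hφ hc hcond hnot.1 hnot.2)

end Groth.Agent.Helper16.Emb
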