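import Groth.Agent.H16.Cond7
set_option autoImplicit false
set_option linter.unusedSimpArgs false

namespace Groth.Agent.Helper16.Emb

open FunFld Module Groth.Agent.Helper17.FF

variable {k K : Type*} [Field k] [Field K] [Algebra k K] {n : ℕ}

/-- every place has the same image point as itself -/
theorem sameImage_refl [IsAlgClosed k] (hK : IsFunctionField k K) (φ : Fin (n + 1) → K)
    (hφ0 : ∀ i, φ i ≠ 0) (P : Place k K) : SameImage φ P P := by
  obtain ⟨j, hj⟩ := Finite.exists_max (fun i => P.1 (φ i))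
  refine ⟨j, hφ0 j, hj, hj, fun i => ?_⟩
  obtain ⟨c, hc⟩ := Groth.Agent.Helper16.LLS.exists_const_sub_lt hK P
    (A_le_O P φ hj (Algebra.subset_adjoin (Set.mem_range_self i)))
  exact ⟨c, hc, hc⟩

/-- a section vanishes at `Q` iff it vanishes at `P`, for places with the same image point -/
theorem val_lt_iff_of_sameImage (hK : IsFunctionField k K) (φ : Fin (n + 1) → K)
    (hφ0 : ∀ i, φ i ≠ 0) {P Q : Place k K} (hS : SameImage φ P Q) {f : K}
    (hfW : f ∈ Submodule.span k (Set.range φ)) :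
    Q.1 f < WithZero.exp (mapDiv k φ Q) ↔ P.1 f < WithZero.exp (mapDiv k φ P) := by
  obtain ⟨j₁, hj₁0, hj₁P, hj₁Q, hcc⟩ := hS
  choose c₁ hc₁P hc₁Q using hcc
  have hfA := div_mem_A' (k := k) φ j₁ hfW
  obtain ⟨c₀, a, ha, eu⟩ := A_decomp φ j₁ c₁ hfA
  have hvP := val_decomp P φ hj₁P c₁ hc₁P (c₀ := c₀) ha
  have hvQ := val_decomp Q φ hj₁Q c₁ hc₁Q (c₀ := c₀) ha
  have hj₁P' : P.1 (φ j₁) = WithZero.exp (mapDiv k φ P) := (top_iff hK φ hφ0 P j₁).mp hj₁P
  have hj₁Q' : Q.1 (φ j₁) = WithZero.exp (mapDiv k φ Q) := (top_iff hK φ hφ0 Q j₁).mp hj₁Q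
  have hP : P.1 f < WithZero.exp (mapDiv k φ P) ↔ P.1 (f / φ j₁) < 1 := by
    rw [map_div₀, div_lt_one₀ (zero_lt_iff.mpr ((map_ne_zero P.1).mpr hj₁0)), hj₁P']
  have hQ : Q.1 f < WithZero.exp (mapDiv k φ Q) ↔ Q.1 (f / φ j₁) < 1 := by
    rw [map_div₀, div_lt_one₀ (zero_lt_iff.mpr ((map_ne_zero Q.1).mpr hj₁0)), hj₁Q']
  rw [hP, hQ, eu]
  by_cases hc₀ : c₀ = 0
  · exact ⟨fun _ => hvP.1 hc₀, fun _ => hvQ.1 hc₀⟩
  · constructor
    · intro h
      rw [hvQ.2 hc₀] at h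
      exact absurd h (lt_irrefl _)
    · intro h
      rw [hvP.2 hc₀] at h
      exact absurd h (lt_irrefl _)

/-- if the fibre is `{P}` and the affine ring contains a local parameter at `P`, the map is
nonsingular at `P` -/
theorem nonsingular_of_fibre_param [IsAlgClosed k] (hK : IsFunctionField k K) (hn : 1 ≤ n)
    (φ : Fin (n + 1) → K) (hφ : LinearIndependent k φ)
    (hbir : IntermediateField.adjoin k (Set.range fun i => φ i / φ 0) = ⊤) {P : Place k K}
    (hfib : ∀ Q : Place k K, SameImage φ P Q → Q = P) {j : Fin (n + 1)}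
    (hjP : ∀ i, P.1 (φ i) ≤ P.1 (φ j)) {t : K}
    (ht : t ∈ Algebra.adjoin k (Set.range fun i => φ i / φ j))
    (htP : P.1 t = WithZero.exp (-1 : ℤ)) : IsNonsingularAt φ P := by
  have hφ0 : ∀ i, φ i ≠ 0 := fun i => hφ.ne_zero i
  obtain ⟨N, hN⟩ := locring_of_vanishing hK hn φ hφ hbir P hjP
  have hN' : ∀ z : K, P.1 z ≤ WithZero.exp (-(N : ℤ)) → LocJ φ j P z := by
    intro z hz
    obtain ⟨h, hh, hhP, hzh⟩ := hN z (fun Q hQ => by rw [hfib Q hQ]; exact hz)
    exact ⟨z * h, hzh, h, hh, hhP, rfl⟩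
  intro z hz
  exact (locJ_of_param hK (LocJ.of_mem ht) htP N hN' z hz).inLocRing (hφ0 j) hjP

/-- intersection multiplicity one forces a one-point fibre and a simple zero -/
theorem fibre_singleton_of_mult_one [IsAlgClosed k] (hK : IsFunctionField k K)
    (φ : Fin (n + 1) → K) (hφ0 : ∀ i, φ i ≠ 0) {P : Place k K} {f : K}
    (hfW : f ∈ Submodule.span k (Set.range φ)) (hf0 : f ≠ 0)
    (hfin : {Q : Place k K | SameImage φ P Q}.Finite)
    (hsum : ∑ᶠ Q ∈ {Q : Place k K | SameImage φ P Q}, (mapDiv k φ Q + Q.ord f) = 1) :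
    (∀ Q : Place k K, SameImage φ P Q → Q = P) ∧
      P.1 f = WithZero.exp (mapDiv k φ P - 1) := by
  classical
  have hT0 : ∀ Q : Place k K, 0 ≤ mapDiv k φ Q + Q.ord f := by
    intro Q
    have := (val_le_exp_iff Q hf0 _).1 (span_le_L_mapDiv hK φ hφ0 hfW Q)
    linarith
  have hTpos : ∀ Q : Place k K, 0 < mapDiv k φ Q + Q.ord f ↔
      Q.1 f < WithZero.exp (mapDiv k φ Q) := by
    intro Q
    rw [val_lt_exp_iff Q hf0]
    constructor <;> intro h <;> linarith
  rw [finsum_mem_eq_finite_toFinset_sum _ hfin] at hsum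
  have hPP : P ∈ hfin.toFinset := by
    rw [Set.Finite.mem_toFinset]; exact sameImage_refl hK φ hφ0 P
  -- some term is positive
  have hex : ∃ Q₀ ∈ hfin.toFinset, 0 < mapDiv k φ Q₀ + Q₀.ord f := by
    by_contra hno
    push_neg at hno
    have : ∑ Q ∈ hfin.toFinset, (mapDiv k φ Q + Q.ord f) = 0 :=
      Finset.sum_eq_zero (fun Q hQ => le_antisymm (hno Q hQ) (hT0 Q))
    rw [this] at hsum
    exact zero_ne_one hsum
  obtain ⟨Q₀, hQ₀, hQ₀pos⟩ := hex
  rw [Set.Finite.mem_toFinset] at hQ₀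
  have hPpos : 0 < mapDiv k φ P + P.ord f :=
    (hTpos P).mpr ((val_lt_iff_of_sameImage hK φ hφ0 hQ₀ hfW).mp ((hTpos Q₀).mp hQ₀pos))
  have hfib : ∀ Q : Place k K, SameImage φ P Q → Q = P := by
    intro Q hQ
    by_contra hne
    have hQpos : 0 < mapDiv k φ Q + Q.ord f :=
      (hTpos Q).mpr ((val_lt_iff_of_sameImage hK φ hφ0 hQ hfW).mpr ((hTpos P).mp hPpos))
    have hsub : ({P, Q} : Finset (Place k K)) ⊆ hfin.toFinset := by
      intro R hR
      rw [Finset.mem_insert, Finset.mem_singleton] at hR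
      rcases hR with rfl | rfl
      · exact hPP
      · rw [Set.Finite.mem_toFinset]; exact hQ
    have h2 := Finset.sum_le_sum_of_subset_of_nonneg hsub
      (f := fun Q => mapDiv k φ Q + Q.ord f) (fun R _ _ => hT0 R)
    rw [Finset.sum_pair (Ne.symm hne), hsum] at h2
    linarith
  refine ⟨hfib, ?_⟩
  have hsing : hfin.toFinset = {P} := by
    ext R
    rw [Set.Finite.mem_toFinset, Finset.mem_singleton]
    exact ⟨fun hR => hfib R hR, fun hR => hR ▸ sameImage_refl hK φ hφ0 P⟩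
  rw [hsing, Finset.sum_singleton] at hsum
  rw [val_eq_exp_neg_ord P hf0]
  congr 1
  linarith

end Groth.Agent.Helper16.Emb
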