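import Mathlib
import Groth.Prelude.Def_W4bk4grassmannianPl
import Groth.Agent.H16.SO1

set_option autoImplicit false
set_option linter.unusedSectionVars false

/-! Quadratic straightening relations: shape of the standard pairs that occur. -/

namespace Groth.Agent.H16.SM

open W4bk4grassmannian MvPolynomial
open scoped MonomialOrder

universe u

variable {d n : ℕ}

/-- the row weight of a variable. -/
def rwt (d n : ℕ) : Var d n → ℕ := fun v => (ofLex v).1.val

theorem weight_Eexp (θ : Idx d n) (σ : Equiv.Perm (Fin d)) :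
    Finsupp.weight (rwt d n) (Eexp θ σ) = ST.ssum θ := by
  unfold Eexp ST.ssum
  rw [map_sum]
  rw [← Equiv.sum_comp σ (fun t => (θ.1 t).val)]
  refine Finset.sum_congr rfl (fun t _ => ?_)
  rw [Finsupp.weight_single, one_smul]
  rfl

variable (K : Type u) [Field K]

theorem gminor_isWeightedHomogeneous (τ θ : Idx d n) :
    IsWeightedHomogeneous (rwt d n) (gminor K τ θ) (ST.ssum θ) := by
  unfold gminor
  rw [Matrix.det_apply]
  apply IsWeightedHomogeneous.sum
  intro σ _
  rw [prod_G]
  have h0 : IsWeightedHomogeneous (rwt d n)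
      (if ∀ t, θ.1 (σ t) ≤ τ.1 t then monomial (Eexp θ σ) (1 : K) else 0) (ST.ssum θ) := by
    split_ifs
    · exact isWeightedHomogeneous_monomial _ _ _ (weight_Eexp θ σ)
    · exact isWeightedHomogeneous_zero _ _ _
  rcases Int.units_eq_one_or (Equiv.Perm.sign σ) with h | h
  · rw [h, one_smul]; exact h0
  · rw [h, Units.neg_smul, one_smul]; exact h0.neg

theorem Phi_pmon_isWeightedHomogeneous (w : Idx d n) (p : SPair d n) :
    IsWeightedHomogeneous (rwt d n) (Phi K w (pmon K p)) (ST.ssum p.1.1 + ST.ssum p.1.2) := by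
  rw [Phi_pmon]
  exact (gminor_isWeightedHomogeneous K w p.1.1).mul (gminor_isWeightedHomogeneous K w p.1.2)

/-- a quadratic relation modulo the ideal of the Grassmannian. -/
def Rel2 (τ φ : Idx d n) (s : Finset (SPair d n)) (g : SPair d n → K) : Prop :=
  X τ * X φ - ∑ p ∈ s, g p • pmon K p ∈ vanishing K d n

theorem Phi_rel [Infinite K] (w τ φ : Idx d n) (s : Finset (SPair d n)) (g : SPair d n → K)
    (h : Rel2 K τ φ s g) :
    gminor K w τ * gminor K w φ = ∑ p ∈ s, g p • Phi K w (pmon K p) := by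
  have h1 := Phi_eq_zero_of_mem K w _ (vanishing_le K w h)
  rw [map_sub, map_mul, Phi_X, Phi_X, map_sum, sub_eq_zero] at h1
  rw [h1]
  refine Finset.sum_congr rfl (fun p _ => ?_)
  rw [map_smul]

theorem rel_sup [Infinite K] (τ φ : Idx d n) (s : Finset (SPair d n)) (g : SPair d n → K)
    (h : Rel2 K τ φ s g) : ∀ p ∈ s, g p ≠ 0 → τ ≤ p.1.1 ∧ φ ≤ p.1.1 := by
  intro p₀ hp₀ hg
  by_contra hcon
  have h1 := Phi_rel K p₀.1.1 τ φ s g h
  have h2 : gminor K p₀.1.1 τ * gminor K p₀.1.1 φ = 0 := by
    by_cases h3 : τ ≤ p₀.1.1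
    · have h4 : ¬ φ ≤ p₀.1.1 := fun h4 => hcon ⟨h3, h4⟩
      rw [gminor_eq_zero K _ φ h4, mul_zero]
    · rw [gminor_eq_zero K _ τ h3, zero_mul]
  rw [h2] at h1
  exact hg (pairs_li K p₀.1.1 s g h1.symm p₀ hp₀ le_rfl)

theorem rel_wt [Infinite K] (hdn : d ≤ n) (τ φ : Idx d n) (s : Finset (SPair d n))
    (g : SPair d n → K) (h : Rel2 K τ φ s g) :
    ∀ p ∈ s, g p ≠ 0 → ST.ssum p.1.1 + ST.ssum p.1.2 = ST.ssum τ + ST.ssum φ := by
  classical
  intro p₀ hp₀ hg
  by_contra hne
  have h1 := Phi_rel K (top hdn) τ φ s g h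
  have hL : IsWeightedHomogeneous (rwt d n) (gminor K (top hdn) τ * gminor K (top hdn) φ)
      (ST.ssum τ + ST.ssum φ) :=
    (gminor_isWeightedHomogeneous K _ τ).mul (gminor_isWeightedHomogeneous K _ φ)
  have h2 := congrArg (weightedHomogeneousComponent (rwt d n) (ST.ssum τ + ST.ssum φ)) h1
  rw [hL.weightedHomogeneousComponent_same, map_sum] at h2
  have h3 : ∀ p ∈ s, weightedHomogeneousComponent (rwt d n) (ST.ssum τ + ST.ssum φ)
      (g p • Phi K (top hdn) (pmon K p)) =
      (if ST.ssum p.1.1 + ST.ssum p.1.2 = ST.ssum τ + ST.ssum φ then g p else 0) •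
        Phi K (top hdn) (pmon K p) := by
    intro p _
    rw [map_smul]
    split_ifs with hw
    · rw [← hw, (Phi_pmon_isWeightedHomogeneous K _ p).weightedHomogeneousComponent_same]
    · rw [(Phi_pmon_isWeightedHomogeneous K _ p).weightedHomogeneousComponent_ne _ (Ne.symm hw),
        smul_zero, zero_smul]
  rw [Finset.sum_congr rfl h3] at h2
  have h4 : ∑ p ∈ s, (if ST.ssum p.1.1 + ST.ssum p.1.2 = ST.ssum τ + ST.ssum φ then 0 else g p) •
      Phi K (top hdn) (pmon K p) = 0 := by
    have h5 : ∑ p ∈ s, g p • Phi K (top hdn) (pmon K p) -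
        ∑ p ∈ s, (if ST.ssum p.1.1 + ST.ssum p.1.2 = ST.ssum τ + ST.ssum φ then g p else 0) •
          Phi K (top hdn) (pmon K p) = 0 := by
      rw [← h1, ← h2, sub_self]
    rw [← Finset.sum_sub_distrib] at h5
    rw [← h5]
    refine Finset.sum_congr rfl (fun p _ => ?_)
    split_ifs
    · rw [zero_smul, sub_self]
    · rw [zero_smul, sub_zero]
  have h6 := pairs_li K (top hdn) s _ h4 p₀ hp₀ (le_top' hdn _)
  rw [if_neg hne] at h6
  exact hg h6

theorem rel_lead [Infinite K] (hdn : d ≤ n) (τ φ : Idx d n) (s : Finset (SPair d n))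
    (g : SPair d n → K) (h : Rel2 K τ φ s g) (hs : ∀ p ∈ s, g p ≠ 0) (pstar : SPair d n)
    (hstar : Dexp pstar.1.1 + Dexp pstar.1.2 = Dexp τ + Dexp φ) :
    pstar ∈ s ∧ g pstar = 1 := by
  classical
  have h1 := Phi_rel K (top hdn) τ φ s g h
  set w := top hdn with hw
  have hτ : τ ≤ w := le_top' hdn τ
  have hφ : φ ≤ w := le_top' hdn φ
  have hmonic : MonomialOrder.lex.Monic (gminor K w τ * gminor K w φ) :=
    (monic_gminor K w τ hτ).mul (monic_gminor K w φ hφ)
  have hdeg : MonomialOrder.lex.degree (gminor K w τ * gminor K w φ) = Dexp τ + Dexp φ := by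
    rw [MonomialOrder.degree_mul (monic_gminor K w τ hτ).ne_zero (monic_gminor K w φ hφ).ne_zero,
      degree_gminor K w τ hτ, degree_gminor K w φ hφ]
  have hdegp : ∀ p : SPair d n, MonomialOrder.lex.degree (Phi K w (pmon K p)) =
      Dexp p.1.1 + Dexp p.1.2 := fun p => degree_Phi_pmon K w p (le_top' hdn _)
  have hsne : s.Nonempty := by
    by_contra hcon
    rw [Finset.not_nonempty_iff_eq_empty] at hcon
    rw [hcon, Finset.sum_empty] at h1
    exact hmonic.ne_zero h1
  obtain ⟨pm, hpm, hmax⟩ := Finset.exists_max_image s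
    (fun p => MonomialOrder.lex.toSyn (MonomialOrder.lex.degree (Phi K w (pmon K p)))) hsne
  -- the maximal exponent occurs on the left
  have hle : MonomialOrder.lex.degree (Phi K w (pmon K pm)) ≼[MonomialOrder.lex]
      (Dexp τ + Dexp φ) := by
    rw [← hdeg]
    apply MonomialOrder.le_degree
    rw [mem_support_iff, h1, coeff_sum, Finset.sum_eq_single_of_mem pm hpm]
    · rw [coeff_smul, smul_eq_mul]
      exact mul_ne_zero (hs pm hpm)
        (MonomialOrder.lex.coeff_degree_ne_zero_iff.mpr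
          (Phi_pmon_monic K w pm (le_top' hdn _)).ne_zero)
    · intro p hp hne
      rw [coeff_smul, smul_eq_mul]
      have hne2 : MonomialOrder.lex.degree (Phi K w (pmon K p)) ≠
          MonomialOrder.lex.degree (Phi K w (pmon K pm)) := by
        intro heq
        rw [hdegp, hdegp] at heq
        exact hne (pair_exp_injective p pm heq)
      have hlt := lt_of_le_of_ne (hmax p hp)
        (fun h => hne2 (MonomialOrder.lex.toSyn.injective h))
      rw [MonomialOrder.lex.coeff_eq_zero_of_lt hlt, mul_zero]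
  -- compare the coefficients of the leading exponent
  have hcoef := congrArg (coeff (Dexp τ + Dexp φ)) h1
  rw [← hdeg, hmonic.coeff_degree, hdeg, coeff_sum] at hcoef
  have hother : ∀ p ∈ s, p ≠ pstar →
      coeff (Dexp τ + Dexp φ) (g p • Phi K w (pmon K p)) = 0 := by
    intro p hp hne
    rw [coeff_smul, smul_eq_mul]
    have hne2 : MonomialOrder.lex.degree (Phi K w (pmon K p)) ≠ Dexp τ + Dexp φ := by
      intro heq
      rw [hdegp, ← hstar] at heq
      exact hne (pair_exp_injective p pstar heq)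
    have hlt := lt_of_le_of_ne (le_trans (hmax p hp) hle)
      (fun h => hne2 (MonomialOrder.lex.toSyn.injective h))
    rw [MonomialOrder.lex.coeff_eq_zero_of_lt hlt, mul_zero]
  by_cases hmem : pstar ∈ s
  · refine ⟨hmem, ?_⟩
    rw [Finset.sum_eq_single_of_mem pstar hmem (fun p hp hne => hother p hp hne),
      coeff_smul, smul_eq_mul] at hcoef
    have h5 : coeff (Dexp τ + Dexp φ) (Phi K w (pmon K pstar)) = 1 := by
      rw [← hstar, ← hdegp pstar]
      exact (Phi_pmon_monic K w pstar (le_top' hdn _)).coeff_degree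
    rw [h5, mul_one] at hcoef
    exact hcoef.symm
  · exfalso
    rw [Finset.sum_eq_zero (fun p hp => hother p hp (fun h => hmem (h ▸ hp)))] at hcoef
    exact one_ne_zero hcoef

end Groth.Agent.H16.SM
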