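import Mathlib
import Groth.Prelude.Def_W4bk4grassmannianPl
import Groth.Agent.H16.SO2

set_option autoImplicit false
set_option linter.unusedSectionVars false

/-! The order-reversing symmetry of the Grassmannian and the lower bound in quadratic
straightening relations. -/

namespace Groth.Agent.H16.SM

open W4bk4grassmannian MvPolynomial

universe u

variable {d n : ℕ}

/-- the order-reversing involution of `I(d,n)`. -/
def rho (θ : Idx d n) : Idx d n :=
  ⟨fun t => Fin.rev (θ.1 (Fin.rev t)), fun a b h => by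
    show Fin.rev (θ.1 (Fin.rev a)) < Fin.rev (θ.1 (Fin.rev b))
    rw [Fin.rev_lt_rev]
    exact θ.2 (Fin.rev_lt_rev.mpr h)⟩

theorem rho_rho (θ : Idx d n) : rho (rho θ) = θ := by
  apply Subtype.ext
  funext t
  show Fin.rev (Fin.rev (θ.1 (Fin.rev (Fin.rev t)))) = θ.1 t
  rw [Fin.rev_rev, Fin.rev_rev]

theorem rho_anti {α β : Idx d n} (h : α ≤ β) : rho β ≤ rho α := by
  intro t
  show Fin.rev (β.1 (Fin.rev t)) ≤ Fin.rev (α.1 (Fin.rev t))
  rw [Fin.rev_le_rev]
  exact h _

theorem rho_le_rho_iff {α β : Idx d n} : rho β ≤ rho α ↔ α ≤ β := by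
  constructor
  · intro h
    have := rho_anti h
    rwa [rho_rho, rho_rho] at this
  · exact rho_anti

theorem rho_injective : Function.Injective (rho (d := d) (n := n)) := by
  intro a b h
  rw [← rho_rho a, ← rho_rho b, h]

variable (K : Type u) [Field K]

theorem det_rho (A : Matrix (Fin n) (Fin d) K) (θ : Idx d n) :
    (A.submatrix (rho θ).1 id).det = ((A.submatrix Fin.rev Fin.rev).submatrix θ.1 id).det := by
  have h : A.submatrix (rho θ).1 id =
      (((A.submatrix Fin.rev Fin.rev).submatrix θ.1 id).submatrix Fin.revPerm Fin.revPerm) := by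
    ext s t
    simp only [Matrix.submatrix_apply, id, Fin.revPerm_apply, Fin.rev_rev]
    rfl
  rw [h, Matrix.det_submatrix_equiv_self]

theorem rename_rho_mem_vanishing (f : PlRing K d n) (hf : f ∈ vanishing K d n) :
    rename rho f ∈ vanishing K d n := by
  rw [mem_vanishing_iff] at hf ⊢
  intro A
  rw [eval_rename]
  have h : ((fun θ : Idx d n => (A.submatrix θ.1 id).det) ∘ rho) =
      fun θ : Idx d n => ((A.submatrix Fin.rev Fin.rev).submatrix θ.1 id).det := by
    funext θ
    exact det_rho K A θ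
  rw [h]
  exact hf _

/-- the induced involution on standard pairs. -/
def rho2 (p : SPair d n) : SPair d n := ⟨(rho p.1.2, rho p.1.1), rho_anti p.2⟩

theorem rho2_rho2 (p : SPair d n) : rho2 (rho2 p) = p := by
  apply Subtype.ext
  show (rho (rho p.1.1), rho (rho p.1.2)) = p.1
  rw [rho_rho, rho_rho]

theorem rho2_injective : Function.Injective (rho2 (d := d) (n := n)) := by
  intro a b h
  rw [← rho2_rho2 a, ← rho2_rho2 b, h]

theorem rename_pmon (p : SPair d n) : rename rho (pmon K p) = pmon K (rho2 p) := by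
  unfold pmon
  rw [map_mul, rename_X, rename_X, mul_comm]
  rfl

theorem rel_rho (τ φ : Idx d n) (s : Finset (SPair d n)) (g : SPair d n → K)
    (h : Rel2 K τ φ s g) : Rel2 K (rho τ) (rho φ) (s.image rho2) (g ∘ rho2) := by
  classical
  unfold Rel2 at h ⊢
  have h1 := rename_rho_mem_vanishing K _ h
  rw [map_sub, map_mul, rename_X, rename_X, map_sum] at h1
  have h2 : ∑ p ∈ s.image rho2, (g ∘ rho2) p • pmon K p =
      ∑ p ∈ s, (rename rho) (g p • pmon K p) := by
    rw [Finset.sum_image (fun x _ y _ hxy => rho2_injective hxy)]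
    refine Finset.sum_congr rfl (fun p _ => ?_)
    rw [Function.comp, rho2_rho2, map_smul, rename_pmon]
  rw [h2]
  exact h1

theorem rel_inf [Infinite K] (τ φ : Idx d n) (s : Finset (SPair d n)) (g : SPair d n → K)
    (h : Rel2 K τ φ s g) : ∀ p ∈ s, g p ≠ 0 → p.1.2 ≤ τ ∧ p.1.2 ≤ φ := by
  classical
  intro p hp hg
  have h1 := rel_sup K (rho τ) (rho φ) (s.image rho2) (g ∘ rho2) (rel_rho K τ φ s g h)
    (rho2 p) (Finset.mem_image_of_mem _ hp) (by rw [Function.comp, rho2_rho2]; exact hg)
  exact ⟨rho_le_rho_iff.mp h1.1, rho_le_rho_iff.mp h1.2⟩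

end Groth.Agent.H16.SM
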