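import Mathlib
import Groth.Prelude.Def_W4bk4grassmannianPl
import Groth.Agent.H16.SO3

set_option autoImplicit false
set_option linter.unusedSectionVars false

/-! Shape of the straightening relation of a pair of Plücker coordinates. -/

namespace Groth.Agent.H16.SM

open W4bk4grassmannian MvPolynomial

universe u

variable {d n : ℕ}

theorem eq_of_le_of_ssum_eq {α β : Idx d n} (h : α ≤ β) (hs : ST.ssum α = ST.ssum β) : α = β := by
  unfold ST.ssum at hs
  have h1 := (Finset.sum_eq_sum_iff_of_le (s := Finset.univ) (f := fun t => (α.1 t).val)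
    (g := fun t => (β.1 t).val) (fun t _ => Fin.le_def.mp (h t))).mp hs
  apply Subtype.ext
  funext t
  exact Fin.ext (h1 t (Finset.mem_univ t))

theorem ssum_sup_add_inf (τ φ : Idx d n) :
    ST.ssum (W4bk4grassmannian.sup τ φ) + ST.ssum (W4bk4grassmannian.inf τ φ) =
      ST.ssum τ + ST.ssum φ := by
  unfold ST.ssum
  rw [← Finset.sum_add_distrib, ← Finset.sum_add_distrib]
  refine Finset.sum_congr rfl (fun t _ => ?_)
  show (max (τ.1 t) (φ.1 t)).val + (min (τ.1 t) (φ.1 t)).val = (τ.1 t).val + (φ.1 t).val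
  rcases le_total (τ.1 t) (φ.1 t) with h | h
  · rw [max_eq_right h, min_eq_left h, add_comm]
  · rw [max_eq_left h, min_eq_right h]

theorem Dexp_sup_add_inf (τ φ : Idx d n) :
    Dexp (W4bk4grassmannian.sup τ φ) + Dexp (W4bk4grassmannian.inf τ φ) = Dexp τ + Dexp φ := by
  ext v
  obtain ⟨i, t, rfl⟩ : ∃ i t, v = toLex (i, t) := ⟨(ofLex v).1, (ofLex v).2, rfl⟩
  simp only [Finsupp.add_apply, Dexp_apply]
  show (if max (τ.1 t) (φ.1 t) = i then 1 else 0) + (if min (τ.1 t) (φ.1 t) = i then 1 else 0) =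
    ((if τ.1 t = i then 1 else 0) + (if φ.1 t = i then 1 else 0) : ℕ)
  rcases le_total (τ.1 t) (φ.1 t) with h | h
  · rw [max_eq_right h, min_eq_left h, add_comm]
  · rw [max_eq_left h, min_eq_right h]

theorem inf_le_sup' (τ φ : Idx d n) :
    W4bk4grassmannian.inf τ φ ≤ W4bk4grassmannian.sup τ φ :=
  fun _ => le_trans (min_le_left _ _) (le_max_left _ _)

variable (K : Type u) [Field K]

theorem straightening_join_meet [Infinite K] (hdn : d ≤ n) (τ φ : Idx d n) :
    ∃ g ∈ Submodule.span K {f : PlRing K d n | ∃ α β : Idx d n,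
        β ≤ α ∧ W4bk4grassmannian.sup τ φ < α ∧ β < W4bk4grassmannian.inf τ φ ∧
          f = X α * X β},
      X τ * X φ - X (W4bk4grassmannian.sup τ φ) * X (W4bk4grassmannian.inf τ φ) - g ∈
        vanishing K d n := by
  classical
  have hsp := pair_span K (d * n - ST.ssum τ) τ φ le_rfl
  obtain ⟨l, hl⟩ := (Finsupp.mem_span_range_iff_exists_finsupp).mp hsp
  set s := l.support with hs
  have hrel : Rel2 K τ φ s l := by
    unfold Rel2
    apply plIdealTop_le_vanishing K
    rw [← Ideal.Quotient.eq]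
    show ST.π K (X τ * X φ) = ST.π K (∑ p ∈ s, l p • pmon K p)
    rw [← hl, Finsupp.sum, map_sum]
    refine Finset.sum_congr rfl (fun p _ => ?_)
    rfl
  have hne : ∀ p ∈ s, l p ≠ 0 := fun p hp => Finsupp.mem_support_iff.mp hp
  set pstar : SPair d n := ⟨(W4bk4grassmannian.sup τ φ, W4bk4grassmannian.inf τ φ),
    inf_le_sup' τ φ⟩ with hpstar
  obtain ⟨hmem, hone⟩ := rel_lead K hdn τ φ s l hrel hne pstar (Dexp_sup_add_inf τ φ)
  refine ⟨∑ p ∈ s.erase pstar, l p • pmon K p, ?_, ?_⟩
  · apply Submodule.sum_mem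
    intro p hp
    have hps : p ∈ s := Finset.mem_of_mem_erase hp
    have hpne : p ≠ pstar := Finset.ne_of_mem_erase hp
    obtain ⟨h1, h2⟩ := rel_sup K τ φ s l hrel p hps (hne p hps)
    obtain ⟨h3, h4⟩ := rel_inf K τ φ s l hrel p hps (hne p hps)
    have h5 := rel_wt K hdn τ φ s l hrel p hps (hne p hps)
    rw [← ssum_sup_add_inf τ φ] at h5
    have hsup : W4bk4grassmannian.sup τ φ ≤ p.1.1 := fun t => max_le (h1 t) (h2 t)
    have hinf : p.1.2 ≤ W4bk4grassmannian.inf τ φ := fun t => le_min (h3 t) (h4 t)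
    have hlt1 : W4bk4grassmannian.sup τ φ < p.1.1 := by
      apply lt_of_le_of_ne hsup
      intro heq
      apply hpne
      have h6 : ST.ssum p.1.2 = ST.ssum (W4bk4grassmannian.inf τ φ) := by
        rw [← heq] at h5; omega
      have h7 := eq_of_le_of_ssum_eq hinf h6
      exact Subtype.ext (Prod.ext heq.symm h7)
    have hlt2 : p.1.2 < W4bk4grassmannian.inf τ φ := by
      apply lt_of_le_of_ne hinf
      intro heq
      apply hpne
      have h6 : ST.ssum (W4bk4grassmannian.sup τ φ) = ST.ssum p.1.1 := by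
        rw [heq] at h5; omega
      have h7 := eq_of_le_of_ssum_eq hsup h6
      exact Subtype.ext (Prod.ext h7.symm heq)
    exact Submodule.smul_mem _ _ (Submodule.subset_span ⟨p.1.1, p.1.2, p.2, hlt1, hlt2, rfl⟩)
  · have h1 : X τ * X φ - X (W4bk4grassmannian.sup τ φ) * X (W4bk4grassmannian.inf τ φ) -
        ∑ p ∈ s.erase pstar, l p • pmon K p = X τ * X φ - ∑ p ∈ s, l p • pmon K p := by
      rw [← Finset.add_sum_erase s _ hmem, hone, one_smul]
      show _ = X τ * X φ - (X (W4bk4grassmannian.sup τ φ) * X (W4bk4grassmannian.inf τ φ) + _)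
      ring
    rw [h1]
    exact hrel

end Groth.Agent.H16.SM
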