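import Groth.Agent.S11252
import Groth.Agent.S11261

/-!
# Flat degenerations of Schubert cones (helper16), part 1: weights and the quadratic relation
-/

set_option autoImplicit false
open W4bk4grassmannian

namespace Groth.Agent.H16.DG

universe u

section Weights

variable {d n : ℕ}

/-- The rank function `ℓ θ = Σ_t θ_t`. -/
def ell (θ : Idx d n) : ℕ := Finset.univ.sum fun t : Fin d => (θ.1 t).val

lemma ell_lt {θ θ' : Idx d n} (h : θ < θ') : ell θ < ell θ' := by
  have hle : ∀ t, θ.1 t ≤ θ'.1 t := fun t => (le_of_lt h) t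
  have hne : ∃ t, θ.1 t < θ'.1 t := by
    by_contra hcon
    push Not at hcon
    apply (ne_of_lt h)
    apply Subtype.ext
    funext t
    exact le_antisymm (hle t) (hcon t)
  obtain ⟨t, ht⟩ := hne
  unfold ell
  apply Finset.sum_lt_sum
  · intro s _
    exact Fin.val_le_of_le (hle s) 
  · exact ⟨t, Finset.mem_univ t, ht⟩

lemma ell_le (θ : Idx d n) : ell θ ≤ d * n := by
  unfold ell
  calc Finset.univ.sum (fun t : Fin d => (θ.1 t).val) ≤ Finset.univ.sum (fun _ : Fin d => n) := by
        apply Finset.sum_le_sum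
        intro t _
        exact le_of_lt (θ.1 t).isLt
    _ = d * n := by simp

/-- The weight `wt θ = 3^{dn+1} - 3^{ℓ θ}`. -/
def wt (θ : Idx d n) : ℕ := 3 ^ (d * n + 1) - 3 ^ (ell θ)

lemma pow_ell_le (θ : Idx d n) : 3 ^ (ell θ) ≤ 3 ^ (d * n + 1) :=
  Nat.pow_le_pow_right (by norm_num) (le_trans (ell_le θ) (Nat.le_succ _))

lemma arith_aux (M a b t f : ℕ) (ha : a ≤ M) (hb : b ≤ M) (ht : t ≤ M) (hf : f ≤ M)
    (h1 : 3 * t ≤ a) (h2 : 3 * f ≤ a) (p1 : 0 < t) (p2 : 0 < f) :
    (M - a) + (M - b) < (M - t) + (M - f) := by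
  omega

/-- The key inequality. -/
lemma wt_lt {τ φ α β : Idx d n} (h1 : τ < α) (h2 : φ < α) :
    wt α + wt β < wt τ + wt φ := by
  have e1 := ell_lt h1
  have e2 := ell_lt h2
  have hτ := pow_ell_le τ
  have hφ := pow_ell_le φ
  have hα := pow_ell_le α
  have hβ := pow_ell_le β
  have k1 : 3 * 3 ^ (ell τ) ≤ 3 ^ (ell α) := by
    rw [← pow_succ']
    exact Nat.pow_le_pow_right (by norm_num) e1
  have k2 : 3 * 3 ^ (ell φ) ≤ 3 ^ (ell α) := by
    rw [← pow_succ']
    exact Nat.pow_le_pow_right (by norm_num) e2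
  have p1 : 0 < 3 ^ (ell τ) := Nat.pos_of_ne_zero (by positivity)
  have p2 : 0 < 3 ^ (ell φ) := Nat.pos_of_ne_zero (by positivity)
  unfold wt
  exact arith_aux _ _ _ _ _ hα hβ hτ hφ k1 k2 p1 p2

lemma lt_sup_left {τ φ : Idx d n} (h : ¬ φ ≤ τ) : τ < W4bk4grassmannian.sup τ φ := by
  refine lt_of_le_of_ne (fun t => le_max_left _ _) ?_
  intro heq
  apply h
  intro t
  have : (W4bk4grassmannian.sup τ φ).1 t = τ.1 t := by rw [← heq]
  have h2 : max (τ.1 t) (φ.1 t) = τ.1 t := this
  exact le_of_max_le_right (le_of_eq h2)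

lemma lt_sup_right {τ φ : Idx d n} (h : ¬ τ ≤ φ) : φ < W4bk4grassmannian.sup τ φ := by
  refine lt_of_le_of_ne (fun t => le_max_right _ _) ?_
  intro heq
  apply h
  intro t
  have : (W4bk4grassmannian.sup τ φ).1 t = φ.1 t := by rw [← heq]
  have h2 : max (τ.1 t) (φ.1 t) = φ.1 t := this
  exact le_of_max_le_left (le_of_eq h2)

lemma inf_le_sup (τ φ : Idx d n) : W4bk4grassmannian.inf τ φ ≤ W4bk4grassmannian.sup τ φ :=
  fun t => le_trans (min_le_left _ _) (le_max_left _ _)

end Weights

section Quad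

variable (K : Type u) [Field K] (d n : ℕ) (w : Idx d n)

/-- The cone `S/J(w)` over the Schubert variety. -/
abbrev Bq : Type u := PlRing K d n ⧸ schubertVanishing K d n w

/-- The class of the Plücker coordinate `X_θ`. -/
noncomputable def xb (θ : Idx d n) : Bq K d n w :=
  Ideal.Quotient.mk (schubertVanishing K d n w) (MvPolynomial.X θ)

lemma vanishing_le : vanishing K d n ≤ schubertVanishing K d n w := by
  unfold vanishing schubertVanishing
  exact le_iInf fun A => le_iInf fun _ => iInf_le _ A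

lemma xb_eq_zero (γ : Idx d n) (h : ¬ γ ≤ w) : xb K d n w γ = 0 := by
  unfold xb
  rw [Ideal.Quotient.eq_zero_iff_mem]
  unfold schubertVanishing
  rw [Ideal.mem_iInf]
  intro A
  rw [Ideal.mem_iInf]
  intro hA
  rw [RingHom.mem_ker]
  show evalMinors K d n A (MvPolynomial.X γ) = 0
  unfold evalMinors
  rw [MvPolynomial.aeval_X]
  exact hA γ h

/-- The quadratic straightening relation in `S/J(w)`. -/
lemma quad [IsAlgClosed K] (hd : 0 < d) (hdn : d < n) (τ φ : Idx d n) (h₁ : ¬ τ ≤ φ)
    (h₂ : ¬ φ ≤ τ) :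
    xb K d n w τ * xb K d n w φ ∈ Submodule.span K
      {z : Bq K d n w | ∃ α β : Idx d n, τ < α ∧ φ < α ∧ β ≤ α ∧
        z = xb K d n w α * xb K d n w β} := by
  obtain ⟨g, hg, hrel⟩ := Groth.Agent.S11261.result K d n hd hdn τ φ h₁ h₂
  have hrel' := vanishing_le K d n w hrel
  have h0 : Ideal.Quotient.mk (schubertVanishing K d n w)
      (MvPolynomial.X τ * MvPolynomial.X φ -
        MvPolynomial.X (W4bk4grassmannian.sup τ φ) * MvPolynomial.X (W4bk4grassmannian.inf τ φ) - g)
      = 0 := Ideal.Quotient.eq_zero_iff_mem.mpr hrel'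
  rw [map_sub, map_sub, map_mul, map_mul, sub_eq_zero, sub_eq_iff_eq_add] at h0
  have h0' : xb K d n w τ * xb K d n w φ =
      Ideal.Quotient.mk (schubertVanishing K d n w) g +
        xb K d n w (W4bk4grassmannian.sup τ φ) * xb K d n w (W4bk4grassmannian.inf τ φ) := h0
  rw [h0']
  apply Submodule.add_mem
  · -- the tail
    have hg' : ∀ g' ∈ Submodule.span K {f : PlRing K d n | ∃ α β : Idx d n,
        β ≤ α ∧ W4bk4grassmannian.sup τ φ < α ∧ β < W4bk4grassmannian.inf τ φ ∧
          f = MvPolynomial.X α * MvPolynomial.X β},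
        Ideal.Quotient.mk (schubertVanishing K d n w) g' ∈ Submodule.span K
          {z : Bq K d n w | ∃ α β : Idx d n, τ < α ∧ φ < α ∧ β ≤ α ∧
            z = xb K d n w α * xb K d n w β} := by
      intro g' hg'
      induction hg' using Submodule.span_induction with
      | mem x hx =>
        obtain ⟨α, β, hβα, hα, -, rfl⟩ := hx
        apply Submodule.subset_span
        refine ⟨α, β, lt_trans (lt_sup_left h₂) hα, lt_trans (lt_sup_right h₁) hα, hβα, ?_⟩
        rw [map_mul]
        rfl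
      | zero => rw [map_zero]; exact Submodule.zero_mem _
      | add x y _ _ hx hy => rw [map_add]; exact Submodule.add_mem _ hx hy
      | smul a x _ hx =>
        have : Ideal.Quotient.mk (schubertVanishing K d n w) (a • x) =
            a • Ideal.Quotient.mk (schubertVanishing K d n w) x := rfl
        rw [this]
        exact Submodule.smul_mem _ _ hx
    exact hg' g hg
  · apply Submodule.subset_span
    exact ⟨_, _, lt_sup_left h₂, lt_sup_right h₁, inf_le_sup τ φ, rfl⟩

end Quad

end Groth.Agent.H16.DG
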