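import Groth.Agent.H16.DG1

/-!
# Flat degenerations of Schubert cones (helper16), part 2: weight-controlled straightening
-/

set_option autoImplicit false
open W4bk4grassmannian

namespace Groth.Agent.H16.DG

universe u

@[to_additive]
lemma prod_update_two {M X : Type*} [CommMonoid M] {m : ℕ} (g : X → M) (c : Fin m → X)
    (i j : Fin m) (hij : i ≠ j) (a b : X) :
    ∏ k, g (Function.update (Function.update c i a) j b k) =
      g a * g b * ∏ k ∈ (Finset.univ.erase i).erase j, g (c k) := by
  classical
  rw [← Finset.mul_prod_erase Finset.univ _ (Finset.mem_univ i),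
    ← Finset.mul_prod_erase (Finset.univ.erase i) _
      (Finset.mem_erase.mpr ⟨hij.symm, Finset.mem_univ j⟩)]
  rw [Function.update_of_ne hij, Function.update_self, Function.update_self, mul_assoc]
  congr 2
  apply Finset.prod_congr rfl
  intro k hk
  rw [Finset.mem_erase, Finset.mem_erase] at hk
  rw [Function.update_of_ne hk.1, Function.update_of_ne hk.2.1]

@[to_additive]
lemma prod_two {M X : Type*} [CommMonoid M] {m : ℕ} (g : X → M) (c : Fin m → X)
    (i j : Fin m) (hij : i ≠ j) :
    ∏ k, g (c k) = g (c i) * g (c j) * ∏ k ∈ (Finset.univ.erase i).erase j, g (c k) := by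
  have h := prod_update_two g c i j hij (c i) (c j)
  rw [Function.update_eq_self, Function.update_eq_self] at h
  exact h

section SortSec

variable {d n : ℕ}

lemma exists_perm_antitone {m : ℕ} (c : Fin m → Idx d n)
    (hc : ∀ i j, c i ≤ c j ∨ c j ≤ c i) :
    ∃ σ : Equiv.Perm (Fin m), Antitone (c ∘ σ) := by
  have hmono : Monotone ((ell ∘ c) ∘ Tuple.sort (ell ∘ c)) := Tuple.monotone_sort (ell ∘ c)
  refine ⟨Fin.revPerm.trans (Tuple.sort (ell ∘ c)), ?_⟩
  intro i j hij
  have hrev : Fin.rev j ≤ Fin.rev i := Fin.rev_le_rev.mpr hij
  have h1 := hmono hrev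
  simp only [Function.comp_apply] at h1
  show c ((Tuple.sort (ell ∘ c)) (Fin.rev j)) ≤ c ((Tuple.sort (ell ∘ c)) (Fin.rev i))
  rcases hc ((Tuple.sort (ell ∘ c)) (Fin.rev j)) ((Tuple.sort (ell ∘ c)) (Fin.rev i)) with h | h
  · exact h
  · rcases eq_or_lt_of_le h with h2 | h2
    · exact le_of_eq h2.symm
    · exact absurd (ell_lt h2) (not_lt.mpr h1)

end SortSec

section Straighten

variable (K : Type u) [Field K] (d n : ℕ) (w : Idx d n)

/-- Total weight of a tuple. -/
def Wt {m : ℕ} (c : Fin m → Idx d n) : ℕ := Finset.univ.sum fun k => wt (c k)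

/-- The class of the monomial of a tuple. -/
noncomputable def mon {m : ℕ} (c : Fin m → Idx d n) : Bq K d n w :=
  Finset.univ.prod fun k => xb K d n w (c k)

lemma mon_eq_mk {m : ℕ} (c : Fin m → Idx d n) :
    mon K d n w c = Ideal.Quotient.mk (schubertVanishing K d n w) (chainMon K c) := by
  unfold mon chainMon xb
  rw [map_prod]

/-- Span of the standard monomials of degree `m` and weight at most `N`. -/
noncomputable def StdSpan (m N : ℕ) : Submodule K (Bq K d n w) :=
  Submodule.span K {z | ∃ c : Fin m → Idx d n, Antitone c ∧ (∀ k, c k ≤ w) ∧ Wt d n c ≤ N ∧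
    z = mon K d n w c}

lemma StdSpan_mono (m : ℕ) {N N' : ℕ} (h : N ≤ N') : StdSpan K d n w m N ≤ StdSpan K d n w m N' := by
  apply Submodule.span_mono
  rintro z ⟨c, h1, h2, h3, rfl⟩
  exact ⟨c, h1, h2, le_trans h3 h, rfl⟩

theorem straighten [IsAlgClosed K] (hd : 0 < d) (hdn : d < n) (m : ℕ) :
    ∀ (N : ℕ) (c : Fin m → Idx d n), Wt d n c = N → mon K d n w c ∈ StdSpan K d n w m N := by
  intro N
  induction N using Nat.strong_induction_on with
  | _ N ih =>
    intro c hcN
    by_cases hw : ∀ k, c k ≤ w
    · by_cases hcomp : ∀ i j, c i ≤ c j ∨ c j ≤ c i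
      · -- sort
        obtain ⟨σ, hσ⟩ := exists_perm_antitone c hcomp
        apply Submodule.subset_span
        refine ⟨c ∘ σ, hσ, fun k => hw _, ?_, ?_⟩
        · rw [← hcN]
          unfold Wt
          exact le_of_eq (Equiv.sum_comp σ (fun k => wt (c k)))
        · unfold mon
          exact (Equiv.prod_comp σ (fun k => xb K d n w (c k))).symm
      · push Not at hcomp
        obtain ⟨i, j, h1, h2⟩ := hcomp
        have hij : i ≠ j := by
          intro h
          subst h
          exact h1 le_rfl
        have hq := quad K d n w hd hdn (c i) (c j) h1 h2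
        have hmon : mon K d n w c = xb K d n w (c i) * xb K d n w (c j) *
            ∏ k ∈ (Finset.univ.erase i).erase j, xb K d n w (c k) :=
          prod_two (xb K d n w) c i j hij
        rw [hmon]
        have key : ∀ z ∈ Submodule.span K {z : Bq K d n w | ∃ α β : Idx d n,
            c i < α ∧ c j < α ∧ β ≤ α ∧ z = xb K d n w α * xb K d n w β},
            z * ∏ k ∈ (Finset.univ.erase i).erase j, xb K d n w (c k) ∈ StdSpan K d n w m N := by
          intro z hz
          induction hz using Submodule.span_induction with
          | mem x hx =>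
            obtain ⟨α, β, hα1, hα2, -, rfl⟩ := hx
            have hm : mon K d n w (Function.update (Function.update c i α) j β) =
                xb K d n w α * xb K d n w β *
                  ∏ k ∈ (Finset.univ.erase i).erase j, xb K d n w (c k) :=
              prod_update_two (xb K d n w) c i j hij α β
            rw [← hm]
            have hW1 : Wt d n (Function.update (Function.update c i α) j β) =
                wt α + wt β + ∑ k ∈ (Finset.univ.erase i).erase j, wt (c k) :=
              sum_update_two wt c i j hij α β
            have hW2 : Wt d n c = wt (c i) + wt (c j) +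
                ∑ k ∈ (Finset.univ.erase i).erase j, wt (c k) :=
              sum_two wt c i j hij
            have hlt : Wt d n (Function.update (Function.update c i α) j β) < N := by
              rw [← hcN, hW1, hW2]
              have := wt_lt (β := β) hα1 hα2
              omega
            exact StdSpan_mono K d n w m (le_of_lt hlt) (ih _ hlt _ rfl)
          | zero => rw [zero_mul]; exact Submodule.zero_mem _
          | add x y _ _ hx hy => rw [add_mul]; exact Submodule.add_mem _ hx hy
          | smul a x _ hx => rw [smul_mul_assoc]; exact Submodule.smul_mem _ _ hx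
        exact key _ hq
    · push Not at hw
      obtain ⟨k, hk⟩ := hw
      have : mon K d n w c = 0 := by
        unfold mon
        exact Finset.prod_eq_zero (Finset.mem_univ k) (xb_eq_zero K d n w (c k) hk)
      rw [this]
      exact Submodule.zero_mem _

end Straighten

end Groth.Agent.H16.DG
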