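import Groth.Agent.H16.DG2

/-!
# Flat degenerations of Schubert cones (helper16), part 3: the Rees family and its basis
-/

set_option autoImplicit false
open W4bk4grassmannian

namespace Groth.Agent.H16.DG

universe u

section Rees

variable (K : Type u) [Field K] (d n : ℕ) (w : Idx d n)

/-- `y_θ = x̄_θ t^{wt θ}`. -/
noncomputable def yv (θ : Below w) : Polynomial (Bq K d n w) :=
  Polynomial.C (xb K d n w θ.1) * Polynomial.X ^ (wt θ.1)

/-- The map `K[t][x_θ] → B[t]`. -/
noncomputable def phi : MvPolynomial (Below w) (Polynomial K) →+* Polynomial (Bq K d n w) :=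
  MvPolynomial.eval₂Hom (Polynomial.mapRingHom (algebraMap K (Bq K d n w))) (yv K d n w)

/-- The Rees family. -/
abbrev RR : Type u := MvPolynomial (Below w) (Polynomial K) ⧸ RingHom.ker (phi K d n w)

noncomputable instance instCommRingRR : CommRing (RR K d n w) := Ideal.Quotient.commRing _

/-- The embedding `R → B[t]`. -/
noncomputable def iota : RR K d n w →+* Polynomial (Bq K d n w) := RingHom.kerLift (phi K d n w)

lemma iota_injective : Function.Injective (iota K d n w) := RingHom.kerLift_injective _

lemma iota_mk (f : MvPolynomial (Below w) (Polynomial K)) :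
    iota K d n w (Ideal.Quotient.mk _ f) = phi K d n w f := rfl

lemma phi_C (p : Polynomial K) :
    phi K d n w (MvPolynomial.C p) = p.map (algebraMap K (Bq K d n w)) := by
  unfold phi
  rw [MvPolynomial.coe_eval₂Hom, MvPolynomial.eval₂_C]
  rfl

lemma phi_X (θ : Below w) : phi K d n w (MvPolynomial.X θ) = yv K d n w θ := by
  unfold phi
  rw [MvPolynomial.coe_eval₂Hom, MvPolynomial.eval₂_X]

lemma iota_smul (p : Polynomial K) (r : RR K d n w) :
    iota K d n w (p • r) = p.map (algebraMap K (Bq K d n w)) * iota K d n w r := by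
  rw [Algebra.smul_def, map_mul]
  congr 1
  exact phi_C K d n w p

/-- The class of a tuple monomial in `R`. -/
noncomputable def Yt {m : ℕ} (c : Fin m → Below w) : RR K d n w :=
  Ideal.Quotient.mk _ (∏ k, MvPolynomial.X (c k))

lemma iota_Yt {m : ℕ} (c : Fin m → Below w) :
    iota K d n w (Yt K d n w c) =
      Polynomial.C (mon K d n w (fun k => (c k).1)) * Polynomial.X ^ (Wt d n (fun k => (c k).1)) := by
  unfold Yt
  rw [iota_mk, map_prod]
  simp only [phi_X]
  unfold yv mon Wt
  rw [Finset.prod_mul_distrib, Finset.prod_pow_eq_pow_sum, map_prod]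

end Rees

section StdBasis

variable (K : Type u) [Field K] (d n : ℕ) (w : Idx d n)

/-- Index type of the standard monomials on `X(w)` (as in S11252 with one Schubert variety). -/
abbrev Std : Type :=
  Σ m : ℕ, {c : Fin m → Idx d n // Antitone c ∧ ∃ _ : Fin 1, ∀ k, c k ≤ w}

variable {d n w} in
lemma Std.le (σ : Std d n w) (k : Fin σ.1) : σ.2.1 k ≤ w := by
  obtain ⟨_, h⟩ := σ.2.2.2
  exact h k

variable {d n w} in
/-- The tuple of a standard monomial, in `H(w)`. -/
def Std.toBelow (σ : Std d n w) : Fin σ.1 → Below w := fun k => ⟨σ.2.1 k, σ.le k⟩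

/-- The standard monomial basis elements of `S/J(w)`. -/
noncomputable def bstd (σ : Std d n w) : Bq K d n w := mon K d n w σ.2.1

lemma bstd_li [IsAlgClosed K] (hd : 0 < d) (hdn : d < n) : LinearIndependent K (bstd K d n w) := by
  have h := Groth.Agent.S11252.result K d n hd hdn 1 (fun _ => w)
  have hJ : (⨅ i : Fin 1, schubertVanishing K d n ((fun _ => w) i)) = schubertVanishing K d n w :=
    iInf_const
  rw [hJ] at h
  have h1 := h.1
  have heq : bstd K d n w = fun c : Std d n w =>
      Ideal.Quotient.mk (schubertVanishing K d n w) (chainMon K c.2.1) := by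
    funext σ
    exact mon_eq_mk K d n w σ.2.1
  rw [heq]
  exact h1

lemma bstd_span [IsAlgClosed K] (hd : 0 < d) (hdn : d < n) :
    Submodule.span K (Set.range (bstd K d n w)) = ⊤ := by
  have h := Groth.Agent.S11252.result K d n hd hdn 1 (fun _ => w)
  have hJ : (⨅ i : Fin 1, schubertVanishing K d n ((fun _ => w) i)) = schubertVanishing K d n w :=
    iInf_const
  rw [hJ] at h
  have h2 := h.2
  have heq : bstd K d n w = fun c : Std d n w =>
      Ideal.Quotient.mk (schubertVanishing K d n w) (chainMon K c.2.1) := by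
    funext σ
    exact mon_eq_mk K d n w σ.2.1
  rw [heq]
  exact h2

/-- The standard monomials in the Rees family. -/
noncomputable def Ystd (σ : Std d n w) : RR K d n w := Yt K d n w σ.toBelow

lemma iota_Ystd (σ : Std d n w) :
    iota K d n w (Ystd K d n w σ) =
      Polynomial.C (bstd K d n w σ) * Polynomial.X ^ (Wt d n σ.2.1) := by
  unfold Ystd
  rw [iota_Yt]
  rfl

lemma coeff_iota_smul_Ystd (g : Polynomial K) (σ : Std d n w) (e : ℕ) :
    (iota K d n w (g • Ystd K d n w σ)).coeff e =
      (if Wt d n σ.2.1 ≤ e then g.coeff (e - Wt d n σ.2.1) else 0) • bstd K d n w σ := by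
  rw [iota_smul, iota_Ystd, ← mul_assoc, Polynomial.coeff_mul_X_pow']
  split_ifs with h
  · rw [Polynomial.coeff_mul_C, Polynomial.coeff_map]
    exact (Algebra.smul_def _ _).symm
  · rw [zero_smul]

theorem Ystd_li [IsAlgClosed K] (hd : 0 < d) (hdn : d < n) :
    LinearIndependent (Polynomial K) (Ystd K d n w) := by
  rw [linearIndependent_iff']
  intro s g hsum σ hσ
  have hb := bstd_li K d n w hd hdn
  rw [linearIndependent_iff'] at hb
  have hcoef : ∀ e : ℕ, (if Wt d n σ.2.1 ≤ e then (g σ).coeff (e - Wt d n σ.2.1) else 0) = 0 := by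
    intro e
    have h1 : (iota K d n w (∑ τ ∈ s, g τ • Ystd K d n w τ)).coeff e = 0 := by
      rw [hsum, map_zero, Polynomial.coeff_zero]
    rw [map_sum, Polynomial.finsetSum_coeff] at h1
    simp only [coeff_iota_smul_Ystd] at h1
    exact hb s (fun τ => if Wt d n τ.2.1 ≤ e then (g τ).coeff (e - Wt d n τ.2.1) else 0) h1 σ hσ
  apply Polynomial.ext
  intro j
  have := hcoef (j + Wt d n σ.2.1)
  rw [if_pos (Nat.le_add_left _ _), Nat.add_sub_cancel] at this
  rw [this, Polynomial.coeff_zero]

end StdBasis

end Groth.Agent.H16.DG
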