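import Groth.Agent.H16.DG3

/-!
# Flat degenerations of Schubert cones (helper16), part 4: spanning and freeness
-/

set_option autoImplicit false
open W4bk4grassmannian

namespace Groth.Agent.H16.DG

universe u

section Span

variable (K : Type u) [Field K] (d n : ℕ) (w : Idx d n)

/-- The `K[t]`-span of the standard monomials in the Rees family. -/
noncomputable abbrev VV : Submodule (Polynomial K) (RR K d n w) :=
  Submodule.span (Polynomial K) (Set.range (Ystd K d n w))

lemma exists_of_mem_StdSpan (m N : ℕ) (z : Bq K d n w) (hz : z ∈ StdSpan K d n w m N) :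
    ∃ r ∈ VV K d n w, iota K d n w r = Polynomial.C z * Polynomial.X ^ N := by
  unfold StdSpan at hz
  induction hz using Submodule.span_induction with
  | mem x hx =>
    obtain ⟨c₀, hanti, hle, hW, rfl⟩ := hx
    let σ : Std d n w := ⟨m, c₀, hanti, ⟨0, hle⟩⟩
    refine ⟨(Polynomial.X ^ (N - Wt d n c₀) : Polynomial K) • Ystd K d n w σ,
      Submodule.smul_mem _ _ (Submodule.subset_span ⟨σ, rfl⟩), ?_⟩
    rw [iota_smul, iota_Ystd, Polynomial.map_pow, Polynomial.map_X]
    show (Polynomial.X ^ (N - Wt d n c₀) : Polynomial (Bq K d n w)) *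
      (Polynomial.C (mon K d n w c₀) * Polynomial.X ^ (Wt d n c₀)) = _
    have hc := mul_comm (Polynomial.X ^ (N - Wt d n c₀) : Polynomial (Bq K d n w))
      (Polynomial.C (mon K d n w c₀) * Polynomial.X ^ (Wt d n c₀))
    rw [hc, mul_assoc, ← pow_add, Nat.add_sub_cancel' hW]
  | zero => exact ⟨0, Submodule.zero_mem _, by rw [map_zero, map_zero, zero_mul]⟩
  | add x y _ _ hx hy =>
    obtain ⟨r₁, h₁, e₁⟩ := hx
    obtain ⟨r₂, h₂, e₂⟩ := hy
    exact ⟨r₁ + r₂, Submodule.add_mem _ h₁ h₂, by rw [map_add, e₁, e₂, map_add, add_mul]⟩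
  | smul a x _ hx =>
    obtain ⟨r₁, h₁, e₁⟩ := hx
    refine ⟨(Polynomial.C a : Polynomial K) • r₁, Submodule.smul_mem _ _ h₁, ?_⟩
    rw [iota_smul, e₁, Polynomial.map_C, ← mul_assoc, ← map_mul, ← Algebra.smul_def]

lemma Yt_mem [IsAlgClosed K] (hd : 0 < d) (hdn : d < n) {m : ℕ} (c : Fin m → Below w) :
    Yt K d n w c ∈ VV K d n w := by
  have h := straighten K d n w hd hdn m _ (fun k => (c k).1) rfl
  obtain ⟨r, hr, he⟩ := exists_of_mem_StdSpan K d n w m _ _ h
  have : r = Yt K d n w c := by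
    apply iota_injective K d n w
    rw [he, iota_Yt]
  rw [← this]
  exact hr

lemma Yt_cons {m : ℕ} (θ : Below w) (c : Fin m → Below w) :
    Yt K d n w (Fin.cons θ c : Fin (m + 1) → Below w) =
      Yt K d n w c * Ideal.Quotient.mk _ (MvPolynomial.X θ) := by
  unfold Yt
  rw [← map_mul, Fin.prod_univ_succ]
  simp only [Fin.cons_zero, Fin.cons_succ]
  rw [mul_comm]

lemma mul_X_mem [IsAlgClosed K] (hd : 0 < d) (hdn : d < n) (θ : Below w) (r : RR K d n w)
    (hr : r ∈ VV K d n w) :
    r * Ideal.Quotient.mk _ (MvPolynomial.X θ) ∈ VV K d n w := by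
  induction hr using Submodule.span_induction with
  | mem x hx =>
    obtain ⟨σ, rfl⟩ := hx
    unfold Ystd
    rw [← Yt_cons]
    exact Yt_mem K d n w hd hdn _
  | zero => rw [zero_mul]; exact Submodule.zero_mem _
  | add x y _ _ hx hy => rw [add_mul]; exact Submodule.add_mem _ hx hy
  | smul a x _ hx => rw [smul_mul_assoc]; exact Submodule.smul_mem _ _ hx

theorem VV_eq_top [IsAlgClosed K] (hd : 0 < d) (hdn : d < n) : VV K d n w = ⊤ := by
  rw [eq_top_iff]
  intro r hr
  clear hr
  obtain ⟨f, rfl⟩ := Ideal.Quotient.mk_surjective r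
  induction f using MvPolynomial.induction_on with
  | C p =>
    have h1 : Ideal.Quotient.mk (RingHom.ker (phi K d n w)) (MvPolynomial.C p) =
        p • Yt K d n w (Fin.elim0 : Fin 0 → Below w) := by
      unfold Yt
      rw [Finset.univ_eq_empty, Finset.prod_empty, Algebra.smul_def, map_one, mul_one]
      rfl
    rw [h1]
    exact Submodule.smul_mem _ _ (Yt_mem K d n w hd hdn _)
  | add f g hf hg =>
    rw [map_add]
    exact Submodule.add_mem _ hf hg
  | mul_X f θ hf =>
    rw [map_mul]
    exact mul_X_mem K d n w hd hdn θ _ hf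

/-- The `K[t]`-basis of the Rees family. -/
noncomputable def YBasis [IsAlgClosed K] (hd : 0 < d) (hdn : d < n) :
    Module.Basis (Std d n w) (Polynomial K) (RR K d n w) :=
  Module.Basis.mk (Ystd_li K d n w hd hdn) (VV_eq_top K d n w hd hdn).ge

lemma YBasis_apply [IsAlgClosed K] (hd : 0 < d) (hdn : d < n) (σ : Std d n w) :
    YBasis K d n w hd hdn σ = Ystd K d n w σ := by
  unfold YBasis
  rw [Module.Basis.mk_apply]

theorem free [IsAlgClosed K] (hd : 0 < d) (hdn : d < n) :
    Module.Free (Polynomial K) (RR K d n w) :=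
  Module.Free.of_basis (YBasis K d n w hd hdn)

end Span

end Groth.Agent.H16.DG
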