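import Groth.Agent.H16.DG4

/-!
# Flat degenerations of Schubert cones (helper16), part 5: the general fibres
-/

set_option autoImplicit false
open W4bk4grassmannian

namespace Groth.Agent.H16.DG

universe u

section Fibre

variable (K : Type u) [Field K] (d n : ℕ) (w : Idx d n) (c : K)

/-- Evaluation `t ↦ c` on the Rees family. -/
noncomputable def eps : RR K d n w →ₐ[K] Bq K d n w :=
  { (Polynomial.evalRingHom (algebraMap K (Bq K d n w) c)).comp (iota K d n w) with
    commutes' := by
      intro k
      show Polynomial.eval (algebraMap K (Bq K d n w) c)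
        (iota K d n w (Ideal.Quotient.mk _ (MvPolynomial.C (Polynomial.C k)))) = _
      rw [iota_mk, phi_C, Polynomial.map_C, Polynomial.eval_C] }

lemma eps_apply (r : RR K d n w) :
    eps K d n w c r = Polynomial.eval (algebraMap K (Bq K d n w) c) (iota K d n w r) := rfl

lemma eps_smul_Ystd (p : Polynomial K) (σ : Std d n w) :
    eps K d n w c (p • Ystd K d n w σ) = (p.eval c * c ^ (Wt d n σ.2.1)) • bstd K d n w σ := by
  rw [eps_apply, iota_smul, iota_Ystd, Polynomial.eval_mul, Polynomial.eval_map,
    Polynomial.eval₂_at_apply, Polynomial.eval_C_mul, Polynomial.eval_pow, Polynomial.eval_X]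
  have h := Algebra.smul_def (Polynomial.eval c p * c ^ Wt d n σ.2.1) (bstd K d n w σ)
  have h2 : algebraMap K (Bq K d n w) (Polynomial.eval c p) *
      (bstd K d n w σ * algebraMap K (Bq K d n w) c ^ Wt d n σ.2.1) =
      algebraMap K (Bq K d n w) (Polynomial.eval c p * c ^ Wt d n σ.2.1) * bstd K d n w σ := by
    rw [map_mul, map_pow]
    ring
  exact h2.trans h.symm

lemma eps_algebraMap (p : Polynomial K) :
    eps K d n w c (algebraMap (Polynomial K) (RR K d n w) p) =
      algebraMap K (Bq K d n w) (p.eval c) := by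
  show Polynomial.eval (algebraMap K (Bq K d n w) c)
    (iota K d n w (Ideal.Quotient.mk _ (MvPolynomial.C p))) = _
  rw [iota_mk, phi_C, Polynomial.eval_map, Polynomial.eval₂_at_apply]

/-- The element `t - c` of the Rees family. -/
noncomputable abbrev tc : RR K d n w :=
  algebraMap (Polynomial K) (RR K d n w) (Polynomial.X - Polynomial.C c)

lemma eps_tc : eps K d n w c (tc K d n w c) = 0 := by
  unfold tc
  rw [eps_algebraMap]
  simp

/-- The induced map on the fibre. -/
noncomputable def epsBar :
    (RR K d n w ⧸ Ideal.span {tc K d n w c}) →ₐ[K] Bq K d n w :=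
  Ideal.Quotient.liftₐ _ (eps K d n w c) (by
    intro a ha
    have hle : Ideal.span {tc K d n w c} ≤ RingHom.ker (eps K d n w c).toRingHom := by
      rw [Ideal.span_le, Set.singleton_subset_iff]
      exact eps_tc K d n w c
    exact hle ha)

lemma epsBar_mk (r : RR K d n w) :
    epsBar K d n w c (Ideal.Quotient.mk _ r) = eps K d n w c r := rfl

theorem epsBar_surjective [IsAlgClosed K] (hd : 0 < d) (hdn : d < n) (hc : c ≠ 0) :
    Function.Surjective (epsBar K d n w c) := by
  have hrange : (⊤ : Submodule K (Bq K d n w)) ≤ LinearMap.range (epsBar K d n w c).toLinearMap := by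
    rw [← bstd_span K d n w hd hdn, Submodule.span_le]
    rintro _ ⟨σ, rfl⟩
    refine ⟨Ideal.Quotient.mk _
      ((Polynomial.C ((c ^ (Wt d n σ.2.1))⁻¹) : Polynomial K) • Ystd K d n w σ), ?_⟩
    show epsBar K d n w c (Ideal.Quotient.mk _ _) = _
    rw [epsBar_mk, eps_smul_Ystd, Polynomial.eval_C, inv_mul_cancel₀ (pow_ne_zero _ hc), one_smul]
  intro b
  obtain ⟨x, hx⟩ := hrange (Submodule.mem_top : b ∈ ⊤)
  exact ⟨x, hx⟩

theorem epsBar_injective [IsAlgClosed K] (hd : 0 < d) (hdn : d < n) (hc : c ≠ 0) :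
    Function.Injective (epsBar K d n w c) := by
  rw [injective_iff_map_eq_zero]
  intro x hx
  obtain ⟨r, rfl⟩ := Ideal.Quotient.mk_surjective x
  rw [epsBar_mk] at hx
  rw [Ideal.Quotient.eq_zero_iff_mem]
  let B := YBasis K d n w hd hdn
  have hr : r = ∑ σ ∈ (B.repr r).support, (B.repr r σ) • Ystd K d n w σ := by
    conv_lhs => rw [← B.linearCombination_repr r]
    rw [Finsupp.linearCombination_apply, Finsupp.sum]
    apply Finset.sum_congr rfl
    intro σ _
    rw [YBasis_apply]
  have hsum : ∑ σ ∈ (B.repr r).support,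
      ((B.repr r σ).eval c * c ^ (Wt d n σ.2.1)) • bstd K d n w σ = 0 := by
    rw [hr, map_sum] at hx
    simp only [eps_smul_Ystd] at hx
    exact hx
  have hb := bstd_li K d n w hd hdn
  rw [linearIndependent_iff'] at hb
  have hzero := hb _ _ hsum
  have hroot : ∀ σ ∈ (B.repr r).support, (Polynomial.X - Polynomial.C c) ∣ B.repr r σ := by
    intro σ hσ
    rw [Polynomial.dvd_iff_isRoot]
    have := hzero σ hσ
    rcases mul_eq_zero.mp this with h | h
    · exact h
    · exact absurd h (pow_ne_zero _ hc)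
  choose! q hq using hroot
  rw [Ideal.mem_span_singleton']
  refine ⟨∑ σ ∈ (B.repr r).support, q σ • Ystd K d n w σ, ?_⟩
  conv_rhs => rw [hr]
  rw [Finset.sum_mul]
  apply Finset.sum_congr rfl
  intro σ hσ
  rw [hq σ hσ, mul_smul, mul_comm, ← Algebra.smul_def]

/-- The fibre of the Rees family at `c ≠ 0` is the Schubert cone. -/
noncomputable def fibreEquiv [IsAlgClosed K] (hd : 0 < d) (hdn : d < n) (hc : c ≠ 0) :
    (RR K d n w ⧸ Ideal.span {tc K d n w c}) ≃ₐ[K] Bq K d n w :=
  AlgEquiv.ofBijective (epsBar K d n w c)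
    ⟨epsBar_injective K d n w c hd hdn hc, epsBar_surjective K d n w c hd hdn hc⟩

end Fibre

end Groth.Agent.H16.DG
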