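import Groth.Agent.H16.DG5

/-!
# Flat degenerations of Schubert cones (helper16), part 6: the special fibre (Stanley–Reisner)
-/

set_option autoImplicit false
open W4bk4grassmannian

namespace Groth.Agent.H16.DG

universe u

lemma inj_of_span_of_li {K V W ι : Type*} [Field K] [AddCommGroup V] [Module K V]
    [AddCommGroup W] [Module K W] (L : V →ₗ[K] W) (v : ι → V)
    (hv : Submodule.span K (Set.range v) = ⊤) (hli : LinearIndependent K (fun i => L (v i))) :
    Function.Injective L := by
  rw [injective_iff_map_eq_zero]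
  intro x hx
  have hmem : x ∈ Submodule.span K (Set.range v) := by rw [hv]; trivial
  obtain ⟨l, rfl⟩ := (Finsupp.mem_span_range_iff_exists_finsupp).mp hmem
  rw [Finsupp.sum, map_sum] at hx
  simp only [map_smul] at hx
  have h0 := (linearIndependent_iff'.mp hli) l.support (fun i => l i) hx
  rw [Finsupp.sum]
  apply Finset.sum_eq_zero
  intro i hi
  rw [h0 i hi, zero_smul]

section Special

variable (K : Type u) [Field K] (d n : ℕ) (w : Idx d n)

/-- The element `t` of the Rees family. -/
noncomputable abbrev t0 : RR K d n w := algebraMap (Polynomial K) (RR K d n w) Polynomial.X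

lemma iota_t0 : iota K d n w (t0 K d n w) = Polynomial.X := by
  show iota K d n w (Ideal.Quotient.mk _ (MvPolynomial.C Polynomial.X)) = _
  rw [iota_mk, phi_C, Polynomial.map_X]

/-- The special fibre. -/
abbrev R0 : Type u := RR K d n w ⧸ Ideal.span {t0 K d n w}

/-- The quotient map to the special fibre. -/
noncomputable abbrev mk0 : RR K d n w →ₐ[K] R0 K d n w := Ideal.Quotient.mkₐ K _

lemma mk0_eq_zero_iff (r : RR K d n w) : mk0 K d n w r = 0 ↔ ∃ a, a * t0 K d n w = r := by
  rw [← Ideal.mem_span_singleton']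
  exact Ideal.Quotient.eq_zero_iff_mem

lemma mk0_smul (p : Polynomial K) (r : RR K d n w) :
    mk0 K d n w (p • r) = (p.coeff 0) • mk0 K d n w r := by
  have hp : p = Polynomial.X * p.divX + Polynomial.C (p.coeff 0) := (Polynomial.X_mul_divX_add p).symm
  have h1 : p • r = (p.divX • r) * t0 K d n w + (p.coeff 0) • r := by
    conv_lhs => rw [hp]
    rw [add_smul, mul_smul]
    congr 1
    · rw [mul_comm, Algebra.smul_def (Polynomial.X : Polynomial K)]
    · rw [Polynomial.C_eq_algebraMap, algebraMap_smul]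
  rw [h1, map_add, map_smul]
  have : mk0 K d n w ((p.divX • r) * t0 K d n w) = 0 :=
    (mk0_eq_zero_iff K d n w _).mpr ⟨_, rfl⟩
  rw [this, zero_add]

/-- The map `K[x_θ] → R/tR`. -/
noncomputable def Psi0 : MvPolynomial (Below w) K →ₐ[K] R0 K d n w :=
  MvPolynomial.aeval fun θ : Below w => mk0 K d n w (Ideal.Quotient.mk _ (MvPolynomial.X θ))

lemma Psi0_prod {m : ℕ} (c : Fin m → Below w) :
    Psi0 K d n w (∏ k, MvPolynomial.X (c k)) = mk0 K d n w (Yt K d n w c) := by
  unfold Psi0 Yt
  rw [map_prod, map_prod, map_prod]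
  apply Finset.prod_congr rfl
  intro k _
  rw [MvPolynomial.aeval_X]

lemma exists_mul_t0 [IsAlgClosed K] (hd : 0 < d) (hdn : d < n) (a b : Below w)
    (h1 : ¬ a ≤ b) (h2 : ¬ b ≤ a) :
    ∃ r : RR K d n w, r * t0 K d n w =
      Ideal.Quotient.mk _ (MvPolynomial.X a * MvPolynomial.X b) := by
  have hq := quad K d n w hd hdn a.1 b.1 h1 h2
  have key : ∀ z ∈ Submodule.span K {z : Bq K d n w | ∃ α β : Idx d n,
      a.1 < α ∧ b.1 < α ∧ β ≤ α ∧ z = xb K d n w α * xb K d n w β},
      ∃ r : RR K d n w, iota K d n w r * Polynomial.X =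
        Polynomial.C z * Polynomial.X ^ (wt a.1 + wt b.1) := by
    intro z hz
    induction hz using Submodule.span_induction with
    | mem x hx =>
      obtain ⟨α, β, hα1, hα2, hβα, rfl⟩ := hx
      by_cases hαw : α ≤ w
      · have hβw : β ≤ w := le_trans hβα hαw
        have hlt := wt_lt (β := β) hα1 hα2
        refine ⟨(Polynomial.X ^ (wt a.1 + wt b.1 - (wt α + wt β) - 1) : Polynomial K) •
          Ideal.Quotient.mk _ (MvPolynomial.X (⟨α, hαw⟩ : Below w) *
            MvPolynomial.X (⟨β, hβw⟩ : Below w)), ?_⟩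
        rw [iota_smul, iota_mk, map_mul, phi_X, phi_X, Polynomial.map_pow, Polynomial.map_X]
        unfold yv
        have e : wt a.1 + wt b.1 = (wt a.1 + wt b.1 - (wt α + wt β) - 1) + wt α + wt β + 1 := by
          omega
        conv_rhs => rw [e]
        simp only [map_mul, pow_add, pow_one]
        ring
      · refine ⟨0, ?_⟩
        rw [xb_eq_zero K d n w α hαw, zero_mul, map_zero, map_zero, zero_mul, zero_mul]
    | zero => exact ⟨0, by rw [map_zero, map_zero, zero_mul, zero_mul]⟩
    | add x y _ _ hx hy =>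
      obtain ⟨r₁, e₁⟩ := hx
      obtain ⟨r₂, e₂⟩ := hy
      exact ⟨r₁ + r₂, by rw [map_add, add_mul, e₁, e₂, map_add, add_mul]⟩
    | smul k x _ hx =>
      obtain ⟨r₁, e₁⟩ := hx
      refine ⟨(Polynomial.C k : Polynomial K) • r₁, ?_⟩
      rw [iota_smul, mul_assoc, e₁, Polynomial.map_C, ← mul_assoc, ← map_mul]
      congr 2
      exact (Algebra.smul_def k x).symm
  obtain ⟨r, hr⟩ := key _ hq
  refine ⟨r, ?_⟩
  apply iota_injective K d n w
  rw [map_mul, iota_t0, hr, iota_mk, map_mul (phi K d n w), phi_X, phi_X]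
  unfold yv
  simp only [map_mul, pow_add]
  ring

lemma srIdeal_le_ker [IsAlgClosed K] (hd : 0 < d) (hdn : d < n) :
    ∀ f ∈ srIdeal K w, Psi0 K d n w f = 0 := by
  have hle : srIdeal K w ≤ RingHom.ker (Psi0 K d n w).toRingHom := by
    unfold srIdeal
    rw [Ideal.span_le]
    rintro f ⟨a, b, h1, h2, rfl⟩
    show Psi0 K d n w (MvPolynomial.X a * MvPolynomial.X b) = 0
    have hP : Psi0 K d n w (MvPolynomial.X a * MvPolynomial.X b) =
        mk0 K d n w (Ideal.Quotient.mk _ (MvPolynomial.X a * MvPolynomial.X b)) := by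
      unfold Psi0
      rw [map_mul, MvPolynomial.aeval_X, MvPolynomial.aeval_X, map_mul, map_mul]
    rw [hP, mk0_eq_zero_iff]
    exact exists_mul_t0 K d n w hd hdn a b h1 h2
  intro f hf
  exact hle hf

/-- The induced map `K[x_θ]/SR → R/tR`. -/
noncomputable def Psi0Bar [IsAlgClosed K] (hd : 0 < d) (hdn : d < n) :
    (MvPolynomial (Below w) K ⧸ srIdeal K w) →ₐ[K] R0 K d n w :=
  Ideal.Quotient.liftₐ _ (Psi0 K d n w) (srIdeal_le_ker K d n w hd hdn)

end Special

end Groth.Agent.H16.DG
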