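import Groth.Agent.H16.DG6

/-!
# Flat degenerations of Schubert cones (helper16), part 7: the special fibre is the SR ring
-/

set_option autoImplicit false
open W4bk4grassmannian

namespace Groth.Agent.H16.DG

universe u

section SR

variable (K : Type u) [Field K] (d n : ℕ) (w : Idx d n)

/-- The quotient map to the Stanley–Reisner ring. -/
noncomputable abbrev mkSR : MvPolynomial (Below w) K →ₐ[K] (MvPolynomial (Below w) K ⧸ srIdeal K w) :=
  Ideal.Quotient.mkₐ K _

/-- Standard monomials in the Stanley–Reisner ring. -/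
noncomputable def vstd (σ : Std d n w) : MvPolynomial (Below w) K ⧸ srIdeal K w :=
  mkSR K d n w (∏ k, MvPolynomial.X (σ.toBelow k))

lemma tuple_mem {m : ℕ} (c : Fin m → Below w) :
    mkSR K d n w (∏ k, MvPolynomial.X (c k)) ∈ Submodule.span K (Set.range (vstd K d n w)) := by
  by_cases hcomp : ∀ i j, (c i).1 ≤ (c j).1 ∨ (c j).1 ≤ (c i).1
  · obtain ⟨π, hπ⟩ := exists_perm_antitone (fun k => (c k).1) hcomp
    let σ : Std d n w := ⟨m, fun k => (c (π k)).1, hπ, ⟨0, fun k => (c (π k)).2⟩⟩
    have hσ : σ.toBelow = c ∘ π := by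
      funext k
      exact Subtype.ext rfl
    apply Submodule.subset_span
    refine ⟨σ, ?_⟩
    unfold vstd
    rw [hσ]
    congr 1
    exact Equiv.prod_comp π (fun k => (MvPolynomial.X (c k) : MvPolynomial (Below w) K))
  · push Not at hcomp
    obtain ⟨i, j, h1, h2⟩ := hcomp
    have hij : i ≠ j := by
      intro h
      subst h
      exact h1 le_rfl
    have hprod := prod_two (fun θ : Below w => (MvPolynomial.X θ : MvPolynomial (Below w) K))
      c i j hij
    have hmem : (∏ k, MvPolynomial.X (c k) : MvPolynomial (Below w) K) ∈ srIdeal K w := by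
      rw [hprod]
      apply Ideal.mul_mem_right
      apply Ideal.subset_span
      exact ⟨c i, c j, h1, h2, rfl⟩
    have : mkSR K d n w (∏ k, MvPolynomial.X (c k)) = 0 :=
      Ideal.Quotient.eq_zero_iff_mem.mpr hmem
    rw [this]
    exact Submodule.zero_mem _

lemma mul_X_mem_sr (θ : Below w) (x : MvPolynomial (Below w) K ⧸ srIdeal K w)
    (hx : x ∈ Submodule.span K (Set.range (vstd K d n w))) :
    x * mkSR K d n w (MvPolynomial.X θ) ∈ Submodule.span K (Set.range (vstd K d n w)) := by
  induction hx using Submodule.span_induction with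
  | mem x hx =>
    obtain ⟨σ, rfl⟩ := hx
    unfold vstd
    rw [← map_mul]
    have : (∏ k, MvPolynomial.X (σ.toBelow k)) * MvPolynomial.X θ =
        (∏ k, MvPolynomial.X ((Fin.cons θ σ.toBelow : Fin (σ.1 + 1) → Below w) k) :
          MvPolynomial (Below w) K) := by
      rw [Fin.prod_univ_succ]
      simp only [Fin.cons_zero, Fin.cons_succ]
      rw [mul_comm]
    rw [this]
    exact tuple_mem K d n w _
  | zero => rw [zero_mul]; exact Submodule.zero_mem _
  | add x y _ _ hx hy => rw [add_mul]; exact Submodule.add_mem _ hx hy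
  | smul a x _ hx => rw [smul_mul_assoc]; exact Submodule.smul_mem _ _ hx

theorem vstd_span : Submodule.span K (Set.range (vstd K d n w)) = ⊤ := by
  rw [eq_top_iff]
  intro x hx
  clear hx
  obtain ⟨f, rfl⟩ := Ideal.Quotient.mk_surjective x
  show mkSR K d n w f ∈ _
  induction f using MvPolynomial.induction_on with
  | C k =>
    have h1 : mkSR K d n w (MvPolynomial.C k) =
        k • mkSR K d n w (∏ k : Fin 0, MvPolynomial.X ((Fin.elim0 : Fin 0 → Below w) k)) := by
      rw [Finset.univ_eq_empty, Finset.prod_empty, ← map_smul, MvPolynomial.smul_eq_C_mul, mul_one]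
    rw [h1]
    exact Submodule.smul_mem _ _ (tuple_mem K d n w _)
  | add f g hf hg =>
    rw [map_add]
    exact Submodule.add_mem _ hf hg
  | mul_X f θ hf =>
    rw [map_mul]
    exact mul_X_mem_sr K d n w θ _ hf

lemma Psi0Bar_vstd [IsAlgClosed K] (hd : 0 < d) (hdn : d < n) (σ : Std d n w) :
    Psi0Bar K d n w hd hdn (vstd K d n w σ) = mk0 K d n w (Ystd K d n w σ) := by
  unfold vstd Ystd
  rw [← Psi0_prod]
  rfl

theorem mk0_Ystd_li [IsAlgClosed K] (hd : 0 < d) (hdn : d < n) :
    LinearIndependent K (fun σ : Std d n w => mk0 K d n w (Ystd K d n w σ)) := by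
  rw [linearIndependent_iff']
  intro s g hsum σ₀ hσ₀
  let B := YBasis K d n w hd hdn
  have h1 : mk0 K d n w (∑ σ ∈ s, (Polynomial.C (g σ) : Polynomial K) • B σ) = 0 := by
    rw [map_sum]
    rw [← hsum]
    apply Finset.sum_congr rfl
    intro σ _
    rw [mk0_smul, Polynomial.coeff_C_zero, YBasis_apply]
  obtain ⟨r, hr⟩ := (mk0_eq_zero_iff K d n w _).mp h1
  have h2 : B.repr (∑ σ ∈ s, (Polynomial.C (g σ) : Polynomial K) • B σ) σ₀ = Polynomial.C (g σ₀) := by
    rw [map_sum, Finsupp.finset_sum_apply]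
    simp only [map_smul, Module.Basis.repr_self, Finsupp.smul_single, smul_eq_mul, mul_one,
      Finsupp.single_apply]
    rw [Finset.sum_ite_eq' s σ₀]
    rw [if_pos hσ₀]
  have h3 : B.repr (r * t0 K d n w) σ₀ = Polynomial.X * B.repr r σ₀ := by
    have : r * t0 K d n w = (Polynomial.X : Polynomial K) • r := by
      rw [mul_comm, Algebra.smul_def]
    rw [this, map_smul, Finsupp.smul_apply, smul_eq_mul]
  rw [← hr, h3] at h2
  have h4 := congrArg (fun p : Polynomial K => p.coeff 0) h2
  simp only [Polynomial.coeff_X_mul_zero, Polynomial.coeff_C_zero] at h4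
  exact h4.symm

theorem Psi0Bar_injective [IsAlgClosed K] (hd : 0 < d) (hdn : d < n) :
    Function.Injective (Psi0Bar K d n w hd hdn) := by
  refine inj_of_span_of_li (Psi0Bar K d n w hd hdn).toLinearMap (vstd K d n w)
    (vstd_span K d n w) ?_
  have heq : (fun σ : Std d n w => (Psi0Bar K d n w hd hdn).toLinearMap (vstd K d n w σ)) =
      fun σ : Std d n w => mk0 K d n w (Ystd K d n w σ) :=
    funext fun σ => Psi0Bar_vstd K d n w hd hdn σ
  rw [heq]
  exact mk0_Ystd_li K d n w hd hdn

theorem Psi0Bar_surjective [IsAlgClosed K] (hd : 0 < d) (hdn : d < n) :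
    Function.Surjective (Psi0Bar K d n w hd hdn) := by
  intro x
  obtain ⟨r, rfl⟩ := Ideal.Quotient.mk_surjective x
  have hr : r ∈ VV K d n w := by rw [VV_eq_top K d n w hd hdn]; trivial
  show ∃ a, Psi0Bar K d n w hd hdn a = mk0 K d n w r
  induction hr using Submodule.span_induction with
  | mem x hx =>
    obtain ⟨σ, rfl⟩ := hx
    exact ⟨vstd K d n w σ, Psi0Bar_vstd K d n w hd hdn σ⟩
  | zero => exact ⟨0, by rw [map_zero, map_zero]⟩
  | add x y _ _ hx hy =>
    obtain ⟨a, ha⟩ := hx
    obtain ⟨b, hb⟩ := hy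
    exact ⟨a + b, by rw [map_add, ha, hb, map_add]⟩
  | smul p x _ hx =>
    obtain ⟨a, ha⟩ := hx
    exact ⟨(p.coeff 0) • a, by rw [map_smul, ha, mk0_smul]⟩

/-- The special fibre of the Rees family is the Stanley–Reisner ring. -/
noncomputable def specialEquiv [IsAlgClosed K] (hd : 0 < d) (hdn : d < n) :
    (MvPolynomial (Below w) K ⧸ srIdeal K w) ≃ₐ[K] R0 K d n w :=
  AlgEquiv.ofBijective (Psi0Bar K d n w hd hdn)
    ⟨Psi0Bar_injective K d n w hd hdn, Psi0Bar_surjective K d n w hd hdn⟩

end SR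

end Groth.Agent.H16.DG
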