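import Mathlib
import Groth.Prelude.Def_W4bk4grassmannianPl
import Groth.Agent.H16.SO4

set_option autoImplicit false
set_option linter.unusedSectionVars false

/-! Lexicographic comparisons as weights; the weight-refined straightening relation of a pair. -/

namespace Groth.Agent.H16.SM

open W4bk4grassmannian MvPolynomial
open scoped MonomialOrder

universe u

section LexWeight

variable {V : Type*} [Fintype V] [LinearOrder V]

/-- number of elements above `v`. -/
def rev (v : V) : ℕ := (Finset.univ.filter (fun u => v < u)).card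

/-- the weight `3 ^ rev v`. -/
def w3 (v : V) : ℕ := 3 ^ rev v

lemma tail_lt : ∀ (N : ℕ) (v : V), rev v = N →
    ∑ u ∈ Finset.univ.filter (fun u => v < u), 2 * w3 u < w3 v := by
  intro N
  induction N using Nat.strong_induction_on with
  | _ N ih =>
    intro v hv
    by_cases hS : (Finset.univ.filter (fun u => v < u)).Nonempty
    · set m := (Finset.univ.filter (fun u => v < u)).min' hS with hm
      have hvm : v < m := (Finset.mem_filter.mp (Finset.min'_mem _ hS)).2
      have hmin : ∀ u, v < u → m ≤ u := fun u hu =>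
        Finset.min'_le _ u (Finset.mem_filter.mpr ⟨Finset.mem_univ u, hu⟩)
      have hset : Finset.univ.filter (fun u => v < u) =
          insert m (Finset.univ.filter (fun u => m < u)) := by
        ext u
        simp only [Finset.mem_filter, Finset.mem_univ, true_and, Finset.mem_insert]
        constructor
        · intro hu
          rcases eq_or_lt_of_le (hmin u hu) with h | h
          · exact Or.inl h.symm
          · exact Or.inr h
        · rintro (h | h)
          · rw [h]; exact hvm
          · exact lt_trans hvm h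
      have hnot : m ∉ Finset.univ.filter (fun u => m < u) := by
        simp
      have hrev : rev v = rev m + 1 := by
        unfold rev
        rw [hset, Finset.card_insert_of_notMem hnot]
      have hlt : rev m < N := by omega
      have ih' := ih (rev m) hlt m rfl
      rw [hset, Finset.sum_insert hnot]
      unfold w3 at ih' ⊢
      rw [hrev, pow_succ]
      omega
    · rw [Finset.not_nonempty_iff_eq_empty] at hS
      unfold w3 rev
      rw [hS, Finset.sum_empty, Finset.card_empty, pow_zero]
      exact Nat.one_pos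

lemma sum_trichotomy (f : V → ℕ) (v : V) :
    ∑ u, f u = ∑ u ∈ Finset.univ.filter (fun u => u < v), f u + f v +
      ∑ u ∈ Finset.univ.filter (fun u => v < u), f u := by
  rw [← Finset.sum_filter_add_sum_filter_not Finset.univ (fun u => u < v) f]
  have hset : Finset.univ.filter (fun u => ¬ u < v) =
      insert v (Finset.univ.filter (fun u => v < u)) := by
    ext u
    simp only [Finset.mem_filter, Finset.mem_univ, true_and, Finset.mem_insert, not_lt]
    constructor
    · intro hu
      rcases eq_or_lt_of_le hu with h | h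
      · exact Or.inl h.symm
      · exact Or.inr h
    · rintro (h | h)
      · rw [h]
      · exact le_of_lt h
  have hnot : v ∉ Finset.univ.filter (fun u => v < u) := by simp
  rw [hset, Finset.sum_insert hnot, add_assoc]

lemma weight_lt_of_lex (e e' : V →₀ ℕ) (he : ∀ u, e u ≤ 2) (v : V)
    (h1 : ∀ u, u < v → e u = e' u) (h2 : e v < e' v) :
    Finsupp.weight (w3 (V := V)) e < Finsupp.weight (w3 (V := V)) e' := by
  have hw : ∀ x : V →₀ ℕ, Finsupp.weight (w3 (V := V)) x = ∑ u, x u * w3 u := by
    intro x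
    rw [Finsupp.weight_apply, Finsupp.sum_fintype]
    · simp only [smul_eq_mul]
    · intro i; simp
  rw [hw, hw, sum_trichotomy _ v, sum_trichotomy (fun u => e' u * w3 u) v]
  have hA : ∑ u ∈ Finset.univ.filter (fun u => u < v), e u * w3 u =
      ∑ u ∈ Finset.univ.filter (fun u => u < v), e' u * w3 u := by
    apply Finset.sum_congr rfl
    intro u hu
    rw [h1 u (Finset.mem_filter.mp hu).2]
  have hB : ∑ u ∈ Finset.univ.filter (fun u => v < u), e u * w3 u ≤
      ∑ u ∈ Finset.univ.filter (fun u => v < u), 2 * w3 u := by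
    apply Finset.sum_le_sum
    intro u _
    exact Nat.mul_le_mul_right _ (he u)
  have hT := tail_lt (rev v) v rfl
  have hv : e v * w3 v + w3 v ≤ e' v * w3 v := by
    have : (e v + 1) * w3 v ≤ e' v * w3 v := Nat.mul_le_mul_right _ h2
    rw [add_mul, one_mul] at this
    exact this
  rw [hA]
  have hpos : 0 ≤ ∑ u ∈ Finset.univ.filter (fun u => v < u), e' u * w3 u := Nat.zero_le _
  omega

end LexWeight

variable {d n : ℕ}

/-- the weight of an index: the `w3`-weight of its diagonal exponent. -/
noncomputable def wtH (θ : Idx d n) : ℕ := Finsupp.weight (w3 (V := Var d n)) (Dexp θ)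

theorem wtH_add (α β : Idx d n) :
    Finsupp.weight (w3 (V := Var d n)) (Dexp α + Dexp β) = wtH α + wtH β := by
  unfold wtH
  rw [map_add]

theorem wtH_sup_inf (τ φ : Idx d n) :
    wtH (W4bk4grassmannian.sup τ φ) + wtH (W4bk4grassmannian.inf τ φ) = wtH τ + wtH φ := by
  rw [← wtH_add, ← wtH_add, Dexp_sup_add_inf]

theorem wtH_add_lt {α β τ φ : Idx d n}
    (h : Dexp α + Dexp β ≺[MonomialOrder.lex] Dexp τ + Dexp φ) :
    wtH α + wtH β < wtH τ + wtH φ := by
  rw [MonomialOrder.lex_lt_iff, Finsupp.Lex.lt_iff] at h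
  obtain ⟨v, h1, h2⟩ := h
  rw [← wtH_add, ← wtH_add]
  apply weight_lt_of_lex _ _ _ v
  · intro u hu
    exact h1 u hu
  · exact h2
  · intro u
    obtain ⟨i, t, rfl⟩ : ∃ i t, u = toLex (i, t) := ⟨(ofLex u).1, (ofLex u).2, rfl⟩
    rw [Finsupp.add_apply, Dexp_apply, Dexp_apply]
    split_ifs <;> omega

variable (K : Type u) [Field K]

theorem rel_lex [Infinite K] (hdn : d ≤ n) (τ φ : Idx d n) (s : Finset (SPair d n))
    (g : SPair d n → K) (h : Rel2 K τ φ s g) (hs : ∀ p ∈ s, g p ≠ 0) :
    ∀ p ∈ s, Dexp p.1.1 + Dexp p.1.2 ≼[MonomialOrder.lex] Dexp τ + Dexp φ := by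
  classical
  intro p₁ hp₁
  have h1 := Phi_rel K (top hdn) τ φ s g h
  set w := top hdn with hw
  have hτ : τ ≤ w := le_top' hdn τ
  have hφ : φ ≤ w := le_top' hdn φ
  have hdeg : MonomialOrder.lex.degree (gminor K w τ * gminor K w φ) = Dexp τ + Dexp φ := by
    rw [MonomialOrder.degree_mul (monic_gminor K w τ hτ).ne_zero (monic_gminor K w φ hφ).ne_zero,
      degree_gminor K w τ hτ, degree_gminor K w φ hφ]
  have hdegp : ∀ p : SPair d n, MonomialOrder.lex.degree (Phi K w (pmon K p)) =
      Dexp p.1.1 + Dexp p.1.2 := fun p => degree_Phi_pmon K w p (le_top' hdn _)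
  have hsne : s.Nonempty := ⟨p₁, hp₁⟩
  obtain ⟨pm, hpm, hmax⟩ := Finset.exists_max_image s
    (fun p => MonomialOrder.lex.toSyn (MonomialOrder.lex.degree (Phi K w (pmon K p)))) hsne
  have hle : MonomialOrder.lex.degree (Phi K w (pmon K pm)) ≼[MonomialOrder.lex]
      (Dexp τ + Dexp φ) := by
    rw [← hdeg]
    apply MonomialOrder.le_degree
    rw [mem_support_iff, h1, coeff_sum, Finset.sum_eq_single_of_mem pm hpm]
    · rw [coeff_smul, smul_eq_mul]
      exact mul_ne_zero (hs pm hpm)
        (MonomialOrder.lex.coeff_degree_ne_zero_iff.mpr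
          (Phi_pmon_monic K w pm (le_top' hdn _)).ne_zero)
    · intro p hp hne
      rw [coeff_smul, smul_eq_mul]
      have hne2 : MonomialOrder.lex.degree (Phi K w (pmon K p)) ≠
          MonomialOrder.lex.degree (Phi K w (pmon K pm)) := by
        intro heq
        rw [hdegp, hdegp] at heq
        exact hne (pair_exp_injective p pm heq)
      have hlt := lt_of_le_of_ne (hmax p hp)
        (fun h => hne2 (MonomialOrder.lex.toSyn.injective h))
      rw [MonomialOrder.lex.coeff_eq_zero_of_lt hlt, mul_zero]
  have h2 := le_trans (hmax p₁ hp₁) hle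
  rw [hdegp] at h2
  exact h2

theorem straightening_join_meet' [Infinite K] (hdn : d ≤ n) (τ φ : Idx d n) :
    ∃ g ∈ Submodule.span K {f : PlRing K d n | ∃ α β : Idx d n,
        β ≤ α ∧ W4bk4grassmannian.sup τ φ < α ∧ β < W4bk4grassmannian.inf τ φ ∧
          wtH α + wtH β < wtH τ + wtH φ ∧ f = X α * X β},
      X τ * X φ - X (W4bk4grassmannian.sup τ φ) * X (W4bk4grassmannian.inf τ φ) - g ∈
        vanishing K d n := by
  classical
  have hsp := pair_span K (d * n - ST.ssum τ) τ φ le_rfl
  obtain ⟨l, hl⟩ := (Finsupp.mem_span_range_iff_exists_finsupp).mp hsp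
  set s := l.support with hs
  have hrel : Rel2 K τ φ s l := by
    unfold Rel2
    apply plIdealTop_le_vanishing K
    rw [← Ideal.Quotient.eq]
    show ST.π K (X τ * X φ) = ST.π K (∑ p ∈ s, l p • pmon K p)
    rw [← hl, Finsupp.sum, map_sum]
    refine Finset.sum_congr rfl (fun p _ => ?_)
    rfl
  have hne : ∀ p ∈ s, l p ≠ 0 := fun p hp => Finsupp.mem_support_iff.mp hp
  set pstar : SPair d n := ⟨(W4bk4grassmannian.sup τ φ, W4bk4grassmannian.inf τ φ),
    inf_le_sup' τ φ⟩ with hpstar
  obtain ⟨hmem, hone⟩ := rel_lead K hdn τ φ s l hrel hne pstar (Dexp_sup_add_inf τ φ)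
  refine ⟨∑ p ∈ s.erase pstar, l p • pmon K p, ?_, ?_⟩
  · apply Submodule.sum_mem
    intro p hp
    have hps : p ∈ s := Finset.mem_of_mem_erase hp
    have hpne : p ≠ pstar := Finset.ne_of_mem_erase hp
    obtain ⟨h1, h2⟩ := rel_sup K τ φ s l hrel p hps (hne p hps)
    obtain ⟨h3, h4⟩ := rel_inf K τ φ s l hrel p hps (hne p hps)
    have h5 := rel_wt K hdn τ φ s l hrel p hps (hne p hps)
    rw [← ssum_sup_add_inf τ φ] at h5
    have hsup : W4bk4grassmannian.sup τ φ ≤ p.1.1 := fun t => max_le (h1 t) (h2 t)
    have hinf : p.1.2 ≤ W4bk4grassmannian.inf τ φ := fun t => le_min (h3 t) (h4 t)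
    have hlt1 : W4bk4grassmannian.sup τ φ < p.1.1 := by
      apply lt_of_le_of_ne hsup
      intro heq
      apply hpne
      have h6 : ST.ssum p.1.2 = ST.ssum (W4bk4grassmannian.inf τ φ) := by
        rw [← heq] at h5; omega
      have h7 := eq_of_le_of_ssum_eq hinf h6
      exact Subtype.ext (Prod.ext heq.symm h7)
    have hlt2 : p.1.2 < W4bk4grassmannian.inf τ φ := by
      apply lt_of_le_of_ne hinf
      intro heq
      apply hpne
      have h6 : ST.ssum (W4bk4grassmannian.sup τ φ) = ST.ssum p.1.1 := by
        rw [heq] at h5; omega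
      have h7 := eq_of_le_of_ssum_eq hsup h6
      exact Subtype.ext (Prod.ext h7.symm heq)
    have hlex := rel_lex K hdn τ φ s l hrel hne p hps
    have hlexlt : Dexp p.1.1 + Dexp p.1.2 ≺[MonomialOrder.lex] Dexp τ + Dexp φ := by
      apply lt_of_le_of_ne hlex
      intro heq
      apply hpne
      have heq' := MonomialOrder.lex.toSyn.injective heq
      apply pair_exp_injective p pstar
      rw [heq']
      exact (Dexp_sup_add_inf τ φ).symm
    have hwt := wtH_add_lt hlexlt
    exact Submodule.smul_mem _ _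
      (Submodule.subset_span ⟨p.1.1, p.1.2, p.2, hlt1, hlt2, hwt, rfl⟩)
  · have h1 : X τ * X φ - X (W4bk4grassmannian.sup τ φ) * X (W4bk4grassmannian.inf τ φ) -
        ∑ p ∈ s.erase pstar, l p • pmon K p = X τ * X φ - ∑ p ∈ s, l p • pmon K p := by
      rw [← Finset.add_sum_erase s _ hmem, hone, one_smul]
      show _ = X τ * X φ - (X (W4bk4grassmannian.sup τ φ) * X (W4bk4grassmannian.inf τ φ) + _)
      ring
    rw [h1]
    exact hrel

end Groth.Agent.H16.SM
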