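import Groth.Agent.H16.DG7
import Groth.Agent.H16.SO5

/-!
# Flat degenerations of Schubert cones (helper16): general weights, straightening
-/

set_option autoImplicit false
open W4bk4grassmannian

namespace Groth.Agent.H16.DH

universe u

section Gen

variable (K : Type u) [Field K] (d n : ℕ) (w : Idx d n) (ω : Idx d n → ℕ)

/-- The hypothesis on the weight: quadratic straightening does not increase the weight. -/
def QuadHyp : Prop :=
  ∀ τ φ : Idx d n, ¬ τ ≤ φ → ¬ φ ≤ τ →
    DG.xb K d n w τ * DG.xb K d n w φ ∈ Submodule.span K
      {z : DG.Bq K d n w | ∃ α β : Idx d n, τ < α ∧ φ < α ∧ β ≤ α ∧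
        ω α + ω β ≤ ω τ + ω φ ∧ z = DG.xb K d n w α * DG.xb K d n w β}

variable {d n} in
/-- Total `ω`-weight of a tuple. -/
def WtG {m : ℕ} (c : Fin m → Idx d n) : ℕ := Finset.univ.sum fun k => ω (c k)

/-- Span of the standard monomials of degree `m` and `ω`-weight at most `N`. -/
noncomputable def StdSpanG (m N : ℕ) : Submodule K (DG.Bq K d n w) :=
  Submodule.span K {z | ∃ c : Fin m → Idx d n, Antitone c ∧ (∀ k, c k ≤ w) ∧ WtG ω c ≤ N ∧
    z = DG.mon K d n w c}

lemma StdSpanG_mono (m : ℕ) {N N' : ℕ} (h : N ≤ N') :
    StdSpanG K d n w ω m N ≤ StdSpanG K d n w ω m N' := by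
  apply Submodule.span_mono
  rintro z ⟨c, h1, h2, h3, rfl⟩
  exact ⟨c, h1, h2, le_trans h3 h, rfl⟩

theorem straightenG (hq : QuadHyp K d n w ω) (m : ℕ) :
    ∀ (N : ℕ) (c : Fin m → Idx d n), DG.Wt d n c = N →
      DG.mon K d n w c ∈ StdSpanG K d n w ω m (WtG ω c) := by
  intro N
  induction N using Nat.strong_induction_on with
  | _ N ih =>
    intro c hcN
    by_cases hw : ∀ k, c k ≤ w
    · by_cases hcomp : ∀ i j, c i ≤ c j ∨ c j ≤ c i
      · obtain ⟨σ, hσ⟩ := DG.exists_perm_antitone c hcomp
        apply Submodule.subset_span
        refine ⟨c ∘ σ, hσ, fun k => hw _, ?_, ?_⟩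
        · unfold WtG
          exact le_of_eq (Equiv.sum_comp σ (fun k => ω (c k)))
        · unfold DG.mon
          exact (Equiv.prod_comp σ (fun k => DG.xb K d n w (c k))).symm
      · push Not at hcomp
        obtain ⟨i, j, h1, h2⟩ := hcomp
        have hij : i ≠ j := by
          intro h
          subst h
          exact h1 le_rfl
        have hq' := hq (c i) (c j) h1 h2
        have hmon : DG.mon K d n w c = DG.xb K d n w (c i) * DG.xb K d n w (c j) *
            ∏ k ∈ (Finset.univ.erase i).erase j, DG.xb K d n w (c k) :=
          DG.prod_two (DG.xb K d n w) c i j hij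
        rw [hmon]
        have key : ∀ z ∈ Submodule.span K {z : DG.Bq K d n w | ∃ α β : Idx d n,
            c i < α ∧ c j < α ∧ β ≤ α ∧ ω α + ω β ≤ ω (c i) + ω (c j) ∧
              z = DG.xb K d n w α * DG.xb K d n w β},
            z * ∏ k ∈ (Finset.univ.erase i).erase j, DG.xb K d n w (c k) ∈
              StdSpanG K d n w ω m (WtG ω c) := by
          intro z hz
          induction hz using Submodule.span_induction with
          | mem x hx =>
            obtain ⟨α, β, hα1, hα2, -, hωle, rfl⟩ := hx
            have hm : DG.mon K d n w (Function.update (Function.update c i α) j β) =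
                DG.xb K d n w α * DG.xb K d n w β *
                  ∏ k ∈ (Finset.univ.erase i).erase j, DG.xb K d n w (c k) :=
              DG.prod_update_two (DG.xb K d n w) c i j hij α β
            rw [← hm]
            have hW1 : DG.Wt d n (Function.update (Function.update c i α) j β) =
                DG.wt α + DG.wt β + ∑ k ∈ (Finset.univ.erase i).erase j, DG.wt (c k) :=
              DG.sum_update_two DG.wt c i j hij α β
            have hW2 : DG.Wt d n c = DG.wt (c i) + DG.wt (c j) +
                ∑ k ∈ (Finset.univ.erase i).erase j, DG.wt (c k) :=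
              DG.sum_two DG.wt c i j hij
            have hlt : DG.Wt d n (Function.update (Function.update c i α) j β) < N := by
              rw [← hcN, hW1, hW2]
              have := DG.wt_lt (β := β) hα1 hα2
              omega
            have hG1 : WtG ω (Function.update (Function.update c i α) j β) =
                ω α + ω β + ∑ k ∈ (Finset.univ.erase i).erase j, ω (c k) :=
              DG.sum_update_two ω c i j hij α β
            have hG2 : WtG ω c = ω (c i) + ω (c j) +
                ∑ k ∈ (Finset.univ.erase i).erase j, ω (c k) :=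
              DG.sum_two ω c i j hij
            have hle : WtG ω (Function.update (Function.update c i α) j β) ≤ WtG ω c := by
              rw [hG1, hG2]
              omega
            exact StdSpanG_mono K d n w ω m hle (ih _ hlt _ rfl)
          | zero => rw [zero_mul]; exact Submodule.zero_mem _
          | add x y _ _ hx hy => rw [add_mul]; exact Submodule.add_mem _ hx hy
          | smul a x _ hx => rw [smul_mul_assoc]; exact Submodule.smul_mem _ _ hx
        exact key _ hq'
    · push Not at hw
      obtain ⟨k, hk⟩ := hw
      have : DG.mon K d n w c = 0 := by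
        unfold DG.mon
        exact Finset.prod_eq_zero (Finset.mem_univ k) (DG.xb_eq_zero K d n w (c k) hk)
      rw [this]
      exact Submodule.zero_mem _

end Gen

end Groth.Agent.H16.DH
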