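import Groth.Agent.H16.DH1

/-!
# Flat degenerations of Schubert cones (helper16): the Rees family for a general weight
(generated from DG3–DG6 by replacing the Stanley–Reisner weight by a general weight `ω`)
-/

set_option autoImplicit false
set_option linter.unusedVariables false
open W4bk4grassmannian

namespace Groth.Agent.H16.DH

universe u


section Rees

variable (K : Type u) [Field K] (d n : ℕ) (w : Idx d n) (ω : Idx d n → ℕ)

/-- `y_θ = x̄_θ t^{wt θ}`. -/
noncomputable def yv (θ : Below w) : Polynomial (DG.Bq K d n w) :=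
  Polynomial.C (DG.xb K d n w θ.1) * Polynomial.X ^ (ω θ.1)

/-- The map `K[t][x_θ] → B[t]`. -/
noncomputable def phi : MvPolynomial (Below w) (Polynomial K) →+* Polynomial (DG.Bq K d n w) :=
  MvPolynomial.eval₂Hom (Polynomial.mapRingHom (algebraMap K (DG.Bq K d n w))) (yv K d n w ω)

/-- The Rees family. -/
abbrev RR : Type u := MvPolynomial (Below w) (Polynomial K) ⧸ RingHom.ker (phi K d n w ω)

noncomputable instance instCommRingRR : CommRing (RR K d n w ω) := Ideal.Quotient.commRing _

/-- The embedding `R → B[t]`. -/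
noncomputable def iota : RR K d n w ω →+* Polynomial (DG.Bq K d n w) := RingHom.kerLift (phi K d n w ω)

lemma iota_injective : Function.Injective (iota K d n w ω) := RingHom.kerLift_injective _

lemma iota_mk (f : MvPolynomial (Below w) (Polynomial K)) :
    iota K d n w ω (Ideal.Quotient.mk _ f) = phi K d n w ω f := rfl

lemma phi_C (p : Polynomial K) :
    phi K d n w ω (MvPolynomial.C p) = p.map (algebraMap K (DG.Bq K d n w)) := by
  unfold phi
  rw [MvPolynomial.coe_eval₂Hom, MvPolynomial.eval₂_C]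
  rfl

lemma phi_X (θ : Below w) : phi K d n w ω (MvPolynomial.X θ) = yv K d n w ω θ := by
  unfold phi
  rw [MvPolynomial.coe_eval₂Hom, MvPolynomial.eval₂_X]

lemma iota_smul (p : Polynomial K) (r : RR K d n w ω) :
    iota K d n w ω (p • r) = p.map (algebraMap K (DG.Bq K d n w)) * iota K d n w ω r := by
  rw [Algebra.smul_def, map_mul]
  congr 1
  exact phi_C K d n w ω p

/-- The class of a tuple monomial in `R`. -/
noncomputable def Yt {m : ℕ} (c : Fin m → Below w) : RR K d n w ω :=
  Ideal.Quotient.mk _ (∏ k, MvPolynomial.X (c k))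

lemma iota_Yt {m : ℕ} (c : Fin m → Below w) :
    iota K d n w ω (Yt K d n w ω c) =
      Polynomial.C (DG.mon K d n w (fun k => (c k).1)) * Polynomial.X ^ (WtG ω (fun k => (c k).1)) := by
  unfold Yt
  rw [iota_mk, map_prod]
  simp only [phi_X]
  unfold yv DG.mon WtG
  rw [Finset.prod_mul_distrib, Finset.prod_pow_eq_pow_sum, map_prod]

end Rees

section StdBasis

variable (K : Type u) [Field K] (d n : ℕ) (w : Idx d n) (ω : Idx d n → ℕ)

/-- The standard monomials in the Rees family. -/
noncomputable def Ystd (σ : DG.Std d n w) : RR K d n w ω := Yt K d n w ω σ.toBelow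

lemma iota_Ystd (σ : DG.Std d n w) :
    iota K d n w ω (Ystd K d n w ω σ) =
      Polynomial.C (DG.bstd K d n w σ) * Polynomial.X ^ (WtG ω σ.2.1) := by
  unfold Ystd
  rw [iota_Yt]
  rfl

lemma coeff_iota_smul_Ystd (g : Polynomial K) (σ : DG.Std d n w) (e : ℕ) :
    (iota K d n w ω (g • Ystd K d n w ω σ)).coeff e =
      (if WtG ω σ.2.1 ≤ e then g.coeff (e - WtG ω σ.2.1) else 0) • DG.bstd K d n w σ := by
  rw [iota_smul, iota_Ystd, ← mul_assoc, Polynomial.coeff_mul_X_pow']
  split_ifs with h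
  · rw [Polynomial.coeff_mul_C, Polynomial.coeff_map]
    exact (Algebra.smul_def _ _).symm
  · rw [zero_smul]

theorem Ystd_li [IsAlgClosed K] (hd : 0 < d) (hdn : d < n) (hq : QuadHyp K d n w ω) :
    LinearIndependent (Polynomial K) (Ystd K d n w ω) := by
  rw [linearIndependent_iff']
  intro s g hsum σ hσ
  have hb := DG.bstd_li K d n w hd hdn
  rw [linearIndependent_iff'] at hb
  have hcoef : ∀ e : ℕ, (if WtG ω σ.2.1 ≤ e then (g σ).coeff (e - WtG ω σ.2.1) else 0) = 0 := by
    intro e
    have h1 : (iota K d n w ω (∑ τ ∈ s, g τ • Ystd K d n w ω τ)).coeff e = 0 := by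
      rw [hsum, map_zero, Polynomial.coeff_zero]
    rw [map_sum, Polynomial.finsetSum_coeff] at h1
    simp only [coeff_iota_smul_Ystd] at h1
    exact hb s (fun τ => if WtG ω τ.2.1 ≤ e then (g τ).coeff (e - WtG ω τ.2.1) else 0) h1 σ hσ
  apply Polynomial.ext
  intro j
  have := hcoef (j + WtG ω σ.2.1)
  rw [if_pos (Nat.le_add_left _ _), Nat.add_sub_cancel] at this
  rw [this, Polynomial.coeff_zero]

end StdBasis



section Span

variable (K : Type u) [Field K] (d n : ℕ) (w : Idx d n) (ω : Idx d n → ℕ)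

/-- The `K[t]`-span of the standard monomials in the Rees family. -/
noncomputable abbrev VV : Submodule (Polynomial K) (RR K d n w ω) :=
  Submodule.span (Polynomial K) (Set.range (Ystd K d n w ω))

lemma exists_of_mem_StdSpan (m N : ℕ) (z : DG.Bq K d n w) (hz : z ∈ StdSpanG K d n w ω m N) :
    ∃ r ∈ VV K d n w ω, iota K d n w ω r = Polynomial.C z * Polynomial.X ^ N := by
  unfold StdSpanG at hz
  induction hz using Submodule.span_induction with
  | mem x hx =>
    obtain ⟨c₀, hanti, hle, hW, rfl⟩ := hx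
    let σ : DG.Std d n w := ⟨m, c₀, hanti, ⟨0, hle⟩⟩
    refine ⟨(Polynomial.X ^ (N - WtG ω c₀) : Polynomial K) • Ystd K d n w ω σ,
      Submodule.smul_mem _ _ (Submodule.subset_span ⟨σ, rfl⟩), ?_⟩
    rw [iota_smul, iota_Ystd, Polynomial.map_pow, Polynomial.map_X]
    show (Polynomial.X ^ (N - WtG ω c₀) : Polynomial (DG.Bq K d n w)) *
      (Polynomial.C (DG.mon K d n w c₀) * Polynomial.X ^ (WtG ω c₀)) = _
    have hc := mul_comm (Polynomial.X ^ (N - WtG ω c₀) : Polynomial (DG.Bq K d n w))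
      (Polynomial.C (DG.mon K d n w c₀) * Polynomial.X ^ (WtG ω c₀))
    rw [hc, mul_assoc, ← pow_add, Nat.add_sub_cancel' hW]
  | zero => exact ⟨0, Submodule.zero_mem _, by rw [map_zero, map_zero, zero_mul]⟩
  | add x y _ _ hx hy =>
    obtain ⟨r₁, h₁, e₁⟩ := hx
    obtain ⟨r₂, h₂, e₂⟩ := hy
    exact ⟨r₁ + r₂, Submodule.add_mem _ h₁ h₂, by rw [map_add, e₁, e₂, map_add, add_mul]⟩
  | smul a x _ hx =>
    obtain ⟨r₁, h₁, e₁⟩ := hx
    refine ⟨(Polynomial.C a : Polynomial K) • r₁, Submodule.smul_mem _ _ h₁, ?_⟩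
    rw [iota_smul, e₁, Polynomial.map_C, ← mul_assoc, ← map_mul, ← Algebra.smul_def]

lemma Yt_mem [IsAlgClosed K] (hd : 0 < d) (hdn : d < n) (hq : QuadHyp K d n w ω) {m : ℕ} (c : Fin m → Below w) :
    Yt K d n w ω c ∈ VV K d n w ω := by
  have h := straightenG K d n w ω hq m _ (fun k => (c k).1) rfl
  obtain ⟨r, hr, he⟩ := exists_of_mem_StdSpan K d n w ω m _ _ h
  have : r = Yt K d n w ω c := by
    apply iota_injective K d n w ω
    rw [he, iota_Yt]
  rw [← this]
  exact hr

lemma Yt_cons {m : ℕ} (θ : Below w) (c : Fin m → Below w) :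
    Yt K d n w ω (Fin.cons θ c : Fin (m + 1) → Below w) =
      Yt K d n w ω c * Ideal.Quotient.mk _ (MvPolynomial.X θ) := by
  unfold Yt
  rw [← map_mul, Fin.prod_univ_succ]
  simp only [Fin.cons_zero, Fin.cons_succ]
  rw [mul_comm]

lemma mul_X_mem [IsAlgClosed K] (hd : 0 < d) (hdn : d < n) (hq : QuadHyp K d n w ω) (θ : Below w) (r : RR K d n w ω)
    (hr : r ∈ VV K d n w ω) :
    r * Ideal.Quotient.mk _ (MvPolynomial.X θ) ∈ VV K d n w ω := by
  induction hr using Submodule.span_induction with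
  | mem x hx =>
    obtain ⟨σ, rfl⟩ := hx
    unfold Ystd
    rw [← Yt_cons]
    exact Yt_mem K d n w ω hd hdn hq _
  | zero => rw [zero_mul]; exact Submodule.zero_mem _
  | add x y _ _ hx hy => rw [add_mul]; exact Submodule.add_mem _ hx hy
  | smul a x _ hx => rw [smul_mul_assoc]; exact Submodule.smul_mem _ _ hx

theorem VV_eq_top [IsAlgClosed K] (hd : 0 < d) (hdn : d < n) (hq : QuadHyp K d n w ω) : VV K d n w ω = ⊤ := by
  rw [eq_top_iff]
  intro r hr
  clear hr
  obtain ⟨f, rfl⟩ := Ideal.Quotient.mk_surjective r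
  induction f using MvPolynomial.induction_on with
  | C p =>
    have h1 : Ideal.Quotient.mk (RingHom.ker (phi K d n w ω)) (MvPolynomial.C p) =
        p • Yt K d n w ω (Fin.elim0 : Fin 0 → Below w) := by
      unfold Yt
      rw [Finset.univ_eq_empty, Finset.prod_empty, Algebra.smul_def, map_one, mul_one]
      rfl
    rw [h1]
    exact Submodule.smul_mem _ _ (Yt_mem K d n w ω hd hdn hq _)
  | add f g hf hg =>
    rw [map_add]
    exact Submodule.add_mem _ hf hg
  | mul_X f θ hf =>
    rw [map_mul]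
    exact mul_X_mem K d n w ω hd hdn hq θ _ hf

/-- The `K[t]`-basis of the Rees family. -/
noncomputable def YBasis [IsAlgClosed K] (hd : 0 < d) (hdn : d < n) (hq : QuadHyp K d n w ω) :
    Module.Basis (DG.Std d n w) (Polynomial K) (RR K d n w ω) :=
  Module.Basis.mk (Ystd_li K d n w ω hd hdn hq) (VV_eq_top K d n w ω hd hdn hq).ge

lemma YBasis_apply [IsAlgClosed K] (hd : 0 < d) (hdn : d < n) (hq : QuadHyp K d n w ω) (σ : DG.Std d n w) :
    YBasis K d n w ω hd hdn hq σ = Ystd K d n w ω σ := by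
  unfold YBasis
  rw [Module.Basis.mk_apply]

theorem free [IsAlgClosed K] (hd : 0 < d) (hdn : d < n) (hq : QuadHyp K d n w ω) :
    Module.Free (Polynomial K) (RR K d n w ω) :=
  Module.Free.of_basis (YBasis K d n w ω hd hdn hq)

end Span



section Fibre

variable (K : Type u) [Field K] (d n : ℕ) (w : Idx d n) (ω : Idx d n → ℕ) (c : K)

/-- Evaluation `t ↦ c` on the Rees family. -/
noncomputable def eps : RR K d n w ω →ₐ[K] DG.Bq K d n w :=
  { (Polynomial.evalRingHom (algebraMap K (DG.Bq K d n w) c)).comp (iota K d n w ω) with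
    commutes' := by
      intro k
      show Polynomial.eval (algebraMap K (DG.Bq K d n w) c)
        (iota K d n w ω (Ideal.Quotient.mk _ (MvPolynomial.C (Polynomial.C k)))) = _
      rw [iota_mk, phi_C, Polynomial.map_C, Polynomial.eval_C] }

lemma eps_apply (r : RR K d n w ω) :
    eps K d n w ω c r = Polynomial.eval (algebraMap K (DG.Bq K d n w) c) (iota K d n w ω r) := rfl

lemma eps_smul_Ystd (p : Polynomial K) (σ : DG.Std d n w) :
    eps K d n w ω c (p • Ystd K d n w ω σ) = (p.eval c * c ^ (WtG ω σ.2.1)) • DG.bstd K d n w σ := by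
  rw [eps_apply, iota_smul, iota_Ystd, Polynomial.eval_mul, Polynomial.eval_map,
    Polynomial.eval₂_at_apply, Polynomial.eval_C_mul, Polynomial.eval_pow, Polynomial.eval_X]
  have h := Algebra.smul_def (Polynomial.eval c p * c ^ WtG ω σ.2.1) (DG.bstd K d n w σ)
  have h2 : algebraMap K (DG.Bq K d n w) (Polynomial.eval c p) *
      (DG.bstd K d n w σ * algebraMap K (DG.Bq K d n w) c ^ WtG ω σ.2.1) =
      algebraMap K (DG.Bq K d n w) (Polynomial.eval c p * c ^ WtG ω σ.2.1) * DG.bstd K d n w σ := by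
    rw [map_mul, map_pow]
    ring
  exact h2.trans h.symm

lemma eps_algebraMap (p : Polynomial K) :
    eps K d n w ω c (algebraMap (Polynomial K) (RR K d n w ω) p) =
      algebraMap K (DG.Bq K d n w) (p.eval c) := by
  show Polynomial.eval (algebraMap K (DG.Bq K d n w) c)
    (iota K d n w ω (Ideal.Quotient.mk _ (MvPolynomial.C p))) = _
  rw [iota_mk, phi_C, Polynomial.eval_map, Polynomial.eval₂_at_apply]

/-- The element `t - c` of the Rees family. -/
noncomputable abbrev tc : RR K d n w ω :=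
  algebraMap (Polynomial K) (RR K d n w ω) (Polynomial.X - Polynomial.C c)

lemma eps_tc : eps K d n w ω c (tc K d n w ω c) = 0 := by
  unfold tc
  rw [eps_algebraMap]
  simp

/-- The induced map on the fibre. -/
noncomputable def epsBar :
    (RR K d n w ω ⧸ Ideal.span {tc K d n w ω c}) →ₐ[K] DG.Bq K d n w :=
  Ideal.Quotient.liftₐ _ (eps K d n w ω c) (by
    intro a ha
    have hle : Ideal.span {tc K d n w ω c} ≤ RingHom.ker (eps K d n w ω c).toRingHom := by
      rw [Ideal.span_le, Set.singleton_subset_iff]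
      exact eps_tc K d n w ω c
    exact hle ha)

lemma epsBar_mk (r : RR K d n w ω) :
    epsBar K d n w ω c (Ideal.Quotient.mk _ r) = eps K d n w ω c r := rfl

theorem epsBar_surjective [IsAlgClosed K] (hd : 0 < d) (hdn : d < n) (hq : QuadHyp K d n w ω) (hc : c ≠ 0) :
    Function.Surjective (epsBar K d n w ω c) := by
  have hrange : (⊤ : Submodule K (DG.Bq K d n w)) ≤ LinearMap.range (epsBar K d n w ω c).toLinearMap := by
    rw [← DG.bstd_span K d n w hd hdn, Submodule.span_le]
    rintro _ ⟨σ, rfl⟩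
    refine ⟨Ideal.Quotient.mk _
      ((Polynomial.C ((c ^ (WtG ω σ.2.1))⁻¹) : Polynomial K) • Ystd K d n w ω σ), ?_⟩
    show epsBar K d n w ω c (Ideal.Quotient.mk _ _) = _
    rw [epsBar_mk, eps_smul_Ystd, Polynomial.eval_C, inv_mul_cancel₀ (pow_ne_zero _ hc), one_smul]
  intro b
  obtain ⟨x, hx⟩ := hrange (Submodule.mem_top : b ∈ ⊤)
  exact ⟨x, hx⟩

theorem epsBar_injective [IsAlgClosed K] (hd : 0 < d) (hdn : d < n) (hq : QuadHyp K d n w ω) (hc : c ≠ 0) :
    Function.Injective (epsBar K d n w ω c) := by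
  rw [injective_iff_map_eq_zero]
  intro x hx
  obtain ⟨r, rfl⟩ := Ideal.Quotient.mk_surjective x
  rw [epsBar_mk] at hx
  rw [Ideal.Quotient.eq_zero_iff_mem]
  let B := YBasis K d n w ω hd hdn hq
  have hr : r = ∑ σ ∈ (B.repr r).support, (B.repr r σ) • Ystd K d n w ω σ := by
    conv_lhs => rw [← B.linearCombination_repr r]
    rw [Finsupp.linearCombination_apply, Finsupp.sum]
    apply Finset.sum_congr rfl
    intro σ _
    rw [YBasis_apply]
  have hsum : ∑ σ ∈ (B.repr r).support,
      ((B.repr r σ).eval c * c ^ (WtG ω σ.2.1)) • DG.bstd K d n w σ = 0 := by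
    rw [hr, map_sum] at hx
    simp only [eps_smul_Ystd] at hx
    exact hx
  have hb := DG.bstd_li K d n w hd hdn
  rw [linearIndependent_iff'] at hb
  have hzero := hb _ _ hsum
  have hroot : ∀ σ ∈ (B.repr r).support, (Polynomial.X - Polynomial.C c) ∣ B.repr r σ := by
    intro σ hσ
    rw [Polynomial.dvd_iff_isRoot]
    have := hzero σ hσ
    rcases mul_eq_zero.mp this with h | h
    · exact h
    · exact absurd h (pow_ne_zero _ hc)
  choose! q hq using hroot
  rw [Ideal.mem_span_singleton']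
  refine ⟨∑ σ ∈ (B.repr r).support, q σ • Ystd K d n w ω σ, ?_⟩
  conv_rhs => rw [hr]
  rw [Finset.sum_mul]
  apply Finset.sum_congr rfl
  intro σ hσ
  rw [hq σ hσ, mul_smul, mul_comm, ← Algebra.smul_def]

/-- The fibre of the Rees family at `c ≠ 0` is the Schubert cone. -/
noncomputable def fibreEquiv [IsAlgClosed K] (hd : 0 < d) (hdn : d < n) (hq : QuadHyp K d n w ω) (hc : c ≠ 0) :
    (RR K d n w ω ⧸ Ideal.span {tc K d n w ω c}) ≃ₐ[K] DG.Bq K d n w :=
  AlgEquiv.ofBijective (epsBar K d n w ω c)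
    ⟨epsBar_injective K d n w ω c hd hdn hq hc, epsBar_surjective K d n w ω c hd hdn hq hc⟩

end Fibre



section Special

variable (K : Type u) [Field K] (d n : ℕ) (w : Idx d n) (ω : Idx d n → ℕ)

/-- The element `t` of the Rees family. -/
noncomputable abbrev t0 : RR K d n w ω := algebraMap (Polynomial K) (RR K d n w ω) Polynomial.X

lemma iota_t0 : iota K d n w ω (t0 K d n w ω) = Polynomial.X := by
  show iota K d n w ω (Ideal.Quotient.mk _ (MvPolynomial.C Polynomial.X)) = _
  rw [iota_mk, phi_C, Polynomial.map_X]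

/-- The special fibre. -/
abbrev R0 : Type u := RR K d n w ω ⧸ Ideal.span {t0 K d n w ω}

/-- The quotient map to the special fibre. -/
noncomputable abbrev mk0 : RR K d n w ω →ₐ[K] R0 K d n w ω := Ideal.Quotient.mkₐ K _

lemma mk0_eq_zero_iff (r : RR K d n w ω) : mk0 K d n w ω r = 0 ↔ ∃ a, a * t0 K d n w ω = r := by
  rw [← Ideal.mem_span_singleton']
  exact Ideal.Quotient.eq_zero_iff_mem

lemma mk0_smul (p : Polynomial K) (r : RR K d n w ω) :
    mk0 K d n w ω (p • r) = (p.coeff 0) • mk0 K d n w ω r := by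
  have hp : p = Polynomial.X * p.divX + Polynomial.C (p.coeff 0) := (Polynomial.X_mul_divX_add p).symm
  have h1 : p • r = (p.divX • r) * t0 K d n w ω + (p.coeff 0) • r := by
    conv_lhs => rw [hp]
    rw [add_smul, mul_smul]
    congr 1
    · rw [mul_comm, Algebra.smul_def (Polynomial.X : Polynomial K)]
    · rw [Polynomial.C_eq_algebraMap, algebraMap_smul]
  rw [h1, map_add, map_smul]
  have : mk0 K d n w ω ((p.divX • r) * t0 K d n w ω) = 0 :=
    (mk0_eq_zero_iff K d n w ω _).mpr ⟨_, rfl⟩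
  rw [this, zero_add]

/-- The map `K[x_θ] → R/tR`. -/
noncomputable def Psi0 : MvPolynomial (Below w) K →ₐ[K] R0 K d n w ω :=
  MvPolynomial.aeval fun θ : Below w => mk0 K d n w ω (Ideal.Quotient.mk _ (MvPolynomial.X θ))

lemma Psi0_prod {m : ℕ} (c : Fin m → Below w) :
    Psi0 K d n w ω (∏ k, MvPolynomial.X (c k)) = mk0 K d n w ω (Yt K d n w ω c) := by
  unfold Psi0 Yt
  rw [map_prod, map_prod, map_prod]
  apply Finset.prod_congr rfl
  intro k _
  rw [MvPolynomial.aeval_X]


end Special

end Groth.Agent.H16.DH
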