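import Groth.Agent.H16.DH2

/-!
# Flat degenerations of Schubert cones (helper16): the special fibre for the Hibi weight
-/

set_option autoImplicit false
open W4bk4grassmannian

namespace Groth.Agent.H16.DH

universe u

section SpecialGen

variable (K : Type u) [Field K] (d n : ℕ) (w : Idx d n) (ω : Idx d n → ℕ)

theorem mk0_Ystd_li [IsAlgClosed K] (hd : 0 < d) (hdn : d < n) (hq : QuadHyp K d n w ω) :
    LinearIndependent K (fun σ : DG.Std d n w => mk0 K d n w ω (Ystd K d n w ω σ)) := by
  rw [linearIndependent_iff']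
  intro s g hsum σ₀ hσ₀
  let B := YBasis K d n w ω hd hdn hq
  have h1 : mk0 K d n w ω (∑ σ ∈ s, (Polynomial.C (g σ) : Polynomial K) • B σ) = 0 := by
    rw [map_sum]
    rw [← hsum]
    apply Finset.sum_congr rfl
    intro σ _
    rw [mk0_smul, Polynomial.coeff_C_zero, YBasis_apply]
  obtain ⟨r, hr⟩ := (mk0_eq_zero_iff K d n w ω _).mp h1
  have h2 : B.repr (∑ σ ∈ s, (Polynomial.C (g σ) : Polynomial K) • B σ) σ₀ = Polynomial.C (g σ₀) := by
    rw [map_sum, Finsupp.finset_sum_apply]
    simp only [map_smul, Module.Basis.repr_self, Finsupp.smul_single, smul_eq_mul, mul_one,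
      Finsupp.single_apply]
    rw [Finset.sum_ite_eq' s σ₀]
    rw [if_pos hσ₀]
  have h3 : B.repr (r * t0 K d n w ω) σ₀ = Polynomial.X * B.repr r σ₀ := by
    have : r * t0 K d n w ω = (Polynomial.X : Polynomial K) • r := by
      rw [mul_comm, Algebra.smul_def]
    rw [this, map_smul, Finsupp.smul_apply, smul_eq_mul]
  rw [← hr, h3] at h2
  have h4 := congrArg (fun p : Polynomial K => p.coeff 0) h2
  simp only [Polynomial.coeff_X_mul_zero, Polynomial.coeff_C_zero] at h4
  exact h4.symm

/-- Combinations of products of strictly smaller weight are divisible by `t`. -/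
lemma exists_mul_X (W : ℕ) :
    ∀ z ∈ Submodule.span K {z : DG.Bq K d n w | ∃ α β : Idx d n,
      β ≤ α ∧ ω α + ω β < W ∧ z = DG.xb K d n w α * DG.xb K d n w β},
      ∃ r : RR K d n w ω, iota K d n w ω r * Polynomial.X =
        Polynomial.C z * Polynomial.X ^ W := by
  intro z hz
  induction hz using Submodule.span_induction with
  | mem x hx =>
    obtain ⟨α, β, hβα, hlt, rfl⟩ := hx
    by_cases hαw : α ≤ w
    · have hβw : β ≤ w := le_trans hβα hαw
      refine ⟨(Polynomial.X ^ (W - (ω α + ω β) - 1) : Polynomial K) •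
        Ideal.Quotient.mk _ (MvPolynomial.X (⟨α, hαw⟩ : Below w) *
          MvPolynomial.X (⟨β, hβw⟩ : Below w)), ?_⟩
      rw [iota_smul, iota_mk, map_mul (phi K d n w ω), phi_X, phi_X, Polynomial.map_pow,
        Polynomial.map_X]
      unfold yv
      have e : W = (W - (ω α + ω β) - 1) + ω α + ω β + 1 := by omega
      conv_rhs => rw [e]
      simp only [map_mul, pow_add, pow_one]
      ring
    · refine ⟨0, ?_⟩
      rw [DG.xb_eq_zero K d n w α hαw, zero_mul, map_zero, map_zero, zero_mul, zero_mul]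
  | zero => exact ⟨0, by rw [map_zero, map_zero, zero_mul, zero_mul]⟩
  | add x y _ _ hx hy =>
    obtain ⟨r₁, e₁⟩ := hx
    obtain ⟨r₂, e₂⟩ := hy
    exact ⟨r₁ + r₂, by rw [map_add, add_mul, e₁, e₂, map_add, add_mul]⟩
  | smul k x _ hx =>
    obtain ⟨r₁, e₁⟩ := hx
    refine ⟨(Polynomial.C k : Polynomial K) • r₁, ?_⟩
    rw [iota_smul, mul_assoc, e₁, Polynomial.map_C, ← mul_assoc, ← map_mul]
    congr 2
    exact (Algebra.smul_def k x).symm

end SpecialGen

end Groth.Agent.H16.DH
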