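import Groth.Agent.H16.DH3

/-!
# Flat degenerations of Schubert cones (helper16): the Hibi degeneration
-/

set_option autoImplicit false
open W4bk4grassmannian

namespace Groth.Agent.H16.DH

universe u

section Hibi

variable (K : Type u) [Field K] (d n : ℕ) (w : Idx d n)

lemma quadH_strict [IsAlgClosed K] (hdn : d < n) (τ φ : Idx d n) :
    DG.xb K d n w τ * DG.xb K d n w φ -
      DG.xb K d n w (W4bk4grassmannian.sup τ φ) * DG.xb K d n w (W4bk4grassmannian.inf τ φ) ∈
      Submodule.span K {z : DG.Bq K d n w | ∃ α β : Idx d n,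
        W4bk4grassmannian.sup τ φ < α ∧ β ≤ α ∧ SM.wtH α + SM.wtH β < SM.wtH τ + SM.wtH φ ∧
          z = DG.xb K d n w α * DG.xb K d n w β} := by
  obtain ⟨g, hg, hrel⟩ := SM.straightening_join_meet' K (le_of_lt hdn) τ φ
  have hrel' := DG.vanishing_le K d n w hrel
  have h0 : Ideal.Quotient.mk (schubertVanishing K d n w)
      (MvPolynomial.X τ * MvPolynomial.X φ -
        MvPolynomial.X (W4bk4grassmannian.sup τ φ) * MvPolynomial.X (W4bk4grassmannian.inf τ φ) - g)
      = 0 := Ideal.Quotient.eq_zero_iff_mem.mpr hrel'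
  rw [map_sub, sub_eq_zero] at h0
  have h0' : DG.xb K d n w τ * DG.xb K d n w φ -
      DG.xb K d n w (W4bk4grassmannian.sup τ φ) * DG.xb K d n w (W4bk4grassmannian.inf τ φ) =
      Ideal.Quotient.mk (schubertVanishing K d n w) g := by
    rw [← h0, map_sub, map_mul, map_mul]
    rfl
  rw [h0']
  have hg' : ∀ g' ∈ Submodule.span K {f : PlRing K d n | ∃ α β : Idx d n,
      β ≤ α ∧ W4bk4grassmannian.sup τ φ < α ∧ β < W4bk4grassmannian.inf τ φ ∧
        SM.wtH α + SM.wtH β < SM.wtH τ + SM.wtH φ ∧ f = MvPolynomial.X α * MvPolynomial.X β},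
      Ideal.Quotient.mk (schubertVanishing K d n w) g' ∈ Submodule.span K
        {z : DG.Bq K d n w | ∃ α β : Idx d n,
          W4bk4grassmannian.sup τ φ < α ∧ β ≤ α ∧ SM.wtH α + SM.wtH β < SM.wtH τ + SM.wtH φ ∧
            z = DG.xb K d n w α * DG.xb K d n w β} := by
    intro g' hg'
    induction hg' using Submodule.span_induction with
    | mem x hx =>
      obtain ⟨α, β, hβα, hα, -, hwt, rfl⟩ := hx
      apply Submodule.subset_span
      refine ⟨α, β, hα, hβα, hwt, ?_⟩
      rw [map_mul]
      rfl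
    | zero => rw [map_zero]; exact Submodule.zero_mem _
    | add x y _ _ hx hy => rw [map_add]; exact Submodule.add_mem _ hx hy
    | smul a x _ hx =>
      have : Ideal.Quotient.mk (schubertVanishing K d n w) (a • x) =
          a • Ideal.Quotient.mk (schubertVanishing K d n w) x := rfl
      rw [this]
      exact Submodule.smul_mem _ _ hx
  exact hg' g hg

theorem quadH [IsAlgClosed K] (hdn : d < n) : QuadHyp K d n w SM.wtH := by
  intro τ φ h1 h2
  have hs := quadH_strict K d n w hdn τ φ
  have hsplit : DG.xb K d n w τ * DG.xb K d n w φ =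
      (DG.xb K d n w τ * DG.xb K d n w φ -
        DG.xb K d n w (W4bk4grassmannian.sup τ φ) * DG.xb K d n w (W4bk4grassmannian.inf τ φ)) +
      DG.xb K d n w (W4bk4grassmannian.sup τ φ) * DG.xb K d n w (W4bk4grassmannian.inf τ φ) := by
    ring
  rw [hsplit]
  apply Submodule.add_mem
  · refine Submodule.span_mono ?_ hs
    rintro z ⟨α, β, hα, hβα, hwt, rfl⟩
    exact ⟨α, β, lt_trans (DG.lt_sup_left h2) hα, lt_trans (DG.lt_sup_right h1) hα, hβα,
      le_of_lt hwt, rfl⟩
  · apply Submodule.subset_span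
    exact ⟨_, _, DG.lt_sup_left h2, DG.lt_sup_right h1, DG.inf_le_sup τ φ,
      le_of_eq (SM.wtH_sup_inf τ φ), rfl⟩

lemma sup_eq_right {a b : Idx d n} (h : a ≤ b) : W4bk4grassmannian.sup a b = b :=
  Subtype.ext (funext fun t => max_eq_right (h t))

lemma inf_eq_left {a b : Idx d n} (h : a ≤ b) : W4bk4grassmannian.inf a b = a :=
  Subtype.ext (funext fun t => min_eq_left (h t))

lemma sup_eq_left {a b : Idx d n} (h : b ≤ a) : W4bk4grassmannian.sup a b = a :=
  Subtype.ext (funext fun t => max_eq_left (h t))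

lemma inf_eq_right {a b : Idx d n} (h : b ≤ a) : W4bk4grassmannian.inf a b = b :=
  Subtype.ext (funext fun t => min_eq_right (h t))

lemma hibi_rel [IsAlgClosed K] (hdn : d < n) (a b : Below w) :
    ∃ r : RR K d n w SM.wtH, r * t0 K d n w SM.wtH =
      Ideal.Quotient.mk _ (MvPolynomial.X a * MvPolynomial.X b -
        MvPolynomial.X (Below.sup a b) * MvPolynomial.X (Below.inf a b)) := by
  by_cases h1 : a.1 ≤ b.1
  · refine ⟨0, ?_⟩
    have hs : Below.sup a b = b := Subtype.ext (sup_eq_right d n h1)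
    have hi : Below.inf a b = a := Subtype.ext (inf_eq_left d n h1)
    rw [hs, hi, mul_comm (MvPolynomial.X b), sub_self, map_zero, zero_mul]
  · by_cases h2 : b.1 ≤ a.1
    · refine ⟨0, ?_⟩
      have hs : Below.sup a b = a := Subtype.ext (sup_eq_left d n h2)
      have hi : Below.inf a b = b := Subtype.ext (inf_eq_right d n h2)
      rw [hs, hi, sub_self, map_zero, zero_mul]
    · have hs := quadH_strict K d n w hdn a.1 b.1
      have hs' : DG.xb K d n w a.1 * DG.xb K d n w b.1 -
          DG.xb K d n w (W4bk4grassmannian.sup a.1 b.1) *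
            DG.xb K d n w (W4bk4grassmannian.inf a.1 b.1) ∈
          Submodule.span K {z : DG.Bq K d n w | ∃ α β : Idx d n,
            β ≤ α ∧ SM.wtH α + SM.wtH β < SM.wtH a.1 + SM.wtH b.1 ∧
              z = DG.xb K d n w α * DG.xb K d n w β} := by
        refine Submodule.span_mono ?_ hs
        rintro z ⟨α, β, -, hβα, hwt, rfl⟩
        exact ⟨α, β, hβα, hwt, rfl⟩
      obtain ⟨r, hr⟩ := exists_mul_X K d n w SM.wtH _ _ hs'
      refine ⟨r, ?_⟩
      apply iota_injective K d n w SM.wtH
      rw [map_mul, iota_t0, hr, iota_mk, map_sub (phi K d n w SM.wtH),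
        map_mul (phi K d n w SM.wtH), map_mul (phi K d n w SM.wtH), phi_X, phi_X, phi_X, phi_X]
      unfold yv
      have hmod : SM.wtH (Below.sup a b).1 + SM.wtH (Below.inf a b).1 =
          SM.wtH a.1 + SM.wtH b.1 := SM.wtH_sup_inf a.1 b.1
      have e1 : (Polynomial.C (DG.xb K d n w (Below.sup a b).1) *
          Polynomial.X ^ SM.wtH (Below.sup a b).1) *
          (Polynomial.C (DG.xb K d n w (Below.inf a b).1) *
          Polynomial.X ^ SM.wtH (Below.inf a b).1) =
          Polynomial.C (DG.xb K d n w (W4bk4grassmannian.sup a.1 b.1) *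
            DG.xb K d n w (W4bk4grassmannian.inf a.1 b.1)) *
          Polynomial.X ^ (SM.wtH a.1 + SM.wtH b.1) := by
        rw [← hmod, pow_add, map_mul]
        show _ = Polynomial.C (DG.xb K d n w (Below.sup a b).1) *
          Polynomial.C (DG.xb K d n w (Below.inf a b).1) * _
        ring
      rw [e1, map_sub Polynomial.C, sub_mul, pow_add, map_mul Polynomial.C]
      ring

lemma hibiIdeal_le_ker [IsAlgClosed K] (hdn : d < n) :
    ∀ f ∈ hibiIdeal K w, Psi0 K d n w SM.wtH f = 0 := by
  have hle : hibiIdeal K w ≤ RingHom.ker (Psi0 K d n w SM.wtH).toRingHom := by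
    unfold hibiIdeal
    rw [Ideal.span_le]
    rintro f ⟨a, b, rfl⟩
    show Psi0 K d n w SM.wtH (MvPolynomial.X a * MvPolynomial.X b -
      MvPolynomial.X (Below.sup a b) * MvPolynomial.X (Below.inf a b)) = 0
    have hP : Psi0 K d n w SM.wtH (MvPolynomial.X a * MvPolynomial.X b -
        MvPolynomial.X (Below.sup a b) * MvPolynomial.X (Below.inf a b)) =
        mk0 K d n w SM.wtH (Ideal.Quotient.mk _ (MvPolynomial.X a * MvPolynomial.X b -
          MvPolynomial.X (Below.sup a b) * MvPolynomial.X (Below.inf a b))) := by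
      unfold Psi0
      rw [map_sub, map_mul, map_mul, MvPolynomial.aeval_X, MvPolynomial.aeval_X,
        MvPolynomial.aeval_X, MvPolynomial.aeval_X, map_sub, map_sub, map_mul, map_mul, map_mul,
        map_mul]
    rw [hP, mk0_eq_zero_iff]
    exact hibi_rel K d n w hdn a b
  intro f hf
  exact hle hf

/-- The induced map `K[x_θ]/Hibi → R/tR`. -/
noncomputable def Psi0BarH [IsAlgClosed K] (hdn : d < n) :
    (MvPolynomial (Below w) K ⧸ hibiIdeal K w) →ₐ[K] R0 K d n w SM.wtH :=
  Ideal.Quotient.liftₐ _ (Psi0 K d n w SM.wtH) (hibiIdeal_le_ker K d n w hdn)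

end Hibi

end Groth.Agent.H16.DH
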