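import Groth.Agent.H16.DH4

/-!
# Flat degenerations of Schubert cones (helper16): the special fibre is the Hibi ring
-/

set_option autoImplicit false
open W4bk4grassmannian

namespace Groth.Agent.H16.DH

universe u

section HibiBij

variable (K : Type u) [Field K] (d n : ℕ) (w : Idx d n)

/-- The quotient map to the Hibi ring. -/
noncomputable abbrev mkH :
    MvPolynomial (Below w) K →ₐ[K] (MvPolynomial (Below w) K ⧸ hibiIdeal K w) :=
  Ideal.Quotient.mkₐ K _

/-- Standard monomials in the Hibi ring. -/
noncomputable def vstdH (σ : DG.Std d n w) : MvPolynomial (Below w) K ⧸ hibiIdeal K w :=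
  mkH K d n w (∏ k, MvPolynomial.X (σ.toBelow k))

lemma tuple_mem_H {m : ℕ} : ∀ (N : ℕ) (c : Fin m → Below w),
    DG.Wt d n (fun k => (c k).1) = N →
    mkH K d n w (∏ k, MvPolynomial.X (c k)) ∈ Submodule.span K (Set.range (vstdH K d n w)) := by
  intro N
  induction N using Nat.strong_induction_on with
  | _ N ih =>
    intro c hcN
    by_cases hcomp : ∀ i j, (c i).1 ≤ (c j).1 ∨ (c j).1 ≤ (c i).1
    · obtain ⟨π, hπ⟩ := DG.exists_perm_antitone (fun k => (c k).1) hcomp
      let σ : DG.Std d n w := ⟨m, fun k => (c (π k)).1, hπ, ⟨0, fun k => (c (π k)).2⟩⟩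
      have hσ : σ.toBelow = c ∘ π := by
        funext k
        exact Subtype.ext rfl
      apply Submodule.subset_span
      refine ⟨σ, ?_⟩
      unfold vstdH
      rw [hσ]
      congr 1
      exact Equiv.prod_comp π (fun k => (MvPolynomial.X (c k) : MvPolynomial (Below w) K))
    · push Not at hcomp
      obtain ⟨i, j, h1, h2⟩ := hcomp
      have hij : i ≠ j := by
        intro h
        subst h
        exact h1 le_rfl
      set c' : Fin m → Below w := Function.update (Function.update c i (Below.sup (c i) (c j))) j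
        (Below.inf (c i) (c j)) with hc'
      have hprod := DG.prod_two (fun θ : Below w => (MvPolynomial.X θ : MvPolynomial (Below w) K))
        c i j hij
      have hprod' := DG.prod_update_two
        (fun θ : Below w => (MvPolynomial.X θ : MvPolynomial (Below w) K)) c i j hij
        (Below.sup (c i) (c j)) (Below.inf (c i) (c j))
      have heq : mkH K d n w (∏ k, MvPolynomial.X (c k)) =
          mkH K d n w (∏ k, MvPolynomial.X (c' k)) := by
        apply (Ideal.Quotient.eq).mpr
        rw [hprod, hprod', ← sub_mul]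
        apply Ideal.mul_mem_right
        apply Ideal.subset_span
        exact ⟨c i, c j, rfl⟩
      rw [heq]
      have hW1 : DG.Wt d n (fun k => (c' k).1) =
          DG.wt (Below.sup (c i) (c j)).1 + DG.wt (Below.inf (c i) (c j)).1 +
            ∑ k ∈ (Finset.univ.erase i).erase j, DG.wt (c k).1 :=
        DG.sum_update_two (fun θ : Below w => DG.wt θ.1) c i j hij _ _
      have hW2 : DG.Wt d n (fun k => (c k).1) = DG.wt (c i).1 + DG.wt (c j).1 +
          ∑ k ∈ (Finset.univ.erase i).erase j, DG.wt (c k).1 :=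
        DG.sum_two (fun θ : Below w => DG.wt θ.1) c i j hij
      have hlt : DG.Wt d n (fun k => (c' k).1) < N := by
        rw [← hcN, hW1, hW2]
        have := DG.wt_lt (β := (Below.inf (c i) (c j)).1)
          (DG.lt_sup_left (τ := (c i).1) (φ := (c j).1) h2)
          (DG.lt_sup_right (τ := (c i).1) (φ := (c j).1) h1)
        have e : (Below.sup (c i) (c j)).1 = W4bk4grassmannian.sup (c i).1 (c j).1 := rfl
        rw [e]
        omega
      exact ih _ hlt c' rfl

lemma mul_X_mem_H (θ : Below w) (x : MvPolynomial (Below w) K ⧸ hibiIdeal K w)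
    (hx : x ∈ Submodule.span K (Set.range (vstdH K d n w))) :
    x * mkH K d n w (MvPolynomial.X θ) ∈ Submodule.span K (Set.range (vstdH K d n w)) := by
  induction hx using Submodule.span_induction with
  | mem x hx =>
    obtain ⟨σ, rfl⟩ := hx
    unfold vstdH
    rw [← map_mul]
    have : (∏ k, MvPolynomial.X (σ.toBelow k)) * MvPolynomial.X θ =
        (∏ k, MvPolynomial.X ((Fin.cons θ σ.toBelow : Fin (σ.1 + 1) → Below w) k) :
          MvPolynomial (Below w) K) := by
      rw [Fin.prod_univ_succ]
      simp only [Fin.cons_zero, Fin.cons_succ]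
      rw [mul_comm]
    rw [this]
    exact tuple_mem_H K d n w _ _ rfl
  | zero => rw [zero_mul]; exact Submodule.zero_mem _
  | add x y _ _ hx hy => rw [add_mul]; exact Submodule.add_mem _ hx hy
  | smul a x _ hx => rw [smul_mul_assoc]; exact Submodule.smul_mem _ _ hx

theorem vstdH_span : Submodule.span K (Set.range (vstdH K d n w)) = ⊤ := by
  rw [eq_top_iff]
  intro x hx
  clear hx
  obtain ⟨f, rfl⟩ := Ideal.Quotient.mk_surjective x
  show mkH K d n w f ∈ _
  induction f using MvPolynomial.induction_on with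
  | C k =>
    have h1 : mkH K d n w (MvPolynomial.C k) =
        k • mkH K d n w (∏ k : Fin 0, MvPolynomial.X ((Fin.elim0 : Fin 0 → Below w) k)) := by
      rw [Finset.univ_eq_empty, Finset.prod_empty, ← map_smul, MvPolynomial.smul_eq_C_mul, mul_one]
    rw [h1]
    exact Submodule.smul_mem _ _ (tuple_mem_H K d n w _ _ rfl)
  | add f g hf hg =>
    rw [map_add]
    exact Submodule.add_mem _ hf hg
  | mul_X f θ hf =>
    rw [map_mul]
    exact mul_X_mem_H K d n w θ _ hf

lemma Psi0BarH_vstd [IsAlgClosed K] (hdn : d < n) (σ : DG.Std d n w) :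
    Psi0BarH K d n w hdn (vstdH K d n w σ) = mk0 K d n w SM.wtH (Ystd K d n w SM.wtH σ) := by
  unfold vstdH Ystd
  rw [← Psi0_prod]
  rfl

theorem Psi0BarH_injective [IsAlgClosed K] (hd : 0 < d) (hdn : d < n) :
    Function.Injective (Psi0BarH K d n w hdn) := by
  refine DG.inj_of_span_of_li (Psi0BarH K d n w hdn).toLinearMap (vstdH K d n w)
    (vstdH_span K d n w) ?_
  have heq : (fun σ : DG.Std d n w => (Psi0BarH K d n w hdn).toLinearMap (vstdH K d n w σ)) =
      fun σ : DG.Std d n w => mk0 K d n w SM.wtH (Ystd K d n w SM.wtH σ) :=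
    funext fun σ => Psi0BarH_vstd K d n w hdn σ
  rw [heq]
  exact mk0_Ystd_li K d n w SM.wtH hd hdn (quadH K d n w hdn)

theorem Psi0BarH_surjective [IsAlgClosed K] (hd : 0 < d) (hdn : d < n) :
    Function.Surjective (Psi0BarH K d n w hdn) := by
  intro x
  obtain ⟨r, rfl⟩ := Ideal.Quotient.mk_surjective x
  have hr : r ∈ VV K d n w SM.wtH := by
    rw [VV_eq_top K d n w SM.wtH hd hdn (quadH K d n w hdn)]; trivial
  show ∃ a, Psi0BarH K d n w hdn a = mk0 K d n w SM.wtH r
  induction hr using Submodule.span_induction with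
  | mem x hx =>
    obtain ⟨σ, rfl⟩ := hx
    exact ⟨vstdH K d n w σ, Psi0BarH_vstd K d n w hdn σ⟩
  | zero => exact ⟨0, by rw [map_zero, map_zero]⟩
  | add x y _ _ hx hy =>
    obtain ⟨a, ha⟩ := hx
    obtain ⟨b, hb⟩ := hy
    exact ⟨a + b, by rw [map_add, ha, hb, map_add]⟩
  | smul p x _ hx =>
    obtain ⟨a, ha⟩ := hx
    exact ⟨(p.coeff 0) • a, by rw [map_smul, ha, mk0_smul]⟩

/-- The special fibre of the Rees family for the Hibi weight is the Hibi ring. -/
noncomputable def specialEquivH [IsAlgClosed K] (hd : 0 < d) (hdn : d < n) :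
    (MvPolynomial (Below w) K ⧸ hibiIdeal K w) ≃ₐ[K] R0 K d n w SM.wtH :=
  AlgEquiv.ofBijective (Psi0BarH K d n w hdn)
    ⟨Psi0BarH_injective K d n w hd hdn, Psi0BarH_surjective K d n w hd hdn⟩

end HibiBij

end Groth.Agent.H16.DH
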