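import Groth.Prelude.Def_DeRham

/-! Helper lemmas on the additive generators `b₀ • db₁ ∧ … ∧ db_p` of the exterior powers of Kähler
differentials. -/

universe u
open exteriorPower

namespace Groth.Agent.Helper16

/-- Additive induction on the generators `DeRham.gen`. -/
theorem gen_induction {R A : Type u} [CommRing R] [CommRing A] [Algebra R A] (p : ℕ)
    (P : ↥(⋀[A]^p (Ω[A⁄R])) → Prop) (h0 : P 0) (hadd : ∀ x y, P x → P y → P (x + y))
    (hgen : ∀ (b₀ : A) (b : Fin p → A), P (DeRham.gen (KaehlerDifferential.D R A) p b₀ b))
    (x : ↥(⋀[A]^p (Ω[A⁄R]))) : P x := by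
  have hx : x ∈ Submodule.span A (exteriorPower.ιMulti A p ''
      {a : Fin p → Ω[A⁄R] | Set.range a ⊆ Set.range (KaehlerDifferential.D R A)}) := by
    rw [exteriorPower.ιMulti_span_of_span (R := A) (n := p)
      (hs := KaehlerDifferential.span_range_derivation R A)]
    trivial
  induction hx using Submodule.closure_induction with
  | zero => exact h0
  | add x y _ _ hx hy => exact hadd x y hx hy
  | smul_mem r x h =>
    obtain ⟨a, ha, rfl⟩ := h
    choose b hb using fun i => ha (Set.mem_range_self i)
    have hab : a = fun i => KaehlerDifferential.D R A (b i) := funext fun i => (hb i).symm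
    subst hab
    exact hgen r b

/-- `c • gen b₀ b = gen (c * b₀) b`. -/
theorem smul_gen {R A : Type u} [CommRing R] [CommRing A] [Algebra R A] (p : ℕ) (c b₀ : A)
    (b : Fin p → A) :
    c • DeRham.gen (KaehlerDifferential.D R A) p b₀ b =
      DeRham.gen (KaehlerDifferential.D R A) p (c * b₀) b := by
  unfold DeRham.gen
  rw [smul_smul]

end Groth.Agent.Helper16
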