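import Groth.Agent.S15295
import Groth.Agent.H16.DeRhamGen

/-!
# Base change of de Rham complexes: the comparison map (helper16)
-/

set_option autoImplicit false
open TensorProduct

namespace Groth.Agent.H16.DRBC

universe u

variable (R S A B : Type u) [CommRing R] [CommRing S] [CommRing A] [CommRing B]
  [Algebra R S] [Algebra R A] [Algebra R B] [Algebra A B] [Algebra S B]
  [IsScalarTower R A B] [IsScalarTower R S B]
  (ψ : ∀ p : ℕ, ↥(⋀[A]^p (Ω[A⁄R])) →+ ↥(⋀[B]^p (Ω[B⁄S])))
  (hψ : DeRham.IsCxMap (KaehlerDifferential.D R A) (KaehlerDifferential.D S B) (algebraMap A B) ψ)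

include hψ in
lemma psi_smul (p : ℕ) (r : R) (x : ↥(⋀[A]^p (Ω[A⁄R]))) :
    ψ p (r • x) = (algebraMap R S r) • ψ p x := by
  revert x
  apply Groth.Agent.Helper16.gen_induction p
  · rw [smul_zero, map_zero, smul_zero]
  · intro x y hx hy
    rw [smul_add, map_add, hx, hy, map_add, smul_add]
  · intro b₀ b
    have h1 : r • DeRham.gen (KaehlerDifferential.D R A) p b₀ b =
        DeRham.gen (KaehlerDifferential.D R A) p (r • b₀) b := by
      unfold DeRham.gen
      rw [smul_assoc]
    rw [h1, hψ p (r • b₀) b, hψ p b₀ b]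
    unfold DeRham.gen
    have h2 : algebraMap A B (r • b₀) = algebraMap S B (algebraMap R S r) * algebraMap A B b₀ := by
      rw [Algebra.smul_def, map_mul, ← IsScalarTower.algebraMap_apply R A B,
        IsScalarTower.algebraMap_apply R S B]
    rw [h2, mul_smul, algebraMap_smul]

/-- The comparison map `S ⊗ ⋀^p Ω_{A/R} → ⋀^p Ω_{B/S}`, as an additive map. -/
noncomputable def PhiAdd (p : ℕ) : S ⊗[R] ↥(⋀[A]^p (Ω[A⁄R])) →+ ↥(⋀[B]^p (Ω[B⁄S])) :=
  TensorProduct.liftAddHom
    (AddMonoidHom.mk' (fun s : S => AddMonoidHom.mk' (fun x => s • ψ p x)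
        (fun x y => by rw [map_add, smul_add]))
      (fun s t => by
        apply AddMonoidHom.ext
        intro x
        show (s + t) • ψ p x = s • ψ p x + t • ψ p x
        rw [add_smul]))
    (fun r s x => by
      show (r • s) • ψ p x = s • ψ p (r • x)
      rw [psi_smul R S A B ψ hψ p r x, smul_smul, Algebra.smul_def, mul_comm])

lemma PhiAdd_tmul (p : ℕ) (s : S) (x : ↥(⋀[A]^p (Ω[A⁄R]))) :
    PhiAdd R S A B ψ hψ p (s ⊗ₜ[R] x) = s • ψ p x := rfl

lemma PhiAdd_bijective [Algebra.IsPushout R S A B] (p : ℕ) :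
    Function.Bijective (PhiAdd R S A B ψ hψ p) :=
  Groth.Agent.S15295.result R S A B ψ hψ p (PhiAdd R S A B ψ hψ p)
    (fun s x => PhiAdd_tmul R S A B ψ hψ p s x)

lemma PhiAdd_smul (p : ℕ) (s : S) (z : S ⊗[R] ↥(⋀[A]^p (Ω[A⁄R]))) :
    PhiAdd R S A B ψ hψ p (s • z) = s • PhiAdd R S A B ψ hψ p z := by
  induction z using TensorProduct.induction_on with
  | zero => rw [smul_zero, map_zero, smul_zero]
  | add x y hx hy => rw [smul_add, map_add, hx, hy, map_add, smul_add]
  | tmul t x =>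
    rw [TensorProduct.smul_tmul', PhiAdd_tmul, PhiAdd_tmul, smul_eq_mul, mul_smul]

end Groth.Agent.H16.DRBC
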