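import Mathlib

/-!
# Kernel of the exterior power of a surjective linear map (helper16)
-/

set_option autoImplicit false

namespace Groth.Agent.H16.ExtKer

universe u v w
variable {A : Type u} [CommRing A] {M : Type v} {N : Type w} [AddCommGroup M] [Module A M]
  [AddCommGroup N] [Module A N] (π : M →ₗ[A] N) (p : ℕ)

/-- The submodule of `⋀^p M` spanned by wedges with one entry in `ker π`. -/
def K : Submodule A ↥(⋀[A]^p M) :=
  Submodule.span A {x | ∃ v : Fin p → M, (∃ i, π (v i) = 0) ∧ x = exteriorPower.ιMulti A p v}

lemma ιMulti_mem_K (v : Fin p → M) (i : Fin p) (hi : π (v i) = 0) :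
    exteriorPower.ιMulti A p v ∈ K π p :=
  Submodule.subset_span ⟨v, ⟨i, hi⟩, rfl⟩

lemma ιMulti_sub_mem (v w : Fin p → M) (h : ∀ i, π (v i) = π (w i)) :
    exteriorPower.ιMulti A p v - exteriorPower.ιMulti A p w ∈ K π p := by
  classical
  have key : ∀ s : Finset (Fin p), exteriorPower.ιMulti A p v -
      exteriorPower.ιMulti A p (fun i => if i ∈ s then w i else v i) ∈ K π p := by
    intro s
    induction s using Finset.induction_on with
    | empty => simp
    | insert a s ha ih =>
      set hs : Fin p → M := fun i => if i ∈ s then w i else v i with hhs
      have h1 : (fun i => if i ∈ insert a s then w i else v i) = Function.update hs a (w a) := by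
        funext i
        by_cases hia : i = a
        · subst hia; simp
        · rw [Function.update_of_ne hia]
          simp [hhs, Finset.mem_insert, hia]
      have hsa : hs a = v a := by simp [hhs, ha]
      have h2 : hs = Function.update hs a (v a) := by
        rw [← hsa, Function.update_eq_self]
      have h3' : exteriorPower.ιMulti A p hs -
          exteriorPower.ιMulti A p (Function.update hs a (w a)) =
          exteriorPower.ιMulti A p (Function.update hs a (v a - w a)) := by
        rw [AlternatingMap.map_update_sub, ← h2]
      have h3 : exteriorPower.ιMulti A p hs - exteriorPower.ιMulti A p (Function.update hs a (w a))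
          ∈ K π p := by
        rw [h3']
        apply ιMulti_mem_K π p _ a
        rw [Function.update_self, map_sub, h a, sub_self]
      rw [h1]
      have := Submodule.add_mem _ ih h3
      rwa [sub_add_sub_cancel] at this
  have := key Finset.univ
  simpa using this

variable {π}

/-- The alternating map `N^p → ⋀^p M / K`. -/
noncomputable def phi (hπ : Function.Surjective π) :
    N [⋀^Fin p]→ₗ[A] (↥(⋀[A]^p M) ⧸ K π p) where
  toFun v' := Submodule.Quotient.mk (exteriorPower.ιMulti A p (Function.surjInv hπ ∘ v'))
  map_update_add' := by
    intro _ v' i x y
    rw [Function.comp_update, Function.comp_update, Function.comp_update,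
      ← Submodule.Quotient.mk_add, ← AlternatingMap.map_update_add, Submodule.Quotient.eq]
    apply ιMulti_sub_mem
    intro j
    by_cases hj : j = i
    · subst hj
      rw [Function.update_self, Function.update_self, map_add, Function.surjInv_eq hπ,
        Function.surjInv_eq hπ, Function.surjInv_eq hπ]
    · rw [Function.update_of_ne hj, Function.update_of_ne hj]
  map_update_smul' := by
    intro _ v' i c x
    rw [Function.comp_update, Function.comp_update,
      ← Submodule.Quotient.mk_smul, ← AlternatingMap.map_update_smul, Submodule.Quotient.eq]
    apply ιMulti_sub_mem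
    intro j
    by_cases hj : j = i
    · subst hj
      rw [Function.update_self, Function.update_self, map_smul, Function.surjInv_eq hπ,
        Function.surjInv_eq hπ]
    · rw [Function.update_of_ne hj, Function.update_of_ne hj]
  map_eq_zero_of_eq' := by
    intro v' i j hij hne
    have : exteriorPower.ιMulti A p (Function.surjInv hπ ∘ v') = 0 :=
      (exteriorPower.ιMulti A p).map_eq_zero_of_eq _ (by simp [hij]) hne
    rw [this, Submodule.Quotient.mk_zero]

lemma phi_apply (hπ : Function.Surjective π) (v' : Fin p → N) :
    phi p hπ v' = Submodule.Quotient.mk (exteriorPower.ιMulti A p (Function.surjInv hπ ∘ v')) := rfl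

theorem ker_map_le (hπ : Function.Surjective π) :
    LinearMap.ker (exteriorPower.map p π) ≤ K π p := by
  have h : (exteriorPower.alternatingMapLinearEquiv (phi p hπ)) ∘ₗ (exteriorPower.map p π) =
      (K π p).mkQ := by
    apply exteriorPower.linearMap_ext
    apply AlternatingMap.ext
    intro v
    show exteriorPower.alternatingMapLinearEquiv (phi p hπ)
      (exteriorPower.map p π (exteriorPower.ιMulti A p v)) =
      Submodule.Quotient.mk (exteriorPower.ιMulti A p v)
    rw [exteriorPower.map_apply_ιMulti, exteriorPower.alternatingMapLinearEquiv_apply_ιMulti,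
      phi_apply, Submodule.Quotient.eq]
    apply ιMulti_sub_mem
    intro i
    simp only [Function.comp_apply]
    rw [Function.surjInv_eq hπ]
  intro x hx
  have h2 := LinearMap.congr_fun h x
  rw [LinearMap.comp_apply, LinearMap.mem_ker.mp hx, map_zero] at h2
  exact (Submodule.Quotient.mk_eq_zero _).mp h2.symm

end Groth.Agent.H16.ExtKer
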