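import Groth.Prelude.Def_DeRham
import Groth.Agent.H16.ExtKer
import Groth.Agent.H16.DeRhamGen

/-!
# De Rham differential on a quotient of the Kähler differentials (helper16)
-/

set_option autoImplicit false

namespace Groth.Agent.H16.DRQuot

universe u
open exteriorPower

section General

variable {A : Type u} [CommRing A] {M N : Type u} [AddCommGroup M] [Module A M]
  [AddCommGroup N] [Module A N]

lemma coe_ιMulti_cons (q : ℕ) (x : M) (u : Fin q → M) :
    ((exteriorPower.ιMulti A (q + 1) (Fin.cons x u) : ↥(⋀[A]^(q + 1) M)) : ExteriorAlgebra A M) =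
      ExteriorAlgebra.ι A x *
        ((exteriorPower.ιMulti A q u : ↥(⋀[A]^q M)) : ExteriorAlgebra A M) := by
  rw [exteriorPower.ιMulti_apply_coe, exteriorPower.ιMulti_apply_coe,
    ExteriorAlgebra.ιMulti_succ_apply]
  congr 1

lemma coe_ιMulti_zero (u : Fin 0 → M) :
    ((exteriorPower.ιMulti A 0 u : ↥(⋀[A]^0 M)) : ExteriorAlgebra A M) = 1 := by
  rw [exteriorPower.ιMulti_apply_coe, ExteriorAlgebra.ιMulti_zero_apply]

lemma coe_map (p : ℕ) (π : M →ₗ[A] N) (x : ↥(⋀[A]^p M)) :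
    ((exteriorPower.map p π x : ↥(⋀[A]^p N)) : ExteriorAlgebra A N) =
      ExteriorAlgebra.map π (x : ExteriorAlgebra A M) := by
  have h : (Submodule.subtype (⋀[A]^p N)) ∘ₗ (exteriorPower.map p π) =
      (ExteriorAlgebra.map π).toLinearMap ∘ₗ (Submodule.subtype (⋀[A]^p M)) := by
    apply exteriorPower.linearMap_ext
    apply AlternatingMap.ext
    intro v
    show ((exteriorPower.map p π (exteriorPower.ιMulti A p v) : ↥(⋀[A]^p N)) :
        ExteriorAlgebra A N) =
      ExteriorAlgebra.map π ((exteriorPower.ιMulti A p v : ↥(⋀[A]^p M)) : ExteriorAlgebra A M)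
    rw [exteriorPower.map_apply_ιMulti, exteriorPower.ιMulti_apply_coe,
      exteriorPower.ιMulti_apply_coe, ExteriorAlgebra.map_apply_ιMulti]
  exact LinearMap.congr_fun h x

/-- The wedge `ω ∧ η` of a vector with a `q`-form. -/
noncomputable def W (q : ℕ) (ω : M) (η : ↥(⋀[A]^q M)) : ↥(⋀[A]^(q + 1) M) :=
  ⟨ExteriorAlgebra.ι A ω * (η : ExteriorAlgebra A M), by
    have h := Submodule.mul_mem_mul (LinearMap.mem_range_self (ExteriorAlgebra.ι A) ω) η.2
    show _ ∈ LinearMap.range (ExteriorAlgebra.ι A : M →ₗ[A] ExteriorAlgebra A M) ^ (q + 1)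
    rw [pow_succ']
    exact h⟩

lemma W_coe (q : ℕ) (ω : M) (η : ↥(⋀[A]^q M)) :
    ((W q ω η : ↥(⋀[A]^(q + 1) M)) : ExteriorAlgebra A M) =
      ExteriorAlgebra.ι A ω * (η : ExteriorAlgebra A M) := rfl

lemma W_add_right (q : ℕ) (ω : M) (η₁ η₂ : ↥(⋀[A]^q M)) :
    W q ω (η₁ + η₂) = W q ω η₁ + W q ω η₂ := by
  apply Subtype.ext
  rw [Submodule.coe_add, W_coe, W_coe, W_coe, Submodule.coe_add, mul_add]

lemma W_zero_right (q : ℕ) (ω : M) : W q ω (0 : ↥(⋀[A]^q M)) = 0 := by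
  apply Subtype.ext
  rw [W_coe, Submodule.coe_zero, mul_zero]
  rfl

lemma W_add_left (q : ℕ) (ω₁ ω₂ : M) (η : ↥(⋀[A]^q M)) :
    W q (ω₁ + ω₂) η = W q ω₁ η + W q ω₂ η := by
  apply Subtype.ext
  rw [Submodule.coe_add, W_coe, W_coe, W_coe, map_add, add_mul]

lemma W_zero_left (q : ℕ) (η : ↥(⋀[A]^q M)) : W q (0 : M) η = 0 := by
  apply Subtype.ext
  rw [W_coe, map_zero, zero_mul]
  rfl

lemma W_smul_left (q : ℕ) (c : A) (ω : M) (η : ↥(⋀[A]^q M)) :
    W q (c • ω) η = W q ω (c • η) := by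
  apply Subtype.ext
  rw [W_coe, W_coe, map_smul, Submodule.coe_smul, smul_mul_assoc, mul_smul_comm]

lemma W_smul_right (q : ℕ) (c : A) (ω : M) (η : ↥(⋀[A]^q M)) :
    W q ω (c • η) = c • W q ω η := by
  apply Subtype.ext
  rw [W_coe, Submodule.coe_smul, Submodule.coe_smul, W_coe, mul_smul_comm]

lemma W_ιMulti (q : ℕ) (ω : M) (u : Fin q → M) :
    W q ω (exteriorPower.ιMulti A q u) = exteriorPower.ιMulti A (q + 1) (Fin.cons ω u) := by
  apply Subtype.ext
  rw [W_coe, coe_ιMulti_cons]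

end General

section DR

variable {R A : Type u} [CommRing R] [CommRing A] [Algebra R A]
  {Ω' : Type u} [AddCommGroup Ω'] [Module A Ω']
  (π : Ω[A⁄R] →ₗ[A] Ω')
  (dA : ∀ p : ℕ, ↥(⋀[A]^p (Ω[A⁄R])) →ₗ[R] ↥(⋀[A]^(p + 1) (Ω[A⁄R])))

/-- `x ↦ Π (dA x)` with values in the exterior algebra of `Ω'`. -/
noncomputable def Ftil (p : ℕ) (x : ↥(⋀[A]^p (Ω[A⁄R]))) : ExteriorAlgebra A Ω' :=
  ExteriorAlgebra.map π ((dA p x : ↥(⋀[A]^(p + 1) (Ω[A⁄R]))) : ExteriorAlgebra A (Ω[A⁄R]))

lemma Ftil_zero (p : ℕ) : Ftil π dA p 0 = 0 := by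
  unfold Ftil
  rw [map_zero, Submodule.coe_zero, map_zero]

lemma Ftil_add (p : ℕ) (x y : ↥(⋀[A]^p (Ω[A⁄R]))) :
    Ftil π dA p (x + y) = Ftil π dA p x + Ftil π dA p y := by
  unfold Ftil
  rw [map_add, Submodule.coe_add, map_add]

lemma Ftil_neg (p : ℕ) (x : ↥(⋀[A]^p (Ω[A⁄R]))) :
    Ftil π dA p (-x) = - Ftil π dA p x := by
  unfold Ftil
  rw [map_neg, Submodule.coe_neg, map_neg]

lemma Ftil_sum (p : ℕ) {ι : Type*} (t : Finset ι) (f : ι → ↥(⋀[A]^p (Ω[A⁄R]))) :
    Ftil π dA p (∑ i ∈ t, f i) = ∑ i ∈ t, Ftil π dA p (f i) := by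
  classical
  induction t using Finset.induction_on with
  | empty => simp [Ftil_zero]
  | insert a s ha ih => rw [Finset.sum_insert ha, Finset.sum_insert ha, Ftil_add, ih]

lemma coe_gen (q : ℕ) (b₀ : A) (b : Fin q → A) :
    ((DeRham.gen (KaehlerDifferential.D R A) q b₀ b : ↥(⋀[A]^q (Ω[A⁄R]))) :
        ExteriorAlgebra A (Ω[A⁄R])) =
      b₀ • ((exteriorPower.ιMulti A q (fun i => KaehlerDifferential.D R A (b i)) :
        ↥(⋀[A]^q (Ω[A⁄R]))) : ExteriorAlgebra A (Ω[A⁄R])) := rfl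

lemma gen_smul (q : ℕ) (c b₀ : A) (b : Fin q → A) :
    c • DeRham.gen (KaehlerDifferential.D R A) q b₀ b =
      DeRham.gen (KaehlerDifferential.D R A) q (c * b₀) b := by
  unfold DeRham.gen
  rw [smul_smul]

lemma coe_ιMulti_one {M : Type u} [AddCommGroup M] [Module A M] (x : M) :
    ((exteriorPower.ιMulti A 1 (fun _ => x) : ↥(⋀[A]^1 M)) : ExteriorAlgebra A M) =
      ExteriorAlgebra.ι A x := by
  rw [exteriorPower.ιMulti_apply_coe, ExteriorAlgebra.ιMulti_succ_apply,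
    ExteriorAlgebra.ιMulti_zero_apply, mul_one]

lemma oneEquiv_symm_apply {M : Type u} [AddCommGroup M] [Module A M] (x : M) :
    (exteriorPower.oneEquiv A M).symm x = exteriorPower.ιMulti A 1 (fun _ => x) := by
  rw [LinearEquiv.symm_apply_eq, exteriorPower.oneEquiv_ιMulti]

variable {π dA}

/-- The value of `Π ∘ dA 1` on a one-form `∑ cᵢ • D i`. -/
lemma map_dA_one (hdA : DeRham.IsDiff (KaehlerDifferential.D R A) dA) (c : A →₀ A) :
    ExteriorAlgebra.map π ((dA 1 ((exteriorPower.oneEquiv A (Ω[A⁄R])).symm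
      (∑ i ∈ c.support, c i • KaehlerDifferential.D R A i)) : ↥(⋀[A]^2 (Ω[A⁄R]))) :
        ExteriorAlgebra A (Ω[A⁄R])) =
      ∑ i ∈ c.support, ExteriorAlgebra.ι A (π (KaehlerDifferential.D R A (c i))) *
        ExteriorAlgebra.ι A (π (KaehlerDifferential.D R A i)) := by
  have h1 : (exteriorPower.oneEquiv A (Ω[A⁄R])).symm
      (∑ i ∈ c.support, c i • KaehlerDifferential.D R A i) =
      ∑ i ∈ c.support, DeRham.gen (KaehlerDifferential.D R A) 1 (c i) (fun _ => i) := by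
    rw [map_sum]
    apply Finset.sum_congr rfl
    intro i _
    rw [map_smul, oneEquiv_symm_apply]
    rfl
  rw [h1, map_sum, Submodule.coe_sum, map_sum]
  apply Finset.sum_congr rfl
  intro i _
  rw [hdA.1 1 (c i) (fun _ => i), coe_ιMulti_cons, coe_ιMulti_one, map_mul,
    ExteriorAlgebra.map_apply_ι, ExteriorAlgebra.map_apply_ι]

lemma Ftil_W_special (hdA : DeRham.IsDiff (KaehlerDifferential.D R A) dA) (ω₀ : Ω[A⁄R])
    (h1 : π ω₀ = 0)
    (h2 : exteriorPower.map 2 π (dA 1 ((exteriorPower.oneEquiv A (Ω[A⁄R])).symm ω₀)) = 0)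
    (q : ℕ) (b₀ : A) (b : Fin q → A) :
    Ftil π dA (q + 1) (W q ω₀ (DeRham.gen (KaehlerDifferential.D R A) q b₀ b)) = 0 := by
  classical
  obtain ⟨c, hc⟩ := (Finsupp.mem_span_range_iff_exists_finsupp (R := A)
    (v := KaehlerDifferential.D R A) (x := ω₀)).mp
    (by rw [KaehlerDifferential.span_range_derivation]; trivial)
  have hω : ω₀ = ∑ i ∈ c.support, c i • KaehlerDifferential.D R A i := hc.symm
  set P : ExteriorAlgebra A (Ω[A⁄R]) :=
    ((exteriorPower.ιMulti A q (fun i => KaehlerDifferential.D R A (b i)) :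
      ↥(⋀[A]^q (Ω[A⁄R]))) : ExteriorAlgebra A (Ω[A⁄R])) with hP
  have hcons : ∀ i : A, (fun j => KaehlerDifferential.D R A ((Fin.cons i b : Fin (q + 1) → A) j)) =
      Fin.cons (KaehlerDifferential.D R A i) (fun j => KaehlerDifferential.D R A (b j)) := by
    intro i
    funext j
    refine Fin.cases ?_ (fun k => ?_) j
    · simp
    · simp
  -- Step A
  have hA : W q ω₀ (DeRham.gen (KaehlerDifferential.D R A) q b₀ b) =
      ∑ i ∈ c.support, DeRham.gen (KaehlerDifferential.D R A) (q + 1) (c i * b₀) (Fin.cons i b) := by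
    apply Subtype.ext
    rw [W_coe, Submodule.coe_sum, coe_gen]
    have hterm : ∀ i : A, ((DeRham.gen (KaehlerDifferential.D R A) (q + 1) (c i * b₀)
        (Fin.cons i b) : ↥(⋀[A]^(q + 1) (Ω[A⁄R]))) : ExteriorAlgebra A (Ω[A⁄R])) =
        (c i * b₀) • (ExteriorAlgebra.ι A (KaehlerDifferential.D R A i) * P) := by
      intro i
      rw [coe_gen, hcons, coe_ιMulti_cons]
    simp only [hterm]
    conv_lhs => rw [hω]
    rw [map_sum, Finset.sum_mul]
    apply Finset.sum_congr rfl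
    intro i _
    rw [map_smul, smul_mul_smul_comm]
  rw [hA, Ftil_sum]
  -- Step B
  set P' : ExteriorAlgebra A Ω' := ExteriorAlgebra.map π P with hP'
  have hB : ∀ i : A, Ftil π dA (q + 1)
      (DeRham.gen (KaehlerDifferential.D R A) (q + 1) (c i * b₀) (Fin.cons i b)) =
      c i • (ExteriorAlgebra.ι A (π (KaehlerDifferential.D R A b₀)) *
        (ExteriorAlgebra.ι A (π (KaehlerDifferential.D R A i)) * P')) +
      b₀ • (ExteriorAlgebra.ι A (π (KaehlerDifferential.D R A (c i))) *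
        (ExteriorAlgebra.ι A (π (KaehlerDifferential.D R A i)) * P')) := by
    intro i
    unfold Ftil
    rw [hdA.1 (q + 1) (c i * b₀) (Fin.cons i b), hcons, coe_ιMulti_cons, coe_ιMulti_cons,
      map_mul (ExteriorAlgebra.map π), map_mul (ExteriorAlgebra.map π),
      ExteriorAlgebra.map_apply_ι, ExteriorAlgebra.map_apply_ι, Derivation.leibniz,
      map_add, map_add, map_smul, map_smul, map_smul, map_smul, add_mul, smul_mul_assoc,
      smul_mul_assoc]
  simp only [hB]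
  rw [Finset.sum_add_distrib]
  -- first sum
  have hS1 : ∑ i ∈ c.support, c i • (ExteriorAlgebra.ι A (π (KaehlerDifferential.D R A b₀)) *
        (ExteriorAlgebra.ι A (π (KaehlerDifferential.D R A i)) * P')) =
      ExteriorAlgebra.ι A (π (KaehlerDifferential.D R A b₀)) *
        (ExteriorAlgebra.ι A (π ω₀) * P') := by
    conv_rhs => rw [hω]
    rw [map_sum, map_sum, Finset.sum_mul, Finset.mul_sum]
    apply Finset.sum_congr rfl
    intro i _
    rw [map_smul, map_smul, smul_mul_assoc, mul_smul_comm]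
  -- second sum
  have hS2 : ∑ i ∈ c.support, b₀ • (ExteriorAlgebra.ι A (π (KaehlerDifferential.D R A (c i))) *
        (ExteriorAlgebra.ι A (π (KaehlerDifferential.D R A i)) * P')) =
      b₀ • ((∑ i ∈ c.support, ExteriorAlgebra.ι A (π (KaehlerDifferential.D R A (c i))) *
        ExteriorAlgebra.ι A (π (KaehlerDifferential.D R A i))) * P') := by
    rw [← Finset.smul_sum, Finset.sum_mul]
    congr 1
    apply Finset.sum_congr rfl
    intro i _
    rw [mul_assoc]
  have hzero : ∑ i ∈ c.support, ExteriorAlgebra.ι A (π (KaehlerDifferential.D R A (c i))) *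
        ExteriorAlgebra.ι A (π (KaehlerDifferential.D R A i)) = 0 := by
    rw [← map_dA_one hdA c, ← hω, ← coe_map, h2, Submodule.coe_zero]
  rw [hS1, hS2, hzero, h1, map_zero, zero_mul, mul_zero, smul_zero, add_zero]

lemma Ftil_W_gen (hdA : DeRham.IsDiff (KaehlerDifferential.D R A) dA) (q : ℕ) (b : Fin q → A) :
    ∀ ω ∈ Submodule.span A {ω : Ω[A⁄R] | π ω = 0 ∧
      exteriorPower.map 2 π (dA 1 ((exteriorPower.oneEquiv A (Ω[A⁄R])).symm ω)) = 0},
      ∀ b₀ : A, Ftil π dA (q + 1) (W q ω (DeRham.gen (KaehlerDifferential.D R A) q b₀ b)) = 0 := by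
  intro ω hmem
  induction hmem using Submodule.closure_induction with
  | zero => intro b₀; rw [W_zero_left, Ftil_zero]
  | add x y _ _ hx hy => intro b₀; rw [W_add_left, Ftil_add, hx, hy, add_zero]
  | smul_mem r x h =>
    intro b₀
    rw [W_smul_left, gen_smul]
    exact Ftil_W_special hdA x h.1 h.2 q _ b

lemma Ftil_W (hdA : DeRham.IsDiff (KaehlerDifferential.D R A) dA)
    (hker : LinearMap.ker π ≤ Submodule.span A {ω : Ω[A⁄R] | π ω = 0 ∧
      exteriorPower.map 2 π (dA 1 ((exteriorPower.oneEquiv A (Ω[A⁄R])).symm ω)) = 0})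
    (q : ℕ) (ω : Ω[A⁄R]) (hω : π ω = 0) (η : ↥(⋀[A]^q (Ω[A⁄R]))) :
    Ftil π dA (q + 1) (W q ω η) = 0 := by
  revert η
  apply Groth.Agent.Helper16.gen_induction q
  · rw [W_zero_right, Ftil_zero]
  · intro x y hx hy
    rw [W_add_right, Ftil_add, hx, hy, add_zero]
  · intro b₀ b
    exact Ftil_W_gen hdA q b ω (hker (LinearMap.mem_ker.mpr hω)) b₀

lemma Ftil_smul_ιMulti (hdA : DeRham.IsDiff (KaehlerDifferential.D R A) dA)
    (hker : LinearMap.ker π ≤ Submodule.span A {ω : Ω[A⁄R] | π ω = 0 ∧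
      exteriorPower.map 2 π (dA 1 ((exteriorPower.oneEquiv A (Ω[A⁄R])).symm ω)) = 0})
    (p : ℕ) (a : A) (v : Fin p → Ω[A⁄R]) (i : Fin p) (hi : π (v i) = 0) :
    Ftil π dA p (a • exteriorPower.ιMulti A p v) = 0 := by
  cases p with
  | zero => exact i.elim0
  | succ q =>
    have h0 : ∀ w : Fin (q + 1) → Ω[A⁄R], π (w 0) = 0 →
        Ftil π dA (q + 1) (a • exteriorPower.ιMulti A (q + 1) w) = 0 := by
      intro w hw
      have : a • exteriorPower.ιMulti A (q + 1) w =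
          W q (w 0) (a • exteriorPower.ιMulti A q (Fin.tail w)) := by
        rw [W_smul_right, W_ιMulti, Fin.cons_self_tail]
      rw [this]
      exact Ftil_W hdA hker q (w 0) hw _
    by_cases hi0 : i = 0
    · subst hi0
      exact h0 v hi
    · have hswap : exteriorPower.ιMulti A (q + 1) (v ∘ Equiv.swap 0 i) =
          - exteriorPower.ιMulti A (q + 1) v :=
        AlternatingMap.map_swap _ v (Ne.symm hi0)
      have : a • exteriorPower.ιMulti A (q + 1) v =
          - (a • exteriorPower.ιMulti A (q + 1) (v ∘ Equiv.swap 0 i)) := by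
        rw [hswap, smul_neg, neg_neg]
      rw [this, Ftil_neg, h0 _ (by simp [hi]), neg_zero]

lemma Ftil_of_mem_K (hdA : DeRham.IsDiff (KaehlerDifferential.D R A) dA)
    (hker : LinearMap.ker π ≤ Submodule.span A {ω : Ω[A⁄R] | π ω = 0 ∧
      exteriorPower.map 2 π (dA 1 ((exteriorPower.oneEquiv A (Ω[A⁄R])).symm ω)) = 0})
    (p : ℕ) (x : ↥(⋀[A]^p (Ω[A⁄R]))) (hx : x ∈ Groth.Agent.H16.ExtKer.K π p) :
    Ftil π dA p x = 0 := by
  unfold Groth.Agent.H16.ExtKer.K at hx
  induction hx using Submodule.closure_induction with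
  | zero => exact Ftil_zero π dA p
  | add x y _ _ hx hy => rw [Ftil_add, hx, hy, add_zero]
  | smul_mem r x h =>
    obtain ⟨v, ⟨i, hi⟩, rfl⟩ := h
    exact Ftil_smul_ιMulti hdA hker p r v i hi

theorem map_dA_eq_zero (hdA : DeRham.IsDiff (KaehlerDifferential.D R A) dA)
    (hker : LinearMap.ker π ≤ Submodule.span A {ω : Ω[A⁄R] | π ω = 0 ∧
      exteriorPower.map 2 π (dA 1 ((exteriorPower.oneEquiv A (Ω[A⁄R])).symm ω)) = 0})
    (hπ : Function.Surjective π) (p : ℕ) (x : ↥(⋀[A]^p (Ω[A⁄R])))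
    (hx : exteriorPower.map p π x = 0) :
    exteriorPower.map (p + 1) π (dA p x) = 0 := by
  have h := Ftil_of_mem_K hdA hker p x
    (Groth.Agent.H16.ExtKer.ker_map_le p hπ (LinearMap.mem_ker.mpr hx))
  apply Subtype.ext
  rw [coe_map, Submodule.coe_zero]
  exact h

end DR

end Groth.Agent.H16.DRQuot
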