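import Mathlib
set_option autoImplicit false

/-! Extending `x ↦ x'`, `y ↦ y'` to an endomorphism of a quadratic extension `k(x, y)` of `k(x)`. -/

namespace Groth.Agent.Helper16.Ell

open Polynomial IntermediateField

variable {k K : Type*} [Field k] [Field K] [Algebra k K]

theorem algHom_ext_adjoin {S : Set K} (hS : IntermediateField.adjoin k S = ⊤)
    {σ σ' : K →ₐ[k] K} (h : ∀ z ∈ S, σ z = σ' z) : σ = σ' := by
  let E : IntermediateField k K :=
    { AlgHom.equalizer σ σ' with
      inv_mem' := fun z hz => by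
        show σ z⁻¹ = σ' z⁻¹
        have hz' : σ z = σ' z := hz
        rw [map_inv₀, map_inv₀, hz'] }
  have hle : IntermediateField.adjoin k S ≤ E := IntermediateField.adjoin_le_iff.mpr h
  rw [hS] at hle
  ext z
  exact hle (IntermediateField.mem_top)

theorem exists_algHom_quadratic {x y x' y' : K} (hx : Transcendental k x)
    (hx' : Transcendental k x')
    (hxy : IntermediateField.adjoin k ({x, y} : Set K) = ⊤)
    (hy : y ∉ IntermediateField.adjoin k ({x} : Set K)) (h : Polynomial k)
    (hy2 : y ^ 2 = Polynomial.aeval x h) (hy2' : y' ^ 2 = Polynomial.aeval x' h) :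
    ∃ σ : K →ₐ[k] K, σ x = x' ∧ σ y = y' := by
  classical
  let F := IntermediateField.adjoin k ({x} : Set K)
  let e : RatFunc k ≃ₐ[k] F := RatFunc.algEquivOfTranscendental x hx
  let e' : RatFunc k ≃ₐ[k] IntermediateField.adjoin k ({x'} : Set K) :=
    RatFunc.algEquivOfTranscendental x' hx'
  let τ₀ : F →ₐ[k] K :=
    (IntermediateField.val (IntermediateField.adjoin k ({x'} : Set K))).comp
      ((e' : RatFunc k →ₐ[k] _).comp (e.symm : F →ₐ[k] RatFunc k))
  have hτ₀ : ∀ p : k[X], τ₀ (Polynomial.aeval (AdjoinSimple.gen k x) p) = Polynomial.aeval x' p := by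
    intro p
    show IntermediateField.val _ (e' (e.symm (Polynomial.aeval (AdjoinSimple.gen k x) p))) = _
    rw [RatFunc.algEquivOfTranscendental_symm_aeval, RatFunc.algEquivOfTranscendental_algebraMap,
      ← Polynomial.aeval_algHom_apply]
    rfl
  obtain ⟨hF, hhF⟩ : ∃ hF : F, hF = Polynomial.aeval (AdjoinSimple.gen k x) h := ⟨_, rfl⟩
  have hhFK : algebraMap F K hF = Polynomial.aeval x h := by
    rw [hhF, ← Polynomial.aeval_algebraMap_apply]
    rfl
  obtain ⟨q, hq⟩ : ∃ q : F[X], q = X ^ 2 - C hF := ⟨_, rfl⟩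
  have hq_monic : q.Monic := by rw [hq]; exact Polynomial.monic_X_pow_sub_C hF (by norm_num)
  have hq_deg : q.natDegree = 2 := by rw [hq]; exact Polynomial.natDegree_X_pow_sub_C
  have hqy : Polynomial.aeval y q = 0 := by
    rw [hq, map_sub, map_pow, Polynomial.aeval_X, Polynomial.aeval_C, hhFK, hy2, sub_self]
  have hint : IsIntegral F y := ⟨q, hq_monic, hqy⟩
  have hdeg : 2 ≤ (minpoly F y).natDegree := by
    rw [minpoly.two_le_natDegree_iff hint]
    rintro ⟨z, hz⟩
    apply hy
    rw [← hz]
    exact z.2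
  have hmq : q = minpoly F y :=
    Polynomial.eq_of_monic_of_dvd_of_natDegree_le (minpoly.monic hint) hq_monic
      (minpoly.dvd F y hqy) (by rw [hq_deg]; exact hdeg)
  have htop : IntermediateField.adjoin F ({y} : Set K) = ⊤ := by
    have h1 := IntermediateField.adjoin_adjoin_left k ({x} : Set K) ({y} : Set K)
    have h2 : ({x} ∪ {y} : Set K) = {x, y} := by
      ext z; simp [or_comm]
    rw [h2, hxy] at h1
    exact (IntermediateField.restrictScalars_eq_top_iff).mp h1
  let E : AdjoinRoot (minpoly F y) ≃ₐ[F] K :=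
    (IntermediateField.adjoinRootEquivAdjoin F hint).trans
      ((IntermediateField.equivOfEq htop).trans IntermediateField.topEquiv)
  have hE : E (AdjoinRoot.root (minpoly F y)) = y := by
    show IntermediateField.topEquiv (IntermediateField.equivOfEq htop
      (IntermediateField.adjoinRootEquivAdjoin F hint (AdjoinRoot.root (minpoly F y)))) = y
    rw [IntermediateField.adjoinRootEquivAdjoin_apply_root]
    rfl
  have hroot : (minpoly F y).eval₂ (τ₀ : F →+* K) y' = 0 := by
    rw [← hmq, hq, Polynomial.eval₂_sub, Polynomial.eval₂_pow, Polynomial.eval₂_X,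
      Polynomial.eval₂_C]
    show y' ^ 2 - τ₀ hF = 0
    rw [hhF, hτ₀, hy2', sub_self]
  let σr : K →+* K := (AdjoinRoot.lift (τ₀ : F →+* K) y' hroot).comp (E.symm : K →+* _)
  have hσF : ∀ z : F, σr (algebraMap F K z) = τ₀ z := by
    intro z
    show AdjoinRoot.lift (τ₀ : F →+* K) y' hroot (E.symm (algebraMap F K z)) = _
    rw [AlgEquiv.commutes, AdjoinRoot.algebraMap_eq, AdjoinRoot.lift_of]
    rfl
  let σ : K →ₐ[k] K :=
    { σr with
      commutes' := fun c => by
        show σr (algebraMap k K c) = algebraMap k K c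
        have : algebraMap k K c = algebraMap F K (algebraMap k F c) :=
          IsScalarTower.algebraMap_apply k F K c
        rw [this, hσF, AlgHom.commutes]
        exact this }
  refine ⟨σ, ?_, ?_⟩
  · show σr x = x'
    have h1 : x = algebraMap F K (AdjoinSimple.gen k x) := rfl
    have h2 := hτ₀ Polynomial.X
    rw [Polynomial.aeval_X, Polynomial.aeval_X] at h2
    rw [h1, hσF, h2]
  · show AdjoinRoot.lift (τ₀ : F →+* K) y' hroot (E.symm y) = y'
    have h1 : E.symm y = AdjoinRoot.root (minpoly F y) := (AlgEquiv.symm_apply_eq E).mpr hE.symm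
    rw [h1, AdjoinRoot.lift_root]

end Groth.Agent.Helper16.Ell
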