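import Groth.Agent.H16.EA1
import Groth.Agent.Lib.Helper17.FF19
import Groth.Agent.Lib.Helper17.FF20
import Groth.Agent.Lib.Helper17.FFW2
set_option autoImplicit false

/-! Function-field lemmas for automorphisms of an elliptic function field. -/

namespace Groth.Agent.Helper16.Ell

open Polynomial IntermediateField FunFld Module Groth.Agent.Helper17.FF

variable {k K : Type*} [Field k] [Field K] [Algebra k K]

/-- valuation of a polynomial in an element with a pole -/
theorem val_aeval_of_pole (P : Place k K) {x : K} (hx : 1 < P.1 x) (p : k[X]) (hp : p ≠ 0) :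
    P.1 (Polynomial.aeval x p) = P.1 x ^ p.natDegree := by
  classical
  have hx0 : P.1 x ≠ 0 := ne_of_gt (lt_trans zero_lt_one hx)
  rw [Polynomial.aeval_eq_sum_range, Finset.sum_range_succ]
  have hlead : P.1 (p.coeff p.natDegree • x ^ p.natDegree) = P.1 x ^ p.natDegree := by
    rw [Algebra.smul_def, map_mul, val_const P (by
      rw [Polynomial.coeff_natDegree]; exact Polynomial.leadingCoeff_ne_zero.mpr hp), one_mul, map_pow]
  have hlow : P.1 (∑ i ∈ Finset.range p.natDegree, p.coeff i • x ^ i) < P.1 x ^ p.natDegree := by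
    apply Valuation.map_sum_lt _ (pow_ne_zero _ hx0)
    intro i hi
    rw [Finset.mem_range] at hi
    rw [Algebra.smul_def, map_mul, map_pow]
    calc P.1 (algebraMap k K (p.coeff i)) * P.1 x ^ i ≤ 1 * P.1 x ^ i :=
          mul_le_mul' (P.2.1 _) le_rfl
      _ = P.1 x ^ i := one_mul _
      _ < P.1 x ^ p.natDegree := pow_lt_pow_right₀ hx hi
  rw [Valuation.map_add_eq_of_lt_right _ (hlow.trans_eq hlead.symm), hlead]

theorem ord_aeval_of_pole (P : Place k K) {x : K} (hx : P.ord x = -2) (p : k[X]) (hp : p ≠ 0) :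
    P.ord (Polynomial.aeval x p) = -2 * (p.natDegree : ℤ) := by
  have hx0 : x ≠ 0 := by
    rintro rfl
    rw [ord_zero] at hx; omega
  have hv : P.1 x = WithZero.exp (2 : ℤ) := by
    rw [val_eq_exp_neg_ord P hx0, hx]; rfl
  have h1 : (1 : WithZero (Multiplicative ℤ)) < P.1 x := by
    rw [hv, ← WithZero.exp_zero, WithZero.exp_lt_exp]; norm_num
  unfold Place.ord
  rw [val_aeval_of_pole P h1 p hp, hv, ← WithZero.exp_nsmul, WithZero.log_exp]
  simp
  ring

/-- elements of `k(x)` have even order at a place where `x` has order `-2` -/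
theorem even_ord_of_mem_adjoin (P : Place k K) {x : K} (hx : P.ord x = -2)
    (hxt : Transcendental k x) {z : K} (hz : z ∈ IntermediateField.adjoin k ({x} : Set K)) :
    Even (P.ord z) := by
  obtain ⟨r, hr⟩ := (RatFunc.algEquivOfTranscendental x hxt).surjective ⟨z, hz⟩
  have h1 := RatFunc.algEquivOfTranscendental_apply x hxt r
  rw [hr] at h1
  simp only at h1
  rw [h1]
  by_cases hn : r.num = 0
  · rw [hn, map_zero, zero_div, ord_zero]; exact Even.zero
  · have hd : r.denom ≠ 0 := RatFunc.denom_ne_zero r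
    have hn' : Polynomial.aeval x r.num ≠ 0 := fun h => hn ((transcendental_iff.mp hxt) _ h)
    have hd' : Polynomial.aeval x r.denom ≠ 0 := fun h => hd ((transcendental_iff.mp hxt) _ h)
    rw [ord_div P hn' hd', ord_aeval_of_pole P hx _ hn, ord_aeval_of_pole P hx _ hd]
    exact ⟨(r.denom.natDegree : ℤ) - r.num.natDegree, by ring⟩

/-- a valuation-preserving automorphism preserves "no pole away from `P`" -/
theorem val_le_of_preserve (P : Place k K) (σ : K ≃ₐ[k] K) (hσ : ∀ z, P.1 (σ z) = P.1 z) {w : K}
    (hw : ∀ Q : Place k K, Q ≠ P → Q.1 w ≤ 1) : ∀ Q : Place k K, Q ≠ P → Q.1 (σ w) ≤ 1 := by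
  intro Q hQ
  have hQ' : mapPlace σ.symm Q ≠ P := by
    intro h
    apply hQ
    apply Subtype.ext
    apply Valuation.ext
    intro z
    have h1 : (mapPlace σ.symm Q).1 (σ.symm z) = P.1 (σ.symm z) := by rw [h]
    rw [mapPlace_apply, AlgEquiv.symm_symm, AlgEquiv.apply_symm_apply] at h1
    rw [h1, ← hσ (σ.symm z), AlgEquiv.apply_symm_apply]
  have := hw _ hQ'
  rwa [mapPlace_apply, AlgEquiv.symm_symm] at this

/-- an automorphism sending a function with its only pole at `P` to one with a pole at `P`
preserves the valuation of `P` -/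
theorem preserve_of_pole (P : Place k K) (σ : K ≃ₐ[k] K) {x : K}
    (hx : ∀ Q : Place k K, Q ≠ P → Q.1 x ≤ 1) (hσx : 1 < P.1 (σ x)) :
    ∀ z, P.1 (σ z) = P.1 z := by
  have hQ : mapPlace σ.symm P = P := by
    by_contra hne
    have := hx _ hne
    rw [mapPlace_apply, AlgEquiv.symm_symm] at this
    exact absurd hσx (not_lt.mpr this)
  intro z
  have h1 : (mapPlace σ.symm P).1 z = P.1 z := by rw [hQ]
  rwa [mapPlace_apply, AlgEquiv.symm_symm] at h1

/-- a family with distinct orders at `P` inside `L(nP)` of the right size spans -/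
theorem span_eq_L_of_ord_injective (hK : IsFunctionField k K) (P : Place k K) (n : ℕ)
    {ι : Type*} [Fintype ι] (z : ι → K) (hz0 : ∀ e, z e ≠ 0)
    (hinj : Function.Injective (fun e => P.ord (z e)))
    (hmem : ∀ e, z e ∈ L (Finsupp.single P (n : ℤ) : Divisor k K))
    (hcard : Fintype.card ι = ell (Finsupp.single P (n : ℤ) : Divisor k K)) :
    Submodule.span k (Set.range z) = L (Finsupp.single P (n : ℤ) : Divisor k K) := by
  classical
  have hli : LinearIndependent k z :=
    Fintype.linearIndependent_iff.mpr (fun c hc =>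
      coeff_eq_zero_of_ord_injective P z hz0 hinj c hc)
  have hle : Submodule.span k (Set.range z) ≤ L (Finsupp.single P (n : ℤ) : Divisor k K) := by
    rw [Submodule.span_le]
    rintro _ ⟨e, rfl⟩
    exact hmem e
  haveI := L_finite hK (Finsupp.single P (n : ℤ) : Divisor k K)
  apply Submodule.eq_of_le_of_finrank_eq hle
  rw [finrank_span_eq_card hli, hcard]
  rfl

end Groth.Agent.Helper16.Ell
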