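import Groth.Agent.H16.EA2
set_option autoImplicit false

/-! Automorphisms of an elliptic function field `y² = x³ + a x + b` fixing the place at infinity. -/

namespace Groth.Agent.Helper16.Ell

open Polynomial IntermediateField FunFld Module Groth.Agent.Helper17.FF

variable {k K : Type*} [Field k] [Field K] [Algebra k K]

section setup

variable [IsAlgClosed k] (hK : IsFunctionField k K) (hgen : genus k K = 1) (P : Place k K)
  (a b : k) (x y : K)
  (heq : y ^ 2 = x ^ 3 + algebraMap k K a * x + algebraMap k K b)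
  (hx : x ∈ L (Finsupp.single P 2 : Divisor k K)) (hx2 : P.ord x = -2)
  (hy : y ∈ L (Finsupp.single P 3 : Divisor k K)) (hy3 : P.ord y = -3)

include hx2 in
theorem x_ne_zero : x ≠ 0 := by
  rintro rfl
  rw [ord_zero] at hx2; omega

include hy3 in
theorem y_ne_zero : y ≠ 0 := by
  rintro rfl
  rw [ord_zero] at hy3; omega

include hx in
theorem x_pole (Q : Place k K) (hQ : Q ≠ P) : Q.1 x ≤ 1 := by
  classical
  have := (mem_L.mp hx) Q
  rwa [Finsupp.single_apply, if_neg (Ne.symm hQ), WithZero.exp_zero] at this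

include hy in
theorem y_pole (Q : Place k K) (hQ : Q ≠ P) : Q.1 y ≤ 1 := by
  classical
  have := (mem_L.mp hy) Q
  rwa [Finsupp.single_apply, if_neg (Ne.symm hQ), WithZero.exp_zero] at this

include hx2 in
theorem val_x : P.1 x = WithZero.exp (2 : ℤ) := by
  rw [val_eq_exp_neg_ord P (x_ne_zero P x hx2), hx2]; rfl

include hy3 in
theorem val_y : P.1 y = WithZero.exp (3 : ℤ) := by
  rw [val_eq_exp_neg_ord P (y_ne_zero P y hy3), hy3]; rfl

include hK hgen hx hx2 in
theorem span_one_x : Submodule.span k (Set.range ![(1 : K), x]) =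
    L (Finsupp.single P ((2 : ℕ) : ℤ) : Divisor k K) := by
  classical
  have hP := deg_eq_one_of_isAlgClosed hK P
  have hx0 := x_ne_zero P x hx2
  have hval : ∀ i : Fin 2, P.ord ((![(1 : K), x] : Fin 2 → K) i) = (![0, -2] : Fin 2 → ℤ) i := by
    intro i
    have ho1 : P.ord (1 : K) = 0 := by rw [← map_one (algebraMap k K), ord_const]
    fin_cases i <;> simp [ho1, hx2]
  apply span_eq_L_of_ord_injective hK P 2
  · intro i; fin_cases i <;> simp [hx0]
  · intro i j hij
    simp only [hval] at hij
    revert i j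
    decide
  · intro i
    fin_cases i
    · show (1 : K) ∈ L (Finsupp.single P ((2 : ℕ) : ℤ) : Divisor k K)
      rw [mem_L]
      intro Q
      rw [map_one, ← WithZero.exp_zero, WithZero.exp_le_exp]
      by_cases hQ : P = Q
      · rw [hQ, Finsupp.single_eq_same]; norm_num
      · rw [Finsupp.single_apply, if_neg hQ]
    · exact hx
  · rw [g1_ell_single hK hgen P hP 2 (by norm_num)]; rfl

include hK hgen hx hx2 hy hy3 in
theorem span_one_x_y : Submodule.span k (Set.range ![(1 : K), x, y]) =
    L (Finsupp.single P ((3 : ℕ) : ℤ) : Divisor k K) := by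
  classical
  have hP := deg_eq_one_of_isAlgClosed hK P
  have hx0 := x_ne_zero P x hx2
  have hy0 := y_ne_zero P y hy3
  have hval : ∀ i : Fin 3, P.ord ((![(1 : K), x, y] : Fin 3 → K) i) =
      (![0, -2, -3] : Fin 3 → ℤ) i := by
    intro i
    have ho1 : P.ord (1 : K) = 0 := by rw [← map_one (algebraMap k K), ord_const]
    fin_cases i <;> simp [ho1, hx2, hy3]
  apply span_eq_L_of_ord_injective hK P 3
  · intro i; fin_cases i <;> simp [hx0, hy0]
  · intro i j hij
    simp only [hval] at hij
    revert i j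
    decide
  · intro i
    fin_cases i
    · show (1 : K) ∈ L (Finsupp.single P ((3 : ℕ) : ℤ) : Divisor k K)
      rw [mem_L]
      intro Q
      rw [map_one, ← WithZero.exp_zero, WithZero.exp_le_exp]
      by_cases hQ : P = Q
      · rw [hQ, Finsupp.single_eq_same]; norm_num
      · rw [Finsupp.single_apply, if_neg hQ]
    · show x ∈ L (Finsupp.single P ((3 : ℕ) : ℤ) : Divisor k K)
      refine L_mono ?_ hx
      intro Q
      by_cases hQ : P = Q
      · rw [hQ, Finsupp.single_eq_same, Finsupp.single_eq_same]; norm_num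
      · rw [Finsupp.single_apply, if_neg hQ, Finsupp.single_apply, if_neg hQ]
    · exact hy
  · rw [g1_ell_single hK hgen P hP 3 (by norm_num)]; rfl

include hx2 hy3 in
theorem indep6 (c : Fin 6 → k)
    (hc : ∑ i, c i • (![(1 : K), x, y, x ^ 2, x * y, x ^ 3] : Fin 6 → K) i = 0) : ∀ i, c i = 0 := by
  classical
  have hx0 := x_ne_zero P x hx2
  have hy0 := y_ne_zero P y hy3
  have ho1 : P.ord (1 : K) = 0 := by rw [← map_one (algebraMap k K), ord_const]
  have ho2 : P.ord (x ^ 2) = -4 := by rw [ord_pow, hx2]; norm_num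
  have ho3 : P.ord (x * y) = -5 := by rw [ord_mul _ hx0 hy0, hx2, hy3]; norm_num
  have ho4 : P.ord (x ^ 3) = -6 := by rw [ord_pow, hx2]; norm_num
  have hinj : Function.Injective
      (fun i : Fin 6 => P.ord ((![1, x, y, x ^ 2, x * y, x ^ 3] : Fin 6 → K) i)) := by
    have hval : ∀ i : Fin 6, P.ord ((![1, x, y, x ^ 2, x * y, x ^ 3] : Fin 6 → K) i) =
        (![0, -2, -3, -4, -5, -6] : Fin 6 → ℤ) i := by
      intro i; fin_cases i <;> simp [ho1, hx2, hy3, ho2, ho3, ho4]
    intro i j hij
    simp only [hval] at hij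
    revert i j
    decide
  have hz : ∀ i : Fin 6, (![1, x, y, x ^ 2, x * y, x ^ 3] : Fin 6 → K) i ≠ 0 := by
    intro i; fin_cases i <;> simp [hx0, hy0]
  exact coeff_eq_zero_of_ord_injective P _ hz hinj c hc

end setup

end Groth.Agent.Helper16.Ell
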