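import Groth.Agent.H16.EA3
set_option autoImplicit false

/-! Analysis of an automorphism fixing the place at infinity. -/

namespace Groth.Agent.Helper16.Ell

open Polynomial IntermediateField FunFld Module Groth.Agent.Helper17.FF

variable {k K : Type*} [Field k] [Field K] [Algebra k K]

theorem analysis [IsAlgClosed k] (hK : IsFunctionField k K) (hgen : genus k K = 1) (P : Place k K)
    (h2 : (2 : k) ≠ 0) (h3 : (3 : k) ≠ 0) (a b : k) (x y : K)
    (heq : y ^ 2 = x ^ 3 + algebraMap k K a * x + algebraMap k K b)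
    (hx : x ∈ L (Finsupp.single P 2 : Divisor k K)) (hx2 : P.ord x = -2)
    (hy : y ∈ L (Finsupp.single P 3 : Divisor k K)) (hy3 : P.ord y = -3)
    (σ : K ≃ₐ[k] K) (hσ : ∀ z, P.1 (σ z) = P.1 z) :
    ∃ u : k, σ x = algebraMap k K (u ^ 2) * x ∧ σ y = algebraMap k K (u ^ 3) * y ∧
      u ^ 4 * a = a ∧ u ^ 6 * b = b := by
  classical
  have hx0 := x_ne_zero P x hx2
  have hy0 := y_ne_zero P y hy3
  have hvx := val_x P x hx2
  have hvy := val_y P y hy3
  -- σ x ∈ L(2P), σ y ∈ L(3P)
  have hσxL : σ x ∈ L (Finsupp.single P ((2 : ℕ) : ℤ) : Divisor k K) := by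
    rw [mem_L]
    intro Q
    by_cases hQ : Q = P
    · rw [hQ, hσ, Finsupp.single_eq_same]
      have := (mem_L.mp hx) P
      rwa [Finsupp.single_eq_same] at this
    · rw [Finsupp.single_apply, if_neg (Ne.symm hQ), WithZero.exp_zero]
      exact val_le_of_preserve P σ hσ (x_pole P x hx) Q hQ
  have hσyL : σ y ∈ L (Finsupp.single P ((3 : ℕ) : ℤ) : Divisor k K) := by
    rw [mem_L]
    intro Q
    by_cases hQ : Q = P
    · rw [hQ, hσ, Finsupp.single_eq_same]
      have := (mem_L.mp hy) P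
      rwa [Finsupp.single_eq_same] at this
    · rw [Finsupp.single_apply, if_neg (Ne.symm hQ), WithZero.exp_zero]
      exact val_le_of_preserve P σ hσ (y_pole P y hy) Q hQ
  rw [← span_one_x hK hgen P x hx hx2, Submodule.mem_span_range_iff_exists_fun] at hσxL
  rw [← span_one_x_y hK hgen P x y hx hx2 hy hy3, Submodule.mem_span_range_iff_exists_fun] at hσyL
  obtain ⟨c, hc⟩ := hσxL
  obtain ⟨d, hd⟩ := hσyL
  rw [Fin.sum_univ_two] at hc
  rw [Fin.sum_univ_three] at hd
  simp only [Matrix.cons_val_zero, Matrix.cons_val_one, Matrix.cons_val_two, Matrix.head_cons,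
    Matrix.tail_cons, Algebra.smul_def, mul_one] at hc hd
  obtain ⟨β, hβ⟩ : ∃ β, β = c 0 := ⟨_, rfl⟩
  obtain ⟨α, hα⟩ : ∃ α, α = c 1 := ⟨_, rfl⟩
  obtain ⟨ε, hε⟩ : ∃ ε, ε = d 0 := ⟨_, rfl⟩
  obtain ⟨δ, hδ⟩ : ∃ δ, δ = d 1 := ⟨_, rfl⟩
  obtain ⟨γ, hγ⟩ : ∃ γ, γ = d 2 := ⟨_, rfl⟩
  rw [← hβ, ← hα] at hc
  rw [← hε, ← hδ, ← hγ] at hd
  -- the transformed equation
  have E1 : (σ y) ^ 2 = (σ x) ^ 3 + algebraMap k K a * σ x + algebraMap k K b := by
    have := congrArg σ heq
    simpa only [map_pow, map_add, map_mul, AlgEquiv.commutes] using this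
  rw [← hc, ← hd] at E1
  -- the relation
  have hrel := indep6 P x y hx2 hy3
    ![γ ^ 2 * b + ε ^ 2 - β ^ 3 - a * β - b, γ ^ 2 * a + 2 * δ * ε - 3 * α * β ^ 2 - a * α,
      2 * γ * ε, δ ^ 2 - 3 * α ^ 2 * β, 2 * γ * δ, γ ^ 2 - α ^ 3] (by
    rw [Fin.sum_univ_six]
    simp only [Matrix.cons_val_zero, Matrix.cons_val_one, Matrix.cons_val_two, Matrix.cons_val_three,
      Matrix.cons_val_four, Matrix.head_cons, Matrix.tail_cons, Algebra.smul_def, map_sub, map_add,
      map_mul, map_pow, map_ofNat, mul_one]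
    simp
    linear_combination E1 - (algebraMap k K γ) ^ 2 * heq)
  have r0 := hrel 0
  have r1 := hrel 1
  have r2 := hrel 2
  have r3 := hrel 3
  have r4 := hrel 4
  have r5 := hrel 5
  simp at r0 r1 r2 r3 r4 r5
  -- α ≠ 0, γ ≠ 0
  have hα0 : α ≠ 0 := by
    rintro rfl
    have h1 : P.1 (σ x) ≤ 1 := by
      rw [← hc, map_zero, zero_mul, add_zero]
      exact P.2.1 β
    rw [hσ, hvx, ← WithZero.exp_zero, WithZero.exp_le_exp] at h1
    omega
  have hγ0 : γ ≠ 0 := by
    rintro rfl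
    have h1 : P.1 (σ y) ≤ WithZero.exp (2 : ℤ) := by
      rw [← hd, map_zero, zero_mul, add_zero]
      refine (P.1.map_add _ _).trans (max_le ?_ ?_)
      · refine (P.2.1 ε).trans ?_
        rw [← WithZero.exp_zero, WithZero.exp_le_exp]; norm_num
      · rw [map_mul, hvx]
        calc P.1 (algebraMap k K δ) * WithZero.exp (2 : ℤ) ≤ 1 * WithZero.exp (2 : ℤ) :=
              mul_le_mul' (P.2.1 δ) le_rfl
          _ = _ := one_mul _
    rw [hσ, hvy, WithZero.exp_le_exp] at h1
    omega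
  have hε0 : ε = 0 := by
    rcases r2 with (h | h) | h
    · exact absurd h h2
    · exact absurd h hγ0
    · exact h
  have hδ0 : δ = 0 := by
    rcases r4 with (h | h) | h
    · exact absurd h h2
    · exact absurd h hγ0
    · exact h
  have hβ0 : β = 0 := by
    rw [hδ0] at r3
    have h1 : 3 * α ^ 2 * β = 0 := by linear_combination -r3
    rcases mul_eq_zero.mp h1 with h | h
    · rcases mul_eq_zero.mp h with h | h
      · exact absurd h h3
      · exact absurd (pow_eq_zero_iff (by norm_num) |>.mp h) hα0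
    · exact h
  rw [hε0, hβ0] at r0
  rw [hε0, hδ0, hβ0] at r1
  have e5 : γ ^ 2 = α ^ 3 := by linear_combination r5
  have e1 : γ ^ 2 * a = a * α := by linear_combination r1
  have e0 : γ ^ 2 * b = b := by linear_combination r0
  refine ⟨γ / α, ?_, ?_, ?_, ?_⟩
  · rw [← hc, hβ0, map_zero, zero_add]
    congr 2
    field_simp
    linear_combination -e5
  · rw [← hd, hε0, hδ0, map_zero, zero_mul, zero_add, zero_add]
    congr 2
    field_simp
    exact e5.symm
  · have h4 : α ^ 2 * a = a := by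
      have : α * (α ^ 2 * a - a) = 0 := by linear_combination (-a) * e5 + e1
      rcases mul_eq_zero.mp this with h | h
      · exact absurd h hα0
      · linear_combination h
    have hu2 : (γ / α) ^ 2 = α := by
      field_simp
      linear_combination e5
    calc (γ / α) ^ 4 * a = ((γ / α) ^ 2) ^ 2 * a := by ring
      _ = a := by rw [hu2, h4]
  · have hu2 : (γ / α) ^ 2 = α := by
      field_simp
      linear_combination e5
    calc (γ / α) ^ 6 * b = ((γ / α) ^ 2) ^ 3 * b := by ring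
      _ = b := by rw [hu2, ← e5, e0]

end Groth.Agent.Helper16.Ell
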