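import Groth.Agent.H16.EA4
set_option autoImplicit false

/-! Construction of the automorphisms `x ↦ u²x`, `y ↦ u³y` and the count. -/

namespace Groth.Agent.Helper16.Ell

open Polynomial IntermediateField FunFld Module Groth.Agent.Helper17.FF

variable {k K : Type*} [Field k] [Field K] [Algebra k K]

theorem card_pow_eq_one (k : Type*) [Field k] [IsAlgClosed k] (n : ℕ) [NeZero (n : k)] :
    Nat.card {u : k // u ^ n = 1} = n := by
  haveI : NeZero n := NeZero.of_neZero_natCast k
  refine (Nat.card_congr (Equiv.trans (Equiv.subtypeEquivRight fun u => ?_)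
    (rootsOfUnityEquivNthRoots k n).symm)).trans (HasEnoughRootsOfUnity.natCard_rootsOfUnity k n)
  rw [Polynomial.mem_nthRoots (Nat.pos_of_ne_zero (NeZero.ne n))]

section setup

variable [IsAlgClosed k] (hK : IsFunctionField k K) (P : Place k K)
  (a b : k) (x y : K)
  (heq : y ^ 2 = x ^ 3 + algebraMap k K a * x + algebraMap k K b)
  (hxy : IntermediateField.adjoin k ({x, y} : Set K) = ⊤)
  (hx : x ∈ L (Finsupp.single P 2 : Divisor k K)) (hx2 : P.ord x = -2)
  (hy3 : P.ord y = -3)

include hK heq hxy hx2 hy3 in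
theorem construct_hom (u : k) (hu0 : u ≠ 0) (hua : u ^ 4 * a = a) (hub : u ^ 6 * b = b) :
    ∃ σ : K →ₐ[k] K, σ x = algebraMap k K (u ^ 2) * x ∧ σ y = algebraMap k K (u ^ 3) * y := by
  have hx0 := x_ne_zero P x hx2
  have hu2 : algebraMap k K (u ^ 2) ≠ 0 := by
    rw [Ne, map_eq_zero]; exact pow_ne_zero _ hu0
  have hxt : Transcendental k x := by
    apply transcendental_of_not_mem hK
    rintro ⟨c, hc⟩
    rw [← hc, ord_const] at hx2
    omega
  have hxt' : Transcendental k (algebraMap k K (u ^ 2) * x) := by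
    apply transcendental_of_not_mem hK
    rintro ⟨c, hc⟩
    have h1 := ord_mul P hu2 hx0
    rw [← hc, ord_const, ord_const, hx2] at h1
    omega
  have hynot : y ∉ IntermediateField.adjoin k ({x} : Set K) := by
    intro hmem
    obtain ⟨r, hr⟩ := even_ord_of_mem_adjoin P hx2 hxt hmem
    rw [hy3] at hr
    omega
  have hua' : (algebraMap k K u) ^ 4 * algebraMap k K a = algebraMap k K a := by
    rw [← map_pow, ← map_mul, hua]
  have hub' : (algebraMap k K u) ^ 6 * algebraMap k K b = algebraMap k K b := by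
    rw [← map_pow, ← map_mul, hub]
  refine exists_algHom_quadratic hxt hxt' hxy hynot
    (Polynomial.X ^ 3 + Polynomial.C a * Polynomial.X + Polynomial.C b) ?_ ?_
  · simp only [map_add, map_mul, map_pow, Polynomial.aeval_X, Polynomial.aeval_C]
    exact heq
  · simp only [map_add, map_mul, map_pow, Polynomial.aeval_X, Polynomial.aeval_C]
    linear_combination (algebraMap k K u) ^ 6 * heq + ((algebraMap k K u) ^ 2 * x) * hua' + hub'

include hK heq hxy hx hx2 hy3 in
theorem construct (u : k) (hu0 : u ≠ 0) (hua : u ^ 4 * a = a) (hub : u ^ 6 * b = b) :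
    ∃ σ : K ≃ₐ[k] K, σ x = algebraMap k K (u ^ 2) * x ∧ σ y = algebraMap k K (u ^ 3) * y ∧
      ∀ z, P.1 (σ z) = P.1 z := by
  have hv0 : u⁻¹ ≠ 0 := inv_ne_zero hu0
  have hva : u⁻¹ ^ 4 * a = a := by
    have : u⁻¹ ^ 4 * (u ^ 4 * a) = a := by
      field_simp
    rw [hua] at this
    exact this
  have hvb : u⁻¹ ^ 6 * b = b := by
    have : u⁻¹ ^ 6 * (u ^ 6 * b) = b := by
      field_simp
    rw [hub] at this
    exact this
  obtain ⟨σ₁, h1x, h1y⟩ := construct_hom hK P a b x y heq hxy hx2 hy3 u hu0 hua hub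
  obtain ⟨σ₂, h2x, h2y⟩ := construct_hom hK P a b x y heq hxy hx2 hy3 u⁻¹ hv0 hva hvb
  have hA2 : algebraMap k K (u⁻¹ ^ 2) * algebraMap k K (u ^ 2) = 1 := by
    rw [← map_mul, ← map_one (algebraMap k K)]
    congr 1
    field_simp
  have hA3 : algebraMap k K (u⁻¹ ^ 3) * algebraMap k K (u ^ 3) = 1 := by
    rw [← map_mul, ← map_one (algebraMap k K)]
    congr 1
    field_simp
  have h12 : σ₁.comp σ₂ = AlgHom.id k K := by
    apply algHom_ext_adjoin hxy
    intro z hz
    rcases hz with rfl | hz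
    · show σ₁ (σ₂ z) = z
      rw [h2x, map_mul, AlgHom.commutes, h1x, ← mul_assoc, hA2, one_mul]
    · rw [Set.mem_singleton_iff] at hz
      rw [hz]
      show σ₁ (σ₂ y) = y
      rw [h2y, map_mul, AlgHom.commutes, h1y, ← mul_assoc, hA3, one_mul]
  have h21 : σ₂.comp σ₁ = AlgHom.id k K := by
    apply algHom_ext_adjoin hxy
    intro z hz
    rcases hz with rfl | hz
    · show σ₂ (σ₁ z) = z
      rw [h1x, map_mul, AlgHom.commutes, h2x, ← mul_assoc, mul_comm (algebraMap k K (u ^ 2)), hA2,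
        one_mul]
    · rw [Set.mem_singleton_iff] at hz
      rw [hz]
      show σ₂ (σ₁ y) = y
      rw [h1y, map_mul, AlgHom.commutes, h2y, ← mul_assoc, mul_comm (algebraMap k K (u ^ 3)), hA3,
        one_mul]
  refine ⟨AlgEquiv.ofAlgHom σ₁ σ₂ h12 h21, h1x, h1y, ?_⟩
  apply preserve_of_pole P _ (x_pole P x hx)
  show 1 < P.1 (σ₁ x)
  rw [h1x, map_mul, val_const P (pow_ne_zero _ hu0), one_mul, val_x P x hx2,
    ← WithZero.exp_zero, WithZero.exp_lt_exp]
  norm_num

end setup

end Groth.Agent.Helper16.Ell
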