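import Groth.Agent.H16.Transfer
import Groth.Agent.Lib.Helper17.FF20
set_option autoImplicit false
set_option linter.unusedSimpArgs false

namespace Groth.Agent.Helper16.Emb

open FunFld Module Groth.Agent.Helper17.FF Groth.Agent.Helper16.LLS

variable {k K : Type*} [Field k] [Field K] [Algebra k K]

/-- an element of `L(E)` outside `L(E - Q)` has exact valuation `exp (E Q)` at `Q` -/
theorem val_eq_of_not_mem {E : Divisor k K} {Q : Place k K} {x : K} (hx : x ∈ L E)
    (hx' : x ∉ L (E - Finsupp.single Q 1)) : Q.1 x = WithZero.exp (E Q) := by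
  classical
  by_contra hne
  apply hx'
  intro R
  by_cases hR : R = Q
  · subst hR
    rw [Finsupp.sub_apply, Finsupp.single_eq_same, ← val_lt_exp_iff_le]
    exact lt_of_le_of_ne (hx R) hne
  · rw [Finsupp.sub_apply, Finsupp.single_eq_of_ne hR, sub_zero]
    exact hx R

theorem not_mem_of_val_eq {E : Divisor k K} {Q : Place k K} {x : K}
    (hx : Q.1 x = WithZero.exp (E Q)) : x ∉ L (E - Finsupp.single Q 1) := by
  intro h
  have := h Q
  rw [Finsupp.sub_apply, Finsupp.single_eq_same, ← val_lt_exp_iff_le, hx] at this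
  exact lt_irrefl _ this

/-- RR: for `deg E ≥ 2g` every place has a section of `L(E)` of exact order -/
theorem exists_exact [IsAlgClosed k] (hK : IsFunctionField k K) (E : Divisor k K)
    (hE : 2 * (genus k K : ℤ) ≤ E.deg) (Q : Place k K) :
    ∃ x ∈ L E, Q.1 x = WithZero.exp (E Q) := by
  have h1 := ell_eq_of_deg_ge hK E (by linarith)
  have h2 := ell_eq_of_deg_ge hK (E - Finsupp.single Q 1)
    (by rw [deg_sub, deg_single, deg_eq_one hK Q]; push_cast; linarith)
  rw [deg_sub, deg_single, deg_eq_one hK Q] at h2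
  push_cast at h2
  have hlt : ell (E - Finsupp.single Q 1) < ell E := by
    have : (ell (E - Finsupp.single Q 1) : ℤ) < ell E := by linarith
    exact_mod_cast this
  have hle : L (E - Finsupp.single Q 1) ≤ L E := by
    apply L_mono
    intro R
    classical
    rw [Finsupp.sub_apply, Finsupp.single_apply]
    split_ifs <;> omega
  have hne : L (E - Finsupp.single Q 1) ≠ L E := by
    intro h
    unfold ell at hlt
    rw [h] at hlt
    exact lt_irrefl _ hlt
  obtain ⟨x, hx, hx'⟩ := SetLike.exists_of_lt (lt_of_le_of_ne hle hne)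
  exact ⟨x, hx, val_eq_of_not_mem hx hx'⟩

/-- base-point-free pencil trick -/
theorem pencil_trick (hK : IsFunctionField k K) {E F : Divisor k K} {s t : K}
    (hs : s ∈ L E) (ht : t ∈ L E) (hs0 : s ≠ 0) (ht0 : t ≠ 0)
    (hbpf : ∀ Q : Place k K, Q.1 s = WithZero.exp (E Q) ∨ Q.1 t = WithZero.exp (E Q))
    (hdim : ell (F + E) + ell (F - E) ≤ 2 * ell F) :
    ∀ f ∈ L (F + E), ∃ x ∈ L F, ∃ y ∈ L F, f = s * x + t * y := by
  have := L_finite hK F
  have := L_finite hK (F + E)
  have := L_finite hK (F - E)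
  obtain ⟨μ, hμ⟩ : ∃ μ : (L F × L F) →ₗ[k] K,
      ∀ p : L F × L F, μ p = s * (p.1 : K) + t * (p.2 : K) :=
    ⟨((LinearMap.mulLeft k s).comp ((L F).subtype.comp (LinearMap.fst k (L F) (L F)))) +
      ((LinearMap.mulLeft k t).comp ((L F).subtype.comp (LinearMap.snd k (L F) (L F)))),
      fun p => rfl⟩
  have hrange : LinearMap.range μ ≤ L (F + E) := by
    rintro _ ⟨p, rfl⟩
    rw [hμ]
    apply Submodule.add_mem
    · rw [add_comm F E]; exact L_mul hs p.1.2
    · rw [add_comm F E]; exact L_mul ht p.2.2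
  -- the kernel embeds into `L(F - E)`
  have hmem : ∀ p : LinearMap.ker μ, ((p : L F × L F).1 : K) * t⁻¹ ∈ L (F - E) := by
    rintro ⟨⟨x, y⟩, hp⟩
    rw [LinearMap.mem_ker, hμ] at hp
    simp only at hp ⊢
    have hxy : (x : K) * t⁻¹ = -((y : K) * s⁻¹) := by
      field_simp
      linear_combination hp
    intro Q
    rw [Finsupp.sub_apply, sub_eq_add_neg, WithZero.exp_add, WithZero.exp_neg]
    rcases hbpf Q with h | h
    · rw [hxy, Valuation.map_neg, map_mul, map_inv₀, h]
      exact mul_le_mul' (y.2 Q) le_rfl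
    · rw [map_mul, map_inv₀, h]
      exact mul_le_mul' (x.2 Q) le_rfl
  obtain ⟨ι, hιdef⟩ : ∃ ι : LinearMap.ker μ →ₗ[k] L (F - E),
      ∀ p : LinearMap.ker μ, (ι p : K) = ((p : L F × L F).1 : K) * t⁻¹ :=
    ⟨LinearMap.codRestrict (L (F - E))
      ((LinearMap.mulRight k t⁻¹).comp ((L F).subtype.comp
        ((LinearMap.fst k (L F) (L F)).comp (LinearMap.ker μ).subtype))) hmem, fun p => rfl⟩
  have hι : Function.Injective ι := by
    intro a b hab
    have h1 : ((a : L F × L F).1 : K) * t⁻¹ = ((b : L F × L F).1 : K) * t⁻¹ := by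
      rw [← hιdef a, ← hιdef b, hab]
    have hx : ((a : L F × L F).1 : K) = ((b : L F × L F).1 : K) :=
      mul_right_cancel₀ (inv_ne_zero ht0) h1
    have ha := a.2
    have hb := b.2
    rw [LinearMap.mem_ker, hμ] at ha hb
    have hy : ((a : L F × L F).2 : K) = ((b : L F × L F).2 : K) := by
      have : t * ((a : L F × L F).2 : K) = t * ((b : L F × L F).2 : K) := by
        rw [hx] at ha
        linear_combination ha - hb
      exact mul_left_cancel₀ ht0 this
    exact Subtype.ext (Prod.ext (Subtype.ext hx) (Subtype.ext hy))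
  have hker : finrank k (LinearMap.ker μ) ≤ ell (F - E) :=
    LinearMap.finrank_le_finrank_of_injective hι
  have hrn := LinearMap.finrank_range_add_finrank_ker μ
  rw [Module.finrank_prod] at hrn
  have hge : finrank k (L (F + E)) ≤ finrank k (LinearMap.range μ) := by
    unfold ell at hdim hker
    omega
  have heq : LinearMap.range μ = L (F + E) := Submodule.eq_of_le_of_finrank_le hrange hge
  intro f hf
  rw [← heq] at hf
  obtain ⟨p, rfl⟩ := hf
  exact ⟨p.1, p.1.2, p.2, p.2.2, hμ p⟩


theorem exists_bpf_pencil' [IsAlgClosed k] (hK : IsFunctionField k K) (E : Divisor k K)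
    (hex : ∀ Q : Place k K, ∃ x ∈ L E, Q.1 x = WithZero.exp (E Q)) :
    ∃ s t : K, s ∈ L E ∧ t ∈ L E ∧ s ≠ 0 ∧ t ≠ 0 ∧
      ∀ Q : Place k K, Q.1 s = WithZero.exp (E Q) ∨ Q.1 t = WithZero.exp (E Q) := by
  classical
  obtain ⟨Q₀⟩ := exists_place hK
  obtain ⟨s, hs, hsQ⟩ := hex Q₀
  have hs0 : s ≠ 0 := by
    rintro rfl
    rw [map_zero] at hsQ
    exact WithZero.exp_ne_zero hsQ.symm
  set Z : Set (Place k K) := {Q | Q.1 s ≠ WithZero.exp (E Q)} with hZdef
  have hZfin : Z.Finite := by
    apply Set.Finite.subset (FunFld.div k s + E).support.finite_toSet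
    intro Q hQ
    have hlt : Q.1 s < WithZero.exp (E Q) := lt_of_le_of_ne (hs Q) hQ
    rw [val_lt_exp_iff Q hs0] at hlt
    rw [Finset.mem_coe, Finsupp.mem_support_iff, Finsupp.add_apply, div_apply hK]
    omega
  have : Finite ↥Z := hZfin.to_subtype
  let p : Option ↥Z → Submodule k ↥(L E) := fun o =>
    match o with
    | none => ⊥
    | some Q => Submodule.comap (L E).subtype (L (E - Finsupp.single (Q : Place k K) 1))
  have hp : ∀ o, p o ≠ ⊤ := by
    intro o
    cases o with
    | none =>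
      intro h
      have : (⟨s, hs⟩ : ↥(L E)) ∈ (⊥ : Submodule k ↥(L E)) := by
        show (⟨s, hs⟩ : ↥(L E)) ∈ p none
        rw [h]; exact Submodule.mem_top
      rw [Submodule.mem_bot] at this
      exact hs0 (congrArg Subtype.val this)
    | some Q =>
      intro h
      obtain ⟨x, hx, hxQ⟩ := hex (Q : Place k K)
      have : (⟨x, hx⟩ : ↥(L E)) ∈ p (some Q) := by rw [h]; exact Submodule.mem_top
      exact not_mem_of_val_eq hxQ this
  obtain ⟨t', ht'⟩ := Submodule.exists_forall_notMem_of_forall_ne_top p hp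
  refine ⟨s, t'.1, hs, t'.2, hs0, ?_, ?_⟩
  · intro h0
    apply ht' none
    show t' ∈ (⊥ : Submodule k ↥(L E))
    rw [Submodule.mem_bot]
    exact Subtype.ext h0
  · intro Q
    by_cases hQ : Q.1 s = WithZero.exp (E Q)
    · exact Or.inl hQ
    · right
      have := ht' (some ⟨Q, hQ⟩)
      exact val_eq_of_not_mem t'.2 this


theorem exists_bpf_pencil [IsAlgClosed k] (hK : IsFunctionField k K) (E : Divisor k K)
    (hE : 2 * (genus k K : ℤ) ≤ E.deg) :
    ∃ s t : K, s ∈ L E ∧ t ∈ L E ∧ s ≠ 0 ∧ t ≠ 0 ∧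
      ∀ Q : Place k K, Q.1 s = WithZero.exp (E Q) ∨ Q.1 t = WithZero.exp (E Q) :=
  exists_bpf_pencil' hK E (fun Q => exists_exact hK E hE Q)

end Groth.Agent.Helper16.Emb
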