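import Groth.Agent.H16.Embed
set_option autoImplicit false
set_option linter.unusedSimpArgs false

namespace Groth.Agent.Helper16.Emb

open FunFld Module Groth.Agent.Helper17.FF Groth.Agent.Helper16.LLS

theorem nakayama_sub {R : Type*} [CommRing R] {M : Type*} [AddCommGroup M] [Module R M]
    (I : Ideal R) (A' : Submodule R M) {q : ℕ} (g : Fin q → M)
    (h : ∀ l, ∃ (c : M) (a : Fin q → R), c ∈ A' ∧ (∀ m, a m ∈ I) ∧ g l = c + ∑ m, a m • g m) :
    ∃ r : R, r - 1 ∈ I ∧ ∀ l, r • g l ∈ A' := by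
  set N : Submodule R (M ⧸ A') := Submodule.span R (Set.range fun l => A'.mkQ (g l)) with hN
  have hfg : N.FG := Submodule.fg_span (Set.finite_range _)
  have hle : N ≤ I • N := by
    rw [hN, Submodule.span_le]
    rintro _ ⟨l, rfl⟩
    obtain ⟨c, a, hc, ha, hg⟩ := h l
    have hc0 : A'.mkQ c = 0 := by
      rw [Submodule.mkQ_apply]; exact (Submodule.Quotient.mk_eq_zero A').mpr hc
    have e : A'.mkQ (g l) = ∑ m, a m • A'.mkQ (g m) := by
      conv_lhs => rw [hg]
      rw [map_add, map_sum, hc0, zero_add]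
      simp only [map_smul]
    show A'.mkQ (g l) ∈ I • Submodule.span R (Set.range fun l => A'.mkQ (g l))
    rw [e]
    apply Submodule.sum_mem
    intro m _
    exact Submodule.smul_mem_smul (ha m) (Submodule.subset_span ⟨m, rfl⟩)
  obtain ⟨r, hr1, hr2⟩ :=
    Submodule.exists_sub_one_mem_and_smul_eq_zero_of_fg_of_le_smul I N hfg hle
  refine ⟨r, hr1, fun l => ?_⟩
  have := hr2 (A'.mkQ (g l)) (Submodule.subset_span ⟨l, rfl⟩)
  rw [← map_smul, Submodule.mkQ_apply, Submodule.Quotient.mk_eq_zero] at this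
  exact this

variable {k K : Type*} [Field k] [Field K] [Algebra k K]

section main

variable [IsAlgClosed k] (hK : IsFunctionField k K) {D : Divisor k K}
  (hD : 2 * (genus k K : ℤ) + 1 ≤ D.deg) (P : Place k K) {n : ℕ} (φ : Fin (n + 1) → K)
  (hspan : Submodule.span k (Set.range φ) = L D)

omit [IsAlgClosed k] in
include hspan in
theorem exists_top_index' (hexP : ∃ x ∈ L D, P.1 x = WithZero.exp (D P)) :
    ∃ j, φ j ≠ 0 ∧ (∀ i, P.1 (φ i) ≤ P.1 (φ j)) ∧
    P.1 (φ j) = WithZero.exp (D P) := by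
  obtain ⟨j, hj⟩ := Finite.exists_max (fun i => P.1 (φ i))
  obtain ⟨x, hx, hxP⟩ := hexP
  have hφL : ∀ i, φ i ∈ L D := fun i => by
    rw [← hspan]; exact Submodule.subset_span ⟨i, rfl⟩
  rw [← hspan, Submodule.mem_span_range_iff_exists_fun] at hx
  obtain ⟨c, rfl⟩ := hx
  have h1 : P.1 (∑ i, c i • φ i) ≤ P.1 (φ j) := by
    apply Valuation.map_sum_le
    intro i _
    rw [Algebra.smul_def, map_mul]
    calc P.1 (algebraMap k K (c i)) * P.1 (φ i) ≤ 1 * P.1 (φ j) := mul_le_mul' (P.2.1 _) (hj i)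
      _ = P.1 (φ j) := one_mul _
  have h2 : P.1 (φ j) = WithZero.exp (D P) := le_antisymm (hφL j P) (hxP ▸ h1)
  refine ⟨j, ?_, hj, h2⟩
  rintro h0
  rw [h0, map_zero] at h2
  exact WithZero.exp_ne_zero h2.symm

include hK hD hspan in
theorem exists_top_index : ∃ j, φ j ≠ 0 ∧ (∀ i, P.1 (φ i) ≤ P.1 (φ j)) ∧
    P.1 (φ j) = WithZero.exp (D P) :=
  exists_top_index' P φ hspan (exists_exact hK D (by linarith) P)

omit [IsAlgClosed k] in
include hspan in
theorem div_mem_A (j : Fin (n + 1)) {f : K} (hf : f ∈ L D) :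
    f / φ j ∈ Algebra.adjoin k (Set.range fun i => φ i / φ j) := by
  rw [← hspan, Submodule.mem_span_range_iff_exists_fun] at hf
  obtain ⟨c, rfl⟩ := hf
  rw [Finset.sum_div]
  apply Subalgebra.sum_mem
  intro i _
  rw [smul_div_assoc]
  exact Subalgebra.smul_mem _ (Algebra.subset_adjoin (Set.mem_range_self i)) _

omit [IsAlgClosed k] in
theorem A_le_O {j : Fin (n + 1)} (hj : ∀ i, P.1 (φ i) ≤ P.1 (φ j)) {a : K}
    (ha : a ∈ Algebra.adjoin k (Set.range fun i => φ i / φ j)) : P.1 a ≤ 1 := by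
  induction ha using Algebra.adjoin_induction with
  | mem x hx =>
    obtain ⟨i, rfl⟩ := hx
    rw [map_div₀]
    exact div_le_one_of_le₀ (hj i) zero_le
  | algebraMap r => exact P.2.1 r
  | add x y _ _ hx hy => exact (P.1.map_add x y).trans (max_le hx hy)
  | mul x y _ _ hx hy =>
    rw [map_mul]
    exact mul_le_one' hx hy

end main

theorem deg_nsmul (N : ℕ) (D : Divisor k K) : (N • D).deg = (N : ℤ) * D.deg := by
  rw [← natCast_zsmul, deg_zsmul]

/-- `A`-combinations of the generators `g` -/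
def Sp (A : Subalgebra k K) {q : ℕ} (g : Fin q → K) (x : K) : Prop :=
  ∃ α : Fin q → K, (∀ l, α l ∈ A) ∧ x = ∑ l, α l * g l

theorem Sp.add {A : Subalgebra k K} {q : ℕ} {g : Fin q → K} {x y : K} (hx : Sp A g x)
    (hy : Sp A g y) : Sp A g (x + y) := by
  obtain ⟨α, hα, rfl⟩ := hx
  obtain ⟨β, hβ, rfl⟩ := hy
  refine ⟨fun l => α l + β l, fun l => A.add_mem (hα l) (hβ l), ?_⟩
  rw [← Finset.sum_add_distrib]
  exact Finset.sum_congr rfl (fun l _ => by ring)

theorem Sp.mul {A : Subalgebra k K} {q : ℕ} {g : Fin q → K} {a x : K} (ha : a ∈ A)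
    (hx : Sp A g x) : Sp A g (a * x) := by
  obtain ⟨α, hα, rfl⟩ := hx
  refine ⟨fun l => a * α l, fun l => A.mul_mem ha (hα l), ?_⟩
  rw [Finset.mul_sum]
  exact Finset.sum_congr rfl (fun l _ => by ring)

theorem Sp.mul_mem {A : Subalgebra k K} {q : ℕ} {g : Fin q → K} {w x : K}
    (hw : ∀ l, w * g l ∈ A) (hx : Sp A g x) : w * x ∈ A := by
  obtain ⟨α, hα, rfl⟩ := hx
  rw [Finset.mul_sum]
  apply Subalgebra.sum_mem
  intro l _
  have : w * (α l * g l) = α l * (w * g l) := by ring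
  rw [this]
  exact A.mul_mem (hα l) (hw l)

/-- coordinates in a basis of a subspace, as elements of the ambient field -/
theorem exists_coords {W : Submodule k K} {q : ℕ} (b : Basis (Fin q) k W) {x : K} (hx : x ∈ W) :
    ∃ c : Fin q → k, x = ∑ l, algebraMap k K (c l) * (b l : K) := by
  refine ⟨fun l => b.repr ⟨x, hx⟩ l, ?_⟩
  have := congrArg Subtype.val (b.sum_repr ⟨x, hx⟩)
  simp only [Submodule.coe_sum, Submodule.coe_smul, Algebra.smul_def] at this
  exact this.symm

end Groth.Agent.Helper16.Emb
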