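import Groth.Agent.H16.Embed2
import Groth.Prelude.Def_W4bk4goldsch45
set_option autoImplicit false
set_option linter.unusedSimpArgs false
set_option maxHeartbeats 1600000

namespace Groth.Agent.Helper16.Emb

open FunFld Module Groth.Agent.Helper17.FF

variable {k K : Type*} [Field k] [Field K] [Algebra k K]

theorem nonsingular_of_pencils [IsAlgClosed k] (hK : IsFunctionField k K) {D : Divisor k K}
    (hd1 : 1 ≤ D.deg) {n : ℕ} (φ : Fin (n + 1) → K)
    (hspan : Submodule.span k (Set.range φ) = L D) (P : Place k K)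
    (hexP : ∃ x ∈ L D, P.1 x = WithZero.exp (D P)) (N0 : ℕ)
    {s t s' t' : K} (hs : s ∈ L D) (ht : t ∈ L D)
    (hs' : s' ∈ L (D - Finsupp.single P 1)) (ht' : t' ∈ L (D - Finsupp.single P 1))
    (hPT1 : ∀ N : ℕ, N0 ≤ N → ∀ f ∈ L (N • D + D), ∃ x ∈ L (N • D), ∃ y ∈ L (N • D),
      f = s * x + t * y)
    (hPT2 : ∀ f ∈ L (N0 • D + (D - Finsupp.single P 1)), ∃ x ∈ L (N0 • D), ∃ y ∈ L (N0 • D),
      f = s' * x + t' * y) :
    IsNonsingularAt φ P := by
  classical
  obtain ⟨j, hj0, hjmax, hjP⟩ := exists_top_index' P φ hspan hexP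
  set A := Algebra.adjoin k (Set.range fun i => φ i / φ j) with hA
  have hAO : ∀ a ∈ A, P.1 a ≤ 1 := fun a ha => A_le_O P φ hjmax ha
  have hdivA : ∀ f ∈ L D, f / φ j ∈ A := fun f hf => div_mem_A φ hspan j hf
  have hφjL : φ j ∈ L D := by rw [← hspan]; exact Submodule.subset_span ⟨j, rfl⟩
  have hγ : (0 : ℤ) ≤ (genus k K : ℤ) := Int.natCast_nonneg _
  -- generators
  have hfin2 := L_finite hK (N0 • D)
  set q := finrank k (L (N0 • D)) with hq
  let b : Basis (Fin q) k (L (N0 • D)) := Module.finBasis k (L (N0 • D))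
  set g : Fin q → K := fun l => (b l : K) / φ j ^ N0 with hg
  have hφjN : ∀ N : ℕ, φ j ^ N ∈ L (N • D) := fun N => Groth.Agent.Helper16.LLS.pow_mem_L hφjL N
  have hvφjN : ∀ N : ℕ, P.1 (φ j ^ N) = WithZero.exp ((N • D) P) := by
    intro N
    rw [map_pow, hjP, Finsupp.smul_apply, WithZero.exp_nsmul]
  have hφjN0 : ∀ N : ℕ, φ j ^ N ≠ 0 := fun N => pow_ne_zero N hj0
  -- Sp of all degrees
  have hSp : ∀ N : ℕ, N0 ≤ N → ∀ f ∈ L (N • D), Sp A g (f / φ j ^ N) := by
    intro N hN
    induction N, hN using Nat.le_induction with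
    | base =>
      intro f hf
      obtain ⟨c, hc⟩ := exists_coords b hf
      refine ⟨fun l => algebraMap k K (c l), fun l => A.algebraMap_mem _, ?_⟩
      rw [hc, Finset.sum_div]
      exact Finset.sum_congr rfl (fun l _ => by simp only [hg]; ring)
    | succ N hN ih =>
      intro f hf
      rw [succ_nsmul] at hf
      obtain ⟨x, hx, y, hy, rfl⟩ := hPT1 N hN f hf
      have e : (s * x + t * y) / φ j ^ (N + 1) =
          (s / φ j) * (x / φ j ^ N) + (t / φ j) * (y / φ j ^ N) := by
        field_simp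
        ring
      rw [e]
      exact ((ih x hx).mul (hdivA s hs)).add ((ih y hy).mul (hdivA t ht))
  -- Nakayama hypotheses
  have hLsub : L (D - Finsupp.single P 1) ≤ L D := by
    apply L_mono
    intro R
    rw [Finsupp.sub_apply, Finsupp.single_apply]
    split_ifs <;> omega
  have hsmall : ∀ x ∈ L (D - Finsupp.single P 1), x / φ j ∈ A ∧ P.1 (x / φ j) < 1 := by
    intro x hx
    refine ⟨hdivA x (hLsub hx), ?_⟩
    rw [map_div₀, hjP]
    have h1 := hx P
    rw [Finsupp.sub_apply, Finsupp.single_eq_same, ← val_lt_exp_iff_le] at h1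
    rw [div_lt_one₀ (zero_lt_iff.mpr WithZero.exp_ne_zero)]
    exact h1
  have hnak : ∀ l, ∃ (c : K) (a : Fin q → K), c ∈ A ∧ (∀ m, a m ∈ A ∧ P.1 (a m) < 1) ∧
      g l = c + ∑ m, a m * g m := by
    intro l
    have hbl : (b l : K) ∈ L (N0 • D) := (b l).2
    have hgl : P.1 (g l) ≤ 1 := by
      simp only [hg]
      rw [map_div₀, hvφjN N0]
      exact div_le_one_of_le₀ (hbl P) zero_le
    obtain ⟨c, hc⟩ := Groth.Agent.Helper16.LLS.exists_const_sub_lt hK P hgl
    set f := (b l : K) - algebraMap k K c * φ j ^ N0 with hf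
    have hfL : f ∈ L (N0 • D) :=
      Submodule.sub_mem _ hbl (by
        rw [← Algebra.smul_def]; exact Submodule.smul_mem _ _ (hφjN N0))
    have hfg : f = (g l - algebraMap k K c) * φ j ^ N0 := by
      simp only [hf, hg]
      field_simp
    have hfP : f ∈ L (N0 • D - Finsupp.single P 1) := by
      intro R
      by_cases hR : R = P
      · subst hR
        rw [Finsupp.sub_apply, Finsupp.single_eq_same, ← val_lt_exp_iff_le, hfg, map_mul,
          hvφjN N0]
        calc R.1 (g l - algebraMap k K c) * WithZero.exp ((N0 • D) R)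
            < 1 * WithZero.exp ((N0 • D) R) :=
              mul_lt_mul_of_pos_right hc (zero_lt_iff.mpr WithZero.exp_ne_zero)
          _ = _ := one_mul _
      · rw [Finsupp.sub_apply, Finsupp.single_eq_of_ne hR, sub_zero]
        exact hfL R
    have hfφ : f * φ j ∈ L (N0 • D + (D - Finsupp.single P 1)) := by
      have := Groth.Agent.Helper16.LLS.L_mul hfP hφjL
      have e : N0 • D - Finsupp.single P 1 + D = N0 • D + (D - Finsupp.single P 1) := by abel
      rwa [e] at this
    obtain ⟨x, hx, y, hy, hxy⟩ := hPT2 _ hfφ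
    obtain ⟨cx, hcx⟩ := exists_coords b hx
    obtain ⟨cy, hcy⟩ := exists_coords b hy
    obtain ⟨hs'A, hs'v⟩ := hsmall s' hs'
    obtain ⟨ht'A, ht'v⟩ := hsmall t' ht'
    refine ⟨algebraMap k K c, fun m => (s' / φ j) * algebraMap k K (cx m) +
      (t' / φ j) * algebraMap k K (cy m), A.algebraMap_mem _, fun m => ⟨?_, ?_⟩, ?_⟩
    · exact A.add_mem (A.mul_mem hs'A (A.algebraMap_mem _)) (A.mul_mem ht'A (A.algebraMap_mem _))
    · refine lt_of_le_of_lt (P.1.map_add _ _) (max_lt ?_ ?_)
      · rw [map_mul]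
        calc P.1 (s' / φ j) * P.1 (algebraMap k K (cx m)) ≤ P.1 (s' / φ j) * 1 :=
              mul_le_mul' le_rfl (P.2.1 _)
          _ < 1 := by rw [mul_one]; exact hs'v
      · rw [map_mul]
        calc P.1 (t' / φ j) * P.1 (algebraMap k K (cy m)) ≤ P.1 (t' / φ j) * 1 :=
              mul_le_mul' le_rfl (P.2.1 _)
          _ < 1 := by rw [mul_one]; exact ht'v
    · have h1 : g l - algebraMap k K c = (f * φ j) / φ j ^ (N0 + 1) := by
        rw [hfg, pow_succ]; field_simp
      have h2 : g l = algebraMap k K c + (f * φ j) / φ j ^ (N0 + 1) := by rw [← h1]; ring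
      rw [h2, hxy, hcx, hcy]
      congr 1
      simp only [hg, Finset.mul_sum, add_div, Finset.sum_div, ← Finset.sum_add_distrib]
      apply Finset.sum_congr rfl
      intro m _
      rw [pow_succ]
      field_simp
  -- apply Nakayama
  let I : Ideal ↥A :=
    { carrier := {a | P.1 (a : K) < 1}
      add_mem' := fun {a b} ha hb => lt_of_le_of_lt (P.1.map_add _ _) (max_lt ha hb)
      zero_mem' := by simp
      smul_mem' := fun c x hx => by
        show P.1 ((c : K) * (x : K)) < 1
        rw [map_mul]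
        calc P.1 (c : K) * P.1 (x : K) ≤ 1 * P.1 (x : K) := mul_le_mul' (hAO c c.2) le_rfl
          _ < 1 := by rw [one_mul]; exact hx }
  let A' : Submodule ↥A K :=
    { carrier := (A : Set K)
      add_mem' := fun ha hb => A.add_mem ha hb
      zero_mem' := A.zero_mem
      smul_mem' := fun c x hx => by
        show c • x ∈ A
        rw [Subalgebra.smul_def, smul_eq_mul]
        exact A.mul_mem c.2 hx }
  obtain ⟨r, hr1, hr2⟩ := nakayama_sub I A' g (fun l => by
    obtain ⟨c, a, hc, ha, hgl⟩ := hnak l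
    refine ⟨c, fun m => ⟨a m, (ha m).1⟩, hc, fun m => (ha m).2, ?_⟩
    rw [hgl]
    congr 1)
  set w : K := (r : K) with hw
  have hwA : w ∈ A := r.2
  have hwv : P.1 w = 1 := by
    have h1 : P.1 (w - 1) < 1 := hr1
    have : w = 1 + (w - 1) := by ring
    rw [this]
    exact Valuation.map_one_add_of_lt P.1 h1
  have hwg : ∀ l, w * g l ∈ A := by
    intro l
    have := hr2 l
    have h2 : r • g l ∈ A := this
    rwa [Subalgebra.smul_def, smul_eq_mul] at h2
  -- the main argument
  intro z hz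
  refine ⟨j, hj0, hjmax, ?_⟩
  rcases eq_or_ne z 0 with rfl | hz0
  · exact ⟨0, A.zero_mem, 1, A.one_mem, by simp, by simp⟩
  set Ez : Divisor k K := (-(FunFld.div k z)) ⊔ 0 with hEz
  have hEz0 : 0 ≤ Ez := le_sup_right
  have hzL : z ∈ L Ez := by
    intro R
    rw [val_eq_exp_neg_ord R hz0, WithZero.exp_le_exp, hEz, Finsupp.sup_apply,
      Finsupp.neg_apply, div_apply hK]
    exact le_max_left _ _
  have hEzP : Ez P = 0 := by
    rw [hEz, Finsupp.sup_apply, Finsupp.neg_apply, div_apply hK, Finsupp.zero_apply]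
    have := (ord_nonneg_iff P hz0).mpr hz
    exact max_eq_right (by omega)
  have hEzdeg : 0 ≤ Ez.deg := deg_nonneg hEz0
  set N : ℕ := (Ez.deg + 2 * (genus k K : ℤ)).toNat + N0 with hN
  have hN2 : N0 ≤ N := by omega
  have hNge : Ez.deg + 2 * (genus k K : ℤ) ≤ (N : ℤ) := by
    rw [hN]; push_cast
    have := Int.self_le_toNat (Ez.deg + 2 * (genus k K : ℤ))
    linarith
  have hNd : (N : ℤ) ≤ (N : ℤ) * D.deg := by
    have : (0 : ℤ) ≤ (N : ℤ) := Int.natCast_nonneg _
    nlinarith
  obtain ⟨h, hhL, hhP⟩ := exists_exact hK (N • D - Ez)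
    (by rw [deg_sub, deg_nsmul]; linarith) P
  have hzh : z * h ∈ L (N • D) := by
    have := Groth.Agent.Helper16.LLS.L_mul hzL hhL
    rwa [add_sub_cancel] at this
  have hhL' : h ∈ L (N • D) := by
    refine L_mono ?_ hhL
    intro R
    have := hEz0 R
    rw [Finsupp.zero_apply] at this
    rw [Finsupp.sub_apply]
    omega
  have hb1 := (hSp N hN2 (z * h) hzh).mul_mem hwg
  have hb2 := (hSp N hN2 h hhL').mul_mem hwg
  refine ⟨w * (z * h / φ j ^ N), hb1, w * (h / φ j ^ N), hb2, ?_, by ring⟩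
  rw [map_mul, hwv, one_mul, map_div₀, hvφjN N, hhP, Finsupp.sub_apply, hEzP, sub_zero]
  exact div_self WithZero.exp_ne_zero



theorem nonsingular_of_deg_ge [IsAlgClosed k] (hK : IsFunctionField k K) {D : Divisor k K}
    (hD : 2 * (genus k K : ℤ) + 1 ≤ D.deg) {n : ℕ} (φ : Fin (n + 1) → K)
    (hspan : Submodule.span k (Set.range φ) = L D) (P : Place k K) :
    IsNonsingularAt φ P := by
  have hγ : (0 : ℤ) ≤ (genus k K : ℤ) := Int.natCast_nonneg _
  have hd1 : 1 ≤ D.deg := by linarith
  have hell : ∀ E : Divisor k K, 2 * (genus k K : ℤ) - 1 ≤ E.deg →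
      (ell E : ℤ) = E.deg + 1 - genus k K := fun E hE => ell_eq_of_deg_ge hK E hE
  obtain ⟨s, t, hs, ht, hs0, ht0, hst⟩ := exists_bpf_pencil hK D (by linarith)
  have hdegP : (D - Finsupp.single P 1).deg = D.deg - 1 := by
    rw [deg_sub, deg_single, Groth.Agent.Helper16.LLS.deg_eq_one hK P]; push_cast; ring
  obtain ⟨s', t', hs', ht', hs'0, ht'0, hst'⟩ :=
    exists_bpf_pencil hK (D - Finsupp.single P 1) (by rw [hdegP]; linarith)
  refine nonsingular_of_pencils hK hd1 φ hspan P (exists_exact hK D (by linarith) P) 2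
    hs ht hs' ht' ?_ ?_
  · intro N hN
    apply pencil_trick hK hs ht hs0 ht0 hst
    have hN' : (2 : ℤ) ≤ (N : ℤ) := by exact_mod_cast hN
    have hNd : D.deg ≤ ((N : ℤ) - 1) * D.deg := by nlinarith
    have e1 := hell (N • D + D) (by rw [deg_add, deg_nsmul]; nlinarith)
    have e2 := hell (N • D - D) (by rw [deg_sub, deg_nsmul]; nlinarith)
    have e3 := hell (N • D) (by rw [deg_nsmul]; nlinarith)
    rw [deg_add, deg_nsmul] at e1
    rw [deg_sub, deg_nsmul] at e2
    rw [deg_nsmul] at e3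
    have : (ell (N • D + D) : ℤ) + ell (N • D - D) ≤ 2 * ell (N • D) := by linarith
    exact_mod_cast this
  · apply pencil_trick hK hs' ht' hs'0 ht'0 hst'
    have e1 := hell (2 • D + (D - Finsupp.single P 1))
      (by rw [deg_add, deg_nsmul, hdegP]; push_cast; linarith)
    have e2 := hell (2 • D - (D - Finsupp.single P 1))
      (by rw [deg_sub, deg_nsmul, hdegP]; push_cast; linarith)
    have e3 := hell (2 • D) (by rw [deg_nsmul]; push_cast; linarith)
    rw [deg_add, deg_nsmul, hdegP] at e1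
    rw [deg_sub, deg_nsmul, hdegP] at e2
    rw [deg_nsmul] at e3
    push_cast at e1 e2 e3
    have : (ell (2 • D + (D - Finsupp.single P 1)) : ℤ) +
        ell (2 • D - (D - Finsupp.single P 1)) ≤ 2 * ell (2 • D) := by linarith
    exact_mod_cast this

end Groth.Agent.Helper16.Emb
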