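import Groth.Agent.H16.Embed3
import Groth.Agent.Lib.Helper17.FF22
set_option autoImplicit false
set_option linter.unusedSimpArgs false
set_option maxHeartbeats 1600000

namespace Groth.Agent.Helper16.Emb

open FunFld Module Groth.Agent.Helper17.FF

variable {k K : Type*} [Field k] [Field K] [Algebra k K]

theorem exists_exact_of_lt {E : Divisor k K} {Q : Place k K}
    (hlt : ell (E - Finsupp.single Q 1) < ell E) :
    ∃ x ∈ L E, Q.1 x = WithZero.exp (E Q) := by
  have hle : L (E - Finsupp.single Q 1) ≤ L E := by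
    apply L_mono
    intro R
    classical
    rw [Finsupp.sub_apply, Finsupp.single_apply]
    split_ifs <;> omega
  have hne : L (E - Finsupp.single Q 1) ≠ L E := by
    intro h
    unfold ell at hlt
    rw [h] at hlt
    exact lt_irrefl _ hlt
  obtain ⟨x, hx, hx'⟩ := SetLike.exists_of_lt (lt_of_le_of_ne hle hne)
  exact ⟨x, hx, val_eq_of_not_mem hx hx'⟩

/-- no functions of degree `≤ 2` -/
theorem ell_le_one_of_no_deg_two (hK : IsFunctionField k K)
    (h2 : ∀ x : K, Transcendental k x →
      2 < Module.finrank (IntermediateField.adjoin k ({x} : Set K)) K)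
    {E : Divisor k K} (hE0 : 0 ≤ E) (hE : E.deg ≤ 2) : ell E ≤ 1 := by
  have hall : ∀ y ∈ L E, y ∈ Set.range (algebraMap k K) := by
    intro y hy
    by_contra hny
    have hyt := transcendental_of_not_mem hK hny
    have h1 := finrank_le_deg_of_mem_L hK hyt hE0 hy
    have h3 := h2 y hyt
    have : (2 : ℤ) < (finrank (IntermediateField.adjoin k ({y} : Set K)) K : ℤ) := by
      exact_mod_cast h3
    linarith
  have hle : L E ≤ Submodule.span k ({1} : Set K) := by
    intro y hy
    obtain ⟨c, rfl⟩ := hall y hy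
    rw [Submodule.mem_span_singleton]
    exact ⟨c, by rw [Algebra.smul_def, mul_one]⟩
  unfold ell
  calc finrank k (L E) ≤ finrank k (Submodule.span k ({1} : Set K)) :=
        Submodule.finrank_mono hle
    _ ≤ 1 := by
        rw [finrank_span_singleton (one_ne_zero)]

theorem nonsingular_canonical [IsAlgClosed k] (hK : IsFunctionField k K)
    (h2 : ∀ x : K, Transcendental k x →
      2 < Module.finrank (IntermediateField.adjoin k ({x} : Set K)) K)
    {C : Divisor k K} (hC : IsCanonical k K C) {n : ℕ} (φ : Fin (n + 1) → K)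
    (hspan : Submodule.span k (Set.range φ) = L C) (P : Place k K) :
    IsNonsingularAt φ P := by
  classical
  have hdegPl : ∀ Q : Place k K, Q.deg = 1 := fun Q => Groth.Agent.Helper16.LLS.deg_eq_one hK Q
  -- genus at least 2
  have hγ2 : (2 : ℤ) ≤ (genus k K : ℤ) := by
    have h1 := (riemann hK).1 (Finsupp.single P 2)
    have h3 := ell_le_one_of_no_deg_two hK h2 (E := Finsupp.single P 2)
      (by intro R; rw [Finsupp.zero_apply, Finsupp.single_apply]; split_ifs <;> norm_num)
      (by rw [deg_single, hdegPl P]; norm_num)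
    rw [deg_single, hdegPl P] at h1
    have : (ell (Finsupp.single P 2 : Divisor k K) : ℤ) ≤ 1 := by exact_mod_cast h3
    push_cast at h1
    linarith
  have hgpos : 0 < genus k K := by
    have : (0 : ℤ) < (genus k K : ℤ) := by linarith
    exact_mod_cast this
  obtain ⟨hCell, hCdeg⟩ := (isCanonical_iff hK C).1 hC
  have hd1 : 1 ≤ C.deg := by rw [hCdeg]; linarith
  have hell : ∀ E : Divisor k K, 2 * (genus k K : ℤ) - 1 ≤ E.deg →
      (ell E : ℤ) = E.deg + 1 - genus k K := fun E hE => ell_eq_of_deg_ge hK E hE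
  have hexC : ∀ Q : Place k K, ∃ x ∈ L C, Q.1 x = WithZero.exp (C Q) := fun Q =>
    exists_exact_of_lt (ell_sub_single_lt hK hgpos C (Or.inr hC) (hdegPl Q))
  have hexCP : ∀ Q : Place k K, ∃ x ∈ L (C - Finsupp.single P 1),
      Q.1 x = WithZero.exp ((C - Finsupp.single P 1 : Divisor k K) Q) := by
    intro Q
    apply exists_exact_of_lt
    have r1 := riemann_roch hK hC (Finsupp.single P 1)
    have r2 := riemann_roch hK hC (Finsupp.single P 1 + Finsupp.single Q 1)
    rw [deg_single, hdegPl P] at r1
    rw [deg_add, deg_single, deg_single, hdegPl P, hdegPl Q] at r2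
    have l1 : 1 ≤ ell (Finsupp.single P 1 : Divisor k K) :=
      one_le_ell_of_nonneg hK
        (by intro R; rw [Finsupp.zero_apply, Finsupp.single_apply]; split_ifs <;> norm_num)
    have l2 : ell (Finsupp.single P 1 + Finsupp.single Q 1 : Divisor k K) ≤ 1 :=
      ell_le_one_of_no_deg_two hK h2
        (by
          intro R
          rw [Finsupp.zero_apply, Finsupp.add_apply, Finsupp.single_apply,
            Finsupp.single_apply]
          split_ifs <;> norm_num)
        (by rw [deg_add, deg_single, deg_single, hdegPl P, hdegPl Q]; norm_num)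
    have e : C - Finsupp.single P 1 - Finsupp.single Q 1 =
        C - (Finsupp.single P 1 + Finsupp.single Q 1) := by abel
    rw [e]
    have l1' : (1 : ℤ) ≤ (ell (Finsupp.single P 1 : Divisor k K) : ℤ) := by exact_mod_cast l1
    have l2' : (ell (Finsupp.single P 1 + Finsupp.single Q 1 : Divisor k K) : ℤ) ≤ 1 := by
      exact_mod_cast l2
    push_cast at r1 r2
    have : (ell (C - (Finsupp.single P 1 + Finsupp.single Q 1)) : ℤ) <
        ell (C - Finsupp.single P 1) := by linarith
    exact_mod_cast this
  obtain ⟨s, t, hs, ht, hs0, ht0, hst⟩ := exists_bpf_pencil' hK C hexC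
  obtain ⟨s', t', hs', ht', hs'0, ht'0, hst'⟩ :=
    exists_bpf_pencil' hK (C - Finsupp.single P 1) hexCP
  have hdegP : (C - Finsupp.single P 1).deg = C.deg - 1 := by
    rw [deg_sub, deg_single, hdegPl P]; push_cast; ring
  refine nonsingular_of_pencils hK hd1 φ hspan P (hexC P) 3 hs ht hs' ht' ?_ ?_
  · intro N hN
    apply pencil_trick hK hs ht hs0 ht0 hst
    have hN' : (3 : ℤ) ≤ (N : ℤ) := by exact_mod_cast hN
    have hNd : 2 * C.deg ≤ ((N : ℤ) - 1) * C.deg := by nlinarith
    have e1 := hell (N • C + C) (by rw [deg_add, deg_nsmul]; nlinarith)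
    have e2 := hell (N • C - C) (by rw [deg_sub, deg_nsmul]; nlinarith)
    have e3 := hell (N • C) (by rw [deg_nsmul]; nlinarith)
    rw [deg_add, deg_nsmul] at e1
    rw [deg_sub, deg_nsmul] at e2
    rw [deg_nsmul] at e3
    have : (ell (N • C + C) : ℤ) + ell (N • C - C) ≤ 2 * ell (N • C) := by linarith
    exact_mod_cast this
  · apply pencil_trick hK hs' ht' hs'0 ht'0 hst'
    have e1 := hell (3 • C + (C - Finsupp.single P 1))
      (by rw [deg_add, deg_nsmul, hdegP]; push_cast; linarith)
    have e2 := hell (3 • C - (C - Finsupp.single P 1))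
      (by rw [deg_sub, deg_nsmul, hdegP]; push_cast; linarith)
    have e3 := hell (3 • C) (by rw [deg_nsmul]; push_cast; linarith)
    rw [deg_add, deg_nsmul, hdegP] at e1
    rw [deg_sub, deg_nsmul, hdegP] at e2
    rw [deg_nsmul] at e3
    push_cast at e1 e2 e3
    have : (ell (3 • C + (C - Finsupp.single P 1)) : ℤ) +
        ell (3 • C - (C - Finsupp.single P 1)) ≤ 2 * ell (3 • C) := by linarith
    exact_mod_cast this

end Groth.Agent.Helper16.Emb
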