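import Groth.Prelude.Def_W4c1chowmix47Eta
import Mathlib

/-!
Helper library for the `EtaPt` cluster (helper16).
-/

set_option autoImplicit false
universe u

namespace Groth.Agent.Helper16.EtaLib

open EtaPt EtaPt.FieldEndo

variable (η : EtaPt.FieldEndo.{u})

section basics

variable {A B C : Type u} [CommRing A] [CommRing B] [CommRing C]

theorem Nmap_apply (f : A →+* B) (x : η.N A) (q : PrimeSpectrum B) :
    η.Nmap f x q =
      η.map (Ideal.ResidueField.map (PrimeSpectrum.comap f q).asIdeal q.asIdeal f rfl)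
        (x (PrimeSpectrum.comap f q)) := rfl

theorem t_apply (a : A) (p : PrimeSpectrum A) :
    η.t A a p = η.eta p.asIdeal.ResidueField (algebraMap A p.asIdeal.ResidueField a) := rfl

theorem resMap_comp' (I : Ideal A) [I.IsPrime] (J : Ideal B) [J.IsPrime] (K : Ideal C) [K.IsPrime]
    (f : A →+* B) (g : B →+* C) (hf : I = J.comap f) (hg : J = K.comap g)
    (hgf : I = K.comap (g.comp f)) :
    (Ideal.ResidueField.map J K g hg).comp (Ideal.ResidueField.map I J f hf) =
      Ideal.ResidueField.map I K (g.comp f) hgf := by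
  apply Ideal.ResidueField.ringHom_ext
  ext a
  simp only [RingHom.comp_apply, Ideal.ResidueField.map_algebraMap]

theorem resMap_id' (I : Ideal A) [I.IsPrime] (h : I = I.comap (RingHom.id A)) :
    Ideal.ResidueField.map I I (RingHom.id A) h = RingHom.id _ := by
  apply Ideal.ResidueField.ringHom_ext
  ext a
  simp only [RingHom.comp_apply, Ideal.ResidueField.map_algebraMap, RingHom.id_apply]

theorem Nmap_comp_apply (f : A →+* B) (g : B →+* C) (x : η.N A) :
    η.Nmap (g.comp f) x = η.Nmap g (η.Nmap f x) := by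
  funext r
  have h1 := resMap_comp' (PrimeSpectrum.comap f (PrimeSpectrum.comap g r)).asIdeal
    (PrimeSpectrum.comap g r).asIdeal r.asIdeal f g rfl rfl rfl
  have h2 := η.map_comp
    (Ideal.ResidueField.map (PrimeSpectrum.comap f (PrimeSpectrum.comap g r)).asIdeal
      (PrimeSpectrum.comap g r).asIdeal f rfl)
    (Ideal.ResidueField.map (PrimeSpectrum.comap g r).asIdeal r.asIdeal g rfl)
  rw [h1] at h2
  exact DFunLike.congr_fun h2 (x (PrimeSpectrum.comap f (PrimeSpectrum.comap g r)))

theorem Nmap_comp (f : A →+* B) (g : B →+* C) :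
    η.Nmap (g.comp f) = (η.Nmap g).comp (η.Nmap f) :=
  RingHom.ext fun x => Nmap_comp_apply η f g x

theorem Nmap_id_apply (x : η.N A) : η.Nmap (RingHom.id A) x = x := by
  funext p
  have h1 := resMap_id' p.asIdeal rfl
  have h2 := η.map_id p.asIdeal.ResidueField
  rw [← h1] at h2
  exact DFunLike.congr_fun h2 (x p)

theorem Nmap_mem_M (f : A →+* B) {x : η.N A} (hx : x ∈ η.M A) : η.Nmap f x ∈ η.M B := by
  intro R _ _ _ hR g
  rw [← Nmap_comp_apply]
  exact hx R hR (g.comp f)

theorem mem_M_iff (x : η.N A) : x ∈ η.M A ↔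
    ∀ (R : Type u) [CommRing R] [IsDomain R] [ValuationRing R], η.InV R →
      ∀ g : A →+* R, η.Nmap g x ∈ (η.t R).range := Iff.rfl

end basics

section fields

variable {K L E : Type u} [Field K] [Field L] [Field E]

theorem eta_injective (K : Type u) [Field K] : Function.Injective (η.eta K) :=
  (η.eta K).injective

theorem map_injective (f : K →+* L) : Function.Injective (η.map f) :=
  (η.map f).injective

/-- Frobenius-power injectivity in a field receiving a map from `K`. -/
theorem pow_expChar_inj (f : K →+* L) (n : ℕ) {x y : L}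
    (h : x ^ ringExpChar K ^ n = y ^ ringExpChar K ^ n) : x = y := by
  have : ExpChar L (ringExpChar K) := expChar_of_injective_ringHom f.injective (ringExpChar K)
  exact iterateFrobenius_inj L (ringExpChar K) n (by simpa [iterateFrobenius_def] using h)

/-- Two ring homs out of `η.obj K` that agree on the image of `η.eta K` are equal. -/
theorem hom_ext_obj (a b : η.obj K →+* L) (h : a.comp (η.eta K) = b.comp (η.eta K)) : a = b := by
  ext x
  obtain ⟨n, y, hy⟩ := η.exists_pow_mem_range_eta K x
  apply pow_expChar_inj (a.comp (η.eta K)) n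
  rw [← map_pow, ← map_pow, ← hy]
  exact DFunLike.congr_fun h y

theorem eta_obj_eq (K : Type u) [Field K] : η.eta (η.obj K) = η.map (η.eta K) := by
  apply hom_ext_obj
  exact (η.eta_natural (η.eta K)).symm

theorem eta_obj_bijective (K : Type u) [Field K] : Function.Bijective (η.eta (η.obj K)) := by
  rw [eta_obj_eq]
  exact η.bijective_map_eta K

theorem map_equiv_bijective (e : K ≃+* L) : Function.Bijective (η.map (e : K →+* L)) := by
  have h1 : (η.map (e.symm : L →+* K)).comp (η.map (e : K →+* L)) = RingHom.id _ := by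
    rw [← η.map_comp, ← η.map_id]
    congr 1
    ext x
    simp
  have h2 : (η.map (e : K →+* L)).comp (η.map (e.symm : L →+* K)) = RingHom.id _ := by
    rw [← η.map_comp, ← η.map_id]
    congr 1
    ext x
    simp
  refine ⟨(η.map _).injective, fun y => ⟨η.map (e.symm : L →+* K) y, ?_⟩⟩
  exact DFunLike.congr_fun h2 y

theorem eta_bijective_of_equiv (e : K ≃+* L) (h : Function.Bijective (η.eta K)) :
    Function.Bijective (η.eta L) := by
  have hn := η.eta_natural (e : K →+* L)
  have : (η.eta L : L → η.obj L) = (η.map (e : K →+* L)) ∘ (η.eta K) ∘ e.symm := by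
    funext x
    have := DFunLike.congr_fun hn (e.symm x)
    simp only [RingHom.comp_apply, RingEquiv.coe_toRingHom, RingEquiv.apply_symm_apply] at this
    simp only [Function.comp_apply]
    exact this.symm
  rw [this]
  exact (map_equiv_bijective η e).comp (h.comp e.symm.bijective)

theorem InV_iff_of_isFractionRing (R : Type u) [CommRing R] [IsDomain R] (K : Type u) [Field K]
    [Algebra R K] [IsFractionRing R K] : η.InV R ↔ Function.Bijective (η.eta K) := by
  constructor
  · intro h
    exact eta_bijective_of_equiv η (FractionRing.algEquiv R K).toRingEquiv h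
  · intro h
    exact eta_bijective_of_equiv η (FractionRing.algEquiv R K).toRingEquiv.symm h

end fields

section ev

variable {A B : Type u} [CommRing A] [CommRing B] {L L' : Type u} [Field L] [Field L']

/-- The point of `Spec A` cut out by a ring map to a field. -/
def kerPt (j : A →+* L) : PrimeSpectrum A := ⟨RingHom.ker j, RingHom.ker_isPrime j⟩

theorem kerPt_asIdeal (j : A →+* L) : (kerPt j).asIdeal = RingHom.ker j := rfl

/-- The map `k(ker j) → L` induced by `j : A → L`. -/
noncomputable def resLift (j : A →+* L) : (kerPt j).asIdeal.ResidueField →+* L :=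
  Ideal.ResidueField.lift (kerPt j).asIdeal j le_rfl (by
    intro a ha
    have : j a ≠ 0 := fun h => ha (by simpa [kerPt, RingHom.mem_ker] using h)
    exact isUnit_iff_ne_zero.mpr this)

theorem resLift_algebraMap (j : A →+* L) (a : A) :
    resLift j (algebraMap A (kerPt j).asIdeal.ResidueField a) = j a := by
  unfold resLift
  exact Ideal.ResidueField.lift_algebraMap _ _ _ _ _

theorem resLift_comp_algebraMap (j : A →+* L) :
    (resLift j).comp (algebraMap A (kerPt j).asIdeal.ResidueField) = j :=
  RingHom.ext (resLift_algebraMap j)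

/-- Evaluation of a family `x ∈ N A` at a field-valued point `j : A → L`. -/
noncomputable def ev (j : A →+* L) : η.N A →+* η.obj L :=
  (η.map (resLift j)).comp
    (Pi.evalRingHom (fun p : PrimeSpectrum A => η.obj p.asIdeal.ResidueField) (kerPt j))

theorem ev_apply (j : A →+* L) (x : η.N A) : ev η j x = η.map (resLift j) (x (kerPt j)) := rfl

/-- Workhorse: `ev j x` may be computed from any prime `P` together with
`ψ : k(P) → L` inducing `j`. -/
theorem ev_eq_of (j : A →+* L) (P : PrimeSpectrum A) (ψ : P.asIdeal.ResidueField →+* L)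
    (hψ : ψ.comp (algebraMap A P.asIdeal.ResidueField) = j) (x : η.N A) :
    ev η j x = η.map ψ (x P) := by
  have hP : P = kerPt j := by
    apply PrimeSpectrum.ext
    rw [kerPt_asIdeal, ← hψ]
    ext a
    rw [RingHom.mem_ker, RingHom.comp_apply, map_eq_zero, Ideal.algebraMap_residueField_eq_zero]
  subst hP
  have : ψ = resLift j := by
    apply Ideal.ResidueField.ringHom_ext
    rw [hψ, resLift_comp_algebraMap]
  rw [this]
  rfl

theorem ev_t (j : A →+* L) (a : A) : ev η j (η.t A a) = η.eta L (j a) := by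
  rw [ev_apply, t_apply]
  have := DFunLike.congr_fun (η.eta_natural (resLift j)) (algebraMap A _ a)
  simp only [RingHom.comp_apply] at this
  rw [this, resLift_algebraMap]

theorem ev_Nmap (g : B →+* A) (j : A →+* L) (y : η.N B) :
    ev η j (η.Nmap g y) = ev η (j.comp g) y := by
  rw [ev_apply, Nmap_apply]
  rw [ev_eq_of η (j.comp g) (PrimeSpectrum.comap g (kerPt j))
    ((resLift j).comp (Ideal.ResidueField.map (PrimeSpectrum.comap g (kerPt j)).asIdeal
      (kerPt j).asIdeal g rfl)) ?_ y]
  · rw [η.map_comp]; rfl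
  · ext b
    simp only [RingHom.comp_apply, Ideal.ResidueField.map_algebraMap, resLift_algebraMap]

theorem ev_algebraMap (P : PrimeSpectrum A) (x : η.N A) :
    ev η (algebraMap A P.asIdeal.ResidueField) x = x P := by
  rw [ev_eq_of η (algebraMap A P.asIdeal.ResidueField) P (RingHom.id _) (by ext; simp) x, η.map_id]
  rfl

theorem ev_comp (j : A →+* L) (i : L →+* L') (x : η.N A) :
    ev η (i.comp j) x = η.map i (ev η j x) := by
  rw [ev_eq_of η (i.comp j) (kerPt j) (i.comp (resLift j)) ?_ x, η.map_comp, ev_apply]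
  · rfl
  · rw [RingHom.comp_assoc, resLift_comp_algebraMap]

theorem N_ext {x y : η.N A}
    (h : ∀ P : PrimeSpectrum A, ev η (algebraMap A P.asIdeal.ResidueField) x =
      ev η (algebraMap A P.asIdeal.ResidueField) y) : x = y := by
  funext P
  have := h P
  rwa [ev_algebraMap, ev_algebraMap] at this

/-- `ev j x` only depends on the component of `x` at the kernel of `j`. -/
theorem ev_eq_ev_iff (j : A →+* L) (P : PrimeSpectrum A) (hP : RingHom.ker j = P.asIdeal)
    (x y : η.N A) : ev η j x = ev η j y ↔ x P = y P := by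
  have hP' : P = kerPt j := PrimeSpectrum.ext hP.symm
  subst hP'
  rw [ev_apply, ev_apply]
  exact (η.map (resLift j)).injective.eq_iff

theorem ev_eq_zero_iff (j : A →+* L) (P : PrimeSpectrum A) (hP : RingHom.ker j = P.asIdeal)
    (x : η.N A) : ev η j x = 0 ↔ x P = 0 := by
  have := ev_eq_ev_iff η j P hP x 0
  simpa using this

/-- Consequence of membership in `M`: evaluation at any field point of the valuation ring. -/
theorem ev_of_Nmap_eq_t {R : Type u} [CommRing R] (g : A →+* R) (x : η.N A) (r : R)
    (h : η.Nmap g x = η.t R r) (j : R →+* L) : ev η (j.comp g) x = η.eta L (j r) := by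
  rw [← ev_Nmap, h, ev_t]

theorem Nmap_eq_t_of_ev {R : Type u} [CommRing R] (g : A →+* R) (x : η.N A) (r : R)
    (h : ∀ Q : PrimeSpectrum R, ev η ((algebraMap R Q.asIdeal.ResidueField).comp g) x =
      η.eta _ (algebraMap R Q.asIdeal.ResidueField r)) : η.Nmap g x = η.t R r := by
  apply N_ext
  intro Q
  rw [ev_Nmap, ev_t, h Q]

end ev

section valuation

variable {A : Type u} [CommRing A] {L : Type u} [Field L]

theorem InV_valuationSubring (hL : Function.Bijective (η.eta L))
    (V : ValuationSubring L) : η.InV V :=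
  (InV_iff_of_isFractionRing η V L).mpr hL

/-- Valuation rings through a given point with given centre. -/
theorem exists_valuationSubring_of_le
    (j : A →+* L) (P : PrimeSpectrum A) (hP : RingHom.ker j ≤ P.asIdeal) :
    ∃ (V : ValuationSubring L) (g : A →+* V), (V.subtype : V →+* L).comp g = j ∧
      (IsLocalRing.maximalIdeal V).comap g = P.asIdeal := by
  have hunit : ∀ s : P.asIdeal.primeCompl, IsUnit (j s) := by
    intro s
    refine isUnit_iff_ne_zero.mpr fun h => s.2 (hP ?_)
    simpa [RingHom.mem_ker] using h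
  let f : Localization.AtPrime P.asIdeal →+* L := IsLocalization.lift hunit
  obtain ⟨V, hV, hloc⟩ := IsLocalRing.exists_factor_valuationRing f
  let f' : Localization.AtPrime P.asIdeal →+* V := f.codRestrict V.toSubring hV
  have hloc' : IsLocalHom f' := hloc
  refine ⟨V, f'.comp (algebraMap A (Localization.AtPrime P.asIdeal)), ?_, ?_⟩
  · ext a
    simp [f, f']
  · rw [← Ideal.comap_comap]
    have h1 : (IsLocalRing.maximalIdeal V).comap f' =
        IsLocalRing.maximalIdeal (Localization.AtPrime P.asIdeal) :=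
      ((IsLocalRing.local_hom_TFAE f').out 0 4).mp hloc'
    rw [h1]
    exact IsLocalization.AtPrime.under_maximalIdeal _ _

/-- For `x ∈ M A` and a map to a valuation subring `V` of a field `L` at which `η` is bijective,
the family `x` is represented over `V` by a single element `r`. -/
theorem exists_rep_of_mem_M (hL : Function.Bijective (η.eta L)) (V : ValuationSubring L)
    (g : A →+* V) {x : η.N A} (hx : x ∈ η.M A) :
    ∃ r : V, η.Nmap g x = η.t V r ∧
      ∀ (L' : Type u) [Field L'] (i : V →+* L'), ev η (i.comp g) x = η.eta L' (i r) := by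
  obtain ⟨r, hr⟩ := hx V (InV_valuationSubring η hL V) g
  exact ⟨r, hr.symm, fun L' _ i => ev_of_Nmap_eq_t η g x r hr.symm i⟩

/-- If `x ∈ M A` vanishes at a point `j : A → L` (with `η` bijective at `L`), it vanishes at every
specialization of that point. -/
theorem eq_zero_at_of_ev_eq_zero (hL : Function.Bijective (η.eta L)) (j : A →+* L)
    (P : PrimeSpectrum A) (hP : RingHom.ker j ≤ P.asIdeal) {x : η.N A} (hx : x ∈ η.M A)
    (h0 : ev η j x = 0) : x P = 0 := by
  obtain ⟨V, g, hg, hmax⟩ := exists_valuationSubring_of_le j P hP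
  obtain ⟨r, -, hr⟩ := exists_rep_of_mem_M η hL V g hx
  have h1 := hr L V.subtype
  rw [hg, h0] at h1
  have hr0 : r = 0 := by
    have : (V.subtype r : L) = 0 := by
      apply (η.eta L).injective
      rw [← h1, map_zero]
    exact Subtype.ext this
  have h2 := hr _ (algebraMap V (IsLocalRing.maximalIdeal V).ResidueField)
  rw [hr0, map_zero, map_zero] at h2
  refine (ev_eq_zero_iff η _ P ?_ x).mp h2
  rw [← hmax, ← RingHom.comap_ker, Ideal.ker_algebraMap_residueField]

/-- An element of `M A` vanishing at all minimal primes is zero. -/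
theorem eq_zero_of_minimalPrimes {x : η.N A} (hx : x ∈ η.M A)
    (h : ∀ p : PrimeSpectrum A, p.asIdeal ∈ minimalPrimes A → x p = 0) : x = 0 := by
  funext P
  obtain ⟨p, hpmin, hpP⟩ := Ideal.exists_minimalPrimes_le (bot_le : (⊥ : Ideal A) ≤ P.asIdeal)
  have : p.IsPrime := hpmin.1.1
  let p' : PrimeSpectrum A := ⟨p, hpmin.1.1⟩
  let j : A →+* η.obj p.ResidueField := (η.eta p.ResidueField).comp (algebraMap A p.ResidueField)
  have hker : RingHom.ker j = p := by
    ext a
    simp [j, RingHom.mem_ker]
  refine eq_zero_at_of_ev_eq_zero η (eta_obj_bijective η p.ResidueField) j P (hker.le.trans hpP) hx ?_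
  exact (ev_eq_zero_iff η j p' hker x).mpr (h p' hpmin)

end valuation

section integrality

variable {A : Type u} [CommRing A] {L : Type u} [Field L]

/-- Valuative criterion for integrality over the image of a ring map to a field. -/
theorem isIntegralElem_of_forall_valuationSubring (j : A →+* L) (y : L)
    (h : ∀ V : ValuationSubring L, (∀ a, j a ∈ V) → y ∈ V) : j.IsIntegralElem y := by
  let _ : Algebra A L := j.toAlgebra
  change IsIntegral A y
  by_contra hy
  have hy' : y ∉ (integralClosure A L).toSubring := hy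
  have : IsIntegrallyClosedIn (integralClosure A L).toSubring L :=
    inferInstanceAs (IsIntegrallyClosedIn (integralClosure A L) L)
  obtain ⟨V, hV, hyV⟩ := Subring.exists_le_valuationSubring_of_isIntegrallyClosedIn hy'
  exact hyV (h V fun a => hV ((integralClosure A L).algebraMap_mem a))

/-- The value of `x ∈ M A` at a point `j : A → L` (with `η` bijective at `L`) is integral over `A`. -/
theorem isIntegralElem_of_mem_M (hL : Function.Bijective (η.eta L)) (j : A →+* L)
    {x : η.N A} (hx : x ∈ η.M A) (y : L) (hy : η.eta L y = ev η j x) : j.IsIntegralElem y := by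
  apply isIntegralElem_of_forall_valuationSubring
  intro V hV
  obtain ⟨r, -, hr⟩ := exists_rep_of_mem_M η hL V (j.codRestrict V.toSubring hV) hx
  have h1 := hr L V.subtype
  have h2 : (V.subtype : V →+* L).comp (j.codRestrict V.toSubring hV) = j := by
    ext a; rfl
  rw [h2, ← hy] at h1
  have : y = V.subtype r := (η.eta L).injective h1
  rw [this]
  exact r.2

/-- The component of `x ∈ M A` at a prime `p` is integral over `A`. -/
theorem isIntegralElem_component {x : η.N A} (hx : x ∈ η.M A) (p : PrimeSpectrum A) :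
    ((η.eta p.asIdeal.ResidueField).comp (algebraMap A p.asIdeal.ResidueField)).IsIntegralElem
      (x p) := by
  apply isIntegralElem_of_mem_M η (eta_obj_bijective η p.asIdeal.ResidueField) _ hx
  rw [ev_eq_of η _ p (η.eta p.asIdeal.ResidueField) rfl x, eta_obj_eq]

end integrality

section bijective

variable {A B : Type u} [CommRing A] [CommRing B]

theorem comap_surjective_of_Nmap_injective (f : A →+* B) (h : Function.Injective (η.Nmap f)) :
    Function.Surjective (PrimeSpectrum.comap f) := by
  classical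
  intro P
  by_contra hP
  replace hP : ∀ q, PrimeSpectrum.comap f q ≠ P := fun q hq => hP ⟨q, hq⟩
  have hx : η.Nmap f (Pi.single P 1) = 0 := by
    funext q
    rw [Nmap_apply, Pi.single_eq_of_ne (hP q), map_zero]
    rfl
  have := h (hx.trans (map_zero _).symm)
  have h1 := congrFun this P
  rw [Pi.single_eq_same] at h1
  exact one_ne_zero h1

theorem comap_injective_of_Nmap_surjective (f : A →+* B) (h : Function.Surjective (η.Nmap f)) :
    Function.Injective (PrimeSpectrum.comap f) := by
  classical
  intro q q' hqq'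
  by_contra hne
  obtain ⟨x, hx⟩ := h (Pi.single q 1)
  have h1 := congrFun hx q
  have h2 := congrFun hx q'
  rw [Pi.single_eq_same, Nmap_apply] at h1
  rw [Pi.single_eq_of_ne (Ne.symm hne), Nmap_apply] at h2
  have h3 : x (PrimeSpectrum.comap f q') = 0 := by
    apply (η.map (Ideal.ResidueField.map (PrimeSpectrum.comap f q').asIdeal q'.asIdeal f rfl)).injective
    rw [h2, map_zero]
  rw [← hqq'] at h3
  rw [h3, map_zero] at h1
  exact zero_ne_one h1

theorem map_resMap_surjective_of_Nmap_surjective (f : A →+* B)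
    (h : Function.Surjective (η.Nmap f)) (q : PrimeSpectrum B) :
    Function.Surjective
      (η.map (Ideal.ResidueField.map (PrimeSpectrum.comap f q).asIdeal q.asIdeal f rfl)) := by
  classical
  intro z
  obtain ⟨x, hx⟩ := h (Pi.single q z)
  have h1 := congrFun hx q
  rw [Pi.single_eq_same, Nmap_apply] at h1
  exact ⟨_, h1⟩

theorem map_resMap_bijective_of_Nmap_surjective (f : A →+* B)
    (h : Function.Surjective (η.Nmap f)) (q : PrimeSpectrum B) :
    Function.Bijective
      (η.map (Ideal.ResidueField.map (PrimeSpectrum.comap f q).asIdeal q.asIdeal f rfl)) :=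
  ⟨(η.map _).injective, map_resMap_surjective_of_Nmap_surjective η f h q⟩

theorem Nmap_injective_of (f : A →+* B) (h1 : Function.Surjective (PrimeSpectrum.comap f)) :
    Function.Injective (η.Nmap f) := by
  intro x x' hxx'
  funext P
  obtain ⟨q, rfl⟩ := h1 P
  have := congrFun hxx' q
  rw [Nmap_apply, Nmap_apply] at this
  exact (η.map _).injective this

theorem Nmap_surjective_of (f : A →+* B) (h1 : Function.Bijective (PrimeSpectrum.comap f))
    (h2 : ∀ q : PrimeSpectrum B, Function.Surjective
      (η.map (Ideal.ResidueField.map (PrimeSpectrum.comap f q).asIdeal q.asIdeal f rfl))) :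
    Function.Surjective (η.Nmap f) := by
  intro y
  have key : ∀ P : PrimeSpectrum A, ∃ z : η.obj P.asIdeal.ResidueField,
      ∀ (q : PrimeSpectrum B) (ψ : P.asIdeal.ResidueField →+* q.asIdeal.ResidueField),
        ψ.comp (algebraMap A P.asIdeal.ResidueField) =
          (algebraMap B q.asIdeal.ResidueField).comp f → η.map ψ z = y q := by
    intro P
    obtain ⟨q₀, rfl⟩ := h1.2 P
    obtain ⟨z, hz⟩ := h2 q₀ (y q₀)
    refine ⟨z, fun q ψ hψ => ?_⟩
    have hq : q = q₀ := by
      apply h1.1
      apply PrimeSpectrum.ext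
      have e1 : (PrimeSpectrum.comap f q).asIdeal =
          RingHom.ker ((algebraMap B q.asIdeal.ResidueField).comp f) := by
        rw [← RingHom.comap_ker, Ideal.ker_algebraMap_residueField]; rfl
      have e2 : (PrimeSpectrum.comap f q₀).asIdeal =
          RingHom.ker (ψ.comp (algebraMap A (PrimeSpectrum.comap f q₀).asIdeal.ResidueField)) := by
        ext a
        rw [RingHom.mem_ker, RingHom.comp_apply, map_eq_zero,
          Ideal.algebraMap_residueField_eq_zero]
      rw [e1, e2, hψ]
    subst hq
    have : ψ = Ideal.ResidueField.map (PrimeSpectrum.comap f q).asIdeal q.asIdeal f rfl := by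
      apply Ideal.ResidueField.ringHom_ext
      rw [hψ]
      ext a
      simp only [RingHom.comp_apply, Ideal.ResidueField.map_algebraMap]
    rw [this, hz]
  choose x hx using key
  refine ⟨x, ?_⟩
  funext q
  rw [Nmap_apply]
  apply hx
  ext a
  simp only [RingHom.comp_apply, Ideal.ResidueField.map_algebraMap]

theorem Nmap_bijective_of (f : A →+* B) (h1 : Function.Bijective (PrimeSpectrum.comap f))
    (h2 : ∀ q : PrimeSpectrum B, Function.Surjective
      (η.map (Ideal.ResidueField.map (PrimeSpectrum.comap f q).asIdeal q.asIdeal f rfl))) :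
    Function.Bijective (η.Nmap f) :=
  ⟨Nmap_injective_of η f h1.2, Nmap_surjective_of η f h1 h2⟩

end bijective

section factor

variable {A B : Type u} [CommRing A] [CommRing B] {L : Type u} [Field L]

/-- The map `k(P) → L` induced by `j : A → L` with kernel `P`. -/
noncomputable def resLiftAt (j : A →+* L) (P : PrimeSpectrum A) (hP : RingHom.ker j = P.asIdeal) :
    P.asIdeal.ResidueField →+* L :=
  Ideal.ResidueField.lift P.asIdeal j hP.ge (by
    intro a ha
    have : j a ≠ 0 := fun h => ha (by rw [← hP]; exact h)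
    exact isUnit_iff_ne_zero.mpr this)

theorem resLiftAt_algebraMap (j : A →+* L) (P : PrimeSpectrum A) (hP : RingHom.ker j = P.asIdeal)
    (a : A) : resLiftAt j P hP (algebraMap A P.asIdeal.ResidueField a) = j a := by
  unfold resLiftAt
  exact Ideal.ResidueField.lift_algebraMap _ _ _ _ _

theorem resLiftAt_comp_algebraMap (j : A →+* L) (P : PrimeSpectrum A)
    (hP : RingHom.ker j = P.asIdeal) :
    (resLiftAt j P hP).comp (algebraMap A P.asIdeal.ResidueField) = j :=
  RingHom.ext (resLiftAt_algebraMap j P hP)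

/-- If `f : A → B` has `Nmap f` bijective and `η` is bijective at `L`, every `L`-point of `A`
extends to an `L`-point of `B`. -/
theorem exists_extend_point (f : A →+* B) (hN : Function.Bijective (η.Nmap f))
    (hL : Function.Bijective (η.eta L)) (j : A →+* L) :
    ∃ G : B →+* L, G.comp f = j := by
  obtain ⟨q, hq⟩ := comap_surjective_of_Nmap_injective η f hN.1 (kerPt j)
  have hker : RingHom.ker j = (PrimeSpectrum.comap f q).asIdeal := by rw [hq]; rfl
  let ι := Ideal.ResidueField.map (PrimeSpectrum.comap f q).asIdeal q.asIdeal f rfl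
  have hι : Function.Bijective (η.map ι) := map_resMap_bijective_of_Nmap_surjective η f hN.2 q
  let ψ := resLiftAt j (PrimeSpectrum.comap f q) hker
  let eL := RingEquiv.ofBijective (η.eta L) hL
  let eι := RingEquiv.ofBijective (η.map ι) hι
  let h : q.asIdeal.ResidueField →+* L :=
    (eL.symm : η.obj L →+* L).comp ((η.map ψ).comp
      ((eι.symm : η.obj q.asIdeal.ResidueField →+* _).comp (η.eta q.asIdeal.ResidueField)))
  refine ⟨h.comp (algebraMap B q.asIdeal.ResidueField), ?_⟩
  ext a
  simp only [RingHom.comp_apply, h]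
  have h1 : algebraMap B q.asIdeal.ResidueField (f a) =
      ι (algebraMap A (PrimeSpectrum.comap f q).asIdeal.ResidueField a) :=
    (Ideal.ResidueField.map_algebraMap _ _ f rfl a).symm
  rw [h1]
  have h2 := DFunLike.congr_fun (η.eta_natural ι)
    (algebraMap A (PrimeSpectrum.comap f q).asIdeal.ResidueField a)
  simp only [RingHom.comp_apply] at h2
  rw [← h2]
  have h3 : (eι.symm : η.obj q.asIdeal.ResidueField →+* _)
      (η.map ι (η.eta _ (algebraMap A (PrimeSpectrum.comap f q).asIdeal.ResidueField a))) =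
      η.eta _ (algebraMap A (PrimeSpectrum.comap f q).asIdeal.ResidueField a) :=
    eι.symm_apply_apply _
  rw [h3]
  have h4 := DFunLike.congr_fun (η.eta_natural ψ)
    (algebraMap A (PrimeSpectrum.comap f q).asIdeal.ResidueField a)
  simp only [RingHom.comp_apply] at h4
  rw [h4]
  have h5 : ψ (algebraMap A (PrimeSpectrum.comap f q).asIdeal.ResidueField a) = j a :=
    resLiftAt_algebraMap j _ hker a
  rw [h5]
  exact eL.symm_apply_apply _

/-- If moreover `f` is integral, every map from `A` to a valuation ring `R` with `η.InV R`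
factors through `f`. -/
theorem exists_factor_valuationRing (f : A →+* B) (hf : f.IsIntegral)
    (hN : Function.Bijective (η.Nmap f))
    (R : Type u) [CommRing R] [IsDomain R] [ValuationRing R] (hR : η.InV R) (g : A →+* R) :
    ∃ g' : B →+* R, g'.comp f = g := by
  obtain ⟨G, hG⟩ := exists_extend_point η f hN hR ((algebraMap R (FractionRing R)).comp g)
  have hinj : Function.Injective (algebraMap R (FractionRing R)) :=
    IsFractionRing.injective R (FractionRing R)
  have hmem : ∀ b : B, G b ∈ (algebraMap R (FractionRing R)).range := by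
    intro b
    obtain ⟨p, hp, hpb⟩ := hf b
    have hint : IsIntegral R (G b) := by
      refine ⟨p.map g, hp.map g, ?_⟩
      rw [Polynomial.eval₂_map, ← hG, ← Polynomial.hom_eval₂, hpb, map_zero]
    exact IsIntegrallyClosed.isIntegral_iff.mp hint
  let e : R ≃+* (algebraMap R (FractionRing R)).range :=
    RingEquiv.ofBijective (algebraMap R (FractionRing R)).rangeRestrict
      ⟨fun a b hab => hinj (congrArg Subtype.val hab), RingHom.rangeRestrict_surjective _⟩
  refine ⟨(e.symm : _ →+* R).comp (G.codRestrict _ hmem), ?_⟩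
  ext a
  apply hinj
  have h1 : algebraMap R (FractionRing R) (e.symm (G.codRestrict _ hmem (f a))) =
      (e (e.symm (G.codRestrict _ hmem (f a))) : FractionRing R) := rfl
  simp only [RingHom.comp_apply, RingEquiv.coe_toRingHom]
  rw [h1, e.apply_symm_apply]
  exact DFunLike.congr_fun hG a

theorem bijOn_Nmap_M (f : A →+* B) (hf : f.IsIntegral) (hN : Function.Bijective (η.Nmap f)) :
    Set.BijOn (η.Nmap f) (η.M A) (η.M B) := by
  refine ⟨fun x hx => Nmap_mem_M η f hx, hN.1.injOn, ?_⟩
  intro y hy
  obtain ⟨x, hx⟩ := hN.2 y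
  refine ⟨x, ?_, hx⟩
  intro R _ _ _ hR g
  obtain ⟨g', hg'⟩ := exists_factor_valuationRing η f hf hN R hR g
  rw [← hg', Nmap_comp_apply, hx]
  exact hy R hR g'

end factor

section MA

variable (A : Type u) [CommRing A]

theorem q_isIntegral (hA : (minimalPrimes A).Finite) : (η.q A).IsIntegral := by
  classical
  rintro ⟨x, hx⟩
  have h : ∀ p : PrimeSpectrum A, ∃ P : Polynomial A, P.Monic ∧
      Polynomial.eval₂ ((η.eta p.asIdeal.ResidueField).comp (algebraMap A p.asIdeal.ResidueField))
        (x p) P = 0 := fun p => isIntegralElem_component η hx p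
  choose Pp hmonic hev using h
  have hS : {p : PrimeSpectrum A | p.asIdeal ∈ minimalPrimes A}.Finite :=
    hA.preimage (fun p _ q _ hpq => PrimeSpectrum.ext hpq)
  refine ⟨∏ p ∈ hS.toFinset, Pp p, Polynomial.monic_prod_of_monic _ _ fun p _ => hmonic p, ?_⟩
  apply Subtype.ext
  have hval : ((Polynomial.eval₂ (η.q A) (⟨x, hx⟩ : η.M A) (∏ p ∈ hS.toFinset, Pp p) : η.M A) : η.N A) =
      Polynomial.eval₂ (η.t A) x (∏ p ∈ hS.toFinset, Pp p) := by
    rw [← Subring.coe_subtype, Polynomial.hom_eval₂]
    rfl
  rw [hval]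
  change _ = (0 : η.N A)
  apply eq_zero_of_minimalPrimes η
  · rw [← hval]
    exact Subtype.property _
  · intro p hp
    have h1 : (Polynomial.eval₂ (η.t A) x (∏ p ∈ hS.toFinset, Pp p)) p =
        Polynomial.eval₂ ((η.eta p.asIdeal.ResidueField).comp (algebraMap A p.asIdeal.ResidueField))
          (x p) (∏ p ∈ hS.toFinset, Pp p) := by
      have := Polynomial.hom_eval₂ (∏ p ∈ hS.toFinset, Pp p) (η.t A)
        (Pi.evalRingHom (fun p : PrimeSpectrum A => η.obj p.asIdeal.ResidueField) p) x
      exact this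
    rw [h1, Polynomial.eval₂_finsetProd]
    exact Finset.prod_eq_zero (hS.mem_toFinset.mpr hp) (hev p)

/-- The projection `M A → F(k(P))`. -/
noncomputable def proj (P : PrimeSpectrum A) : η.M A →+* η.obj P.asIdeal.ResidueField :=
  (Pi.evalRingHom (fun p : PrimeSpectrum A => η.obj p.asIdeal.ResidueField) P).comp (η.M A).subtype

theorem proj_apply (P : PrimeSpectrum A) (b : η.M A) : proj η A P b = (b : η.N A) P := rfl

theorem proj_comp_q (P : PrimeSpectrum A) :
    (proj η A P).comp (η.q A) =
      (η.eta P.asIdeal.ResidueField).comp (algebraMap A P.asIdeal.ResidueField) := rfl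

/-- The canonical section `Spec A → Spec (M A)`. -/
noncomputable def sec (P : PrimeSpectrum A) : PrimeSpectrum (η.M A) := kerPt (proj η A P)

theorem mem_sec_iff (P : PrimeSpectrum A) (b : η.M A) :
    b ∈ (sec η A P).asIdeal ↔ (b : η.N A) P = 0 := by
  rw [sec, kerPt_asIdeal, RingHom.mem_ker, proj_apply]

theorem comap_q_sec (P : PrimeSpectrum A) : PrimeSpectrum.comap (η.q A) (sec η A P) = P := by
  apply PrimeSpectrum.ext
  ext a
  rw [PrimeSpectrum.comap_asIdeal, Ideal.mem_comap, mem_sec_iff]
  change η.eta _ (algebraMap A P.asIdeal.ResidueField a) = 0 ↔ _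
  rw [map_eq_zero, Ideal.algebraMap_residueField_eq_zero]

/-- With finitely many minimal primes every prime of `M A` is `sec` of its contraction. -/
theorem eq_sec_comap (hA : (minimalPrimes A).Finite) (Q : PrimeSpectrum (η.M A)) :
    Q = sec η A (PrimeSpectrum.comap (η.q A) Q) := by
  classical
  have hS : {p : PrimeSpectrum A | p.asIdeal ∈ minimalPrimes A}.Finite :=
    hA.preimage (fun p _ q _ hpq => PrimeSpectrum.ext hpq)
  -- step 1: `Q` contains `sec p` for a minimal prime `p`
  have h1 : hS.toFinset.inf (fun p => (sec η A p).asIdeal) ≤ Q.asIdeal := by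
    intro b hb
    rw [Submodule.mem_finsetInf] at hb
    have : (b : η.N A) = 0 := by
      apply eq_zero_of_minimalPrimes η b.2
      intro p hp
      exact (mem_sec_iff η A p b).mp (hb p (hS.mem_toFinset.mpr hp))
    have hb0 : b = 0 := Subtype.ext this
    rw [hb0]
    exact Q.asIdeal.zero_mem
  obtain ⟨p, -, hpQ⟩ := (Ideal.IsPrime.inf_le' Q.2).mp h1
  -- step 2: `Q ≤ sec (comap q Q)`
  set P := PrimeSpectrum.comap (η.q A) Q with hPdef
  have h2 : Q.asIdeal ≤ (sec η A P).asIdeal := by
    obtain ⟨V, h, hh, hmax⟩ := exists_valuationSubring_of_le (proj η A p) Q hpQ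
    intro b hb
    obtain ⟨r, -, hr⟩ := exists_rep_of_mem_M η (eta_obj_bijective η p.asIdeal.ResidueField) V
      (h.comp (η.q A)) b.2
    have e1 := hr _ V.subtype
    rw [← RingHom.comp_assoc, hh, proj_comp_q,
      ev_eq_of η _ p (η.eta p.asIdeal.ResidueField) rfl (b : η.N A), ← eta_obj_eq] at e1
    have e2 : (b : η.N A) p = V.subtype r := (η.eta _).injective e1
    have e3 : h b = r := by
      apply Subtype.ext
      rw [← V.subtype_apply, ← V.subtype_apply, ← e2]
      exact DFunLike.congr_fun hh b
    have e4 := hr _ (algebraMap V (IsLocalRing.maximalIdeal V).ResidueField)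
    have hbm : h b ∈ IsLocalRing.maximalIdeal V := by
      have : b ∈ (IsLocalRing.maximalIdeal V).comap h := by rw [hmax]; exact hb
      exact this
    rw [← e3, Ideal.algebraMap_residueField_eq_zero.mpr hbm, map_zero] at e4
    rw [mem_sec_iff]
    refine (ev_eq_zero_iff η _ P ?_ _).mp e4
    rw [hPdef, PrimeSpectrum.comap_asIdeal, ← hmax, Ideal.comap_comap, ← RingHom.comap_ker,
      Ideal.ker_algebraMap_residueField]
  -- step 3: incomparability
  by_contra hne
  have hlt : Q.asIdeal < (sec η A P).asIdeal :=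
    lt_of_le_of_ne h2 fun h => hne (PrimeSpectrum.ext h)
  obtain ⟨b, hbs, hbQ⟩ := SetLike.exists_of_lt hlt
  let _ : Algebra A (η.M A) := (η.q A).toAlgebra
  have hint : IsIntegral A b := q_isIntegral η A hA b
  have := Ideal.comap_lt_comap_of_integral_mem_sdiff h2 ⟨hbs, hbQ⟩ hint
  have e5 : (sec η A P).asIdeal.comap (algebraMap A (η.M A)) = P.asIdeal :=
    congrArg PrimeSpectrum.asIdeal (comap_q_sec η A P)
  have e6 : Q.asIdeal.comap (algebraMap A (η.M A)) = P.asIdeal := rfl
  rw [e5, e6] at this
  exact lt_irrefl _ this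

theorem comap_q_bijective (hA : (minimalPrimes A).Finite) :
    Function.Bijective (PrimeSpectrum.comap (η.q A)) := by
  constructor
  · intro Q Q' h
    rw [eq_sec_comap η A hA Q, eq_sec_comap η A hA Q', h]
  · intro P
    exact ⟨sec η A P, comap_q_sec η A P⟩

/-- The residue field of `M A` at `Q` embeds in `F(k(P))`, `P = Q ∩ A`, compatibly with `η`. -/
theorem exists_residue_factor (hA : (minimalPrimes A).Finite) (Q : PrimeSpectrum (η.M A)) :
    ∃ φ : Q.asIdeal.ResidueField →+* η.obj (PrimeSpectrum.comap (η.q A) Q).asIdeal.ResidueField,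
      φ.comp (Ideal.ResidueField.map (PrimeSpectrum.comap (η.q A) Q).asIdeal Q.asIdeal (η.q A) rfl) =
        η.eta (PrimeSpectrum.comap (η.q A) Q).asIdeal.ResidueField ∧
      φ.comp (algebraMap (η.M A) Q.asIdeal.ResidueField) =
        proj η A (PrimeSpectrum.comap (η.q A) Q) := by
  have hker : RingHom.ker (proj η A (PrimeSpectrum.comap (η.q A) Q)) = Q.asIdeal := by
    conv_rhs => rw [eq_sec_comap η A hA Q]
    rfl
  refine ⟨resLiftAt (proj η A (PrimeSpectrum.comap (η.q A) Q)) Q hker, ?_,
    resLiftAt_comp_algebraMap _ _ _⟩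
  apply Ideal.ResidueField.ringHom_ext
  ext a
  simp only [RingHom.comp_apply, Ideal.ResidueField.map_algebraMap, resLiftAt_algebraMap]
  rfl

theorem Nmap_q_bijective (hA : (minimalPrimes A).Finite) :
    Function.Bijective (η.Nmap (η.q A)) := by
  apply Nmap_bijective_of η _ (comap_q_bijective η A hA)
  intro Q z
  obtain ⟨φ, h1, -⟩ := exists_residue_factor η A hA Q
  have h2 := η.map_comp (Ideal.ResidueField.map (PrimeSpectrum.comap (η.q A) Q).asIdeal Q.asIdeal
    (η.q A) rfl) φ
  rw [h1] at h2
  obtain ⟨w, hw⟩ := (η.bijective_map_eta _).2 (η.map φ z)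
  refine ⟨w, (η.map φ).injective ?_⟩
  rw [← hw, h2]
  rfl

theorem Nmap_q_eq_t (hA : (minimalPrimes A).Finite) (x : η.M A) :
    η.Nmap (η.q A) (x : η.N A) = η.t (η.M A) x := by
  apply N_ext
  intro Q
  obtain ⟨φ, -, h2⟩ := exists_residue_factor η A hA Q
  apply (η.map φ).injective
  rw [ev_Nmap, ev_t, ← ev_comp, ← RingHom.comp_assoc, h2, proj_comp_q,
    ev_eq_of η _ (PrimeSpectrum.comap (η.q A) Q) (η.eta _) rfl (x : η.N A), ← eta_obj_eq]
  have h3 := DFunLike.congr_fun (η.eta_natural φ) (algebraMap (η.M A) Q.asIdeal.ResidueField x)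
  simp only [RingHom.comp_apply] at h3
  rw [h3]
  congr 1
  exact (DFunLike.congr_fun h2 x).symm

theorem q_M_bijective (hA : (minimalPrimes A).Finite) : Function.Bijective (η.q (η.M A)) := by
  have hb := bijOn_Nmap_M η (η.q A) (q_isIntegral η A hA) (Nmap_q_bijective η A hA)
  constructor
  · intro x x' hxx'
    have h1 : η.t (η.M A) x = η.t (η.M A) x' := congrArg Subtype.val hxx'
    rw [← Nmap_q_eq_t η A hA, ← Nmap_q_eq_t η A hA] at h1
    exact Subtype.ext ((Nmap_q_bijective η A hA).1 h1)
  · rintro ⟨y, hy⟩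
    obtain ⟨x, hx, hxy⟩ := hb.surjOn hy
    refine ⟨⟨x, hx⟩, Subtype.ext ?_⟩
    change η.t (η.M A) ⟨x, hx⟩ = y
    rw [← Nmap_q_eq_t η A hA]
    exact hxy

end MA

section universal

variable {A B : Type u} [CommRing A] [CommRing B]

theorem t_injective_of_isReduced (B : Type u) [CommRing B] [IsReduced B] :
    Function.Injective (η.t B) := by
  rw [injective_iff_map_eq_zero]
  intro c hc
  have hmem : c ∈ nilradical B := by
    rw [nilradical_eq_sInf, Ideal.mem_sInf]
    intro J hJ
    have hJ' : J.IsPrime := hJ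
    have := congrFun hc ⟨J, hJ'⟩
    rw [t_apply] at this
    have h0 : algebraMap B J.ResidueField c = 0 := (η.eta _).injective (by rw [this]; simp)
    exact Ideal.algebraMap_residueField_eq_zero.mp h0
  rw [nilradical_eq_zero] at hmem
  exact hmem

/-- Any `g'' : B → M A` over `A` is computed by the inverse of `Nmap g`. -/
theorem Nmap_lift_eq_t (g : A →+* B) (hN : Function.Bijective (η.Nmap g))
    (g'' : B →+* η.M A) (hg'' : g''.comp g = η.q A) (b : B) :
    η.Nmap g (g'' b : η.N A) = η.t B b := by
  apply N_ext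
  intro Q
  rw [ev_Nmap, ev_t]
  set P := PrimeSpectrum.comap g Q with hP
  let β : B →+* η.obj P.asIdeal.ResidueField := (proj η A P).comp g''
  have hβg : β.comp g = (η.eta P.asIdeal.ResidueField).comp (algebraMap A P.asIdeal.ResidueField) := by
    rw [RingHom.comp_assoc, hg'', proj_comp_q]
  have hkerβ : RingHom.ker β = Q.asIdeal := by
    have h1 : PrimeSpectrum.comap g (kerPt β) = PrimeSpectrum.comap g Q := by
      apply PrimeSpectrum.ext
      rw [PrimeSpectrum.comap_asIdeal, kerPt_asIdeal, RingHom.comap_ker, hβg]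
      ext a
      rw [RingHom.mem_ker, RingHom.comp_apply, map_eq_zero, Ideal.algebraMap_residueField_eq_zero]
    have := comap_injective_of_Nmap_surjective η g hN.2 h1
    rw [← this]; rfl
  let βbar := resLiftAt β Q hkerβ
  let ι := Ideal.ResidueField.map P.asIdeal Q.asIdeal g rfl
  have hβι : βbar.comp ι = η.eta P.asIdeal.ResidueField := by
    apply Ideal.ResidueField.ringHom_ext
    ext a
    simp only [RingHom.comp_apply, ι, βbar, Ideal.ResidueField.map_algebraMap, resLiftAt_algebraMap]
    exact DFunLike.congr_fun hβg a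
  apply (η.map βbar).injective
  rw [ev_eq_of η _ P ι (by ext a; simp [ι]) (g'' b : η.N A), ← RingHom.comp_apply, ← η.map_comp, hβι,
    ← eta_obj_eq]
  have h3 := DFunLike.congr_fun (η.eta_natural βbar) (algebraMap B Q.asIdeal.ResidueField b)
  simp only [RingHom.comp_apply] at h3
  rw [h3, resLiftAt_algebraMap]
  rfl

theorem existsUnique_lift (g : A →+* B) (hg : g.IsIntegral) (hN : Function.Bijective (η.Nmap g)) :
    ∃! g' : B →+* η.M A, g'.comp g = η.q A := by
  let e := RingEquiv.ofBijective (η.Nmap g) hN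
  have hmem : ∀ b : B, ((e.symm : η.N B →+* η.N A).comp (η.t B)) b ∈ η.M A := by
    intro b
    obtain ⟨x, hx, hxb⟩ := (bijOn_Nmap_M η g hg hN).surjOn (η.t_mem_M B b)
    have : e.symm (η.t B b) = x := by
      rw [← hxb]
      exact e.symm_apply_apply x
    change e.symm (η.t B b) ∈ η.M A
    rw [this]
    exact hx
  refine ⟨((e.symm : η.N B →+* η.N A).comp (η.t B)).codRestrict (η.M A) hmem, ?_, ?_⟩
  · refine RingHom.ext fun a => ?_
    apply Subtype.ext
    change e.symm (η.t B (g a)) = η.t A a
    rw [← η.Nmap_t_apply g a]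
    exact e.symm_apply_apply _
  · intro g'' hg''
    refine RingHom.ext fun b => ?_
    apply Subtype.ext
    change (g'' b : η.N A) = e.symm (η.t B b)
    rw [← Nmap_lift_eq_t η g hN g'' hg'' b]
    exact (e.symm_apply_apply _).symm

theorem bijective_of_isIntegral_of_reduced (hA : (minimalPrimes A).Finite) [IsReduced B]
    (f : η.M A →+* B) (hf : f.IsIntegral) (hN : Function.Bijective (η.Nmap f)) :
    Function.Bijective f := by
  constructor
  · rw [injective_iff_map_eq_zero]
    intro x hx
    apply Subtype.ext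
    funext P
    obtain ⟨Q', hQ'⟩ := comap_surjective_of_Nmap_injective η f hN.1 (sec η A P)
    change (x : η.N A) P = 0
    rw [← mem_sec_iff, ← hQ', PrimeSpectrum.comap_asIdeal, Ideal.mem_comap, hx]
    exact Q'.asIdeal.zero_mem
  · intro b
    have hh : (f.comp (η.q A)).IsIntegral := RingHom.IsIntegral.trans _ _ (q_isIntegral η A hA) hf
    have hNh : Function.Bijective (η.Nmap (f.comp (η.q A))) := by
      rw [Nmap_comp]
      exact hN.comp (Nmap_q_bijective η A hA)
    obtain ⟨x, hx, hxb⟩ := (bijOn_Nmap_M η _ hh hNh).surjOn (η.t_mem_M B b)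
    refine ⟨⟨x, hx⟩, ?_⟩
    apply t_injective_of_isReduced η B
    rw [← η.Nmap_t_apply f, ← Nmap_q_eq_t η A hA, ← Nmap_comp_apply]
    exact hxb

end universal

section descent

open TensorProduct

/-- Extension of field-valued points along a map with surjective `Spec`. -/
theorem exists_extend_point_of_surjective {A B : Type u} [CommRing A] [CommRing B] {L : Type u} [Field L]
    (f : A →+* B) (hs : Function.Surjective (PrimeSpectrum.comap f)) (j : A →+* L) :
    ∃ (Ω : Type u) (_ : Field Ω) (i : L →+* Ω) (J : B →+* Ω), J.comp f = i.comp j := by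
  obtain ⟨q, hq⟩ := hs (kerPt j)
  have hker : RingHom.ker j = (PrimeSpectrum.comap f q).asIdeal := by rw [hq]; rfl
  let k := (PrimeSpectrum.comap f q).asIdeal.ResidueField
  let ψ : k →+* L := resLiftAt j (PrimeSpectrum.comap f q) hker
  let ι : k →+* q.asIdeal.ResidueField :=
    Ideal.ResidueField.map (PrimeSpectrum.comap f q).asIdeal q.asIdeal f rfl
  let _ : Algebra k L := ψ.toAlgebra
  let _ : Algebra k q.asIdeal.ResidueField := ι.toAlgebra
  have : Nontrivial (L ⊗[k] q.asIdeal.ResidueField) :=
    Algebra.TensorProduct.nontrivial_of_algebraMap_injective_of_flat_left L q.asIdeal.ResidueField (R := k) ι.injective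
  obtain ⟨m, hm⟩ := Ideal.exists_maximal (L ⊗[k] q.asIdeal.ResidueField)
  let _ : Field ((L ⊗[k] q.asIdeal.ResidueField) ⧸ m) := Ideal.Quotient.field m
  refine ⟨(L ⊗[k] q.asIdeal.ResidueField) ⧸ m, inferInstance,
    (Ideal.Quotient.mk m).comp (Algebra.TensorProduct.includeLeftRingHom),
    ((Ideal.Quotient.mk m).comp
      (Algebra.TensorProduct.includeRight (R := k) (A := L) (B := q.asIdeal.ResidueField)).toRingHom).comp
      (algebraMap B q.asIdeal.ResidueField), ?_⟩
  ext a
  simp only [RingHom.comp_apply]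
  congr 1
  have h1 : algebraMap B q.asIdeal.ResidueField (f a) = ι (algebraMap A k a) :=
    (Ideal.ResidueField.map_algebraMap _ _ f rfl a).symm
  have h2 : j a = ψ (algebraMap A k a) := (resLiftAt_algebraMap j _ hker a).symm
  rw [h1, h2]
  change (1 : L) ⊗ₜ[k] (algebraMap k q.asIdeal.ResidueField (algebraMap A k a)) =
    (algebraMap k L (algebraMap A k a)) ⊗ₜ[k] (1 : q.asIdeal.ResidueField)
  rw [Algebra.algebraMap_eq_smul_one, Algebra.algebraMap_eq_smul_one (A := L), TensorProduct.tmul_smul,
    TensorProduct.smul_tmul']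

theorem mem_M_of_Nmap_mem_M {A B : Type u} [CommRing A] [CommRing B] (f : A →+* B)
    (hf : f.IsIntegral) (hs : Function.Surjective (PrimeSpectrum.comap f)) (x : η.N A)
    (h : η.Nmap f x ∈ η.M B) : x ∈ η.M A := by
  intro R _ _ _ hR g
  have haL : Function.Injective (algebraMap R (FractionRing R)) :=
    IsFractionRing.injective R (FractionRing R)
  obtain ⟨Ω, _, i, J, hJ⟩ :=
    exists_extend_point_of_surjective f hs ((algebraMap R (FractionRing R)).comp g)
  let i'' : FractionRing R →+* η.obj Ω := (η.eta Ω).comp i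
  let J'' : B →+* η.obj Ω := (η.eta Ω).comp J
  have hJ'' : J''.comp f = (i''.comp (algebraMap R (FractionRing R))).comp g := by
    simp only [J'', i'']
    rw [RingHom.comp_assoc, hJ]
    rfl
  have hL'' : Function.Bijective (η.eta (η.obj Ω)) := eta_obj_bijective η Ω
  obtain ⟨c, hc⟩ := hR.2 (ev η (algebraMap R (FractionRing R)) (η.Nmap g x))
  have key : ∀ 𝔮 : PrimeSpectrum R, ∃ (V : ValuationSubring (η.obj Ω)) (ρ : R →+* V) (r'' : V),
      (V.subtype : V →+* η.obj Ω).comp ρ = i''.comp (algebraMap R (FractionRing R)) ∧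
      (IsLocalRing.maximalIdeal V).comap ρ = 𝔮.asIdeal ∧ i'' c = V.subtype r'' ∧
      ev η ((algebraMap V (IsLocalRing.maximalIdeal V).ResidueField).comp ρ) (η.Nmap g x) =
        η.eta _ (algebraMap V (IsLocalRing.maximalIdeal V).ResidueField r'') := by
    intro 𝔮
    have hker : RingHom.ker (i''.comp (algebraMap R (FractionRing R))) ≤ 𝔮.asIdeal := by
      have : RingHom.ker (i''.comp (algebraMap R (FractionRing R))) = ⊥ :=
        (RingHom.injective_iff_ker_eq_bot _).mp (i''.injective.comp haL)
      rw [this]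
      exact bot_le
    obtain ⟨V, ρ, hρ, hmax⟩ :=
      exists_valuationSubring_of_le (i''.comp (algebraMap R (FractionRing R))) 𝔮 hker
    have hmem : ∀ b : B, J'' b ∈ V.toSubring := by
      intro b
      obtain ⟨p, hp, hpb⟩ := hf b
      have hint : IsIntegral V (J'' b) := by
        refine ⟨p.map (ρ.comp g), hp.map _, ?_⟩
        rw [Polynomial.eval₂_map]
        have : (algebraMap V (η.obj Ω)).comp (ρ.comp g) = J''.comp f := by
          rw [hJ'', ← RingHom.comp_assoc]
          congr 1
        rw [this, ← Polynomial.hom_eval₂, hpb, map_zero]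
      obtain ⟨v, hv⟩ := IsIntegrallyClosed.isIntegral_iff.mp hint
      rw [← hv]
      exact v.2
    let G : B →+* V := J''.codRestrict V.toSubring hmem
    have hG : G.comp f = ρ.comp g := by
      refine RingHom.ext fun a => Subtype.ext ?_
      have e1 : ((G.comp f) a : η.obj Ω) = (J''.comp f) a := rfl
      have e2 : ((ρ.comp g) a : η.obj Ω) = ((V.subtype : V →+* η.obj Ω).comp ρ) (g a) := rfl
      rw [e1, e2, hρ, hJ'']
      rfl
    obtain ⟨r'', -, hr''⟩ := exists_rep_of_mem_M η hL'' V G h
    refine ⟨V, ρ, r'', hρ, hmax, ?_, ?_⟩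
    · have e1 := hr'' (η.obj Ω) V.subtype
      rw [ev_Nmap, RingHom.comp_assoc, hG, ← RingHom.comp_assoc, hρ, ← ev_Nmap, ev_comp, ← hc] at e1
      have e2 := DFunLike.congr_fun (η.eta_natural i'') c
      simp only [RingHom.comp_apply] at e2
      rw [e2] at e1
      exact (η.eta (η.obj Ω)).injective e1
    · have e1 := hr'' _ (algebraMap V (IsLocalRing.maximalIdeal V).ResidueField)
      rw [ev_Nmap, RingHom.comp_assoc, hG, ← RingHom.comp_assoc, ← ev_Nmap] at e1
      exact e1
  obtain ⟨r, hr⟩ : ∃ r : R, algebraMap R (FractionRing R) r = c := by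
    by_cases hc0 : c = 0
    · exact ⟨0, by rw [map_zero, hc0]⟩
    obtain ⟨V, ρ, r'', hρ, hmax, hcr, -⟩ := key (IsLocalRing.closedPoint R)
    rcases ValuationRing.isInteger_or_isInteger R c with ⟨r, hr⟩ | ⟨s, hs'⟩
    · exact ⟨r, hr⟩
    · by_cases hsu : IsUnit s
      · obtain ⟨u, rfl⟩ := hsu
        refine ⟨((u⁻¹ : Rˣ) : R), ?_⟩
        have h1 : algebraMap R (FractionRing R) (u : R) * algebraMap R (FractionRing R) ((u⁻¹ : Rˣ) : R) = 1 := by
          rw [← map_mul, Units.mul_inv, map_one]
        rw [hs'] at h1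
        field_simp at h1
        exact h1
      · exfalso
        have h1 : s ∈ (IsLocalRing.maximalIdeal V).comap ρ := by
          rw [hmax]
          exact hsu
        have h2 : ¬ IsUnit (ρ s) := h1
        apply h2
        refine isUnit_iff_exists_inv.mpr ⟨r'', Subtype.ext ?_⟩
        have e1 : ((ρ s * r'' : V) : η.obj Ω) = ((V.subtype : V →+* η.obj Ω).comp ρ) s * V.subtype r'' := rfl
        rw [e1, hρ, ← hcr, RingHom.comp_apply, hs', ← map_mul, inv_mul_cancel₀ hc0, map_one]
        rfl
  refine ⟨r, ?_⟩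
  funext 𝔮
  obtain ⟨V, ρ, r'', hρ, hmax, hcr, hev⟩ := key 𝔮
  have hρr : ρ r = r'' := by
    apply Subtype.ext
    have e1 : ((ρ r : V) : η.obj Ω) = ((V.subtype : V →+* η.obj Ω).comp ρ) r := rfl
    rw [e1, hρ, RingHom.comp_apply, hr, hcr]
    rfl
  have hkerq : RingHom.ker ((algebraMap V (IsLocalRing.maximalIdeal V).ResidueField).comp ρ) =
      𝔮.asIdeal := by
    rw [← RingHom.comap_ker, Ideal.ker_algebraMap_residueField, hmax]
  refine (ev_eq_ev_iff η _ 𝔮 hkerq (η.t R r) (η.Nmap g x)).mp ?_
  rw [ev_t, hev, RingHom.comp_apply, hρr]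

end descent

section general

variable {A C : Type u} [CommRing A] [CommRing C]

theorem isNilpotent_of_t_eq_zero (B : Type u) [CommRing B] (c : B) (hc : η.t B c = 0) :
    IsNilpotent c := by
  rw [nilpotent_iff_mem_prime]
  intro J hJ
  have := congrFun hc ⟨J, hJ⟩
  rw [t_apply] at this
  have h0 : algebraMap B J.ResidueField c = 0 := (η.eta _).injective (by rw [this]; simp)
  exact Ideal.algebraMap_residueField_eq_zero.mp h0

/-- General form of `eq_sec_comap`: primes of a ring `C` mapping to `M A` compatibly. -/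
theorem ker_proj_comp_eq (hA : (minimalPrimes A).Finite) (κ : A →+* C) (lam : C →+* η.M A)
    (hlam : lam.comp κ = η.q A) (hκ : κ.IsIntegral) (hnil : ∀ c, lam c = 0 → IsNilpotent c)
    (Q : PrimeSpectrum C) :
    RingHom.ker ((proj η A (PrimeSpectrum.comap κ Q)).comp lam) = Q.asIdeal := by
  classical
  have hS : {p : PrimeSpectrum A | p.asIdeal ∈ minimalPrimes A}.Finite :=
    hA.preimage (fun p _ q _ hpq => PrimeSpectrum.ext hpq)
  have h1 : hS.toFinset.inf (fun p => RingHom.ker ((proj η A p).comp lam)) ≤ Q.asIdeal := by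
    intro c hc
    rw [Submodule.mem_finsetInf] at hc
    have : ((lam c : η.M A) : η.N A) = 0 := by
      apply eq_zero_of_minimalPrimes η (lam c).2
      intro p hp
      exact hc p (hS.mem_toFinset.mpr hp)
    have hc0 : lam c = 0 := Subtype.ext this
    exact (nilpotent_iff_mem_prime.mp (hnil c hc0)) Q.asIdeal Q.2
  obtain ⟨p, -, hpQ⟩ := (Ideal.IsPrime.inf_le' Q.2).mp h1
  set P := PrimeSpectrum.comap κ Q with hPdef
  have hjκ : ∀ P' : PrimeSpectrum A, ((proj η A P').comp lam).comp κ =
      (η.eta P'.asIdeal.ResidueField).comp (algebraMap A P'.asIdeal.ResidueField) := by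
    intro P'
    rw [RingHom.comp_assoc, hlam, proj_comp_q]
  have h2 : Q.asIdeal ≤ RingHom.ker ((proj η A P).comp lam) := by
    obtain ⟨V, h, hh, hmax⟩ := exists_valuationSubring_of_le ((proj η A p).comp lam) Q hpQ
    intro c hc
    obtain ⟨r, -, hr⟩ := exists_rep_of_mem_M η (eta_obj_bijective η p.asIdeal.ResidueField) V
      (h.comp κ) (lam c).2
    have e1 := hr _ V.subtype
    rw [← RingHom.comp_assoc, hh, hjκ,
      ev_eq_of η _ p (η.eta p.asIdeal.ResidueField) rfl (lam c : η.N A), ← eta_obj_eq] at e1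
    have e2 : (lam c : η.N A) p = V.subtype r := (η.eta _).injective e1
    have e3 : h c = r := by
      apply Subtype.ext
      rw [← V.subtype_apply, ← V.subtype_apply, ← e2]
      exact DFunLike.congr_fun hh c
    have e4 := hr _ (algebraMap V (IsLocalRing.maximalIdeal V).ResidueField)
    have hcm : h c ∈ IsLocalRing.maximalIdeal V := by
      have : c ∈ (IsLocalRing.maximalIdeal V).comap h := by rw [hmax]; exact hc
      exact this
    rw [← e3, Ideal.algebraMap_residueField_eq_zero.mpr hcm, map_zero] at e4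
    rw [RingHom.mem_ker, RingHom.comp_apply, proj_apply]
    refine (ev_eq_zero_iff η _ P ?_ _).mp e4
    rw [hPdef, PrimeSpectrum.comap_asIdeal, ← hmax, Ideal.comap_comap, ← RingHom.comap_ker,
      Ideal.ker_algebraMap_residueField]
  by_contra hne
  have hlt : Q.asIdeal < RingHom.ker ((proj η A P).comp lam) :=
    lt_of_le_of_ne h2 fun h => hne h.symm
  obtain ⟨c, hcs, hcQ⟩ := SetLike.exists_of_lt hlt
  let _ : Algebra A C := κ.toAlgebra
  have hint : IsIntegral A c := hκ c
  have := Ideal.comap_lt_comap_of_integral_mem_sdiff h2 ⟨hcs, hcQ⟩ hint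
  have e5 : (RingHom.ker ((proj η A P).comp lam)).comap (algebraMap A C) = P.asIdeal := by
    change (RingHom.ker ((proj η A P).comp lam)).comap κ = P.asIdeal
    rw [RingHom.comap_ker, hjκ]
    ext a
    rw [RingHom.mem_ker, RingHom.comp_apply, map_eq_zero, Ideal.algebraMap_residueField_eq_zero]
  have e6 : Q.asIdeal.comap (algebraMap A C) = P.asIdeal := rfl
  rw [e5, e6] at this
  exact lt_irrefl _ this

theorem comap_injective_of_lift (hA : (minimalPrimes A).Finite) (κ : A →+* C) (lam : C →+* η.M A)
    (hlam : lam.comp κ = η.q A) (hκ : κ.IsIntegral) (hnil : ∀ c, lam c = 0 → IsNilpotent c) :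
    Function.Injective (PrimeSpectrum.comap κ) := by
  intro Q Q' hQQ'
  apply PrimeSpectrum.ext
  rw [← ker_proj_comp_eq η hA κ lam hlam hκ hnil Q, ← ker_proj_comp_eq η hA κ lam hlam hκ hnil Q', hQQ']

theorem exists_residue_factor_of_lift (hA : (minimalPrimes A).Finite) (κ : A →+* C)
    (lam : C →+* η.M A) (hlam : lam.comp κ = η.q A) (hκ : κ.IsIntegral)
    (hnil : ∀ c, lam c = 0 → IsNilpotent c) (Q : PrimeSpectrum C) :
    ∃ φ : Q.asIdeal.ResidueField →+* η.obj (PrimeSpectrum.comap κ Q).asIdeal.ResidueField,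
      φ.comp (Ideal.ResidueField.map (PrimeSpectrum.comap κ Q).asIdeal Q.asIdeal κ rfl) =
        η.eta (PrimeSpectrum.comap κ Q).asIdeal.ResidueField := by
  refine ⟨resLiftAt _ Q (ker_proj_comp_eq η hA κ lam hlam hκ hnil Q), ?_⟩
  apply Ideal.ResidueField.ringHom_ext
  ext a
  simp only [RingHom.comp_apply, Ideal.ResidueField.map_algebraMap, resLiftAt_algebraMap]
  have := DFunLike.congr_fun hlam a
  simp only [RingHom.comp_apply] at this
  rw [this]
  rfl

theorem Nmap_surjective_of_residue_factor {A C : Type u} [CommRing A] [CommRing C] (κ : A →+* C)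
    (h1 : Function.Bijective (PrimeSpectrum.comap κ))
    (h2 : ∀ Q : PrimeSpectrum C,
      ∃ φ : Q.asIdeal.ResidueField →+* η.obj (PrimeSpectrum.comap κ Q).asIdeal.ResidueField,
      φ.comp (Ideal.ResidueField.map (PrimeSpectrum.comap κ Q).asIdeal Q.asIdeal κ rfl) =
        η.eta (PrimeSpectrum.comap κ Q).asIdeal.ResidueField) :
    Function.Bijective (η.Nmap κ) := by
  apply Nmap_bijective_of η _ h1
  intro Q z
  obtain ⟨φ, h1⟩ := h2 Q
  have h2 := η.map_comp (Ideal.ResidueField.map (PrimeSpectrum.comap κ Q).asIdeal Q.asIdeal κ rfl) φ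
  rw [h1] at h2
  obtain ⟨w, hw⟩ := (η.bijective_map_eta _).2 (η.map φ z)
  refine ⟨w, (η.map φ).injective ?_⟩
  rw [← hw, h2]
  rfl

end general

section rel

variable {A B : Type u} [CommRing A] [CommRing B]

/-- For `f` with `Nmap f` injective, the canonical map `rel f → M A`. -/
noncomputable def relLift (f : A →+* B) (hinj : Function.Injective (η.Nmap f)) : η.rel f →+* η.M A :=
  (((η.M A).equivMapOfInjective (η.Nmap f) hinj).symm : _ →+* η.M A).comp
    (((η.t B).comp (η.rel f).subtype).codRestrict ((η.M A).map (η.Nmap f)) (fun b => b.2))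

theorem Nmap_relLift (f : A →+* B) (hinj : Function.Injective (η.Nmap f)) (b : η.rel f) :
    η.Nmap f (relLift η f hinj b : η.N A) = η.t B b := by
  have h1 := Subring.coe_equivMapOfInjective_apply (η.M A) (η.Nmap f) hinj (relLift η f hinj b)
  rw [← h1]
  unfold relLift
  simp only [RingHom.comp_apply, RingEquiv.coe_toRingHom, RingEquiv.apply_symm_apply]
  rfl

theorem relLift_comp_qRel (f : A →+* B) (hinj : Function.Injective (η.Nmap f)) :
    (relLift η f hinj).comp (η.qRel f) = η.q A := by
  refine RingHom.ext fun a => Subtype.ext (hinj ?_)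
  rw [RingHom.comp_apply, Nmap_relLift]
  exact (η.Nmap_t_apply f a).symm

theorem isNilpotent_of_relLift_eq_zero (f : A →+* B) (hinj : Function.Injective (η.Nmap f))
    (b : η.rel f) (hb : relLift η f hinj b = 0) : IsNilpotent b := by
  have h1 : η.t B b = 0 := by
    rw [← Nmap_relLift η f hinj b, hb]
    exact map_zero _
  obtain ⟨n, hn⟩ := isNilpotent_of_t_eq_zero η B (b : B) h1
  exact ⟨n, Subtype.ext hn⟩

theorem qRel_isIntegral (hA : (minimalPrimes A).Finite) (f : A →+* B)
    (hinj : Function.Injective (η.Nmap f)) : (η.qRel f).IsIntegral := by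
  intro b
  obtain ⟨P, hP, hPx⟩ := q_isIntegral η A hA (relLift η f hinj b)
  have h1 : η.t B (Polynomial.eval₂ f (b : B) P) = 0 := by
    have e1 : η.t B (Polynomial.eval₂ f (b : B) P) =
        Polynomial.eval₂ ((η.t B).comp f) (η.t B b) P := Polynomial.hom_eval₂ P f (η.t B) b
    have e2 : (η.t B).comp f = (η.Nmap f).comp (η.t A) :=
      RingHom.ext fun a => (η.Nmap_t_apply f a).symm
    have e3 : Polynomial.eval₂ ((η.Nmap f).comp (η.t A)) (η.Nmap f (relLift η f hinj b : η.N A)) P =
        η.Nmap f (Polynomial.eval₂ (η.t A) (relLift η f hinj b : η.N A) P) :=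
      (Polynomial.hom_eval₂ P (η.t A) (η.Nmap f) _).symm
    have e4 : Polynomial.eval₂ (η.t A) (relLift η f hinj b : η.N A) P =
        ((Polynomial.eval₂ (η.q A) (relLift η f hinj b) P : η.M A) : η.N A) := by
      rw [← Subring.coe_subtype, Polynomial.hom_eval₂]
      rfl
    rw [e1, e2, ← Nmap_relLift η f hinj b, e3, e4, hPx]
    exact map_zero _
  obtain ⟨n, hn⟩ := isNilpotent_of_t_eq_zero η B _ h1
  refine ⟨P ^ n, hP.pow n, Subtype.ext ?_⟩
  have e5 : ((Polynomial.eval₂ (η.qRel f) b (P ^ n) : η.rel f) : B) =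
      Polynomial.eval₂ f (b : B) (P ^ n) := by
    rw [← Subring.coe_subtype, Polynomial.hom_eval₂]
    rfl
  rw [e5, Polynomial.eval₂_pow, hn]
  rfl

theorem comap_qRel_bijective (hA : (minimalPrimes A).Finite) (f : A →+* B)
    (hs : Function.Surjective (PrimeSpectrum.comap f)) :
    Function.Bijective (PrimeSpectrum.comap (η.qRel f)) := by
  have hinj := Nmap_injective_of η f hs
  constructor
  · exact comap_injective_of_lift η hA (η.qRel f) (relLift η f hinj) (relLift_comp_qRel η f hinj)
      (qRel_isIntegral η hA f hinj) (isNilpotent_of_relLift_eq_zero η f hinj)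
  · intro P
    obtain ⟨q, hq⟩ := hs P
    refine ⟨PrimeSpectrum.comap (η.rel f).subtype q, ?_⟩
    rw [← hq]
    rfl

theorem exists_residue_factor_qRel (hA : (minimalPrimes A).Finite) (f : A →+* B)
    (hs : Function.Surjective (PrimeSpectrum.comap f)) (Q : PrimeSpectrum (η.rel f)) :
    ∃ φ : Q.asIdeal.ResidueField →+* η.obj (PrimeSpectrum.comap (η.qRel f) Q).asIdeal.ResidueField,
      φ.comp (Ideal.ResidueField.map (PrimeSpectrum.comap (η.qRel f) Q).asIdeal Q.asIdeal
        (η.qRel f) rfl) = η.eta (PrimeSpectrum.comap (η.qRel f) Q).asIdeal.ResidueField :=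
  have hinj := Nmap_injective_of η f hs
  exists_residue_factor_of_lift η hA (η.qRel f) (relLift η f hinj) (relLift_comp_qRel η f hinj)
    (qRel_isIntegral η hA f hinj) (isNilpotent_of_relLift_eq_zero η f hinj) Q

theorem Nmap_qRel_bijective (hA : (minimalPrimes A).Finite) (f : A →+* B)
    (hs : Function.Surjective (PrimeSpectrum.comap f)) :
    Function.Bijective (η.Nmap (η.qRel f)) :=
  Nmap_surjective_of_residue_factor η _ (comap_qRel_bijective η hA f hs)
    (exists_residue_factor_qRel η hA f hs)

end rel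

section more

variable {A B C : Type u} [CommRing A] [CommRing B] [CommRing C]

/-- For an injective ring map `ι : C → B`, `Nmap ι` is injective on `M C`. -/
theorem eq_zero_of_Nmap_eq_zero_of_injective (ι : C →+* B) (hι : Function.Injective ι)
    {y : η.N C} (hy : y ∈ η.M C) (h : η.Nmap ι y = 0) : y = 0 := by
  apply eq_zero_of_minimalPrimes η hy
  intro 𝔭 h𝔭
  obtain ⟨𝔮, h𝔮, h𝔮𝔭⟩ := Ideal.exists_comap_eq_of_mem_minimalPrimes_of_injective hι 𝔭.asIdeal h𝔭
  have e1 : PrimeSpectrum.comap ι ⟨𝔮, h𝔮⟩ = 𝔭 := PrimeSpectrum.ext h𝔮𝔭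
  have e2 := congrFun h ⟨𝔮, h𝔮⟩
  rw [Nmap_apply] at e2
  have e3 : y (PrimeSpectrum.comap ι ⟨𝔮, h𝔮⟩) = 0 := by
    apply (η.map (Ideal.ResidueField.map (PrimeSpectrum.comap ι ⟨𝔮, h𝔮⟩).asIdeal 𝔮 ι rfl)).injective
    rw [e2, map_zero]
    rfl
  rw [e1] at e3
  exact e3

end more

end Groth.Agent.Helper16.EtaLib
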