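import Groth.Agent.H16.EtaPt

/-! Helper library for the `EtaPt` cluster: localization (helper16). -/

set_option autoImplicit false
universe u

namespace Groth.Agent.Helper16.EtaLib

open EtaPt EtaPt.FieldEndo

variable (η : EtaPt.FieldEndo.{u})

section loc

variable {A B : Type u} [CommRing A] [CommRing B]

theorem map_resMap_bijective_of_surjectiveOnStalks (f : A →+* B) (hf : f.SurjectiveOnStalks)
    (q : PrimeSpectrum B) : Function.Bijective
      (η.map (Ideal.ResidueField.map (PrimeSpectrum.comap f q).asIdeal q.asIdeal f rfl)) := by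
  have h1 := hf.residueFieldMap_bijective (PrimeSpectrum.comap f q).asIdeal q.asIdeal rfl
  exact map_equiv_bijective η (RingEquiv.ofBijective _ h1)

/-- Extension by zero along a map which is injective on spectra and surjective on stalks. -/
theorem exists_extend_zero (f : A →+* B) (hf : f.SurjectiveOnStalks)
    (hinj : Function.Injective (PrimeSpectrum.comap f)) (y : η.N B) :
    ∃ x : η.N A, η.Nmap f x = y ∧ ∀ P, P ∉ Set.range (PrimeSpectrum.comap f) → x P = 0 := by
  classical
  have key : ∀ P : PrimeSpectrum A, ∃ z : η.obj P.asIdeal.ResidueField,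
      (∀ (q : PrimeSpectrum B) (ψ : P.asIdeal.ResidueField →+* q.asIdeal.ResidueField),
        ψ.comp (algebraMap A P.asIdeal.ResidueField) =
          (algebraMap B q.asIdeal.ResidueField).comp f → η.map ψ z = y q) ∧
      (P ∉ Set.range (PrimeSpectrum.comap f) → z = 0) := by
    intro P
    by_cases hP : P ∈ Set.range (PrimeSpectrum.comap f)
    · obtain ⟨q₀, rfl⟩ := hP
      obtain ⟨z, hz⟩ := (map_resMap_bijective_of_surjectiveOnStalks η f hf q₀).2 (y q₀)
      refine ⟨z, fun q ψ hψ => ?_, fun h => absurd ⟨q₀, rfl⟩ h⟩
      have hq : q = q₀ := by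
        apply hinj
        apply PrimeSpectrum.ext
        have e1 : (PrimeSpectrum.comap f q).asIdeal =
            RingHom.ker ((algebraMap B q.asIdeal.ResidueField).comp f) := by
          rw [← RingHom.comap_ker, Ideal.ker_algebraMap_residueField]; rfl
        have e2 : (PrimeSpectrum.comap f q₀).asIdeal =
            RingHom.ker (ψ.comp (algebraMap A (PrimeSpectrum.comap f q₀).asIdeal.ResidueField)) := by
          ext a
          rw [RingHom.mem_ker, RingHom.comp_apply, map_eq_zero,
            Ideal.algebraMap_residueField_eq_zero]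
        rw [e1, e2, hψ]
      subst hq
      have : ψ = Ideal.ResidueField.map (PrimeSpectrum.comap f q).asIdeal q.asIdeal f rfl := by
        apply Ideal.ResidueField.ringHom_ext
        rw [hψ]
        ext a
        simp only [RingHom.comp_apply, Ideal.ResidueField.map_algebraMap]
      rw [this, hz]
    · refine ⟨0, fun q ψ hψ => ?_, fun _ => rfl⟩
      exfalso
      apply hP
      refine ⟨q, PrimeSpectrum.ext ?_⟩
      have e1 : (PrimeSpectrum.comap f q).asIdeal =
          RingHom.ker ((algebraMap B q.asIdeal.ResidueField).comp f) := by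
        rw [← RingHom.comap_ker, Ideal.ker_algebraMap_residueField]; rfl
      have e2 : P.asIdeal = RingHom.ker (ψ.comp (algebraMap A P.asIdeal.ResidueField)) := by
        ext a
        rw [RingHom.mem_ker, RingHom.comp_apply, map_eq_zero,
          Ideal.algebraMap_residueField_eq_zero]
      rw [e1, e2, hψ]
  choose x hx1 hx2 using key
  refine ⟨x, ?_, hx2⟩
  funext q
  rw [Nmap_apply]
  apply hx1
  ext a
  simp only [RingHom.comp_apply, Ideal.ResidueField.map_algebraMap]

/-- A family killed by `Nmap f` vanishes on the image of `Spec f`. -/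
theorem eq_zero_on_range_of_Nmap_eq_zero (f : A →+* B) {x : η.N A} (h : η.Nmap f x = 0)
    (q : PrimeSpectrum B) : x (PrimeSpectrum.comap f q) = 0 := by
  have := congrFun h q
  rw [Nmap_apply] at this
  apply (η.map (Ideal.ResidueField.map (PrimeSpectrum.comap f q).asIdeal q.asIdeal f rfl)).injective
  rw [this, map_zero]
  rfl

end loc

section away

variable (A : Type u) [CommRing A] (f : A)

theorem away_surjectiveOnStalks : (algebraMap A (Localization.Away f)).SurjectiveOnStalks :=
  RingHom.surjectiveOnStalks_of_isLocalization (Submonoid.powers f) _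

theorem away_comap_injective :
    Function.Injective (PrimeSpectrum.comap (algebraMap A (Localization.Away f))) :=
  PrimeSpectrum.localization_comap_injective _ (Submonoid.powers f)

theorem mem_range_away_iff (P : PrimeSpectrum A) :
    P ∈ Set.range (PrimeSpectrum.comap (algebraMap A (Localization.Away f))) ↔ f ∉ P.asIdeal := by
  rw [PrimeSpectrum.localization_away_comap_range (Localization.Away f) f]
  exact PrimeSpectrum.mem_basicOpen f P

theorem S13824_main :
    (∀ y : η.N (Localization.Away f), ∃ (x : η.N A) (n : ℕ),
        y * η.t (Localization.Away f) (algebraMap A (Localization.Away f) f) ^ n =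
          η.Nmap (algebraMap A (Localization.Away f)) x) ∧
      ∀ x : η.N A, η.Nmap (algebraMap A (Localization.Away f)) x = 0 → ∃ n : ℕ, η.t A f ^ n * x = 0 := by
  constructor
  · intro y
    obtain ⟨x, hx, -⟩ := exists_extend_zero η _ (away_surjectiveOnStalks A f)
      (away_comap_injective A f) y
    exact ⟨x, 0, by rw [pow_zero, mul_one, hx]⟩
  · intro x hx
    refine ⟨1, ?_⟩
    funext P
    rw [pow_one, Pi.mul_apply, t_apply]
    by_cases hf : f ∈ P.asIdeal
    · rw [Ideal.algebraMap_residueField_eq_zero.mpr hf, map_zero, zero_mul]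
      rfl
    · obtain ⟨q, rfl⟩ := (mem_range_away_iff A f P).mpr hf
      rw [eq_zero_on_range_of_Nmap_eq_zero η _ hx q, mul_zero]
      rfl

end away

end Groth.Agent.Helper16.EtaLib
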