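import Groth.Agent.H16.EtaPtLoc

/-! Helper library for the `EtaPt` cluster: localization of `M` (helper16). -/

set_option autoImplicit false
universe u

namespace Groth.Agent.Helper16.EtaLib

open EtaPt EtaPt.FieldEndo

variable (η : EtaPt.FieldEndo.{u})

section away2

variable (A : Type u) [CommRing A] (f : A)

theorem minimalPrimes_away_finite (hA : (minimalPrimes A).Finite) :
    (minimalPrimes (Localization.Away f)).Finite := by
  have h1 := IsLocalization.minimalPrimes_map (Submonoid.powers f) (Localization.Away f)
    (⊥ : Ideal A)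
  rw [Ideal.map_bot] at h1
  change minimalPrimes (Localization.Away f) = _ at h1
  rw [h1]
  apply Set.Finite.preimage _ hA
  intro I _ J _ hIJ
  have e1 := IsLocalization.map_under (Submonoid.powers f) (Localization.Away f) I
  have e2 := IsLocalization.map_under (Submonoid.powers f) (Localization.Away f) J
  rw [← e1, ← e2]
  exact congrArg _ hIJ


/-- clearing denominators in the integrality of an element of `M (A_f)` -/
theorem exists_pow_integral (hA : (minimalPrimes A).Finite) (y : η.M (Localization.Away f)) :
    ∃ (k : ℕ) (P : Polynomial A), P.Monic ∧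
      Polynomial.eval₂ ((η.q (Localization.Away f)).comp (algebraMap A (Localization.Away f)))
        (η.q (Localization.Away f) (algebraMap A (Localization.Away f) (f ^ k)) * y) P = 0 := by
  have hint := q_isIntegral η (Localization.Away f) (minimalPrimes_away_finite A f hA) y
  let _ : Algebra (Localization.Away f) (η.M (Localization.Away f)) :=
    (η.q (Localization.Away f)).toAlgebra
  let _ : Algebra A (η.M (Localization.Away f)) :=
    ((η.q (Localization.Away f)).comp (algebraMap A (Localization.Away f))).toAlgebra
  have : IsScalarTower A (Localization.Away f) (η.M (Localization.Away f)) :=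
    IsScalarTower.of_algebraMap_eq' rfl
  have hint' : IsIntegral (Localization.Away f) y := hint
  obtain ⟨⟨_, k, rfl⟩, P, hP, hPy⟩ :=
    IsIntegral.exists_multiple_integral_of_isLocalization (Submonoid.powers f) y hint'
  refine ⟨k, P, hP, ?_⟩
  rw [Submonoid.smul_def, Algebra.smul_def] at hPy
  exact hPy


theorem S13825_a (hA : (minimalPrimes A).Finite) (y : η.N (Localization.Away f))
    (hy : y ∈ η.M (Localization.Away f)) :
    ∃ x ∈ η.M A, ∃ n : ℕ,
      y * η.t (Localization.Away f) (algebraMap A (Localization.Away f) f) ^ n =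
        η.Nmap (algebraMap A (Localization.Away f)) x := by
  obtain ⟨x₀, hx₀, hx₀0⟩ := exists_extend_zero η _ (away_surjectiveOnStalks A f)
    (away_comap_injective A f) y
  obtain ⟨k, P, hP, hPy⟩ := exists_pow_integral η A f hA ⟨y, hy⟩
  refine ⟨η.t A f ^ (k + 1) * x₀, ?_, k + 1, ?_⟩
  swap
  · rw [map_mul, map_pow, η.Nmap_t_apply, hx₀, mul_comm]
  intro R _ _ _ hR g
  by_cases hgf : g f = 0
  · refine ⟨0, ?_⟩
    rw [map_zero, map_mul, map_pow, η.Nmap_t_apply, hgf, map_zero, zero_pow (Nat.succ_ne_zero k),
      zero_mul]
  -- notation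
  have hjinj : Function.Injective (algebraMap R (FractionRing R)) :=
    IsFractionRing.injective R (FractionRing R)
  have hunit : IsUnit (((algebraMap R (FractionRing R)).comp g) f) :=
    isUnit_iff_ne_zero.mpr fun h0 => hgf (hjinj (by rw [map_zero]; exact h0))
  let h : Localization.Away f →+* FractionRing R := IsLocalization.Away.lift f hunit
  have hhℓ : h.comp (algebraMap A (Localization.Away f)) = (algebraMap R (FractionRing R)).comp g :=
    IsLocalization.Away.lift_comp f hunit
  obtain ⟨c, hc⟩ := hR.2 (ev η h y)
  -- integrality of w = c * (g f)^k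
  let eL := RingEquiv.ofBijective (η.eta (FractionRing R)) hR
  let Θ : η.M (Localization.Away f) →+* FractionRing R :=
    (eL.symm : _ →+* FractionRing R).comp ((ev η h).comp (η.M (Localization.Away f)).subtype)
  have hΘq : ∀ a' : Localization.Away f, Θ (η.q (Localization.Away f) a') = h a' := by
    intro a'
    change eL.symm (ev η h (η.t (Localization.Away f) a')) = h a'
    rw [ev_t]
    exact eL.symm_apply_apply _
  have hΘy : Θ ⟨y, hy⟩ = c := by
    change eL.symm (ev η h y) = c
    rw [← hc]
    exact eL.symm_apply_apply _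
  have hw : IsIntegral R (c * algebraMap R (FractionRing R) (g f) ^ k) := by
    refine ⟨P.map g, hP.map g, ?_⟩
    have e1 := congrArg Θ hPy
    rw [map_zero, Polynomial.hom_eval₂, map_mul, hΘq, hΘy] at e1
    have e2 : Θ.comp ((η.q (Localization.Away f)).comp (algebraMap A (Localization.Away f))) =
        (algebraMap R (FractionRing R)).comp g := by
      rw [← hhℓ]
      refine RingHom.ext fun a => ?_
      exact hΘq _
    rw [e2] at e1
    rw [Polynomial.eval₂_map, mul_comm]
    have e3 : h (algebraMap A (Localization.Away f) (f ^ k)) =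
        algebraMap R (FractionRing R) (g f) ^ k := by
      rw [map_pow, ← map_pow]
      have := DFunLike.congr_fun hhℓ (f ^ k)
      simp only [RingHom.comp_apply] at this
      rw [this, map_pow, map_pow]
    rw [← e3]
    exact e1
  obtain ⟨r', hr'⟩ := IsIntegrallyClosed.isIntegral_iff.mp hw
  refine ⟨g f * r', ?_⟩
  symm
  funext 𝔮
  by_cases hq : g f ∈ 𝔮.asIdeal
  · rw [Nmap_apply, Pi.mul_apply, Pi.pow_apply, t_apply, t_apply]
    have h1 : algebraMap A (PrimeSpectrum.comap g 𝔮).asIdeal.ResidueField f = 0 :=
      Ideal.algebraMap_residueField_eq_zero.mpr hq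
    have h2 : algebraMap R 𝔮.asIdeal.ResidueField (g f * r') = 0 :=
      Ideal.algebraMap_residueField_eq_zero.mpr (𝔮.asIdeal.mul_mem_right _ hq)
    rw [h1, h2, map_zero, map_zero, zero_pow (Nat.succ_ne_zero k), zero_mul, map_zero]
  · have hker : RingHom.ker (algebraMap R (FractionRing R)) ≤ 𝔮.asIdeal := by
      rw [(RingHom.injective_iff_ker_eq_bot _).mp hjinj]; exact bot_le
    obtain ⟨V, ρ, hρ, hmax⟩ := exists_valuationSubring_of_le (algebraMap R (FractionRing R)) 𝔮 hker
    have hρu : IsUnit ((ρ.comp g) f) := by
      have : ρ (g f) ∉ IsLocalRing.maximalIdeal V := by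
        intro hm
        apply hq
        rw [← hmax]
        exact hm
      exact (IsLocalRing.notMem_maximalIdeal).mp this
    let hV : Localization.Away f →+* V := IsLocalization.Away.lift f hρu
    have hVℓ : hV.comp (algebraMap A (Localization.Away f)) = ρ.comp g :=
      IsLocalization.Away.lift_comp f hρu
    have hVh : (V.subtype : V →+* FractionRing R).comp hV = h := by
      apply IsLocalization.ringHom_ext (Submonoid.powers f)
      rw [RingHom.comp_assoc, hVℓ, ← RingHom.comp_assoc, hρ, hhℓ]
    obtain ⟨rV, -, hrV⟩ := exists_rep_of_mem_M η hR V hV hy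
    have e1 := hrV _ V.subtype
    rw [hVh, ← hc] at e1
    have hcr : c = V.subtype rV := (η.eta _).injective e1
    have e2 := hrV _ (algebraMap V (IsLocalRing.maximalIdeal V).ResidueField)
    have hkerq : RingHom.ker ((algebraMap V (IsLocalRing.maximalIdeal V).ResidueField).comp ρ) =
        𝔮.asIdeal := by
      rw [← RingHom.comap_ker, Ideal.ker_algebraMap_residueField, hmax]
    refine (ev_eq_ev_iff η _ 𝔮 hkerq _ _).mp ?_
    rw [ev_Nmap, map_mul, map_pow, ev_t, ev_t]
    have e3 : ev η (((algebraMap V (IsLocalRing.maximalIdeal V).ResidueField).comp ρ).comp g) x₀ =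
        η.eta _ (algebraMap V (IsLocalRing.maximalIdeal V).ResidueField rV) := by
      rw [← e2, RingHom.comp_assoc, ← hVℓ, ← RingHom.comp_assoc, ← ev_Nmap, hx₀]
    rw [e3, ← map_pow, ← map_mul]
    congr 1
    simp only [RingHom.comp_apply]
    rw [← map_pow, ← map_mul]
    congr 1
    apply Subtype.ext
    have e4 : ∀ a : R, ((ρ a : V) : FractionRing R) = algebraMap R (FractionRing R) a := fun a =>
      DFunLike.congr_fun hρ a
    change ((ρ (g f) : V) : FractionRing R) ^ (k + 1) * (rV : FractionRing R) =
      ((ρ (g f * r') : V) : FractionRing R)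
    rw [e4, e4, map_mul, hr']
    have : (rV : FractionRing R) = c := hcr.symm
    rw [this]
    ring

end away2

end Groth.Agent.Helper16.EtaLib
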