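import Groth.Agent.H16.EtaPtLoc2
import Groth.Prelude.Def_EGA4b
set_option autoImplicit false
universe u
open Groth.Agent.Helper16.EtaLib

namespace Groth.Agent.Helper16.EtaLib

section normal
variable (η : EtaPt.FieldEndo.{u}) {A : Type u} [CommRing A]

theorem ker_atPrime_le (P : Ideal A) [P.IsPrime] (q : Ideal A) [hq' : q.IsPrime] (hq : q ≤ P) :
    RingHom.ker (algebraMap A (Localization.AtPrime P)) ≤ q := by
  intro a ha
  rw [RingHom.mem_ker, IsLocalization.map_eq_zero_iff P.primeCompl] at ha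
  obtain ⟨s, hs⟩ := ha
  have : (s : A) * a ∈ q := by rw [hs]; exact q.zero_mem
  exact (hq'.mem_or_mem this).resolve_left (fun h => s.2 (hq h))

theorem ker_atPrime_le_self (P : Ideal A) [P.IsPrime] :
    RingHom.ker (algebraMap A (Localization.AtPrime P)) ≤ P := ker_atPrime_le P P le_rfl

theorem ker_atPrime_mem_minimalPrimes (P : Ideal A) [P.IsPrime]
    [IsDomain (Localization.AtPrime P)] :
    RingHom.ker (algebraMap A (Localization.AtPrime P)) ∈ minimalPrimes A := by
  have hk : (RingHom.ker (algebraMap A (Localization.AtPrime P))).IsPrime := RingHom.ker_isPrime _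
  obtain ⟨q, hqmin, hq⟩ := Ideal.exists_minimalPrimes_le
    (bot_le : (⊥ : Ideal A) ≤ RingHom.ker (algebraMap A (Localization.AtPrime P)))
  have : q.IsPrime := hqmin.1.1
  have h2 : RingHom.ker (algebraMap A (Localization.AtPrime P)) ≤ q :=
    ker_atPrime_le P q (hq.trans (ker_atPrime_le_self P))
  rwa [le_antisymm h2 hq]

theorem exists_local_rep (hn : EGA4.IsNormalRing A)
    (hη : ∀ p : PrimeSpectrum A, p.asIdeal ∈ minimalPrimes A →
      Function.Bijective (η.eta p.asIdeal.ResidueField))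
    {x : η.N A} (hx : x ∈ η.M A) (P : Ideal A) [P.IsPrime] :
    ∃ p : PrimeSpectrum A, p.asIdeal = RingHom.ker (algebraMap A (Localization.AtPrime P)) ∧
      p.asIdeal ∈ minimalPrimes A ∧ ∃ s a : A, s ∉ P ∧ η.t A s p * x p = η.t A a p := by
  obtain ⟨hdom, hic⟩ := hn P
  obtain ⟨p, hp⟩ : ∃ p : PrimeSpectrum A,
      p.asIdeal = RingHom.ker (algebraMap A (Localization.AtPrime P)) :=
    ⟨⟨RingHom.ker (algebraMap A (Localization.AtPrime P)), RingHom.ker_isPrime _⟩, rfl⟩
  have hpmin : p.asIdeal ∈ minimalPrimes A := hp ▸ ker_atPrime_mem_minimalPrimes P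
  have hL := hη p hpmin
  let j : A →+* p.asIdeal.ResidueField := algebraMap A p.asIdeal.ResidueField
  obtain ⟨y, hy⟩ := hL.2 (x p)
  have hint : j.IsIntegralElem y := by
    apply isIntegralElem_of_mem_M η hL j hx y
    rw [hy, ev_eq_of η j p (RingHom.id _) rfl x, η.map_id]
    rfl
  have hunit : ∀ s : P.primeCompl, IsUnit (j s) := fun s => by
    rw [isUnit_iff_ne_zero, Ne, Ideal.algebraMap_residueField_eq_zero]
    exact fun h => s.2 (ker_atPrime_le_self P (hp ▸ h))
  let g : Localization.AtPrime P →+* p.asIdeal.ResidueField :=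
    IsLocalization.lift (M := P.primeCompl) (g := j) hunit
  have hg : ∀ a, g (algebraMap A _ a) = j a := fun a => IsLocalization.lift_eq _ a
  have ginj : Function.Injective g := by
    rw [injective_iff_map_eq_zero]
    intro z hz
    obtain ⟨⟨a, s⟩, hrs⟩ := IsLocalization.surj P.primeCompl z
    have h1 : j a = 0 := by
      rw [← hg, ← hrs, map_mul, hz, zero_mul]
    have h2 : a ∈ p.asIdeal := Ideal.algebraMap_residueField_eq_zero.mp h1
    have h3 : algebraMap A (Localization.AtPrime P) a = 0 := by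
      rw [hp] at h2; exact h2
    rw [h3] at hrs
    exact (IsUnit.mul_left_eq_zero (IsLocalization.map_units _ s)).mp hrs
  let _ : Algebra (Localization.AtPrime P) p.asIdeal.ResidueField := g.toAlgebra
  have : IsScalarTower A (Localization.AtPrime P) p.asIdeal.ResidueField :=
    .of_algebraMap_eq (fun a => (hg a).symm)
  have : FaithfulSMul (Localization.AtPrime P) p.asIdeal.ResidueField :=
    (faithfulSMul_iff_algebraMap_injective _ _).mpr ginj
  have : IsFractionRing (Localization.AtPrime P) p.asIdeal.ResidueField := by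
    apply IsFractionRing.of_field
    intro z
    obtain ⟨u, v, -, rfl⟩ := IsFractionRing.div_surjective (A := A ⧸ p.asIdeal) z
    obtain ⟨a, rfl⟩ := Ideal.Quotient.mk_surjective u
    obtain ⟨b, rfl⟩ := Ideal.Quotient.mk_surjective v
    refine ⟨algebraMap A _ a, algebraMap A _ b, ?_⟩
    change _ = g _ / g _
    rw [hg, hg]
    rfl
  have hint' : IsIntegral (Localization.AtPrime P) y :=
    IsIntegral.tower_top (R := A) hint
  obtain ⟨r, hr⟩ := IsIntegrallyClosed.isIntegral_iff.mp hint'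
  obtain ⟨⟨a, s⟩, hrs⟩ := IsLocalization.surj P.primeCompl r
  refine ⟨p, hp, hpmin, s, a, s.2, ?_⟩
  rw [t_apply, t_apply, ← hy, ← map_mul]
  congr 1
  change j s * y = j a
  rw [← hr, ← hg, ← hg]
  change g _ * g r = _
  rw [← map_mul, mul_comm, hrs]

open Classical in
theorem exists_mul_eq_t (hn : EGA4.IsNormalRing A) (hA : (minimalPrimes A).Finite)
    (hη : ∀ p : PrimeSpectrum A, p.asIdeal ∈ minimalPrimes A →
      Function.Bijective (η.eta p.asIdeal.ResidueField))
    {x : η.N A} (hx : x ∈ η.M A) (P : Ideal A) [P.IsPrime] :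
    ∃ h b : A, h ∉ P ∧ η.t A h * x = η.t A b := by
  obtain ⟨p, hp, hpmin, s, a, hs, hsa⟩ := exists_local_rep η hn hη hx P
  have hother : ∀ q ∈ minimalPrimes A, q ≠ p.asIdeal → ∃ g ∈ q, g ∉ P := by
    intro q hq hne
    by_contra hcon
    push Not at hcon
    have hqP : q ≤ P := fun g hg => hcon g hg
    have : q.IsPrime := hq.1.1
    have h1 : p.asIdeal ≤ q := hp ▸ ker_atPrime_le P q hqP
    exact hne (le_antisymm (hq.2 ⟨p.isPrime, bot_le⟩ h1) h1)
  choose! gq hgq hgqP using hother
  let S := hA.toFinset.erase p.asIdeal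
  have hS : ∀ q, q ∈ S ↔ q ∈ minimalPrimes A ∧ q ≠ p.asIdeal := fun q => by
    simp only [S, Finset.mem_erase, Set.Finite.mem_toFinset]
    tauto
  let g' := ∏ q ∈ S, gq q
  have hg'P : g' ∉ P := by
    intro h
    obtain ⟨q, hqS, hq⟩ := Ideal.IsPrime.prod_mem_iff.mp h
    exact hgqP q ((hS q).mp hqS).1 ((hS q).mp hqS).2 hq
  have hg'q : ∀ q ∈ S, g' ∈ q := fun q hq => by
    obtain ⟨c, hc⟩ := Finset.dvd_prod_of_mem gq hq
    change (∏ q ∈ S, gq q) ∈ q
    rw [hc]
    exact Ideal.mul_mem_right _ _ (hgq q ((hS q).mp hq).1 ((hS q).mp hq).2)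
  refine ⟨g' * s, g' * a, fun h => ?_, ?_⟩
  · rcases Ideal.IsPrime.mem_or_mem inferInstance h with h | h
    · exact hg'P h
    · exact hs h
  · have hz : η.t A (g' * s) * x - η.t A (g' * a) ∈ η.M A :=
      sub_mem (mul_mem (η.t_mem_M A _) hx) (η.t_mem_M A _)
    have := eq_zero_of_minimalPrimes η hz (fun p' hp' => ?_)
    · exact sub_eq_zero.mp this
    · rw [Pi.sub_apply, Pi.mul_apply, map_mul, map_mul, Pi.mul_apply, Pi.mul_apply]
      by_cases hpp : p'.asIdeal = p.asIdeal
      · have : p' = p := PrimeSpectrum.ext hpp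
        subst this
        rw [mul_assoc, hsa, sub_self]
      · have h1 : g' ∈ p'.asIdeal := hg'q _ ((hS _).mpr ⟨hp', hpp⟩)
        have h2 : η.t A g' p' = 0 := by
          rw [t_apply, Ideal.algebraMap_residueField_eq_zero.mpr h1, map_zero]
        rw [h2, zero_mul, zero_mul, zero_mul, sub_self]

theorem isReduced_of_isNormalRing (hn : EGA4.IsNormalRing A) : IsReduced A := by
  refine ⟨fun a ha => ?_⟩
  apply eq_zero_of_localization
  intro J hJ
  have := hJ.isPrime
  obtain ⟨hdom, -⟩ := hn J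
  exact (ha.map (algebraMap A (Localization.AtPrime J))).eq_zero

theorem q_bijective_of_isNormalRing (hn : EGA4.IsNormalRing A) (hA : (minimalPrimes A).Finite)
    (hη : ∀ p : PrimeSpectrum A, p.asIdeal ∈ minimalPrimes A →
      Function.Bijective (η.eta p.asIdeal.ResidueField)) :
    Function.Bijective (η.q A) := by
  have hred := isReduced_of_isNormalRing hn
  refine ⟨fun a b h => t_injective_of_isReduced η A (congrArg Subtype.val h), ?_⟩
  rintro ⟨x, hx⟩
  let I : Ideal A :=
    { carrier := {h | ∃ b, η.t A h * x = η.t A b}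
      add_mem' := by
        rintro h h' ⟨b, hb⟩ ⟨b', hb'⟩
        exact ⟨b + b', by rw [map_add, add_mul, hb, hb', map_add]⟩
      zero_mem' := ⟨0, by simp⟩
      smul_mem' := by
        rintro c h ⟨b, hb⟩
        exact ⟨c * b, by rw [smul_eq_mul, map_mul, mul_assoc, hb, map_mul]⟩ }
  have hI : I = ⊤ := by
    by_contra hne
    obtain ⟨P, hPmax, hIP⟩ := Ideal.exists_le_maximal I hne
    have := hPmax.isPrime
    obtain ⟨h, b, hhP, hb⟩ := exists_mul_eq_t η hn hA hη hx P
    exact hhP (hIP ⟨b, hb⟩)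
  have h1 : (1 : A) ∈ I := hI ▸ Submodule.mem_top
  obtain ⟨b, hb⟩ := h1
  refine ⟨b, Subtype.ext ?_⟩
  change η.t A b = x
  rw [← hb, map_one, one_mul]

end normal

end Groth.Agent.Helper16.EtaLib
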