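import Groth.Agent.H16.EtaPt

/-! Helper library for the `EtaPt` cluster: products (helper16). -/

set_option autoImplicit false
universe u

namespace Groth.Agent.Helper16.EtaLib

open EtaPt EtaPt.FieldEndo

variable (η : EtaPt.FieldEndo.{u})

section prod

variable {A B : Type u} [CommRing A] [CommRing B]

/-- For a surjective ring map the maps on residue fields are bijective after applying `F`. -/
theorem map_resMap_bijective_of_surjective (f : A →+* B) (hf : Function.Surjective f)
    (q : PrimeSpectrum B) : Function.Bijective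
      (η.map (Ideal.ResidueField.map (PrimeSpectrum.comap f q).asIdeal q.asIdeal f rfl)) := by
  have h1 := (RingHom.surjectiveOnStalks_of_surjective hf).residueFieldMap_bijective
    (PrimeSpectrum.comap f q).asIdeal q.asIdeal rfl
  exact map_equiv_bijective η (RingEquiv.ofBijective _ h1)

theorem prime_prod_cases (𝔯 : PrimeSpectrum (A × B)) :
    (∃ P : PrimeSpectrum A, PrimeSpectrum.comap (RingHom.fst A B) P = 𝔯) ∨
      (∃ Q : PrimeSpectrum B, PrimeSpectrum.comap (RingHom.snd A B) Q = 𝔯) := by
  rcases (Ideal.ideal_prod_prime 𝔯.asIdeal).mp 𝔯.2 with ⟨p, hp, h⟩ | ⟨p, hp, h⟩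
  · left
    refine ⟨⟨p, hp⟩, PrimeSpectrum.ext ?_⟩
    rw [h]
    ext ⟨a, b⟩
    simp [Ideal.mem_prod]
  · right
    refine ⟨⟨p, hp⟩, PrimeSpectrum.ext ?_⟩
    rw [h]
    ext ⟨a, b⟩
    simp [Ideal.mem_prod]

theorem fst_ne_snd (P : PrimeSpectrum A) (Q : PrimeSpectrum B) :
    PrimeSpectrum.comap (RingHom.fst A B) P ≠ PrimeSpectrum.comap (RingHom.snd A B) Q := by
  intro h
  have h1 : ((1 : A), (0 : B)) ∈ (PrimeSpectrum.comap (RingHom.snd A B) Q).asIdeal := by
    simp
  rw [← h] at h1
  have h2 : (1 : A) ∈ P.asIdeal := by simpa using h1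
  exact P.2.ne_top ((Ideal.eq_top_iff_one _).mpr h2)

/-- `Nmap` along the two projections is jointly injective. -/
theorem Nmap_fst_snd_injective {x x' : η.N (A × B)}
    (h1 : η.Nmap (RingHom.fst A B) x = η.Nmap (RingHom.fst A B) x')
    (h2 : η.Nmap (RingHom.snd A B) x = η.Nmap (RingHom.snd A B) x') : x = x' := by
  funext 𝔯
  rcases prime_prod_cases 𝔯 with ⟨P, rfl⟩ | ⟨Q, rfl⟩
  · have := congrFun h1 P
    rw [Nmap_apply, Nmap_apply] at this
    exact (η.map _).injective this
  · have := congrFun h2 Q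
    rw [Nmap_apply, Nmap_apply] at this
    exact (η.map _).injective this

theorem exists_glue (y₁ : η.N A) (y₂ : η.N B) :
    ∃ x : η.N (A × B), η.Nmap (RingHom.fst A B) x = y₁ ∧ η.Nmap (RingHom.snd A B) x = y₂ := by
  have hs1 : Function.Surjective (RingHom.fst A B) := fun a => ⟨(a, 0), rfl⟩
  have hs2 : Function.Surjective (RingHom.snd A B) := fun b => ⟨(0, b), rfl⟩
  have key : ∀ 𝔯 : PrimeSpectrum (A × B), ∃ z : η.obj 𝔯.asIdeal.ResidueField,
      (∀ (P : PrimeSpectrum A) (ψ : 𝔯.asIdeal.ResidueField →+* P.asIdeal.ResidueField),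
        ψ.comp (algebraMap (A × B) 𝔯.asIdeal.ResidueField) =
          (algebraMap A P.asIdeal.ResidueField).comp (RingHom.fst A B) → η.map ψ z = y₁ P) ∧
      (∀ (Q : PrimeSpectrum B) (ψ : 𝔯.asIdeal.ResidueField →+* Q.asIdeal.ResidueField),
        ψ.comp (algebraMap (A × B) 𝔯.asIdeal.ResidueField) =
          (algebraMap B Q.asIdeal.ResidueField).comp (RingHom.snd A B) → η.map ψ z = y₂ Q) := by
    have hcomap : ∀ {C : Type u} [CommRing C] (f : A × B →+* C) (𝔯 : PrimeSpectrum (A × B))
        (q : PrimeSpectrum C) (ψ : 𝔯.asIdeal.ResidueField →+* q.asIdeal.ResidueField),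
        ψ.comp (algebraMap (A × B) 𝔯.asIdeal.ResidueField) =
          (algebraMap C q.asIdeal.ResidueField).comp f → PrimeSpectrum.comap f q = 𝔯 := by
      intro C _ f 𝔯 q ψ hψ
      apply PrimeSpectrum.ext
      have e1 : (PrimeSpectrum.comap f q).asIdeal =
          RingHom.ker ((algebraMap C q.asIdeal.ResidueField).comp f) := by
        rw [← RingHom.comap_ker, Ideal.ker_algebraMap_residueField]; rfl
      have e2 : 𝔯.asIdeal = RingHom.ker (ψ.comp (algebraMap (A × B) 𝔯.asIdeal.ResidueField)) := by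
        ext a
        rw [RingHom.mem_ker, RingHom.comp_apply, map_eq_zero,
          Ideal.algebraMap_residueField_eq_zero]
      rw [e1, e2, hψ]
    intro 𝔯
    rcases prime_prod_cases 𝔯 with ⟨P₀, rfl⟩ | ⟨Q₀, rfl⟩
    · obtain ⟨z, hz⟩ := (map_resMap_bijective_of_surjective η _ hs1 P₀).2 (y₁ P₀)
      refine ⟨z, fun P ψ hψ => ?_, fun Q ψ hψ => ?_⟩
      · have hP : P = P₀ := PrimeSpectrum.comap_injective_of_surjective _ hs1
          (hcomap _ _ P ψ hψ)
        subst hP
        have : ψ = Ideal.ResidueField.map (PrimeSpectrum.comap (RingHom.fst A B) P).asIdeal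
            P.asIdeal (RingHom.fst A B) rfl := by
          apply Ideal.ResidueField.ringHom_ext
          rw [hψ]
          ext a
          simp only [RingHom.comp_apply, Ideal.ResidueField.map_algebraMap]
        rw [this, hz]
      · exact absurd (hcomap _ _ Q ψ hψ).symm (fst_ne_snd P₀ Q)
    · obtain ⟨z, hz⟩ := (map_resMap_bijective_of_surjective η _ hs2 Q₀).2 (y₂ Q₀)
      refine ⟨z, fun P ψ hψ => ?_, fun Q ψ hψ => ?_⟩
      · exact absurd (hcomap _ _ P ψ hψ) (fst_ne_snd P Q₀)
      · have hQ : Q = Q₀ := PrimeSpectrum.comap_injective_of_surjective _ hs2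
          (hcomap _ _ Q ψ hψ)
        subst hQ
        have : ψ = Ideal.ResidueField.map (PrimeSpectrum.comap (RingHom.snd A B) Q).asIdeal
            Q.asIdeal (RingHom.snd A B) rfl := by
          apply Ideal.ResidueField.ringHom_ext
          rw [hψ]
          ext a
          simp only [RingHom.comp_apply, Ideal.ResidueField.map_algebraMap]
        rw [this, hz]
  choose x hx1 hx2 using key
  refine ⟨x, ?_, ?_⟩
  · funext P
    rw [Nmap_apply]
    apply hx1
    ext a
    simp only [RingHom.comp_apply, Ideal.ResidueField.map_algebraMap]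
  · funext Q
    rw [Nmap_apply]
    apply hx2
    ext a
    simp only [RingHom.comp_apply, Ideal.ResidueField.map_algebraMap]

end prod

section prod2

variable {A B : Type u} [CommRing A] [CommRing B]

theorem mem_M_prod_of {x : η.N (A × B)} (h1 : η.Nmap (RingHom.fst A B) x ∈ η.M A)
    (h2 : η.Nmap (RingHom.snd A B) x ∈ η.M B) : x ∈ η.M (A × B) := by
  intro R _ _ _ hR g
  have h0 : g (1, 0) * g (0, 1) = 0 := by
    rw [← map_mul]
    have : ((1 : A), (0 : B)) * ((0 : A), (1 : B)) = 0 := by simp
    rw [this, map_zero]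
  have hsum : g (1, 0) + g (0, 1) = 1 := by
    rw [← map_add]
    have : ((1 : A), (0 : B)) + ((0 : A), (1 : B)) = 1 := by simp
    rw [this, map_one]
  rcases mul_eq_zero.mp h0 with he | he
  · -- factors through snd
    have hone : g (0, 1) = 1 := by rw [he, zero_add] at hsum; exact hsum
    let g₂ : B →+* R :=
      { toFun := fun b => g (0, b)
        map_one' := hone
        map_mul' := fun b b' => by rw [← map_mul]; simp
        map_zero' := by
          have : ((0 : A), (0 : B)) = 0 := rfl
          rw [this, map_zero]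
        map_add' := fun b b' => by rw [← map_add]; simp }
    have hg : g = g₂.comp (RingHom.snd A B) := by
      ext ⟨a, b⟩
      have e1 : ((a, b) : A × B) = (1, 0) * (a, 0) + (0, b) := by simp
      change g (a, b) = g (0, b)
      rw [e1, map_add, map_mul, he, zero_mul, zero_add]
    rw [hg, Nmap_comp_apply]
    exact h2 R hR g₂
  · have hone : g (1, 0) = 1 := by rw [he, add_zero] at hsum; exact hsum
    let g₁ : A →+* R :=
      { toFun := fun a => g (a, 0)
        map_one' := hone
        map_mul' := fun a a' => by rw [← map_mul]; simp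
        map_zero' := by
          have : ((0 : A), (0 : B)) = 0 := rfl
          rw [this, map_zero]
        map_add' := fun a a' => by rw [← map_add]; simp }
    have hg : g = g₁.comp (RingHom.fst A B) := by
      ext ⟨a, b⟩
      have e1 : ((a, b) : A × B) = (a, 0) + (0, 1) * (0, b) := by simp
      change g (a, b) = g (a, 0)
      rw [e1, map_add, map_mul, he, zero_mul, add_zero]
    rw [hg, Nmap_comp_apply]
    exact h1 R hR g₁

theorem bijOn_M_prod :
    Set.BijOn (fun x : η.N (A × B) => (η.Nmap (RingHom.fst A B) x, η.Nmap (RingHom.snd A B) x))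
      (η.M (A × B)) ((η.M A : Set (η.N A)) ×ˢ (η.M B : Set (η.N B))) := by
  refine ⟨fun x hx => ⟨Nmap_mem_M η _ hx, Nmap_mem_M η _ hx⟩, ?_, ?_⟩
  · intro x _ x' _ h
    have h1 := congrArg Prod.fst h
    have h2 := congrArg Prod.snd h
    exact Nmap_fst_snd_injective η h1 h2
  · rintro ⟨y₁, y₂⟩ ⟨hy₁, hy₂⟩
    obtain ⟨x, hx1, hx2⟩ := exists_glue η y₁ y₂
    refine ⟨x, mem_M_prod_of η (hx1 ▸ hy₁) (hx2 ▸ hy₂), ?_⟩
    simp only [hx1, hx2]

end prod2

end Groth.Agent.Helper16.EtaLib
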