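import Groth.Agent.H16.EtaPt
import Groth.Prelude.Def_HTop2

/-! Helper library for the `EtaPt` cluster: bridge to schemes (helper16). -/

set_option autoImplicit false
universe u

namespace Groth.Agent.Helper16.EtaLib

open CategoryTheory AlgebraicGeometry

theorem resmap_bijective_iff_of_arrow_iso {A B A' B' : Type u} [CommRing A] [CommRing B] [CommRing A']
    [CommRing B'] [IsLocalRing A] [IsLocalRing B] [IsLocalRing A'] [IsLocalRing B']
    (g : A →+* B) (g' : A' →+* B') [IsLocalHom g] [IsLocalHom g'] (a : A ≃+* A') (b : B ≃+* B')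
    (h : (b : B →+* B').comp g = g'.comp (a : A →+* A')) :
    Function.Bijective (IsLocalRing.ResidueField.map g) ↔
      Function.Bijective (IsLocalRing.ResidueField.map g') := by
  have h1 : (IsLocalRing.ResidueField.map (b : B →+* B')).comp (IsLocalRing.ResidueField.map g) =
      (IsLocalRing.ResidueField.map g').comp (IsLocalRing.ResidueField.map (a : A →+* A')) := by
    rw [← IsLocalRing.ResidueField.map_comp, ← IsLocalRing.ResidueField.map_comp]
    congr 1
  have ha : Function.Bijective (IsLocalRing.ResidueField.map (a : A →+* A')) :=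
    (IsLocalRing.ResidueField.mapEquiv a).bijective
  have hb : Function.Bijective (IsLocalRing.ResidueField.map (b : B →+* B')) :=
    (IsLocalRing.ResidueField.mapEquiv b).bijective
  have h2 : (IsLocalRing.ResidueField.map (b : B →+* B')) ∘ (IsLocalRing.ResidueField.map g) =
      (IsLocalRing.ResidueField.map g') ∘ (IsLocalRing.ResidueField.map (a : A →+* A')) := by
    funext x
    exact DFunLike.congr_fun h1 x
  constructor
  · intro hg
    have : Function.Bijective ((IsLocalRing.ResidueField.map g') ∘
        (IsLocalRing.ResidueField.map (a : A →+* A'))) := by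
      rw [← h2]; exact hb.comp hg
    exact (Function.Bijective.of_comp_iff _ ha).mp this
  · intro hg'
    have : Function.Bijective ((IsLocalRing.ResidueField.map (b : B →+* B')) ∘
        (IsLocalRing.ResidueField.map g)) := by
      rw [h2]; exact hg'.comp ha
    exact (Function.Bijective.of_comp_iff' hb _).mp this

theorem residueFieldMap_bijective_iff {R S : CommRingCat.{u}} (f : R ⟶ S) (p : PrimeSpectrum S) :
    Function.Bijective ((Spec.map f).residueFieldMap p).hom ↔
      Function.Bijective (Ideal.ResidueField.map (PrimeSpectrum.comap f.hom p).asIdeal p.asIdeal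
        f.hom rfl) := by
  have key := Scheme.localRingHom_comp_stalkIso f p
  apply resmap_bijective_iff_of_arrow_iso ((Spec.map f).stalkMap p).hom
    (Localization.localRingHom (PrimeSpectrum.comap f.hom p).asIdeal p.asIdeal f.hom rfl)
    (Spec.stalkIso R (PrimeSpectrum.comap f.hom p)).commRingCatIsoToRingEquiv
    (Spec.stalkIso S p).commRingCatIsoToRingEquiv
  rw [← key]
  ext x
  change (Spec.stalkIso S p).hom.hom (((Spec.stalkIso S p).inv.hom)
    ((Localization.localRingHom _ _ f.hom rfl) ((Spec.stalkIso R _).hom.hom x))) = _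
  have : ∀ y, (Spec.stalkIso S p).hom.hom ((Spec.stalkIso S p).inv.hom y) = y := fun y => by
    rw [← RingHom.comp_apply, ← CommRingCat.hom_comp, Iso.inv_hom_id]
    rfl
  rw [this]
  rfl

section bridge

variable {A B : Type u} [CommRing A] [CommRing B]

theorem isUnivHomeo_of_integral_of_universallyInjective_of_surjective {X Y : Scheme.{u}}
    (f : X ⟶ Y) [IsIntegralHom f] [UniversallyInjective f] [Surjective f] :
    FlatMor.IsUnivHomeo f := by
  intro X' Y' i₁ i₂ f' sq
  have h1 : IsIntegralHom f' := MorphismProperty.of_isPullback (P := @IsIntegralHom) sq.flip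
    inferInstance
  have h2 : UniversallyInjective f' :=
    MorphismProperty.of_isPullback (P := @UniversallyInjective) sq.flip inferInstance
  have h3 : Surjective f' := MorphismProperty.of_isPullback (P := @Surjective) sq.flip inferInstance
  change IsHomeomorph ⇑f'
  rw [isHomeomorph_iff_continuous_isClosedMap_bijective]
  exact ⟨f'.continuous, f'.isClosedMap, f'.injective, f'.surjective⟩

theorem isPurelyInseparable_of_bijective {K L : Type u} [Field K] [Field L] (f : K →+* L)
    (hf : Function.Bijective f) : f.IsPurelyInseparable := by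
  let _ : Algebra K L := f.toAlgebra
  change IsPurelyInseparable K L
  have e : K ≃ₐ[K] L := AlgEquiv.ofBijective (Algebra.ofId K L) hf
  exact e.isPurelyInseparable

/-- (B1) -/
theorem isUnivHomeo_and_residueFieldsIso_of (φ : A →+* B) (hint : φ.IsIntegral)
    (hbij : Function.Bijective (PrimeSpectrum.comap φ))
    (hres : ∀ Q : PrimeSpectrum B, Function.Bijective
      (Ideal.ResidueField.map (PrimeSpectrum.comap φ Q).asIdeal Q.asIdeal φ rfl)) :
    FlatMor.IsUnivHomeo (Spec.map (CommRingCat.ofHom φ)) ∧
      HTop.ResidueFieldsIso (Spec.map (CommRingCat.ofHom φ)) := by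
  have hres' : ∀ Q : PrimeSpectrum B,
      Function.Bijective ((Spec.map (CommRingCat.ofHom φ)).residueFieldMap Q).hom := fun Q =>
    (residueFieldMap_bijective_iff (CommRingCat.ofHom φ) Q).mpr (hres Q)
  have h1 : IsIntegralHom (Spec.map (CommRingCat.ofHom φ)) := IsIntegralHom.SpecMap_iff.mpr hint
  have h2 : Surjective (Spec.map (CommRingCat.ofHom φ)) := ⟨hbij.2⟩
  have h3 : UniversallyInjective (Spec.map (CommRingCat.ofHom φ)) := by
    apply ((tfae_universallyInjective (Spec.map (CommRingCat.ofHom φ))).out 0 2).mpr
    exact ⟨hbij.1, fun Q => isPurelyInseparable_of_bijective _ (hres' Q)⟩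
  refine ⟨isUnivHomeo_of_integral_of_universallyInjective_of_surjective _, fun Q => ?_⟩
  rw [ConcreteCategory.isIso_iff_bijective]
  exact hres' Q

/-- (B2) -/
theorem of_isUnivHomeo_and_residueFieldsIso (ψ : A →+* B)
    (h1 : FlatMor.IsUnivHomeo (Spec.map (CommRingCat.ofHom ψ)))
    (h2 : HTop.ResidueFieldsIso (Spec.map (CommRingCat.ofHom ψ))) :
    ψ.IsIntegral ∧ Function.Bijective (PrimeSpectrum.comap ψ) ∧
      ∀ Q : PrimeSpectrum B, Function.Bijective
        (Ideal.ResidueField.map (PrimeSpectrum.comap ψ Q).asIdeal Q.asIdeal ψ rfl) := by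
  refine ⟨?_, ?_, fun Q => ?_⟩
  · have hc : UniversallyClosed (Spec.map (CommRingCat.ofHom ψ)) := by
      rw [universallyClosed_eq]
      refine MorphismProperty.universally_mono ?_ _ h1
      intro X Y f hf
      exact (isHomeomorph_iff_continuous_isClosedMap_bijective.mp hf).2.1
    have : IsIntegralHom (Spec.map (CommRingCat.ofHom ψ)) :=
      IsIntegralHom.iff_universallyClosed_and_isAffineHom.mpr ⟨hc, inferInstance⟩
    exact IsIntegralHom.SpecMap_iff.mp this
  · have := MorphismProperty.universally_le _ _ h1
    exact (isHomeomorph_iff_continuous_isClosedMap_bijective.mp this).2.2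
  · have := h2 Q
    rw [ConcreteCategory.isIso_iff_bijective] at this
    exact (residueFieldMap_bijective_iff (CommRingCat.ofHom ψ) Q).mp this

end bridge

end Groth.Agent.Helper16.EtaLib
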