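import Groth.Agent.H16.EtaPt

/-! Helper library for the `EtaPt` cluster: valuation rings (helper16). -/

set_option autoImplicit false
set_option linter.unusedSectionVars false
universe u

namespace Groth.Agent.Helper16.EtaLib

open EtaPt EtaPt.FieldEndo

variable (η : EtaPt.FieldEndo.{u})

section valring

variable (R : Type u) [CommRing R] [IsDomain R]

/-- For a domain, evaluation at the generic point is injective on `M R`. -/
theorem eq_zero_of_generic_eq_zero {x : η.N R} (hx : x ∈ η.M R)
    (h0 : x ⟨⊥, Ideal.isPrime_bot⟩ = 0) : x = 0 := by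
  apply eq_zero_of_minimalPrimes η hx
  intro p hp
  rw [IsDomain.minimalPrimes_eq_singleton_bot, Set.mem_singleton_iff] at hp
  have : p = ⟨⊥, Ideal.isPrime_bot⟩ := PrimeSpectrum.ext hp
  rw [this]
  exact h0

theorem injOn_generic : Set.InjOn (fun x : η.N R => x ⟨⊥, Ideal.isPrime_bot⟩) (η.M R) := by
  intro x hx y hy hxy
  have h0 : (x - y) ⟨⊥, Ideal.isPrime_bot⟩ = 0 := by
    simp only [Pi.sub_apply]
    exact sub_eq_zero.mpr hxy
  exact sub_eq_zero.mp (eq_zero_of_generic_eq_zero η R (Subring.sub_mem _ hx hy) h0)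

/-- Integrality descends through the injective map `η`. -/
theorem isIntegral_of_eta {K : Type u} [Field K] (j : R →+* K) (c : K)
    (h : ((η.eta K).comp j).IsIntegralElem (η.eta K c)) : j.IsIntegralElem c := by
  obtain ⟨P, hP, hPc⟩ := h
  refine ⟨P, hP, (η.eta K).injective ?_⟩
  rw [Polynomial.hom_eval₂, hPc, map_zero]

variable [ValuationRing R]

/-- If `η` is bijective at the generic residue field, integral elements come from `R`. -/
theorem exists_of_isIntegral_of_bijective
    (hK : Function.Bijective (η.eta (⊥ : Ideal R).ResidueField))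
    (y : η.obj (⊥ : Ideal R).ResidueField)
    (hy : ((η.eta (⊥ : Ideal R).ResidueField).comp
      (algebraMap R (⊥ : Ideal R).ResidueField)).IsIntegralElem y) :
    ∃ r : R, η.eta _ (algebraMap R (⊥ : Ideal R).ResidueField r) = y := by
  obtain ⟨c, rfl⟩ := hK.2 y
  have hc : IsIntegral R c := isIntegral_of_eta η R _ c hy
  obtain ⟨r, hr⟩ := IsIntegrallyClosed.isIntegral_iff.mp hc
  exact ⟨r, by rw [hr]⟩

/-- The key construction in characteristic `p` under the perfectness hypothesis. -/
theorem exists_root_family (p : ℕ) (hp : p.Prime) [CharP R p]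
    (hperf : ∀ (k : Type u) [Field k], ringChar k = ringChar R →
      Function.Bijective (η.eta k) → PerfectField k) (r : R) (n : ℕ) :
    ∃ x ∈ η.M R, ∀ 𝔮 : PrimeSpectrum R,
      (x 𝔮) ^ p ^ n = η.eta _ (algebraMap R 𝔮.asIdeal.ResidueField r) := by
  have hchar : ∀ (k : Type u) [Field k] (_ : R →+* k), ringChar k = p := by
    intro k _ h
    apply CharP.ringChar_of_prime_eq_zero hp
    rw [← map_natCast h, CharP.cast_eq_zero, map_zero]
  have hexp : ∀ (k : Type u) [Field k] (_ : R →+* k), ExpChar k p := by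
    intro k _ h
    have : CharP k p := ringChar.of_eq (hchar k h)
    exact ExpChar.prime hp
  have hroot : ∀ (k : Type u) [Field k] (_ : R →+* k) (_ : Function.Bijective (η.eta k)) (a : k),
      ∃ z : k, z ^ p ^ n = a := by
    intro k _ h hk a
    have := hperf k ((hchar k h).trans (ringChar.eq R p).symm) hk
    have := hexp k h
    have : PerfectRing k p := PerfectField.toPerfectRing p
    exact (PerfectRing.bijective_frobenius (R := k) (p := p ^ n)).2 a
  have hinj : ∀ (k : Type u) [Field k] (_ : R →+* k) {a b : k}, a ^ p ^ n = b ^ p ^ n → a = b := by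
    intro k _ h a b hab
    have := hexp k h
    exact iterateFrobenius_inj k p n (by simpa [iterateFrobenius_def] using hab)
  have hx : ∀ 𝔮 : PrimeSpectrum R, ∃ z : η.obj 𝔮.asIdeal.ResidueField,
      z ^ p ^ n = η.eta _ (algebraMap R 𝔮.asIdeal.ResidueField r) := fun 𝔮 =>
    hroot _ ((η.eta _).comp (algebraMap R 𝔮.asIdeal.ResidueField)) (eta_obj_bijective η _) _
  choose x hx using hx
  refine ⟨x, ?_, hx⟩
  intro R' _ _ _ hR' g
  obtain ⟨z, hz⟩ := hroot (FractionRing R') ((algebraMap R' (FractionRing R')).comp g) hR'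
    (algebraMap R' (FractionRing R') (g r))
  have hzint : IsIntegral R' z := by
    refine ⟨Polynomial.X ^ (p ^ n) - Polynomial.C (g r),
      Polynomial.monic_X_pow_sub_C _ (pow_ne_zero _ hp.ne_zero), ?_⟩
    simp [hz]
  obtain ⟨s, hs⟩ := IsIntegrallyClosed.isIntegral_iff.mp hzint
  have hspow : s ^ p ^ n = g r := by
    apply IsFractionRing.injective R' (FractionRing R')
    rw [map_pow, hs, hz]
  refine ⟨s, (Nmap_eq_t_of_ev η g x s ?_).symm⟩
  intro Q
  apply hinj _ ((η.eta _).comp ((algebraMap R' Q.asIdeal.ResidueField).comp g))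
  rw [ev_apply, ← map_pow, hx, ← map_pow, ← map_pow, hspow]
  have h1 := DFunLike.congr_fun (η.eta_natural (resLift ((algebraMap R' Q.asIdeal.ResidueField).comp g)))
    (algebraMap R _ r)
  simp only [RingHom.comp_apply] at h1
  rw [h1, resLift_algebraMap]
  rfl

end valring

section main13813

variable (R : Type u) [CommRing R] [IsDomain R] [ValuationRing R]

theorem image_generic_eq
    (hη : η.InV R ∨ ∀ (k : Type u) [Field k], ringChar k = ringChar R →
      Function.Bijective (η.eta k) → PerfectField k) :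
    (fun x : η.N R => x ⟨⊥, Ideal.isPrime_bot⟩) '' (η.M R : Set (η.N R)) =
      {y | ((η.eta (⊥ : Ideal R).ResidueField).comp
        (algebraMap R (⊥ : Ideal R).ResidueField)).IsIntegralElem y} := by
  apply Set.eq_of_subset_of_subset
  · rintro _ ⟨x, hx, rfl⟩
    exact isIntegralElem_component η hx ⟨⊥, Ideal.isPrime_bot⟩
  · intro y hy
    have caseA : Function.Bijective (η.eta (⊥ : Ideal R).ResidueField) →
        y ∈ (fun x : η.N R => x ⟨⊥, Ideal.isPrime_bot⟩) '' (η.M R : Set (η.N R)) := by
      intro hK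
      obtain ⟨r, hr⟩ := exists_of_isIntegral_of_bijective η R hK y hy
      exact ⟨η.t R r, η.t_mem_M R r, hr⟩
    rcases hη with hInV | hperf
    · exact caseA ((InV_iff_of_isFractionRing η R (⊥ : Ideal R).ResidueField).mp hInV)
    · have hainj : Function.Injective (algebraMap R (⊥ : Ideal R).ResidueField) :=
        IsFractionRing.injective R _
      have hcR : CharP R (ringChar R) := ringChar.charP R
      have hcK : CharP (⊥ : Ideal R).ResidueField (ringChar R) :=
        charP_of_injective_ringHom hainj (ringChar R)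
      rcases CharP.char_is_prime_or_zero R (ringChar R) with hp | hp0
      · have hexpK : ExpChar (⊥ : Ideal R).ResidueField (ringChar R) := ExpChar.prime hp
        have hexpFK : ExpChar (η.obj (⊥ : Ideal R).ResidueField) (ringChar R) :=
          expChar_of_injective_ringHom (η.eta _).injective (ringChar R)
        obtain ⟨n, c, hc⟩ := η.exists_pow_mem_range_eta (⊥ : Ideal R).ResidueField y
        rw [ringExpChar.eq (⊥ : Ideal R).ResidueField (ringChar R)] at hc
        have hcint : IsIntegral R c := by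
          apply isIntegral_of_eta η R
          rw [hc]
          let _ : Algebra R (η.obj (⊥ : Ideal R).ResidueField) :=
            ((η.eta (⊥ : Ideal R).ResidueField).comp
              (algebraMap R (⊥ : Ideal R).ResidueField)).toAlgebra
          exact IsIntegral.pow hy _
        obtain ⟨r, hr⟩ := IsIntegrallyClosed.isIntegral_iff.mp hcint
        obtain ⟨x, hx, hxr⟩ := exists_root_family η R (ringChar R) hp hperf r n
        refine ⟨x, hx, ?_⟩
        apply iterateFrobenius_inj (η.obj (⊥ : Ideal R).ResidueField) (ringChar R) n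
        simp only [iterateFrobenius_def]
        rw [hxr, hr, hc]
      · apply caseA
        have hcK0 : CharP (⊥ : Ideal R).ResidueField 0 := hp0 ▸ hcK
        have : CharZero (⊥ : Ideal R).ResidueField := CharP.charP_to_charZero _
        have hexp1 : ringExpChar (⊥ : Ideal R).ResidueField = 1 := ringExpChar.eq_one _
        refine ⟨(η.eta (⊥ : Ideal R).ResidueField).injective, fun z => ?_⟩
        obtain ⟨n, c, hc⟩ := η.exists_pow_mem_range_eta (⊥ : Ideal R).ResidueField z
        rw [hexp1, one_pow, pow_one] at hc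
        exact ⟨c, hc⟩

end main13813

section main13814

variable (R : Type u) [CommRing R] [IsDomain R] [ValuationRing R]

/-- every nonzero element of `F(K)` or its inverse is integral over `R`. -/
theorem isIntegralElem_or_inv (z : η.obj (⊥ : Ideal R).ResidueField) :
    ((η.eta (⊥ : Ideal R).ResidueField).comp
        (algebraMap R (⊥ : Ideal R).ResidueField)).IsIntegralElem z ∨
    ((η.eta (⊥ : Ideal R).ResidueField).comp
        (algebraMap R (⊥ : Ideal R).ResidueField)).IsIntegralElem z⁻¹ := by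
  obtain ⟨n, c, hc⟩ := η.exists_pow_mem_range_eta (⊥ : Ideal R).ResidueField z
  have hepos : ringExpChar (⊥ : Ideal R).ResidueField ^ n ≠ 0 :=
    pow_ne_zero _ (expChar_pos (⊥ : Ideal R).ResidueField _).ne'
  rcases ValuationRing.isInteger_or_isInteger R c with ⟨r, hr⟩ | ⟨r, hr⟩
  · left
    refine ⟨Polynomial.X ^ (ringExpChar (⊥ : Ideal R).ResidueField ^ n) - Polynomial.C r,
      Polynomial.monic_X_pow_sub_C _ hepos, ?_⟩
    simp [← hc, hr]
  · right
    refine ⟨Polynomial.X ^ (ringExpChar (⊥ : Ideal R).ResidueField ^ n) - Polynomial.C r,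
      Polynomial.monic_X_pow_sub_C _ hepos, ?_⟩
    simp [← hc, hr]

theorem main14
    (hη : η.InV R ∨ ∀ (k : Type u) [Field k], ringChar k = ringChar R →
      Function.Bijective (η.eta k) → PerfectField k) :
    IsDomain (η.M R) ∧ PreValuationRing (η.M R) ∧
      (∀ y : η.obj (⊥ : Ideal R).ResidueField, ∃ a b : η.M R,
        (b : η.N R) ⟨⊥, Ideal.isPrime_bot⟩ ≠ 0 ∧
          y * (b : η.N R) ⟨⊥, Ideal.isPrime_bot⟩ = (a : η.N R) ⟨⊥, Ideal.isPrime_bot⟩) ∧
      (fun x : η.N R => x ⟨⊥, Ideal.isPrime_bot⟩) '' (η.M R : Set (η.N R)) ∩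
          Set.range (η.eta (⊥ : Ideal R).ResidueField) =
        Set.range ((η.eta (⊥ : Ideal R).ResidueField).comp (algebraMap R (⊥ : Ideal R).ResidueField)) := by
  have himg := image_generic_eq η R hη
  have hinj : Function.Injective (proj η R ⟨⊥, Ideal.isPrime_bot⟩) := by
    intro a b hab
    exact Subtype.ext (injOn_generic η R a.2 b.2 hab)
  have hlift : ∀ z : η.obj (⊥ : Ideal R).ResidueField,
      ((η.eta (⊥ : Ideal R).ResidueField).comp
        (algebraMap R (⊥ : Ideal R).ResidueField)).IsIntegralElem z →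
      ∃ c : η.M R, proj η R ⟨⊥, Ideal.isPrime_bot⟩ c = z := by
    intro z hz
    have : z ∈ (fun x : η.N R => x ⟨⊥, Ideal.isPrime_bot⟩) '' (η.M R : Set (η.N R)) := by
      rw [himg]; exact hz
    obtain ⟨x, hx, hxz⟩ := this
    exact ⟨⟨x, hx⟩, hxz⟩
  refine ⟨hinj.isDomain _, ⟨fun a b => ?_⟩, fun y => ?_, ?_⟩
  · by_cases hb : proj η R ⟨⊥, Ideal.isPrime_bot⟩ b = 0
    · have : b = 0 := hinj (by rw [hb, map_zero])
      exact ⟨0, Or.inl (by rw [this, mul_zero])⟩
    by_cases ha : proj η R ⟨⊥, Ideal.isPrime_bot⟩ a = 0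
    · have : a = 0 := hinj (by rw [ha, map_zero])
      exact ⟨0, Or.inr (by rw [this, mul_zero])⟩
    rcases isIntegralElem_or_inv η R
      (proj η R ⟨⊥, Ideal.isPrime_bot⟩ a / proj η R ⟨⊥, Ideal.isPrime_bot⟩ b) with h | h
    · obtain ⟨c, hc⟩ := hlift _ h
      refine ⟨c, Or.inr (hinj ?_)⟩
      rw [map_mul, hc, mul_div_cancel₀ _ hb]
    · obtain ⟨c, hc⟩ := hlift _ h
      refine ⟨c, Or.inl (hinj ?_)⟩
      rw [map_mul, hc, inv_div, mul_div_cancel₀ _ ha]
  · by_cases hy : y = 0
    · refine ⟨0, 1, ?_, ?_⟩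
      · change proj η R ⟨⊥, Ideal.isPrime_bot⟩ 1 ≠ 0
        rw [map_one]; exact one_ne_zero
      · change y * proj η R ⟨⊥, Ideal.isPrime_bot⟩ 1 = proj η R ⟨⊥, Ideal.isPrime_bot⟩ 0
        rw [hy, zero_mul, map_zero]
    rcases isIntegralElem_or_inv η R y with h | h
    · obtain ⟨c, hc⟩ := hlift _ h
      refine ⟨c, 1, ?_, ?_⟩
      · change proj η R ⟨⊥, Ideal.isPrime_bot⟩ 1 ≠ 0
        rw [map_one]; exact one_ne_zero
      · change y * proj η R ⟨⊥, Ideal.isPrime_bot⟩ 1 = proj η R ⟨⊥, Ideal.isPrime_bot⟩ c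
        rw [map_one, mul_one, hc]
    · obtain ⟨c, hc⟩ := hlift _ h
      refine ⟨1, c, ?_, ?_⟩
      · change proj η R ⟨⊥, Ideal.isPrime_bot⟩ c ≠ 0
        rw [hc]; exact inv_ne_zero hy
      · change y * proj η R ⟨⊥, Ideal.isPrime_bot⟩ c = proj η R ⟨⊥, Ideal.isPrime_bot⟩ 1
        rw [hc, map_one, mul_inv_cancel₀ hy]
  · apply Set.eq_of_subset_of_subset
    · rintro y ⟨hy1, ⟨c, rfl⟩⟩
      rw [himg] at hy1
      have hc : IsIntegral R c := isIntegral_of_eta η R _ c hy1
      obtain ⟨r, hr⟩ := IsIntegrallyClosed.isIntegral_iff.mp hc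
      exact ⟨r, by rw [RingHom.comp_apply, hr]⟩
    · rintro _ ⟨r, rfl⟩
      exact ⟨⟨η.t R r, η.t_mem_M R r, rfl⟩, ⟨algebraMap R _ r, rfl⟩⟩

end main13814

end Groth.Agent.Helper16.EtaLib
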