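import Groth.Agent.H16.Hasse3
set_option autoImplicit false
set_option linter.unusedSimpArgs false

namespace Groth.Agent.Helper16.Hasse

open FunFld Module Groth.Agent.Helper17.FF

variable {k K : Type*} [Field k] [Field K] [Algebra k K]

theorem evalP_of_le (P : Place k K) {z : K} (h : P.1 z ≤ 1) :
    evalP P z = IsLocalRing.residue P.O ⟨z, (Valuation.mem_valuationSubring_iff P.1 z).mpr h⟩ :=
  dif_pos h

theorem evalP_add (P : Place k K) {x y : K} (hx : P.1 x ≤ 1) (hy : P.1 y ≤ 1) :
    evalP P (x + y) = evalP P x + evalP P y := by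
  have hxy : P.1 (x + y) ≤ 1 := (P.1.map_add x y).trans (max_le hx hy)
  rw [evalP_of_le P hx, evalP_of_le P hy, evalP_of_le P hxy, ← map_add]
  rfl

theorem evalP_mul (P : Place k K) {x y : K} (hx : P.1 x ≤ 1) (hy : P.1 y ≤ 1) :
    evalP P (x * y) = evalP P x * evalP P y := by
  have hxy : P.1 (x * y) ≤ 1 := by
    rw [map_mul]
    calc P.1 x * P.1 y ≤ 1 * 1 := mul_le_mul' hx hy
      _ = 1 := one_mul _
  rw [evalP_of_le P hx, evalP_of_le P hy, evalP_of_le P hxy, ← map_mul]
  rfl

theorem evalP_algebraMap (P : Place k K) (c : k) :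
    evalP P (algebraMap k K c) = algebraMap k (IsLocalRing.ResidueField P.O) c := by
  rw [evalP_of_le P (P.2.1 c)]
  rfl

theorem evalP_one (P : Place k K) : evalP P (1 : K) = 1 := by
  have := evalP_algebraMap P (1 : k)
  rwa [map_one, map_one] at this

theorem evalP_zero (P : Place k K) : evalP P (0 : K) = 0 := by
  have := evalP_algebraMap P (0 : k)
  rwa [map_zero, map_zero] at this

theorem evalP_eq_zero_iff (P : Place k K) {x : K} (hx : P.1 x ≤ 1) :
    evalP P x = 0 ↔ P.1 x < 1 := by
  rw [evalP_of_le P hx, IsLocalRing.residue_eq_zero_iff, mem_maximalIdeal_iff]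

theorem evalP_neg (P : Place k K) {x : K} (hx : P.1 x ≤ 1) : evalP P (-x) = -evalP P x := by
  have hnx : P.1 (-x) ≤ 1 := by rw [Valuation.map_neg]; exact hx
  have h := evalP_add P hx hnx
  rw [add_neg_cancel, evalP_zero] at h
  exact (neg_eq_of_add_eq_zero_right h.symm).symm

theorem evalP_sub (P : Place k K) {x y : K} (hx : P.1 x ≤ 1) (hy : P.1 y ≤ 1) :
    evalP P (x - y) = evalP P x - evalP P y := by
  have hny : P.1 (-y) ≤ 1 := by rw [Valuation.map_neg]; exact hy
  rw [sub_eq_add_neg, evalP_add P hx hny, evalP_neg P hy, ← sub_eq_add_neg]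

theorem evalP_eq_of_sub_lt (P : Place k K) {x y : K} (hx : P.1 x ≤ 1) (hy : P.1 y ≤ 1)
    (h : P.1 (x - y) < 1) : evalP P x = evalP P y := by
  have h1 := (evalP_eq_zero_iff P (le_of_lt h)).mpr h
  rw [evalP_sub P hx hy, sub_eq_zero] at h1
  exact h1

theorem evalP_smul (P : Place k K) (c : k) {x : K} (hx : P.1 x ≤ 1) :
    evalP P (c • x) = c • evalP P x := by
  rw [Algebra.smul_def, evalP_mul P (P.2.1 c) hx, evalP_algebraMap, Algebra.smul_def]

theorem evalP_sum (P : Place k K) {ι : Type*} (s : Finset ι) (f : ι → K)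
    (hf : ∀ i ∈ s, P.1 (f i) ≤ 1) : evalP P (∑ i ∈ s, f i) = ∑ i ∈ s, evalP P (f i) := by
  classical
  induction s using Finset.induction_on with
  | empty => simp [evalP_zero]
  | insert a s ha ih =>
    rw [Finset.sum_insert ha, Finset.sum_insert ha,
      evalP_add P (hf a (Finset.mem_insert_self a s))
        (Valuation.map_sum_le _ (fun i hi => hf i (Finset.mem_insert_of_mem hi))),
      ih (fun i hi => hf i (Finset.mem_insert_of_mem hi))]

theorem algebraMap_bijective [IsAlgClosed k] (hK : IsFunctionField k K) (P : Place k K) :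
    Function.Bijective (algebraMap k (IsLocalRing.ResidueField P.O)) := by
  have hfin : @Module.Finite k (IsLocalRing.ResidueField P.O) _ _
      (@Algebra.toModule _ _ _ _ (Place.algRes P)) := residue_finite hK P
  have hint : @Algebra.IsIntegral k (IsLocalRing.ResidueField P.O) _ _ (Place.algRes P) :=
    @Algebra.IsIntegral.of_finite k _ _ _ (Place.algRes P) hfin
  exact @IsAlgClosed.algebraMap_bijective_of_isIntegral k _ _ _ _ _ (Place.algRes P) hint

end Groth.Agent.Helper16.Hasse
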