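import Groth.Agent.H16.Taylor
import Groth.Agent.H16.SV10
import Groth.Agent.Lib.Helper17.FFLoc

/-! Existence of Laurent expansions at the places of a function field over an algebraically closed
field, from a total Hasse derivative with respect to a local parameter. -/

namespace Groth.Agent.Helper16.Hasse

open FunFld Module Groth.Agent.Helper17.FF

universe u v
variable {k : Type u} {K : Type v} [Field k] [Field K] [Algebra k K]
variable [IsAlgClosed k] (hK : IsFunctionField k K) (P : Place k K) {t : K}
  (ht : P.1 t = WithZero.exp (-1 : ℤ)) (H : K →ₐ[k] PowerSeries K)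
  (hH : LocRes.IsHasseFamily t H)

/-- the residue map to the constant field -/
noncomputable def resk : P.O →+* k :=
  ((RingEquiv.ofBijective (algebraMap k (IsLocalRing.ResidueField P.O))
    (algebraMap_bijective hK P)).symm : IsLocalRing.ResidueField P.O →+* k).comp
    (IsLocalRing.residue P.O)

lemma algebraMap_resk (x : P.O) :
    algebraMap k (IsLocalRing.ResidueField P.O) (resk hK P x) = IsLocalRing.residue P.O x := by
  unfold resk
  exact (RingEquiv.ofBijective (algebraMap k (IsLocalRing.ResidueField P.O))
    (algebraMap_bijective hK P)).apply_symm_apply _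

lemma resk_eq_zero_iff (x : P.O) : resk hK P x = 0 ↔ IsLocalRing.residue P.O x = 0 := by
  rw [← algebraMap_resk hK P x]
  constructor
  · intro h; rw [h, map_zero]
  · intro h
    exact (algebraMap_bijective hK P).1 (by rw [h, map_zero])

lemma resk_algebraMap (c : k) : resk hK P (algebraMap k P.O c) = c := by
  apply (algebraMap_bijective hK P).1
  rw [algebraMap_resk]
  rfl

include hK ht hH in
lemma hasseD_mem (f : P.O) (j : ℕ) : LocRes.hasseD H j (f : K) ∈ P.O :=
  (Valuation.mem_valuationSubring_iff _ _).mpr
    ((mem_SP.mp (hasse_mem_SP hK P ht H hH ((Valuation.mem_valuationSubring_iff _ _).mp f.2))) j)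

/-- the total Hasse derivative on the valuation ring, with coefficients in the valuation ring -/
noncomputable def tayFun (f : P.O) : PowerSeries P.O :=
  PowerSeries.mk fun j => ⟨LocRes.hasseD H j (f : K), hasseD_mem hK P ht H hH f j⟩

lemma map_tayFun (f : P.O) :
    PowerSeries.map P.O.subtype (tayFun hK P ht H hH f) = H (f : K) := by
  ext j
  rw [PowerSeries.coeff_map]
  unfold tayFun
  rw [PowerSeries.coeff_mk]
  rfl

lemma subtype_map_injective :
    Function.Injective (PowerSeries.map (P.O.subtype : P.O →+* K)) :=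
  PowerSeries.map_injective _ Subtype.val_injective

noncomputable def tay0 : P.O →+* PowerSeries P.O where
  toFun := tayFun hK P ht H hH
  map_one' := by
    apply subtype_map_injective P
    rw [map_tayFun, map_one]
    exact map_one H
  map_mul' a b := by
    apply subtype_map_injective P
    rw [map_tayFun, map_mul, map_tayFun, map_tayFun]
    exact map_mul H _ _
  map_zero' := by
    apply subtype_map_injective P
    rw [map_tayFun, map_zero]
    exact map_zero H
  map_add' a b := by
    apply subtype_map_injective P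
    rw [map_tayFun, map_add, map_tayFun, map_tayFun]
    exact map_add H _ _

/-- the Taylor expansion on the valuation ring -/
noncomputable def tay1 : P.O →+* LaurentSeries k :=
  (HahnSeries.ofPowerSeries ℤ k).comp ((PowerSeries.map (resk hK P)).comp (tay0 hK P ht H hH))

lemma tay1_coeff_nat (f : P.O) (j : ℕ) :
    algebraMap k (IsLocalRing.ResidueField P.O) ((tay1 hK P ht H hH f).coeff (j : ℤ)) =
      evalP P (LocRes.hasseD H j (f : K)) := by
  have hle : P.1 (LocRes.hasseD H j (f : K)) ≤ 1 :=
    (Valuation.mem_valuationSubring_iff _ _).mp (hasseD_mem hK P ht H hH f j)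
  unfold tay1
  rw [RingHom.comp_apply, RingHom.comp_apply, PowerSeries.coeff_coe, if_neg (by omega),
    Int.natAbs_natCast, PowerSeries.coeff_map, algebraMap_resk, evalP_of_le P hle]
  congr 1
  show PowerSeries.coeff j (tayFun hK P ht H hH f) = _
  unfold tayFun
  rw [PowerSeries.coeff_mk]

lemma tay1_coeff_neg (f : P.O) {i : ℤ} (hi : i < 0) : (tay1 hK P ht H hH f).coeff i = 0 := by
  unfold tay1
  rw [RingHom.comp_apply, PowerSeries.coeff_coe, if_pos hi]

include hK ht hH in
/-- the Taylor expansion carries the valuation of `P` to the `X`-adic valuation -/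
theorem val_tay1 (f : P.O) : Valued.v (tay1 hK P ht H hH f) = P.1 (f : K) := by
  by_cases hf0 : (f : K) = 0
  · have : f = 0 := Subtype.ext hf0
    rw [this, map_zero, map_zero]
    exact (map_zero P.1).symm
  have hfle : P.1 (f : K) ≤ 1 := (Valuation.mem_valuationSubring_iff _ _).mp f.2
  have hord : 0 ≤ P.ord (f : K) := by
    have := (val_le_exp_iff P hf0 0).mp (by rw [WithZero.exp_zero]; exact hfle)
    omega
  obtain ⟨m, hm⟩ : ∃ m : ℕ, (m : ℤ) = P.ord (f : K) := ⟨(P.ord (f : K)).toNat, Int.toNat_of_nonneg hord⟩
  have hval : P.1 (f : K) = WithZero.exp (-(m : ℤ)) := by rw [val_eq_exp_neg_ord P hf0, hm]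
  rw [hval, lval_eq_exp_iff]
  refine ⟨fun i hi => ?_, ?_⟩
  · rcases lt_or_ge i 0 with hneg | hpos
    · exact tay1_coeff_neg hK P ht H hH f hneg
    · obtain ⟨j, rfl⟩ := Int.eq_ofNat_of_zero_le hpos
      apply (algebraMap_bijective hK P).1
      rw [tay1_coeff_nat, map_zero]
      exact taylor_zero_of_le hK P ht H hH hval.le (by exact_mod_cast hi)
  · intro h0
    have h1 := tay1_coeff_nat hK P ht H hH f m
    rw [h0, map_zero] at h1
    exact (taylor_ne_zero_iff hK P ht H hH hval.le).mpr hval h1.symm

include hK ht hH in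
lemma tay1_injective : Function.Injective (tay1 hK P ht H hH) := by
  rw [injective_iff_map_eq_zero]
  intro f hf
  have h1 := val_tay1 hK P ht H hH f
  rw [hf, map_zero] at h1
  exact Subtype.ext ((map_eq_zero P.1).mp h1.symm)

/-- the Taylor expansion as a ring homomorphism `K → k((X))` -/
noncomputable def tayK : K →+* LaurentSeries k :=
  IsFractionRing.lift (A := P.O) (K := K) (tay1_injective hK P ht H hH)

lemma tayK_coe (f : P.O) : tayK hK P ht H hH (f : K) = tay1 hK P ht H hH f :=
  IsFractionRing.lift_algebraMap (A := P.O) (K := K) (tay1_injective hK P ht H hH) f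

include hK ht hH in
theorem val_tayK (f : K) : Valued.v (tayK hK P ht H hH f) = P.1 f := by
  obtain ⟨a, b, -, rfl⟩ := IsFractionRing.div_surjective (A := P.O) f
  have ha : algebraMap P.O K a = (a : K) := rfl
  have hb : algebraMap P.O K b = (b : K) := rfl
  rw [ha, hb, map_div₀, map_div₀, map_div₀, tayK_coe, tayK_coe, val_tay1 hK P ht H hH,
    val_tay1 hK P ht H hH]

lemma tay1_algebraMap (c : k) :
    tay1 hK P ht H hH (algebraMap k P.O c) = HahnSeries.C c := by
  unfold tay1
  rw [RingHom.comp_apply, RingHom.comp_apply, ← HahnSeries.ofPowerSeries_C]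
  congr 1
  ext j
  rw [PowerSeries.coeff_map]
  show resk hK P (PowerSeries.coeff j (tayFun hK P ht H hH (algebraMap k P.O c))) = _
  unfold tayFun
  rw [PowerSeries.coeff_mk, PowerSeries.coeff_C]
  have h1 : LocRes.hasseD H j ((algebraMap k P.O c : P.O) : K) = if j = 0 then algebraMap k K c else 0 := by
    show PowerSeries.coeff j (H (algebraMap k K c)) = _
    rw [AlgHom.commutes, PowerSeries.algebraMap_apply, PowerSeries.coeff_C]
  by_cases hj : j = 0
  · rw [if_pos hj]
    have : (⟨LocRes.hasseD H j ((algebraMap k P.O c : P.O) : K), hasseD_mem hK P ht H hH _ j⟩ : P.O) =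
        algebraMap k P.O c := Subtype.ext (by
          show LocRes.hasseD H j ((algebraMap k P.O c : P.O) : K) = _
          rw [h1, if_pos hj]; rfl)
    rw [this, resk_algebraMap]
  · rw [if_neg hj]
    have : (⟨LocRes.hasseD H j ((algebraMap k P.O c : P.O) : K), hasseD_mem hK P ht H hH _ j⟩ : P.O) =
        0 := Subtype.ext (by
          show LocRes.hasseD H j ((algebraMap k P.O c : P.O) : K) = _
          rw [h1, if_neg hj]; rfl)
    rw [this, map_zero]

/-- the Taylor expansion as a `k`-algebra homomorphism -/
noncomputable def tayAlg : K →ₐ[k] LaurentSeries k :=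
  { tayK hK P ht H hH with
    commutes' := fun c => by
      show tayK hK P ht H hH (algebraMap k K c) = algebraMap k (LaurentSeries k) c
      have h1 : algebraMap k K c = ((algebraMap k P.O c : P.O) : K) := rfl
      rw [h1, tayK_coe, tay1_algebraMap, LocRes.algebraMap_eq_C] }

include hK ht hH in
theorem tayAlg_isExpansion : LocRes.IsExpansionAt P.1 (tayAlg hK P ht H hH) := by
  refine ⟨fun f => val_tayK hK P ht H hH f, fun a => ?_, ⟨t, ht⟩⟩
  refine ⟨algebraMap k K a, P.2.1 a, ?_⟩
  show (tayK hK P ht H hH (algebraMap k K a)).coeff 0 = a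
  have h1 : algebraMap k K a = ((algebraMap k P.O a : P.O) : K) := rfl
  rw [h1, tayK_coe, tay1_algebraMap]
  simp

include hK in
/-- expansions exist at every place, given a total Hasse derivative -/
theorem exists_expansion {s : K} (Hs : K →ₐ[k] PowerSeries K) (hHs : LocRes.IsHasseFamily s Hs)
    (P : Place k K) : ∃ Φ : K →ₐ[k] LaurentSeries k, LocRes.IsExpansionAt P.1 Φ := by
  obtain ⟨t, ht⟩ := P.2.2 (WithZero.exp (-1 : ℤ))
  have hDt := hasseD_one_ne_zero hK P Hs hHs ht
  obtain ⟨Ht, hHt⟩ := exists_hasse Hs hHs t hDt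
  exact ⟨tayAlg hK P ht Ht hHt, tayAlg_isExpansion hK P ht Ht hHt⟩

end Groth.Agent.Helper16.Hasse
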