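import Mathlib

/-!
# Base change of exterior powers (helper16)

For a ring map `A → B` and an `A`-module `M`, the natural map
`B ⊗[A] ⋀[A]^p M → ⋀[B]^p (B ⊗[A] M)` is bijective.
-/

set_option autoImplicit false
open TensorProduct

namespace Groth.Agent.H16.ExtBC

universe u v w
variable (A : Type u) (B : Type v) (M : Type w) [CommRing A] [CommRing B] [Algebra A B]
  [AddCommGroup M] [Module A M]

/-- `b ⊗ m ↦ b ⊗ ι m`. -/
noncomputable def toLin : B ⊗[A] M →ₗ[B] B ⊗[A] ExteriorAlgebra A M :=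
  (ExteriorAlgebra.ι A : M →ₗ[A] ExteriorAlgebra A M).baseChange B

lemma toLin_tmul (b : B) (m : M) :
    toLin A B M (b ⊗ₜ m) = b ⊗ₜ ExteriorAlgebra.ι A m := rfl

lemma toLin_mul_swap (x y : B ⊗[A] M) :
    toLin A B M x * toLin A B M y + toLin A B M y * toLin A B M x = 0 := by
  induction x using TensorProduct.induction_on with
  | zero => simp
  | add x₁ x₂ h₁ h₂ =>
    rw [map_add, add_mul, mul_add, add_add_add_comm, h₁, h₂, add_zero]
  | tmul b m =>
    induction y using TensorProduct.induction_on with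
    | zero => simp
    | add y₁ y₂ h₁ h₂ =>
      rw [map_add, mul_add, add_mul, add_add_add_comm, h₁, h₂, add_zero]
    | tmul b' m' =>
      rw [toLin_tmul, toLin_tmul, Algebra.TensorProduct.tmul_mul_tmul,
        Algebra.TensorProduct.tmul_mul_tmul, mul_comm b' b, ← TensorProduct.tmul_add,
        ExteriorAlgebra.ι_add_mul_swap, TensorProduct.tmul_zero]

lemma toLin_sq (x : B ⊗[A] M) : toLin A B M x * toLin A B M x = 0 := by
  induction x using TensorProduct.induction_on with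
  | zero => simp
  | tmul b m =>
    rw [toLin_tmul, Algebra.TensorProduct.tmul_mul_tmul, ExteriorAlgebra.ι_sq_zero,
      TensorProduct.tmul_zero]
  | add x y hx hy =>
    have h := toLin_mul_swap A B M x y
    rw [map_add, add_mul, mul_add, mul_add, hx, hy, zero_add, add_zero, h]

/-- The algebra map `⋀_B (B ⊗ M) → B ⊗ ⋀_A M`. -/
noncomputable def toAlg : ExteriorAlgebra B (B ⊗[A] M) →ₐ[B] B ⊗[A] ExteriorAlgebra A M :=
  ExteriorAlgebra.lift B ⟨toLin A B M, toLin_sq A B M⟩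

lemma toAlg_ι (x : B ⊗[A] M) : toAlg A B M (ExteriorAlgebra.ι B x) = toLin A B M x :=
  ExteriorAlgebra.lift_ι_apply _ _ _ _

/-- `m ↦ ι (1 ⊗ m)`. -/
noncomputable def gLin : M →ₗ[A] ExteriorAlgebra B (B ⊗[A] M) :=
  ((ExteriorAlgebra.ι B : B ⊗[A] M →ₗ[B] ExteriorAlgebra B (B ⊗[A] M)).restrictScalars A) ∘ₗ
    (TensorProduct.mk A B M 1)

lemma gLin_apply (m : M) : gLin A B M m = ExteriorAlgebra.ι B ((1 : B) ⊗ₜ[A] m) := rfl

/-- The `A`-algebra map `⋀_A M → ⋀_B (B ⊗ M)`. -/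
noncomputable def gAlg : ExteriorAlgebra A M →ₐ[A] ExteriorAlgebra B (B ⊗[A] M) :=
  ExteriorAlgebra.lift A ⟨gLin A B M, fun _ => ExteriorAlgebra.ι_sq_zero _⟩

lemma gAlg_ι (m : M) : gAlg A B M (ExteriorAlgebra.ι A m) = ExteriorAlgebra.ι B ((1 : B) ⊗ₜ[A] m) :=
  ExteriorAlgebra.lift_ι_apply _ _ _ _

/-- The `B`-algebra map `B ⊗ ⋀_A M → ⋀_B (B ⊗ M)`. -/
noncomputable def fromAlg : B ⊗[A] ExteriorAlgebra A M →ₐ[B] ExteriorAlgebra B (B ⊗[A] M) :=
  AlgHom.liftEquiv A B (ExteriorAlgebra A M) (ExteriorAlgebra B (B ⊗[A] M)) (gAlg A B M)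

lemma fromAlg_tmul (b : B) (e : ExteriorAlgebra A M) :
    fromAlg A B M (b ⊗ₜ e) = b • gAlg A B M e := rfl

lemma toAlg_comp_fromAlg :
    (toAlg A B M).comp (fromAlg A B M) = AlgHom.id B (B ⊗[A] ExteriorAlgebra A M) := by
  apply Algebra.TensorProduct.ext_ring
  apply ExteriorAlgebra.hom_ext
  apply LinearMap.ext
  intro m
  show toAlg A B M (fromAlg A B M ((1 : B) ⊗ₜ ExteriorAlgebra.ι A m)) = (1 : B) ⊗ₜ ExteriorAlgebra.ι A m
  rw [fromAlg_tmul, one_smul, gAlg_ι, toAlg_ι, toLin_tmul]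

lemma toAlg_fromAlg (z : B ⊗[A] ExteriorAlgebra A M) : toAlg A B M (fromAlg A B M z) = z :=
  AlgHom.congr_fun (toAlg_comp_fromAlg A B M) z

lemma fromAlg_injective : Function.Injective (fromAlg A B M) :=
  Function.LeftInverse.injective (toAlg_fromAlg A B M)

section Graded

variable (p : ℕ)

/-- An `A`-linear retraction of the inclusion `⋀[A]^p M ⊆ ⋀_A M`. -/
noncomputable def retr : ExteriorAlgebra A M →ₗ[A] ↥(⋀[A]^p M) :=
  (DirectSum.component A ℕ (fun i => ↥(⋀[A]^i M)) p) ∘ₗ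
    (DirectSum.decomposeLinearEquiv (fun i : ℕ => ⋀[A]^i M)).toLinearMap

lemma retr_coe (x : ↥(⋀[A]^p M)) : retr A M p (x : ExteriorAlgebra A M) = x := by
  show DirectSum.component A ℕ (fun i => ↥(⋀[A]^i M)) p
    (DirectSum.decompose (fun i : ℕ => ⋀[A]^i M) (x : ExteriorAlgebra A M)) = x
  rw [DirectSum.decompose_coe, ← DirectSum.apply_eq_component, DirectSum.of_eq_same]

/-- `B ⊗ ⋀^p_A M → B ⊗ ⋀_A M`. -/
noncomputable def subLin : B ⊗[A] ↥(⋀[A]^p M) →ₗ[B] B ⊗[A] ExteriorAlgebra A M :=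
  (Submodule.subtype (⋀[A]^p M)).baseChange B

lemma subLin_tmul (b : B) (x : ↥(⋀[A]^p M)) :
    subLin A B M p (b ⊗ₜ x) = b ⊗ₜ (x : ExteriorAlgebra A M) := rfl

lemma subLin_injective : Function.Injective (subLin A B M p) := by
  have h : ((retr A M p).baseChange B) ∘ₗ (subLin A B M p) = LinearMap.id := by
    unfold subLin
    rw [← LinearMap.baseChange_comp]
    have : (retr A M p) ∘ₗ (Submodule.subtype (⋀[A]^p M)) = LinearMap.id :=
      LinearMap.ext fun x => retr_coe A M p x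
    rw [this, LinearMap.baseChange_id]
  exact Function.LeftInverse.injective (g := (retr A M p).baseChange B)
    (fun y => LinearMap.congr_fun h y)

/-- The alternating map `(m₁, …, m_p) ↦ (1 ⊗ m₁) ∧ … ∧ (1 ⊗ m_p)`. -/
noncomputable def jAlt : M [⋀^Fin p]→ₗ[A] ↥(⋀[B]^p (B ⊗[A] M)) :=
  { (MultilinearMap.restrictScalars A
      (exteriorPower.ιMulti B p (M := B ⊗[A] M)).toMultilinearMap).compLinearMap
        (fun _ => TensorProduct.mk A B M 1) with
    map_eq_zero_of_eq' := fun v i j hv hij =>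
      (exteriorPower.ιMulti B p (M := B ⊗[A] M)).map_eq_zero_of_eq
        (fun i => TensorProduct.mk A B M 1 (v i)) (by rw [hv]) hij }

lemma jAlt_apply (v : Fin p → M) :
    jAlt A B M p v = exteriorPower.ιMulti B p (fun i => (1 : B) ⊗ₜ[A] v i) := rfl

/-- The natural `A`-linear map `⋀^p_A M → ⋀^p_B (B ⊗ M)`. -/
noncomputable def jLin : ↥(⋀[A]^p M) →ₗ[A] ↥(⋀[B]^p (B ⊗[A] M)) :=
  exteriorPower.alternatingMapLinearEquiv (jAlt A B M p)

lemma jLin_ιMulti (v : Fin p → M) :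
    jLin A B M p (exteriorPower.ιMulti A p v) =
      exteriorPower.ιMulti B p (fun i => (1 : B) ⊗ₜ[A] v i) := by
  unfold jLin
  rw [exteriorPower.alternatingMapLinearEquiv_apply_ιMulti, jAlt_apply]

lemma jLin_coe (x : ↥(⋀[A]^p M)) :
    ((jLin A B M p x : ↥(⋀[B]^p (B ⊗[A] M))) : ExteriorAlgebra B (B ⊗[A] M)) =
      gAlg A B M (x : ExteriorAlgebra A M) := by
  have h : ((Submodule.subtype (⋀[B]^p (B ⊗[A] M))).restrictScalars A) ∘ₗ (jLin A B M p) =
      (gAlg A B M).toLinearMap ∘ₗ (Submodule.subtype (⋀[A]^p M)) := by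
    apply exteriorPower.linearMap_ext
    apply AlternatingMap.ext
    intro v
    show ((jLin A B M p (exteriorPower.ιMulti A p v) : ↥(⋀[B]^p (B ⊗[A] M))) :
        ExteriorAlgebra B (B ⊗[A] M)) =
      gAlg A B M ((exteriorPower.ιMulti A p v : ↥(⋀[A]^p M)) : ExteriorAlgebra A M)
    rw [jLin_ιMulti, exteriorPower.ιMulti_apply_coe, exteriorPower.ιMulti_apply_coe,
      ExteriorAlgebra.ιMulti_apply, ExteriorAlgebra.ιMulti_apply, map_list_prod, List.map_ofFn]
    congr 2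
    funext i
    exact (gAlg_ι A B M (v i)).symm
  exact LinearMap.congr_fun h x

/-- The natural map `B ⊗ ⋀^p_A M → ⋀^p_B (B ⊗ M)`. -/
noncomputable def Psi : B ⊗[A] ↥(⋀[A]^p M) →ₗ[B] ↥(⋀[B]^p (B ⊗[A] M)) :=
  (jLin A B M p).liftBaseChange B

lemma Psi_tmul (b : B) (x : ↥(⋀[A]^p M)) : Psi A B M p (b ⊗ₜ x) = b • jLin A B M p x := rfl

lemma Psi_coe (y : B ⊗[A] ↥(⋀[A]^p M)) :
    ((Psi A B M p y : ↥(⋀[B]^p (B ⊗[A] M))) : ExteriorAlgebra B (B ⊗[A] M)) =
      fromAlg A B M (subLin A B M p y) := by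
  induction y using TensorProduct.induction_on with
  | zero => simp
  | add y₁ y₂ h₁ h₂ => rw [map_add, map_add, map_add, Submodule.coe_add, h₁, h₂]
  | tmul b x =>
    rw [Psi_tmul, subLin_tmul, fromAlg_tmul, Submodule.coe_smul, jLin_coe]

lemma Psi_injective : Function.Injective (Psi A B M p) := by
  intro y₁ y₂ h
  apply subLin_injective A B M p
  apply fromAlg_injective A B M
  rw [← Psi_coe, ← Psi_coe, h]

lemma span_one_tmul : Submodule.span B {z : B ⊗[A] M | ∃ m : M, z = (1 : B) ⊗ₜ[A] m} = ⊤ := by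
  rw [eq_top_iff]
  intro z hz
  clear hz
  induction z using TensorProduct.induction_on with
  | zero => exact Submodule.zero_mem _
  | add y₁ y₂ h₁ h₂ => exact Submodule.add_mem _ h₁ h₂
  | tmul b m =>
    have : b ⊗ₜ[A] m = b • ((1 : B) ⊗ₜ[A] m) := by
      rw [TensorProduct.smul_tmul', smul_eq_mul, mul_one]
    rw [this]
    exact Submodule.smul_mem _ _ (Submodule.subset_span ⟨m, rfl⟩)

lemma Psi_surjective : Function.Surjective (Psi A B M p) := by
  rw [← LinearMap.range_eq_top, eq_top_iff,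
    ← exteriorPower.ιMulti_span_of_span B p (B ⊗[A] M) (span_one_tmul A B M), Submodule.span_le]
  rintro _ ⟨a, ha, rfl⟩
  have ha' : ∀ i, ∃ m : M, a i = (1 : B) ⊗ₜ[A] m := fun i => ha ⟨i, rfl⟩
  choose v hv using ha'
  refine ⟨(1 : B) ⊗ₜ[A] exteriorPower.ιMulti A p v, ?_⟩
  rw [Psi_tmul, one_smul, jLin_ιMulti]
  congr 1
  funext i
  exact (hv i).symm

theorem Psi_bijective : Function.Bijective (Psi A B M p) :=
  ⟨Psi_injective A B M p, Psi_surjective A B M p⟩

end Graded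

end Groth.Agent.H16.ExtBC
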