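import Mathlib

/-! S19094 part 1: degrees of ring homs between fields, invariance of the Frobenius degree under
finite extensions, Frobenius bases. -/

namespace Groth.Agent.H16.FB

/-- Degree of a ring hom between fields. -/
noncomputable def hdeg {A B : Type*} [Field A] [Field B] (f : A →+* B) : ℕ :=
  letI := f.toAlgebra
  Module.finrank A B

theorem hdeg_comp {A B C : Type*} [Field A] [Field B] [Field C] (f : A →+* B) (g : B →+* C) :
    hdeg (g.comp f) = hdeg f * hdeg g := by
  unfold hdeg
  letI := f.toAlgebra
  letI := g.toAlgebra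
  letI := (g.comp f).toAlgebra
  haveI : IsScalarTower A B C := IsScalarTower.of_algebraMap_eq (fun x => rfl)
  exact (Module.finrank_mul_finrank A B C).symm

theorem finrank_fieldRange {A B : Type*} [Field A] [Field B] (f : A →+* B) :
    Module.finrank f.fieldRange B = hdeg f := by
  unfold hdeg
  letI := f.toAlgebra
  symm
  refine Algebra.finrank_eq_of_equiv_equiv f.rangeRestrictFieldEquiv (RingEquiv.refl B) ?_
  ext x
  rfl

theorem hdeg_of_equiv {A B A' B' : Type*} [Field A] [Field B] [Field A'] [Field B']
    (f : A →+* B) (f' : A' →+* B') (i : A ≃+* A') (j : B ≃+* B')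
    (hc : f'.comp i.toRingHom = j.toRingHom.comp f) : hdeg f = hdeg f' := by
  unfold hdeg
  letI := f.toAlgebra
  letI := f'.toAlgebra
  exact Algebra.finrank_eq_of_equiv_equiv i j hc

/-- Invariance of the Frobenius degree under finite extensions. -/
theorem hdeg_frobenius_eq {E L : Type*} [Field E] [Field L] (p : ℕ) [ExpChar E p] [ExpChar L p]
    (i : E →+* L) (hi : hdeg i ≠ 0) : hdeg (frobenius L p) = hdeg (frobenius E p) := by
  have hc : (frobenius L p).comp i = i.comp (frobenius E p) := by
    ext x
    simp [frobenius_def]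
  have h1 := hdeg_comp i (frobenius L p)
  have h2 := hdeg_comp (frobenius E p) i
  rw [hc, h2] at h1
  have : hdeg i * hdeg (frobenius E p) = hdeg i * hdeg (frobenius L p) := by
    rw [← h1, mul_comm]
  exact (Nat.eq_of_mul_eq_mul_left (Nat.pos_of_ne_zero hi) this).symm

/-- A Frobenius basis: every element is uniquely `∑ cᵢ^p βᵢ`. -/
def IsFrobBasis {A : Type*} [CommRing A] (p : ℕ) {ι : Type*} [Fintype ι] (β : ι → A) : Prop :=
  Function.Bijective (fun c : ι → A => ∑ i, (c i) ^ p * β i)

theorem finrank_of_isFrobBasis {L : Type*} [Field L] (p : ℕ) [ExpChar L p] {ι : Type*}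
    [Fintype ι] (β : ι → L) (h : IsFrobBasis p β) :
    Module.finrank (frobenius L p).fieldRange L = Fintype.card ι := by
  classical
  have hli : LinearIndependent (frobenius L p).fieldRange β := by
    rw [Fintype.linearIndependent_iff]
    intro g hg
    have hc : ∀ i, ∃ c : L, frobenius L p c = (g i : L) := fun i => by
      have := (g i).2
      rw [RingHom.mem_fieldRange] at this
      exact this
    choose c hc using hc
    have h0 : (fun c : ι → L => ∑ i, (c i) ^ p * β i) c =
        (fun c : ι → L => ∑ i, (c i) ^ p * β i) 0 := by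
      simp only [Pi.zero_apply]
      have hp : p ≠ 0 := (expChar_pos L p).ne'
      rw [zero_pow hp]
      simp only [zero_mul, Finset.sum_const_zero]
      rw [← hg]
      refine Finset.sum_congr rfl (fun i _ => ?_)
      rw [Subfield.smul_def, ← hc i, frobenius_def, smul_eq_mul]
    have := h.1 h0
    intro i
    apply Subtype.ext
    rw [← hc i, congrFun this i]
    simp
  have hsp : ⊤ ≤ Submodule.span (frobenius L p).fieldRange (Set.range β) := by
    intro a _
    obtain ⟨c, hc⟩ := h.2 a
    rw [← hc]
    refine Submodule.sum_mem _ (fun i _ => ?_)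
    have : (c i) ^ p * β i =
        (⟨(c i) ^ p, by rw [RingHom.mem_fieldRange]; exact ⟨c i, rfl⟩⟩ :
          (frobenius L p).fieldRange) • β i := by
      rw [Subfield.smul_def, smul_eq_mul]
    rw [this]
    exact Submodule.smul_mem _ _ (Submodule.subset_span ⟨i, rfl⟩)
  exact Module.finrank_eq_card_basis (Module.Basis.mk hli hsp)

end Groth.Agent.H16.FB
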