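import Groth.Agent.H16.FB1

/-! S19094 part 2: a Frobenius basis of a domain is a Frobenius basis of its fraction field. -/

namespace Groth.Agent.H16.FB

theorem exists_common_denom {A K₁ : Type*} [CommRing A] [IsDomain A] [Field K₁] [Algebra A K₁]
    [IsFractionRing A K₁] {ι : Type*} [Fintype ι] (c : ι → K₁) :
    ∃ v : A, v ≠ 0 ∧ ∀ i, ∃ a : A, c i * algebraMap A K₁ v = algebraMap A K₁ a := by
  classical
  have h : ∀ i, ∃ a v : A, v ≠ 0 ∧ c i = algebraMap A K₁ a / algebraMap A K₁ v := by
    intro i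
    obtain ⟨a, v, hv, h⟩ := IsFractionRing.div_surjective (A := A) (c i)
    exact ⟨a, v, nonZeroDivisors.ne_zero hv, h.symm⟩
  choose a v hv hc using h
  refine ⟨∏ i, v i, Finset.prod_ne_zero_iff.mpr (fun i _ => hv i), fun i => ?_⟩
  refine ⟨a i * ∏ j ∈ Finset.univ.erase i, v j, ?_⟩
  rw [← Finset.mul_prod_erase Finset.univ v (Finset.mem_univ i), hc i, map_mul, map_mul]
  have : algebraMap A K₁ (v i) ≠ 0 := by
    rw [Ne, map_eq_zero_iff _ (IsFractionRing.injective A K₁)]
    exact hv i
  field_simp

theorem isFrobBasis_fraction {A K₁ : Type*} [CommRing A] [IsDomain A] [Field K₁] [Algebra A K₁]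
    [IsFractionRing A K₁] (p : ℕ) (hp : p ≠ 0) {ι : Type*} [Fintype ι] (β : ι → A)
    (hβ : IsFrobBasis p β) : IsFrobBasis p (fun i => algebraMap A K₁ (β i)) := by
  classical
  have hinj : Function.Injective (algebraMap A K₁) := IsFractionRing.injective A K₁
  constructor
  · intro x y hxy
    simp only at hxy
    obtain ⟨v, hv, hx⟩ := exists_common_denom (A := A) x
    obtain ⟨w, hw, hy⟩ := exists_common_denom (A := A) y
    choose a ha using hx
    choose b hb using hy
    have hv' : algebraMap A K₁ v ≠ 0 := by rwa [Ne, map_eq_zero_iff _ hinj]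
    have hw' : algebraMap A K₁ w ≠ 0 := by rwa [Ne, map_eq_zero_iff _ hinj]
    -- x i * (v w) = a i * w, y i * (v w) = b i * v
    have key : (fun c : ι → A => ∑ i, (c i) ^ p * β i) (fun i => a i * w) =
        (fun c : ι → A => ∑ i, (c i) ^ p * β i) (fun i => b i * v) := by
      apply hinj
      simp only [map_sum, map_mul, map_pow]
      have e1 : ∀ i, (algebraMap A K₁ (a i) * algebraMap A K₁ w) ^ p * algebraMap A K₁ (β i) =
          (algebraMap A K₁ v * algebraMap A K₁ w) ^ p * (x i ^ p * algebraMap A K₁ (β i)) := by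
        intro i
        rw [← ha i]; ring
      have e2 : ∀ i, (algebraMap A K₁ (b i) * algebraMap A K₁ v) ^ p * algebraMap A K₁ (β i) =
          (algebraMap A K₁ v * algebraMap A K₁ w) ^ p * (y i ^ p * algebraMap A K₁ (β i)) := by
        intro i
        rw [← hb i]; ring
      simp only [e1, e2, ← Finset.mul_sum, hxy]
    have h2 := hβ.1 key
    funext i
    have h3 : a i * w = b i * v := congrFun h2 i
    have h4 : x i * algebraMap A K₁ v * algebraMap A K₁ w =
        y i * algebraMap A K₁ w * algebraMap A K₁ v := by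
      rw [ha i, hb i, ← map_mul, ← map_mul, h3]
    have h5 : x i * (algebraMap A K₁ v * algebraMap A K₁ w) =
        y i * (algebraMap A K₁ v * algebraMap A K₁ w) := by
      rw [← mul_assoc, h4]; ring
    exact mul_right_cancel₀ (mul_ne_zero hv' hw') h5
  · intro x
    obtain ⟨a, v, hv, hx⟩ := IsFractionRing.div_surjective (A := A) x
    have hv0 : v ≠ 0 := nonZeroDivisors.ne_zero hv
    have hv' : algebraMap A K₁ v ≠ 0 := by rwa [Ne, map_eq_zero_iff _ hinj]
    obtain ⟨c, hc⟩ := hβ.2 (a * v ^ (p - 1))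
    refine ⟨fun i => algebraMap A K₁ (c i) / algebraMap A K₁ v, ?_⟩
    simp only at hc ⊢
    have : ∀ i, (algebraMap A K₁ (c i) / algebraMap A K₁ v) ^ p * algebraMap A K₁ (β i) =
        (algebraMap A K₁ v ^ p)⁻¹ * algebraMap A K₁ ((c i) ^ p * β i) := by
      intro i
      rw [div_pow, map_mul, map_pow]
      field_simp
    simp only [this, ← Finset.mul_sum, ← map_sum, hc]
    rw [← hx, map_mul, map_pow]
    have hpp : p = (p - 1) + 1 := by omega
    field_simp
    rw [hpp, pow_succ]
    simp
    ring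

end Groth.Agent.H16.FB
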