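import Groth.Agent.H16.FB1

/-! S19094 part 3: Frobenius basis of a polynomial ring in several variables. -/

namespace Groth.Agent.H16.FB

open MvPolynomial

variable {E : Type*} [CommRing E] (p : ℕ) [ExpChar E p] {σ : Type*} [Fintype σ]

/-- Exponent vector of `e : σ → Fin p`. -/
noncomputable def expo (e : σ → Fin p) : σ →₀ ℕ :=
  Finsupp.equivFunOnFinite.symm (fun i => (e i : ℕ))

omit [Fintype σ] in
theorem coeff_pow_p_smul (hp : p ≠ 0) (g : MvPolynomial σ E) (q : σ →₀ ℕ) :
    coeff (p • q) (g ^ p) = (coeff q g) ^ p := by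
  rw [← map_frobenius_expand p, coeff_map, coeff_expand_smul p hp, frobenius_def]

omit [Fintype σ] in
theorem coeff_pow_p_of_not_dvd (g : MvPolynomial σ E) {m : σ →₀ ℕ} {i : σ} (h : ¬ p ∣ m i) :
    coeff m (g ^ p) = 0 := by
  rw [← map_frobenius_expand p, coeff_map, coeff_expand_of_not_dvd (h := h), map_zero]

theorem coeff_term (hp : p ≠ 0) (g : MvPolynomial σ E) (b : E) (e e' : σ → Fin p)
    (q : σ →₀ ℕ) :
    coeff (p • q + expo p e) (g ^ p * monomial (expo p e') b) =
      if e' = e then (coeff q g) ^ p * b else 0 := by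
  rw [coeff_mul_monomial']
  by_cases hee : e' = e
  · subst hee
    rw [if_pos rfl, if_pos le_add_self, add_tsub_cancel_right, coeff_pow_p_smul p hp]
  · rw [if_neg hee]
    split_ifs with hle
    · obtain ⟨i, hi⟩ := Function.ne_iff.mp hee
      have hlei := hle i
      have hnd : ¬ p ∣ (p • q + expo p e - expo p e') i := by
        rintro ⟨t, ht⟩
        simp only [Finsupp.coe_tsub, Finsupp.coe_add, Finsupp.coe_smul, Pi.sub_apply, Pi.add_apply,
          Pi.smul_apply, smul_eq_mul] at ht
        have h1 : (expo p e) i = (e i : ℕ) := rfl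
        have h2 : (expo p e') i = (e' i : ℕ) := rfl
        simp only [Finsupp.coe_add, Finsupp.coe_smul, Pi.add_apply, Pi.smul_apply,
          smul_eq_mul] at hlei
        rw [h1, h2] at ht hlei
        have h3 : p * q i + (e i : ℕ) = p * t + (e' i : ℕ) := by omega
        have h4 := congrArg (· % p) h3
        simp only [Nat.mul_add_mod] at h4
        rw [Nat.mod_eq_of_lt (e i).isLt, Nat.mod_eq_of_lt (e' i).isLt] at h4
        exact hi (Fin.ext h4.symm)
      rw [coeff_pow_p_of_not_dvd p g hnd, zero_mul]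
    · rfl

theorem exists_decomp (hp : p ≠ 0) (n : σ →₀ ℕ) :
    ∃ (q : σ →₀ ℕ) (e : σ → Fin p), n = p • q + expo p e := by
  refine ⟨Finsupp.equivFunOnFinite.symm (fun i => n i / p),
    fun i => ⟨n i % p, Nat.mod_lt _ (Nat.pos_of_ne_zero hp)⟩, ?_⟩
  ext i
  simp only [Finsupp.coe_add, Finsupp.coe_smul, Pi.add_apply, Pi.smul_apply, smul_eq_mul]
  show n i = p * (n i / p) + n i % p
  exact (Nat.div_add_mod _ _).symm

theorem isFrobBasis_mvPolynomial {J : Type*} [Fintype J] [DecidableEq σ] (β : J → E)
    (hβ : IsFrobBasis p β) :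
    IsFrobBasis p (fun je : J × (σ → Fin p) =>
      (monomial (expo p je.2) (β je.1) : MvPolynomial σ E)) := by
  classical
  have hp : p ≠ 0 := (expChar_pos E p).ne'
  -- coefficient formula
  have hcoeff : ∀ (c : J × (σ → Fin p) → MvPolynomial σ E) (q : σ →₀ ℕ) (e : σ → Fin p),
      coeff (p • q + expo p e) (∑ je, (c je) ^ p * monomial (expo p je.2) (β je.1)) =
        ∑ j, (coeff q (c (j, e))) ^ p * β j := by
    intro c q e
    rw [coeff_sum, Fintype.sum_prod_type]
    refine Finset.sum_congr rfl (fun j _ => ?_)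
    simp only [coeff_term p hp]
    rw [Finset.sum_ite_eq' Finset.univ e]
    simp
  constructor
  · intro c c' hcc
    simp only at hcc
    funext ⟨j, e⟩
    ext q
    have h1 := hcoeff c q e
    have h2 := hcoeff c' q e
    rw [hcc, h2] at h1
    have := hβ.1 (a₁ := fun j => coeff q (c' (j, e))) (a₂ := fun j => coeff q (c (j, e))) h1
    exact (congrFun this j).symm
  · intro f
    induction f using MvPolynomial.induction_on' with
    | monomial n a =>
      obtain ⟨q, e, rfl⟩ := exists_decomp p hp n
      obtain ⟨d, hd⟩ := hβ.2 a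
      refine ⟨fun je => if je.2 = e then monomial q (d je.1) else 0, ?_⟩
      simp only at hd ⊢
      rw [Fintype.sum_prod_type]
      have : ∀ j : J, ∑ e' : σ → Fin p,
          (if e' = e then (monomial q (d j) : MvPolynomial σ E) else 0) ^ p *
            monomial (expo p e') (β j) =
          monomial (p • q + expo p e) ((d j) ^ p * β j) := by
        intro j
        rw [Finset.sum_eq_single e]
        · rw [if_pos rfl, monomial_pow, monomial_mul]
        · intro e' _ hne
          rw [if_neg hne, zero_pow hp, zero_mul]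
        · intro h; exact absurd (Finset.mem_univ _) h
      simp only [this]
      rw [← map_sum, hd]
    | add f₁ f₂ h₁ h₂ =>
      obtain ⟨c₁, hc₁⟩ := h₁
      obtain ⟨c₂, hc₂⟩ := h₂
      refine ⟨c₁ + c₂, ?_⟩
      simp only [Pi.add_apply] at hc₁ hc₂ ⊢
      rw [← hc₁, ← hc₂, ← Finset.sum_add_distrib]
      refine Finset.sum_congr rfl (fun je _ => ?_)
      rw [add_pow_expChar, add_mul]

end Groth.Agent.H16.FB
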