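import Groth.Agent.H16.FB1

/-! S19094 part 4: Frobenius basis `1, t, …, t^(p-1)` of the Laurent series field over a perfect field. -/

namespace Groth.Agent.H16.FB

open PowerSeries in
theorem ps_coeff_pow_p {k : Type*} [CommRing k] (p : ℕ) [ExpChar k p] (h : PowerSeries k) (n : ℕ) :
    PowerSeries.coeff n (h ^ p) = if p ∣ n then (PowerSeries.coeff (n / p) h) ^ p else 0 := by
  have hp : 0 < p := expChar_pos k p
  have h1 : PowerSeries.coeff n (h ^ p) =
      PowerSeries.coeff n ((trunc (n + 1) (h ^ p) : Polynomial k) : PowerSeries k) :=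
    (coeff_coe_trunc_of_lt (Nat.lt_succ_self n)).symm
  rw [h1, ← trunc_trunc_pow, coeff_coe_trunc_of_lt (Nat.lt_succ_self n), ← Polynomial.coe_pow,
    Polynomial.coeff_coe, ← Polynomial.map_frobenius_expand, Polynomial.coeff_map,
    Polynomial.coeff_expand hp]
  split_ifs with hd
  · rw [frobenius_def, coeff_trunc, if_pos]
    exact lt_of_le_of_lt (Nat.div_le_self n p) (Nat.lt_succ_self n)
  · simp


open HahnSeries LaurentSeries in
/-- Coefficients of `p`-th powers of Laurent series. -/
theorem ls_coeff_pow_p {k : Type*} [CommRing k] (p : ℕ) [ExpChar k p] (g : LaurentSeries k)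
    (n : ℤ) :
    (g ^ p).coeff n = if (p : ℤ) ∣ n then (g.coeff (n / p)) ^ p else 0 := by
  have hp : 0 < p := expChar_pos k p
  have hp' : (p : ℤ) ≠ 0 := by exact_mod_cast hp.ne'
  set o := g.order with ho
  set h := g.powerSeriesPart with hh
  have hg : g = (single o 1 : LaurentSeries k) * (h : LaurentSeries k) :=
    (single_order_mul_powerSeriesPart g).symm
  have hcoef : ∀ m : ℤ, g.coeff m = ((h : PowerSeries k) : LaurentSeries k).coeff (m - o) := by
    intro m
    conv_lhs => rw [hg, ← sub_add_cancel m o, coeff_single_mul_add, one_mul]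
  have hgp : g ^ p = (single (p • o) 1 : LaurentSeries k) * ((h ^ p : PowerSeries k) :
      LaurentSeries k) := by
    conv_lhs => rw [hg, mul_pow, single_pow, one_pow, ← map_pow]
  have hcoefp : (g ^ p).coeff n =
      ((h ^ p : PowerSeries k) : LaurentSeries k).coeff (n - p • o) := by
    conv_lhs => rw [hgp, ← sub_add_cancel n (p • o), coeff_single_mul_add, one_mul]
  rw [hcoefp, PowerSeries.coeff_coe]
  have hpo : p • o = (p : ℤ) * o := by simp
  by_cases hd : (p : ℤ) ∣ n
  · obtain ⟨m, rfl⟩ := hd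
    rw [if_pos (dvd_mul_right _ _), Int.mul_ediv_cancel_left _ hp', hcoef m,
      PowerSeries.coeff_coe, hpo, ← mul_sub]
    by_cases hneg : m - o < 0
    · rw [if_pos hneg, if_pos (by nlinarith), zero_pow hp.ne']
    · rw [if_neg hneg, if_neg (by nlinarith), ps_coeff_pow_p]
      have hnat : ((p : ℤ) * (m - o)).natAbs = p * (m - o).natAbs := by
        rw [Int.natAbs_mul, Int.natAbs_natCast]
      rw [hnat, if_pos (dvd_mul_right _ _), Nat.mul_div_cancel_left _ hp]
  · rw [if_neg hd]
    split_ifs with hneg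
    · rfl
    · rw [ps_coeff_pow_p, if_neg]
      intro hdvd
      apply hd
      have h1 : (p : ℤ) ∣ ((n - p • o).natAbs : ℤ) := by exact_mod_cast hdvd
      rw [Int.natCast_natAbs, dvd_abs, hpo] at h1
      have := dvd_add h1 (dvd_mul_right (p : ℤ) o)
      simpa using this


open HahnSeries in
theorem ls_coeff_comb {k : Type*} [CommRing k] (p : ℕ) [ExpChar k p]
    (c : Fin p → LaurentSeries k) (m : ℤ) (j : Fin p) :
    (∑ j' : Fin p, (c j') ^ p * (single ((j' : ℕ) : ℤ) (1 : k) : LaurentSeries k)).coeff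
        ((p : ℤ) * m + ((j : ℕ) : ℤ)) = ((c j).coeff m) ^ p := by
  have hp : 0 < p := expChar_pos k p
  have hp' : (p : ℤ) ≠ 0 := by exact_mod_cast hp.ne'
  rw [coeff_sum, Finset.sum_eq_single j]
  · have : (p : ℤ) * m + ((j : ℕ) : ℤ) = (p : ℤ) * m + ((j : ℕ) : ℤ) := rfl
    rw [coeff_mul_single_add, mul_one, ls_coeff_pow_p, if_pos (dvd_mul_right _ _),
      Int.mul_ediv_cancel_left _ hp']
  · intro j' _ hne
    have e : (p : ℤ) * m + ((j : ℕ) : ℤ) =
        ((p : ℤ) * m + ((j : ℕ) : ℤ) - ((j' : ℕ) : ℤ)) + ((j' : ℕ) : ℤ) := by ring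
    rw [e, coeff_mul_single_add, mul_one, ls_coeff_pow_p, if_neg]
    rintro ⟨t, ht⟩
    apply hne
    have hj := j.isLt
    have hj' := j'.isLt
    have h1 : ((j : ℕ) : ℤ) - ((j' : ℕ) : ℤ) = (p : ℤ) * (t - m) := by linarith
    have h2 : t - m = 0 := by
      by_contra h0
      rcases lt_or_gt_of_ne h0 with h | h
      · have : (p : ℤ) * (t - m) ≤ (p : ℤ) * (-1) := by
          apply mul_le_mul_of_nonneg_left _ (by positivity)
          omega
        omega
      · have : (p : ℤ) * 1 ≤ (p : ℤ) * (t - m) := by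
          apply mul_le_mul_of_nonneg_left _ (by positivity)
          omega
        omega
    rw [h2, mul_zero] at h1
    apply Fin.ext
    omega
  · intro h; exact absurd (Finset.mem_univ _) h

open HahnSeries in
theorem isFrobBasis_laurentSeries {k : Type*} [Field k] (p : ℕ) [ExpChar k p] [PerfectRing k p] :
    IsFrobBasis p (fun j : Fin p => (single ((j : ℕ) : ℤ) (1 : k) : LaurentSeries k)) := by
  have hp : 0 < p := expChar_pos k p
  have hp' : (p : ℤ) ≠ 0 := by exact_mod_cast hp.ne'
  have hdecomp : ∀ n : ℤ, ∃ (m : ℤ) (j : Fin p), n = (p : ℤ) * m + ((j : ℕ) : ℤ) := by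
    intro n
    have h1 : 0 ≤ n % (p : ℤ) := Int.emod_nonneg _ hp'
    have h2 : n % (p : ℤ) < p := Int.emod_lt_of_pos _ (by exact_mod_cast hp)
    refine ⟨n / p, ⟨(n % (p : ℤ)).toNat, by omega⟩, ?_⟩
    simp only [Int.toNat_of_nonneg h1]
    exact (Int.mul_ediv_add_emod n p).symm
  constructor
  · intro c c' hcc
    simp only at hcc
    funext j
    ext m
    have h1 := ls_coeff_comb p c m j
    have h2 := ls_coeff_comb p c' m j
    rw [hcc, h2] at h1
    exact (frobenius_inj k p h1).symm
  · intro f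
    have hbdd : ∀ j : Fin p, BddBelow (Function.support
        (fun m : ℤ => (frobeniusEquiv k p).symm (f.coeff ((p : ℤ) * m + ((j : ℕ) : ℤ))))) := by
      intro j
      refine ⟨min f.order 0, fun m hm => ?_⟩
      by_contra hlt
      push Not at hlt
      apply hm
      simp only
      have hz : f.coeff ((p : ℤ) * m + ((j : ℕ) : ℤ)) = 0 := by
        apply coeff_eq_zero_of_lt_order
        have hj := j.isLt
        have hb : min f.order 0 ≤ 0 := min_le_right _ _
        have hb' : min f.order 0 ≤ f.order := min_le_left _ _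
        have h1 : (p : ℤ) * (m + 1) ≤ (p : ℤ) * min f.order 0 := by
          apply mul_le_mul_of_nonneg_left _ (by positivity)
          omega
        have h2 : (p : ℤ) * min f.order 0 ≤ 1 * min f.order 0 := by
          apply mul_le_mul_of_nonpos_right _ hb
          exact_mod_cast hp
        have h3 : (p : ℤ) * (m + 1) = (p : ℤ) * m + p := by ring
        omega
      rw [hz, map_zero]
    refine ⟨fun j => ofSuppBddBelow _ (hbdd j), ?_⟩
    ext n
    obtain ⟨m, j, rfl⟩ := hdecomp n
    rw [ls_coeff_comb, coeff_ofSuppBddBelow]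
    exact frobeniusEquiv_symm_pow_p k p _

end Groth.Agent.H16.FB
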