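import Groth.Agent.H16.FB2
import Groth.Agent.H16.FB3
import Groth.Agent.H16.FB4

/-! S19094 part 5: assembly. -/

universe u

namespace Groth.Agent.H16.FB

theorem IsFrobBasis.map_equiv {A B : Type*} [CommRing A] [CommRing B] (p : ℕ) {ι : Type*}
    [Fintype ι] (β : ι → A) (e : A ≃+* B) (h : IsFrobBasis p β) :
    IsFrobBasis p (fun i => e (β i)) := by
  have hΦ : ∀ c : ι → B, ∑ i, (c i) ^ p * e (β i) = e (∑ i, (e.symm (c i)) ^ p * β i) := by
    intro c
    simp [map_sum, map_mul, map_pow]
  constructor
  · intro c c' hcc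
    simp only at hcc
    rw [hΦ, hΦ] at hcc
    have := h.1 (e.injective hcc)
    funext i
    exact e.symm.injective (congrFun this i)
  · intro b
    obtain ⟨c, hc⟩ := h.2 (e.symm b)
    refine ⟨fun i => e (c i), ?_⟩
    simp only at hc ⊢
    rw [hΦ]
    simp only [RingEquiv.symm_apply_apply, hc, RingEquiv.apply_symm_apply]

theorem hdeg_algebraMap {A B : Type*} [Field A] [Field B] [Algebra A B] :
    hdeg (algebraMap A B) = Module.finrank A B := by
  unfold hdeg
  exact @Algebra.finrank_eq_of_equiv_equiv A B _ _ (algebraMap A B).toAlgebra A B _ _ _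
    (RingEquiv.refl A) (RingEquiv.refl B) (by ext; rfl)

open IntermediateField.algebraAdjoinAdjoin in
theorem main (p : ℕ) [Fact p.Prime] (k : Type u) [Field k] [Finite k] [CharP k p]
    (K : Type u) [Field K] [Algebra (LaurentSeries k) K] [CharP K p]
    (hfg : (⊤ : IntermediateField (LaurentSeries k) K).FG) (d : ℕ)
    (hd : Algebra.trdeg (LaurentSeries k) K = d) :
    Module.finrank (frobenius K p).fieldRange K = p ^ (d + 1) := by
  classical
  haveI : ExpChar k p := ExpChar.prime Fact.out
  haveI : ExpChar K p := ExpChar.prime Fact.out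
  haveI : CharP (LaurentSeries k) p :=
    (algebraMap (LaurentSeries k) K).charP (algebraMap (LaurentSeries k) K).injective p
  haveI : ExpChar (LaurentSeries k) p := ExpChar.prime Fact.out
  -- transcendence basis
  obtain ⟨ι, x, hx⟩ := exists_isTranscendenceBasis' (LaurentSeries k) K
  have hcard : Cardinal.mk ι = d := by rw [hx.cardinalMk_eq_trdeg, hd]
  haveI : Finite ι := by
    rw [← Cardinal.lt_aleph0_iff_finite, hcard]
    exact Cardinal.natCast_lt_aleph0
  haveI : Fintype ι := Fintype.ofFinite ι
  have hcard' : Fintype.card ι = d := by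
    have : (Fintype.card ι : Cardinal) = d := by rw [← Cardinal.mk_fintype, hcard]
    exact_mod_cast this
  -- the intermediate field
  set L₀ := IntermediateField.adjoin (LaurentSeries k) (Set.range x) with hL₀
  haveI : CharP L₀ p := (algebraMap L₀ K).charP (algebraMap L₀ K).injective p
  haveI : ExpChar L₀ p := ExpChar.prime Fact.out
  -- Frobenius basis of `L₀`
  have hb1 := isFrobBasis_laurentSeries (k := k) p
  have hb2 := isFrobBasis_mvPolynomial (E := LaurentSeries k) p (σ := ι) _ hb1
  have hb3 := IsFrobBasis.map_equiv p _ hx.1.aevalEquiv.toRingEquiv hb2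
  have hb4 := isFrobBasis_fraction (A := Algebra.adjoin (LaurentSeries k) (Set.range x))
    (K₁ := L₀) p (Fact.out : p.Prime).ne_zero _ hb3
  have h1 := finrank_of_isFrobBasis p _ hb4
  rw [finrank_fieldRange] at h1
  -- `K` is finite over `L₀`
  haveI halg : Algebra.IsAlgebraic L₀ K := hx.isAlgebraic_field
  obtain ⟨S, hS⟩ := hfg
  have htop : IntermediateField.adjoin L₀ (S : Set K) = ⊤ := by
    rw [← IntermediateField.restrictScalars_eq_top_iff (K := LaurentSeries k),
      IntermediateField.adjoin_adjoin_left, eq_top_iff, ← hS]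
    exact IntermediateField.adjoin.mono _ _ _ Set.subset_union_right
  haveI hfin : FiniteDimensional L₀ (IntermediateField.adjoin L₀ (S : Set K)) :=
    IntermediateField.finiteDimensional_adjoin (fun y _ => (halg.isAlgebraic y).isIntegral)
  haveI hfinK : FiniteDimensional L₀ K := by
    rw [htop] at hfin
    exact Module.Finite.equiv (IntermediateField.topEquiv (F := L₀) (E := K)).toLinearEquiv
  have hpos : hdeg (algebraMap L₀ K) ≠ 0 := by
    rw [hdeg_algebraMap]
    exact (Module.finrank_pos (R := L₀) (M := K)).ne'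
  have h2 := hdeg_frobenius_eq p (algebraMap L₀ K) hpos
  rw [finrank_fieldRange, h2, h1]
  simp only [Fintype.card_prod, Fintype.card_fin, Fintype.card_pi, Finset.prod_const,
    Finset.card_univ, hcard']
  rw [pow_succ, mul_comm]

end Groth.Agent.H16.FB
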