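import Mathlib
import Groth.Prelude.Def_W4bk4grassmannianPl
import Groth.Agent.H16.SN2
import Groth.Agent.H16.SO1
import Groth.Agent.H16.PQ1

set_option autoImplicit false
set_option linter.unusedSectionVars false
set_option linter.style.haveILetI false

/-! First fundamental theorem for `SL_d`: the easy direction and the descent step. -/

namespace Groth.Agent.H16.FT

open W4bk4grassmannian MvPolynomial

universe u

variable (K : Type u) [Field K] {d n : ℕ}

/-- the point of a matrix. -/
def pt (A : Matrix (Fin n) (Fin d) K) : Fin n × Fin d → K := fun p => A p.1 p.2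

theorem eval_minor (A : Matrix (Fin n) (Fin d) K) (a : Fin d → Fin n) :
    eval (pt K A) (minor K d n a) = (A.submatrix a id).det := by
  unfold minor
  rw [RingHom.map_det]
  congr 1
  apply Matrix.ext
  intro s t
  show eval (pt K A) (X (a s, t)) = A (a s) t
  rw [eval_X]
  rfl

theorem eval_pluckerMap (A : Matrix (Fin n) (Fin d) K) (c : PlRing K d n) :
    eval (pt K A) (pluckerMap K d n c) =
      eval (fun θ : Idx d n => (A.submatrix θ.1 id).det) c := by
  induction c using MvPolynomial.induction_on with
  | C c =>
    have : pluckerMap K d n (C c) = C c := by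
      unfold pluckerMap; rw [aeval_C]; rfl
    rw [this, eval_C, eval_C]
  | add p q hp hq => rw [map_add, map_add, map_add, hp, hq]
  | mul_X p θ hp =>
    rw [map_mul, map_mul, map_mul, hp, eval_X]
    congr 1
    unfold pluckerMap
    rw [aeval_X, eval_minor]

theorem eval_rightTranslate (g : Matrix.SpecialLinearGroup (Fin d) K)
    (A : Matrix (Fin n) (Fin d) K) (F : MatRing K d n) :
    eval (pt K A) (rightTranslate K d n g F) =
      eval (pt K (A * (g : Matrix (Fin d) (Fin d) K))) F := by
  induction F using MvPolynomial.induction_on with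
  | C c =>
    have : rightTranslate K d n g (C c) = C c := by
      unfold rightTranslate; rw [aeval_C]; rfl
    rw [this, eval_C, eval_C]
  | add p q hp hq => rw [map_add, map_add, map_add, hp, hq]
  | mul_X p x hp =>
    rw [map_mul, map_mul, map_mul, hp, eval_X]
    congr 1
    unfold rightTranslate
    rw [aeval_X, map_sum]
    show _ = (A * (g : Matrix (Fin d) (Fin d) K)) x.1 x.2
    rw [Matrix.mul_apply]
    refine Finset.sum_congr rfl (fun k _ => ?_)
    rw [map_mul, eval_X, eval_C]
    rfl

/-- minors are invariant. -/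
theorem rightTranslate_minor [Infinite K] (g : Matrix.SpecialLinearGroup (Fin d) K)
    (a : Fin d → Fin n) : rightTranslate K d n g (minor K d n a) = minor K d n a := by
  apply MvPolynomial.funext
  intro x
  have hx : x = pt K (Matrix.of fun i j => x (i, j)) := rfl
  rw [hx, eval_rightTranslate, eval_minor, eval_minor]
  have : ((Matrix.of fun i j => x (i, j) : Matrix (Fin n) (Fin d) K) *
      (g : Matrix (Fin d) (Fin d) K)).submatrix a id =
      ((Matrix.of fun i j => x (i, j) : Matrix (Fin n) (Fin d) K).submatrix a id) *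
        (g : Matrix (Fin d) (Fin d) K) := by
    apply Matrix.ext
    intro s t
    rw [Matrix.submatrix_apply, Matrix.mul_apply, Matrix.mul_apply]
    rfl
  rw [this, Matrix.det_mul, g.det_coe, mul_one]

theorem invariant_of_mem_adjoin [Infinite K] (f : MatRing K d n)
    (hf : f ∈ Algebra.adjoin K (Set.range fun θ : Idx d n => minor K d n θ.1))
    (g : Matrix.SpecialLinearGroup (Fin d) K) : rightTranslate K d n g f = f := by
  induction hf using Algebra.adjoin_induction with
  | mem x hx =>
    obtain ⟨θ, rfl⟩ := hx
    exact rightTranslate_minor K g θ.1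
  | algebraMap r => exact AlgHom.commutes _ r
  | add x y _ _ hx hy => rw [map_add, hx, hy]
  | mul x y _ _ hx hy => rw [map_mul, hx, hy]

theorem minor_iota_ne_zero (hdn : d < n) : minor K d n (SM.iota hdn).1 ≠ 0 := by
  intro h
  have h1 := eval_minor K
    (Matrix.of fun (i : Fin n) (j : Fin d) => if i.val = j.val then (1 : K) else 0)
    (SM.iota hdn).1
  rw [h, map_zero] at h1
  have h2 : (Matrix.of fun (i : Fin n) (j : Fin d) => if i.val = j.val then (1 : K) else 0 :
      Matrix (Fin n) (Fin d) K).submatrix (SM.iota hdn).1 id = 1 := by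
    apply Matrix.ext
    intro s t
    rw [Matrix.submatrix_apply, Matrix.one_apply]
    show (if s.val = t.val then (1 : K) else 0) = _
    by_cases hst : s = t
    · rw [if_pos hst, if_pos (by rw [hst])]
    · rw [if_neg hst, if_neg (fun h' => hst (Fin.ext h'))]
  rw [h2, Matrix.det_one] at h1
  exact zero_ne_one h1

theorem pluckerMap_eq_zero_of_mem [Infinite K] (hdn : d < n) (j : PlRing K d n)
    (hj : j ∈ schubertVanishing K d n (SM.top (le_of_lt hdn))) : pluckerMap K d n j = 0 := by
  apply MvPolynomial.funext
  intro x
  have hx : x = pt K (Matrix.of fun i j => x (i, j)) := rfl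
  rw [hx, eval_pluckerMap, map_zero]
  exact (SM.mem_schubertVanishing_iff K _ j).mp hj _
    (fun φ hφ => absurd (SM.le_top' (le_of_lt hdn) φ) hφ)

/-- the descent step: divide by the bottom minor. -/
theorem descent [Infinite K] (hd : 0 < d) (hdn : d < n) (f : MatRing K d n) :
    ∀ (N : ℕ) (c' : PlRing K d n),
      pluckerMap K d n c' = f * minor K d n (SM.iota hdn).1 ^ N →
        ∃ c'' : PlRing K d n, pluckerMap K d n c'' = f := by
  intro N
  induction N with
  | zero =>
    intro c' hc'
    exact ⟨c', by rw [hc', pow_zero, mul_one]⟩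
  | succ N ih =>
    intro c' hc'
    have hker : c' ∈ RingHom.ker (SM.Phi2 K (SM.lo1 hdn) (SM.top (le_of_lt hdn))).toRingHom := by
      rw [RingHom.mem_ker]
      show SM.Phi2 K (SM.lo1 hdn) (SM.top (le_of_lt hdn)) c' = 0
      apply MvPolynomial.funext
      intro a
      rw [SM.eval_Phi2, map_zero, SM.evalMinors_apply, ← eval_pluckerMap, hc', map_mul, map_pow,
        eval_minor, ← SM.eval_gminor2, SM.gminor2_iota K hd hdn, map_zero, zero_pow (Nat.succ_ne_zero N),
        mul_zero]
    rw [← SM.sup_eq_ker K hd hdn] at hker
    obtain ⟨j, hj, y, hy, rfl⟩ := Submodule.mem_sup.mp hker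
    obtain ⟨c₂, rfl⟩ := Ideal.mem_span_singleton'.mp hy
    apply ih c₂
    have h1 : pluckerMap K d n (j + c₂ * X (SM.iota hdn)) =
        pluckerMap K d n c₂ * minor K d n (SM.iota hdn).1 := by
      rw [map_add, pluckerMap_eq_zero_of_mem K hdn j hj, zero_add, map_mul]
      congr 1
      unfold pluckerMap
      rw [aeval_X]
    rw [h1, pow_succ, ← mul_assoc] at hc'
    exact mul_right_cancel₀ (minor_iota_ne_zero K hdn) hc'

end Groth.Agent.H16.FT
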