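import Mathlib
import Groth.Prelude.Def_W4bk4grassmannianPl
import Groth.Agent.H16.FT1

set_option autoImplicit false
set_option linter.unusedSectionVars false
set_option linter.style.haveILetI false

/-! First fundamental theorem for `SL_d`: the Cramer step. -/

namespace Groth.Agent.H16.FT

open W4bk4grassmannian MvPolynomial Matrix

universe u

variable (K : Type u) [Field K] {e n : ℕ}

/-- Cramer's rule for the rows of `A` against the adjugate of a block. -/
theorem mul_adjugate_apply (A : Matrix (Fin n) (Fin (e + 1)) K) (a : Fin (e + 1) → Fin n)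
    (i : Fin n) (j : Fin (e + 1)) :
    (A * (A.submatrix a id).adjugate) i j = (A.submatrix (Function.update a j i) id).det := by
  classical
  set g := A.submatrix a id with hg
  have h1 : (A * g.adjugate) i j = (g.adjugateᵀ.mulVec (A i)) j := by
    rw [Matrix.mul_apply, Matrix.mulVec, dotProduct]
    refine Finset.sum_congr rfl (fun k _ => ?_)
    rw [Matrix.transpose_apply, mul_comm]
  rw [h1, Matrix.adjugate_transpose, ← Matrix.cramer_eq_adjugate_mulVec,
    Matrix.cramer_transpose_apply]
  congr 1
  apply Matrix.ext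
  intro s t
  rw [Matrix.submatrix_apply, Matrix.updateRow_apply, id]
  by_cases hs : s = j
  · rw [if_pos hs, hs, Function.update_self]
  · rw [if_neg hs, Function.update_of_ne hs]
    rfl

/-- the substitution of the normalized matrix. -/
noncomputable def sigma (a : Fin (e + 1) → Fin n) :
    MatRing K (e + 1) n →ₐ[K] Polynomial (PlRing K (e + 1) n) :=
  aeval fun p : Fin n × Fin (e + 1) =>
    Polynomial.C (coord K (e + 1) n (Function.update a p.2 p.1)) *
      (if p.2 = 0 then Polynomial.X else 1)

/-- the unimodular matrix normalizing `A`. -/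
noncomputable def hmat (A : Matrix (Fin n) (Fin (e + 1)) K) (a : Fin (e + 1) → Fin n) :
    Matrix (Fin (e + 1)) (Fin (e + 1)) K :=
  (A.submatrix a id).adjugate *
    Matrix.diagonal (fun j : Fin (e + 1) => if j = 0 then ((A.submatrix a id).det⁻¹) ^ e else 1)

theorem det_hmat (A : Matrix (Fin n) (Fin (e + 1)) K) (a : Fin (e + 1) → Fin n)
    (hA : (A.submatrix a id).det ≠ 0) : (hmat K A a).det = 1 := by
  unfold hmat
  rw [Matrix.det_mul, Matrix.det_adjugate, Matrix.det_diagonal, Fintype.card_fin,
    Nat.add_sub_cancel, Finset.prod_ite_eq' Finset.univ (0 : Fin (e + 1))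
      (fun _ => ((A.submatrix a id).det⁻¹) ^ e), if_pos (Finset.mem_univ _), ← mul_pow,
    mul_inv_cancel₀ hA, one_pow]

theorem hmat_apply (A : Matrix (Fin n) (Fin (e + 1)) K) (a : Fin (e + 1) → Fin n)
    (i : Fin n) (j : Fin (e + 1)) :
    (A * hmat K A a) i j = (A.submatrix (Function.update a j i) id).det *
      (if j = 0 then ((A.submatrix a id).det⁻¹) ^ e else 1) := by
  unfold hmat
  rw [← Matrix.mul_assoc, Matrix.mul_diagonal, mul_adjugate_apply]

theorem eval_sigma (A : Matrix (Fin n) (Fin (e + 1)) K) (a : Fin (e + 1) → Fin n)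
    (F : MatRing K (e + 1) n) :
    Polynomial.eval₂ (eval fun θ : Idx (e + 1) n => (A.submatrix θ.1 id).det)
      (((A.submatrix a id).det⁻¹) ^ e) (sigma K a F) = eval (pt K (A * hmat K A a)) F := by
  induction F using MvPolynomial.induction_on with
  | C c =>
    have : sigma K a (C c) = Polynomial.C (C c) := by
      unfold sigma; rw [aeval_C]; rfl
    rw [this, Polynomial.eval₂_C, eval_C, eval_C]
  | add p q hp hq => rw [map_add, Polynomial.eval₂_add, map_add, hp, hq]
  | mul_X p x hp =>
    rw [map_mul, Polynomial.eval₂_mul, map_mul, hp, eval_X]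
    congr 1
    show _ = (A * hmat K A a) x.1 x.2
    rw [hmat_apply]
    unfold sigma
    rw [aeval_X, Polynomial.eval₂_mul, Polynomial.eval₂_C]
    congr 1
    · exact PQ.br_minors A _
    · split_ifs
      · rw [Polynomial.eval₂_X]
      · rw [Polynomial.eval₂_one]

theorem exists_pow_mul [Infinite K] (hdn : e + 1 < n) (f : MatRing K (e + 1) n)
    (hf : ∀ g : Matrix.SpecialLinearGroup (Fin (e + 1)) K, rightTranslate K (e + 1) n g f = f) :
    ∃ (N : ℕ) (c' : PlRing K (e + 1) n),
      pluckerMap K (e + 1) n c' = f * minor K (e + 1) n (SM.iota hdn).1 ^ N := by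
  classical
  set ι := SM.iota hdn with hι
  set q := sigma K ι.1 f with hq
  refine ⟨e * q.natDegree, ∑ k ∈ Finset.range (q.natDegree + 1),
    q.coeff k * X ι ^ (e * (q.natDegree - k)), ?_⟩
  have hne := minor_iota_ne_zero K hdn
  have key : (pluckerMap K (e + 1) n (∑ k ∈ Finset.range (q.natDegree + 1),
      q.coeff k * X ι ^ (e * (q.natDegree - k))) -
      f * minor K (e + 1) n ι.1 ^ (e * q.natDegree)) * minor K (e + 1) n ι.1 = 0 := by
    apply MvPolynomial.funext
    intro x
    have hx : x = pt K (Matrix.of fun i j => x (i, j)) := rfl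
    set A : Matrix (Fin n) (Fin (e + 1)) K := Matrix.of fun i j => x (i, j) with hA
    rw [hx, map_mul, map_zero, eval_minor]
    by_cases hδ : (A.submatrix ι.1 id).det = 0
    · rw [hδ, mul_zero]
    · have hfA : eval (pt K A) f = Polynomial.eval₂
          (eval fun θ : Idx (e + 1) n => (A.submatrix θ.1 id).det)
          (((A.submatrix ι.1 id).det⁻¹) ^ e) q := by
        rw [hq, eval_sigma]
        have := hf ⟨hmat K A ι.1, det_hmat K A ι.1 hδ⟩
        conv_lhs => rw [← this]
        rw [eval_rightTranslate]
      rw [map_sub, map_mul, map_pow, eval_minor, eval_pluckerMap, hfA,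
        Polynomial.eval₂_eq_sum_range, map_sum, Finset.sum_mul]
      rw [← Finset.sum_sub_distrib]
      rw [Finset.sum_eq_zero, zero_mul]
      intro k hk
      have hk' : k ≤ q.natDegree := by
        have := Finset.mem_range.mp hk; omega
      rw [map_mul, map_pow, eval_X]
      have h1 : ((A.submatrix ι.1 id).det⁻¹ ^ e) ^ k * (A.submatrix ι.1 id).det ^ (e * q.natDegree) =
          (A.submatrix ι.1 id).det ^ (e * (q.natDegree - k)) := by
        have h2 : e * q.natDegree = e * (q.natDegree - k) + e * k := by
          rw [← Nat.mul_add, Nat.sub_add_cancel hk']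
        rw [h2, pow_add, ← pow_mul, inv_pow, mul_comm ((A.submatrix ι.1 id).det ^ (e * (q.natDegree - k))),
          ← mul_assoc, inv_mul_cancel₀ (pow_ne_zero _ hδ), one_mul]
      rw [mul_assoc, h1, sub_self]
  rcases mul_eq_zero.mp key with h | h
  · exact sub_eq_zero.mp h
  · exact absurd h hne

theorem fft [Infinite K] (hdn : e + 1 < n) (f : MatRing K (e + 1) n) :
    (∀ g : Matrix.SpecialLinearGroup (Fin (e + 1)) K, rightTranslate K (e + 1) n g f = f) ↔
      f ∈ Algebra.adjoin K (Set.range fun θ : Idx (e + 1) n => minor K (e + 1) n θ.1) := by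
  constructor
  · intro hf
    obtain ⟨N, c', hc'⟩ := exists_pow_mul K hdn f hf
    obtain ⟨c'', hc''⟩ := descent K (Nat.succ_pos e) hdn f N c' hc'
    rw [Algebra.adjoin_range_eq_range_aeval]
    exact (AlgHom.mem_range _).mpr ⟨c'', hc''⟩
  · intro hf g
    exact invariant_of_mem_adjoin K f hf g

end Groth.Agent.H16.FT
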