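import Mathlib
set_option autoImplicit false

namespace Groth.Agent.Helper16.Wron

open Module

theorem abel (G δ : ℕ → ℕ) (h : ∀ n, G n = δ n + G (n + 1)) (D : ℕ) :
    ∑ n ∈ Finset.range (D + 1), n * δ n + D * G (D + 1) = ∑ n ∈ Finset.range D, G (n + 1) := by
  induction D with
  | zero => simp
  | succ D ih =>
    rw [Finset.sum_range_succ, Finset.sum_range_succ (fun n => G (n + 1)), ← ih]
    have := h (D + 1)
    have e : (D + 1) * G (D + 1) = (D + 1) * δ (D + 1) + (D + 1) * G (D + 1 + 1) := by
      rw [this]; ring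
    nlinarith

theorem tele (G δ : ℕ → ℕ) (h : ∀ n, G n = δ n + G (n + 1)) (D : ℕ) :
    ∑ n ∈ Finset.range D, δ n + G D = G 0 := by
  induction D with
  | zero => simp
  | succ D ih =>
    rw [Finset.sum_range_succ]
    have := h D
    omega

variable {k : Type*} [Field k] {E : Type*} [AddCommGroup E] [Module k E]

theorem exists_adapted (r d : ℕ) (F : ℕ → Submodule k E) [FiniteDimensional k (F 0)]
    (hanti : ∀ n, F (n + 1) ≤ F n) (h0 : finrank k (F 0) = r + 1) (hd : F (d + 1) = ⊥)
    (hstep : ∀ n ≤ d, finrank k (F n) ≤ finrank k (F (n + 1)) + 1) :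
    ∃ (m : Fin (r + 1) → ℕ) (b : Fin (r + 1) → E), StrictMono m ∧ (∀ i, m i ≤ d) ∧
      LinearIndependent k b ∧ (∀ i, b i ∈ F (m i)) ∧ (∀ i, b i ∉ F (m i + 1)) ∧
      ∑ i, m i = ∑ n ∈ Finset.range d, finrank k (F (n + 1)) := by
  classical
  have hle0 : ∀ n, F n ≤ F 0 := by
    intro n
    induction n with
    | zero => exact le_rfl
    | succ n ih => exact (hanti n).trans ih
  have hfin : ∀ n, FiniteDimensional k (F n) := fun n =>
    Submodule.finiteDimensional_of_le (hle0 n)
  have hantiLe : ∀ {a b : ℕ}, a ≤ b → F b ≤ F a := by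
    intro a b hab
    induction b, hab using Nat.le_induction with
    | base => exact le_rfl
    | succ b _ ih => exact (hanti b).trans ih
  set G : ℕ → ℕ := fun n => finrank k (F n) with hG
  have hGanti : ∀ n, G (n + 1) ≤ G n := fun n => Submodule.finrank_mono (hanti n)
  set δ : ℕ → ℕ := fun n => G n - G (n + 1) with hδ
  have hGδ : ∀ n, G n = δ n + G (n + 1) := by
    intro n
    have := hGanti n
    simp only [hδ]
    omega
  have hGd : G (d + 1) = 0 := by
    show finrank k (F (d + 1)) = 0
    rw [hd]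
    exact finrank_bot k E
  set J : Finset ℕ := (Finset.range (d + 1)).filter (fun n => G (n + 1) < G n) with hJ
  have hδ01 : ∀ n ≤ d, δ n = if G (n + 1) < G n then 1 else 0 := by
    intro n hn
    have h1 := hstep n hn
    have h2 := hGanti n
    simp only [hδ]
    split_ifs with hlt
    · simp only [hG] at hlt h1 h2 ⊢; omega
    · simp only [hG] at hlt h1 h2 ⊢; omega
  have hcard : J.card = r + 1 := by
    rw [hJ, Finset.card_filter]
    have h1 := tele G δ hGδ (d + 1)
    rw [hGd] at h1
    have h2 : G 0 = r + 1 := h0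
    rw [← h2, ← h1, add_zero]
    exact Finset.sum_congr rfl (fun n hn => (hδ01 n (by
      have := Finset.mem_range.mp hn; omega)).symm)
  let e : Fin (r + 1) ≃o J := J.orderIsoOfFin hcard
  have hmemJ : ∀ i, ((e i : ℕ) < d + 1) ∧ G ((e i : ℕ) + 1) < G (e i : ℕ) := by
    intro i
    have h := Finset.mem_filter.mp
      ((e i).2 : (e i : ℕ) ∈ (Finset.range (d + 1)).filter (fun n => G (n + 1) < G n))
    exact ⟨Finset.mem_range.mp h.1, h.2⟩
  have hex : ∀ i, ∃ x, x ∈ F (e i : ℕ) ∧ x ∉ F ((e i : ℕ) + 1) := by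
    intro i
    have hlt : F ((e i : ℕ) + 1) < F (e i : ℕ) := by
      refine lt_of_le_of_ne (hanti _) ?_
      intro heq
      have h3 : G ((e i : ℕ) + 1) < G (e i : ℕ) := (hmemJ i).2
      have h4 : G ((e i : ℕ) + 1) = G (e i : ℕ) := by
        show finrank k (F ((e i : ℕ) + 1)) = finrank k (F (e i : ℕ))
        rw [heq]
      omega
    exact SetLike.exists_of_lt hlt
  choose b hb1 hb2 using hex
  have hmono : StrictMono (fun i => (e i : ℕ)) := by
    intro i j hij
    exact e.strictMono hij
  refine ⟨fun i => (e i : ℕ), b, hmono, fun i => by have := (hmemJ i).1; show (e i : ℕ) ≤ d; omega, ?_, hb1, hb2, ?_⟩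
  · rw [Fintype.linearIndependent_iff]
    intro g hg
    by_contra hne
    push Not at hne
    have hnonempty : (Finset.univ.filter (fun i => g i ≠ 0)).Nonempty := by
      obtain ⟨i, hi⟩ := hne
      exact ⟨i, by simp [hi]⟩
    set i₀ := (Finset.univ.filter (fun i => g i ≠ 0)).min' hnonempty with hi₀
    have hi₀mem : g i₀ ≠ 0 := by
      have := Finset.min'_mem _ hnonempty
      rw [Finset.mem_filter] at this
      exact this.2
    have hmin : ∀ i, g i ≠ 0 → i₀ ≤ i := by
      intro i hi
      exact Finset.min'_le _ i (by simp [hi])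
    have hsplit : g i₀ • b i₀ = -∑ i ∈ Finset.univ.erase i₀, g i • b i := by
      rw [← Finset.add_sum_erase _ _ (Finset.mem_univ i₀)] at hg
      exact eq_neg_of_add_eq_zero_left hg
    have hmem : g i₀ • b i₀ ∈ F ((e i₀ : ℕ) + 1) := by
      rw [hsplit]
      apply Submodule.neg_mem
      apply Submodule.sum_mem
      intro i hi
      by_cases hgi : g i = 0
      · rw [hgi, zero_smul]; exact Submodule.zero_mem _
      · apply Submodule.smul_mem
        have hlt : i₀ < i := lt_of_le_of_ne (hmin i hgi) (Ne.symm (Finset.ne_of_mem_erase hi))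
        have : (e i₀ : ℕ) + 1 ≤ (e i : ℕ) := hmono hlt
        exact hantiLe this (hb1 i)
    rw [Submodule.smul_mem_iff _ hi₀mem] at hmem
    exact hb2 i₀ hmem
  · have h1 : ∑ i, ((e i : ℕ)) = ∑ j ∈ J, j := by
      rw [← Finset.sum_coe_sort J (fun j => j)]
      exact Equiv.sum_comp e.toEquiv (fun j : J => (j : ℕ))
    rw [h1, hJ, Finset.sum_filter]
    have h2 := abel G δ hGδ d
    rw [hGd, mul_zero, add_zero] at h2
    rw [← h2]
    apply Finset.sum_congr rfl
    intro n hn
    rw [hδ01 n (by have := Finset.mem_range.mp hn; omega)]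
    split_ifs <;> simp

end Groth.Agent.Helper16.Wron
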