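import Mathlib
import Groth.Prelude.Def_W4bk4grassmannianPl
import Groth.Agent.H16.BT9

set_option autoImplicit false
set_option linter.unusedSectionVars false
set_option linter.style.haveILetI false

/-! Independence of standard bitableaux on unions of Schubert varieties in the cell. -/

namespace Groth.Agent.H16.BT

open W4bk4grassmannian MvPolynomial

universe u

variable {m n : ℕ}

/-- index type of the standard monomials on a union of Schubert varieties. -/
abbrev ChIdx' {ι : Type*} (τs : ι → Idx n (n + m)) : Type _ :=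
  Σ L : ℕ, {c : Fin L → Idx n (n + m) // Antitone c ∧ ∃ i, ∀ k, c k ≤ τs i}

/-- bitableaux bounded by the family. -/
abbrev BTIdx' (t : ℕ) {ι : Type*} (τs : ι → Idx n (n + m)) : Type _ :=
  {T : BTIdx m n t // ∃ i, ∀ k, Theta (T.2.1 k) ≤ τs i}

theorem padFun_le' (hm' : n < n + m) {k : ℕ} (c : Fin k → MinorIdx m n) (τ : Idx n (n + m))
    (hc : ∀ i, Theta (c i) ≤ τ) (L : ℕ) (i : Fin L) : padFun hm' c L i ≤ τ := by
  unfold padFun
  by_cases hi : i.val < k
  · rw [dif_pos hi]
    exact hc _
  · rw [dif_neg hi]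
    exact SM.iota_le hm' _

/-- the padded chain. -/
noncomputable def pad' (hm' : n < n + m) (t : ℕ) {ι : Type*} (τs : ι → Idx n (n + m)) (D : ℕ)
    (T : BTIdx' t τs) : ChIdx' τs :=
  ⟨max D (T.1.1 + 1), ⟨padFun hm' T.1.2.1 (max D (T.1.1 + 1)),
    padFun_antitone hm' T.1.2.1 T.1.2.2.2 _,
    ⟨Classical.choose T.2, padFun_le' hm' T.1.2.1 _ (Classical.choose_spec T.2) _⟩⟩⟩

/-- the entries of a chain, extended by the bottom index. -/
noncomputable def proj' (hm' : n < n + m) {ι : Type*} (τs : ι → Idx n (n + m))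
    (C : ChIdx' τs) (i : ℕ) : Idx n (n + m) :=
  if h : i < C.1 then C.2.1 ⟨i, h⟩ else SM.iota hm'

theorem proj_pad' (hm' : n < n + m) (t : ℕ) {ι : Type*} (τs : ι → Idx n (n + m)) (D : ℕ)
    (T : BTIdx' t τs) (i : ℕ) :
    proj' hm' τs (pad' hm' t τs D T) i =
      if h : i < T.1.1 then Theta (T.1.2.1 (Fin.rev ⟨i, h⟩)) else SM.iota hm' := by
  unfold proj'
  by_cases hi : i < (pad' hm' t τs D T).1
  · rw [dif_pos hi]
    show padFun hm' T.1.2.1 _ ⟨i, hi⟩ = _
    unfold padFun
    rfl
  · rw [dif_neg hi]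
    have hi' : ¬ i < T.1.1 := by
      have : (pad' hm' t τs D T).1 = max D (T.1.1 + 1) := rfl
      rw [this] at hi
      have := le_max_right D (T.1.1 + 1)
      omega
    rw [dif_neg hi']

theorem eq_of_proj_eq (hm' : n < n + m) (t : ℕ) (T T' : BTIdx m n t)
    (key : ∀ i : ℕ, (if h : i < T.1 then Theta (T.2.1 (Fin.rev ⟨i, h⟩)) else SM.iota hm') =
      (if h : i < T'.1 then Theta (T'.2.1 (Fin.rev ⟨i, h⟩)) else SM.iota hm')) : T = T' := by
  obtain ⟨k, c, hc⟩ := T
  obtain ⟨k', c', hc'⟩ := T'
  simp only at key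
  have hkk' : k = k' := by
    rcases lt_trichotomy k k' with h | h | h
    · exfalso
      have := key k
      rw [dif_neg (lt_irrefl k), dif_pos h] at this
      exact Theta_ne_iota hm' _ this.symm
    · exact h
    · exfalso
      have := key k'
      rw [dif_pos h, dif_neg (lt_irrefl k')] at this
      exact Theta_ne_iota hm' _ this
  subst hkk'
  have hcc' : c = c' := by
    funext j
    have := key (Fin.rev j).val
    rw [dif_pos (Fin.rev j).isLt, dif_pos (Fin.rev j).isLt] at this
    have h2 : Fin.rev (⟨(Fin.rev j).val, (Fin.rev j).isLt⟩ : Fin k) = j := Fin.rev_rev j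
    rw [h2] at this
    exact Theta_injective this
  subst hcc'
  rfl

theorem pad'_injective (hm' : n < n + m) (t : ℕ) {ι : Type*} (τs : ι → Idx n (n + m)) (D : ℕ) :
    Function.Injective (pad' hm' t τs D) := by
  intro T T' hTT'
  apply Subtype.ext
  apply eq_of_proj_eq hm' t
  intro i
  rw [← proj_pad' hm' t τs D T i, ← proj_pad' hm' t τs D T' i, hTT']

variable (K : Type u) [Field K]

theorem bt_core' [Infinite K] (hm : 0 < m) (hn : 0 < n) (t : ℕ) {ι : Type*}
    (τs : ι → Idx n (n + m)) (s : Finset (BTIdx' t τs)) (g : BTIdx' t τs → K)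
    (hvan : ∀ z : Fin m × Fin n → K,
      (∃ i, ∀ θ : Idx n (n + m), ¬ θ ≤ τs i → ((Nz K z).submatrix θ.1 id).det = 0) →
        eval z (∑ T ∈ s, g T • (Finset.univ.prod fun i => minorOf K (T.1.2.1 i))) = 0) :
    ∀ T ∈ s, g T = 0 := by
  classical
  have hm' : n < n + m := by omega
  intro T₀ hT₀
  set D := s.sup (fun T => T.1.1) + 1 with hD
  have hDT : ∀ T ∈ s, max D (T.1.1 + 1) = D := by
    intro T hT
    have : T.1.1 ≤ s.sup (fun T => T.1.1) := Finset.le_sup (f := fun T : BTIdx' t τs => T.1.1) hT
    rw [max_eq_left]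
    omega
  -- the homogenized combination vanishes on the Schubert cone
  have hF : ∑ T ∈ s, (g T * eps K T.1.2.1) • chainMon K (pad' hm' t τs D T).2.1 ∈
      ⨅ i, schubertVanishing K n (n + m) (τs i) := by
    rw [Ideal.mem_iInf]
    intro i₀
    rw [SM.mem_schubertVanishing_iff]
    intro A hA
    rw [map_sum]
    by_cases hdet : (A.submatrix (SM.iota hm').1 id).det = 0
    · apply Finset.sum_eq_zero
      intro T hT
      rw [smul_eval]
      have : eval (fun θ : Idx n (n + m) => (A.submatrix θ.1 id).det)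
          (chainMon K (pad' hm' t τs D T).2.1) = 0 := by
        unfold chainMon
        rw [map_prod]
        have hlt : T.1.1 < max D (T.1.1 + 1) := by
          have := le_max_right D (T.1.1 + 1); omega
        apply Finset.prod_eq_zero (Finset.mem_univ (⟨T.1.1, hlt⟩ : Fin (max D (T.1.1 + 1))))
        rw [eval_X]
        have : (pad' hm' t τs D T).2.1 ⟨T.1.1, hlt⟩ = SM.iota hm' := by
          show padFun hm' T.1.2.1 _ ⟨T.1.1, hlt⟩ = _
          unfold padFun
          rw [dif_neg (lt_irrefl _)]
        exact (congrArg (fun θ : Idx n (n + m) => (A.submatrix θ.1 id).det) this).trans hdet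
      rw [this, mul_zero]
    · obtain ⟨z, hz⟩ := exists_cell_point K hm' A hdet
      have hzS : ∀ θ : Idx n (n + m), ¬ θ ≤ τs i₀ →
          ((Nz K z).submatrix θ.1 id).det = 0 := by
        intro θ hθ
        have h1 := hA θ hθ
        rw [hz θ] at h1
        rcases mul_eq_zero.mp h1 with h | h
        · exact h
        · exact absurd h hdet
      have hzf := hvan z ⟨i₀, hzS⟩
      have hterm : ∀ T ∈ s, eval (fun θ : Idx n (n + m) => (A.submatrix θ.1 id).det)
          ((g T * eps K T.1.2.1) • chainMon K (pad' hm' t τs D T).2.1) =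
          (A.submatrix (SM.iota hm').1 id).det ^ D *
            eval z (g T • (Finset.univ.prod fun i => minorOf K (T.1.2.1 i))) := by
        intro T hT
        rw [smul_eval, smul_eval]
        unfold chainMon
        rw [map_prod]
        have h1 : ∏ i, eval (fun θ : Idx n (n + m) => (A.submatrix θ.1 id).det)
            (X ((pad' hm' t τs D T).2.1 i)) =
            ∏ i : Fin (max D (T.1.1 + 1)),
              (((Nz K z).submatrix (padFun hm' T.1.2.1 (max D (T.1.1 + 1)) i).1 id).det *
                (A.submatrix (SM.iota hm').1 id).det) := by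
          refine Finset.prod_congr rfl (fun i _ => ?_)
          rw [eval_X, hz]
          rfl
        rw [h1, Finset.prod_mul_distrib, Finset.prod_const, Finset.card_univ, Fintype.card_fin,
          prod_padFun_Nz K hm' z T.1.2.1 _ (by have := le_max_right D (T.1.1 + 1); omega), hDT T hT]
        have := eps_mul_self K T.1.2.1
        calc g T * eps K T.1.2.1 * (eps K T.1.2.1 * eval z (∏ i, minorOf K (T.1.2.1 i)) *
              (A.submatrix (SM.iota hm').1 id).det ^ D)
            = (eps K T.1.2.1 * eps K T.1.2.1) * ((A.submatrix (SM.iota hm').1 id).det ^ D *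
              (g T * eval z (∏ i, minorOf K (T.1.2.1 i)))) := by ring
          _ = _ := by rw [this, one_mul]
      rw [Finset.sum_congr rfl hterm, ← Finset.mul_sum, ← map_sum, hzf, mul_zero]
  -- conclude by the independence of the standard monomials
  have hli := (SM.li_union K hn τs).comp
    (pad' hm' t τs D) (pad'_injective hm' t τs D)
  rw [linearIndependent_iff'] at hli
  have hsum' : ∑ T ∈ s, (g T * eps K T.1.2.1) •
      (Ideal.Quotient.mk (⨅ i, schubertVanishing K n (n + m) (τs i)))
        (chainMon K (pad' hm' t τs D T).2.1) = 0 := by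
    rw [← Ideal.Quotient.eq_zero_iff_mem.mpr hF, map_sum]
    refine Finset.sum_congr rfl (fun T _ => ?_)
    rfl
  have h0 : g T₀ * eps K T₀.1.2.1 = 0 := hli s (fun T => g T * eps K T.1.2.1) hsum' T₀ hT₀
  have h1 : g T₀ * (eps K T₀.1.2.1 * eps K T₀.1.2.1) = 0 := by
    rw [← mul_assoc, h0, zero_mul]
  rwa [eps_mul_self, mul_one] at h1



end Groth.Agent.H16.BT
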