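import Mathlib
import Groth.Prelude.Def_W4bk4grassmannianPl
import Groth.Agent.H16.GF1
import Groth.Agent.S11268

set_option autoImplicit false
set_option linter.unusedSectionVars false
set_option linter.style.haveILetI false

/-! First fundamental theorem for `GL_n`: the descent along the leading minor. -/

namespace Groth.Agent.H16.BT

open W4bk4grassmannian MvPolynomial

universe u

variable (K : Type u) [Field K] {m q e : ℕ}

/-- the leading minor of size `e + 1`. -/
def MD (hm : e + 1 ≤ m) (hq : e + 1 ≤ q) : MinorIdx m q :=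
  ⟨e, ⟨fun k => Fin.castLE hm k, fun _ _ h => h⟩, ⟨fun k => Fin.castLE hq k, fun _ _ h => h⟩⟩

theorem minorGE_MD (hm : e + 1 ≤ m) (hq : e + 1 ≤ q) (M : MinorIdx m q) (hM : M.1 + 1 ≤ e + 1) :
    MinorGE M (MD hm hq) := by
  refine ⟨by show M.1 ≤ e; omega, ?_⟩
  intro j j' hjj'
  constructor
  · rw [Fin.le_def]
    show j'.val ≤ (M.2.1.1 j).val
    rw [← hjj']
    exact ST.val_le_of_strictMono M.2.1.1 M.2.1.2 j
  · rw [Fin.le_def]
    show j'.val ≤ (M.2.2.1 j).val
    rw [← hjj']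
    exact ST.val_le_of_strictMono M.2.2.1 M.2.2.2 j

theorem Theta_le_MD (hm : e + 1 ≤ m) (hq : e + 1 ≤ q) (M : MinorIdx m q) (hM : M.1 + 1 ≤ e + 1) :
    Theta M ≤ Theta (MD hm hq) := (Theta_le_iff _ _).mpr (minorGE_MD hm hq M hM)

/-- a bitableau without the leading minor lies on a Schubert divisor. -/
theorem exists_divisor_of_free (hm : e + 1 ≤ m) (hq : e + 1 ≤ q) (hq0 : q < q + m)
    (T : BTIdx m q (e + 2)) (hT : ∀ k, T.2.1 k ≠ MD hm hq) :
    ∃ i : {ψ : Idx q (q + m) // ψ ∈ divisors (Theta (MD hm hq))},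
      ∀ k, Theta (T.2.1 k) ≤ i.1 := by
  obtain ⟨k, c, hc1, hc2⟩ := T
  simp only at hT ⊢
  rcases Nat.eq_zero_or_pos k with h0 | hpos
  · subst h0
    have hlt : SM.iota hq0 < Theta (MD hm hq) :=
      lt_of_le_of_ne (SM.iota_le hq0 _) (Theta_ne_iota hq0 _).symm
    obtain ⟨ψ, hψ, -⟩ := Groth.Agent.S11268.result q (q + m) _ _ hlt
    exact ⟨⟨ψ, hψ⟩, fun k => k.elim0⟩
  · have hlast : ∀ j : Fin k, Theta (c j) ≤ Theta (c ⟨k - 1, by omega⟩) := by
      intro j
      rcases Nat.lt_or_ge j.val (k - 1) with h | h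
      · rw [Theta_le_iff]
        exact hc2 j ⟨k - 1, by omega⟩ (Fin.lt_def.mpr h)
      · have : j = ⟨k - 1, by omega⟩ := Fin.ext (by show j.val = k - 1; have := j.isLt; omega)
        rw [this]
    have hlt : Theta (c ⟨k - 1, by omega⟩) < Theta (MD hm hq) := by
      apply lt_of_le_of_ne
      · exact Theta_le_MD hm hq _ (by have := hc1 ⟨k - 1, by omega⟩; omega)
      · intro h
        exact hT _ (Theta_injective h)
    obtain ⟨ψ, hψ, hle⟩ := Groth.Agent.S11268.result q (q + m) _ _ hlt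
    exact ⟨⟨ψ, hψ⟩, fun j => (hlast j).trans hle⟩

/-- the bitableau consisting of the leading minor. -/
def TD (hm : e + 1 ≤ m) (hq : e + 1 ≤ q) : BTIdx m q (e + 2) :=
  ⟨1, ⟨fun _ => MD hm hq, fun _ => by show e + 1 ≤ e + 2 - 1; omega,
    fun i j hij => absurd (Fin.lt_def.mp hij) (by have := i.isLt; have := j.isLt; omega)⟩⟩

theorem pairingMap_MD_ne_zero [Infinite K] (hm : e + 1 ≤ m) (hq : e + 1 ≤ q) :
    pairingMap K (e + 1) m q (minorOf K (MD hm hq)) ≠ 0 := by
  intro h
  have hmem : minorOf K (MD hm hq) ∈ RingHom.ker (pairingMap K (e + 1) m q).toRingHom :=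
    RingHom.mem_ker.mpr h
  rw [sft K m (e + 1) q] at hmem
  have hli := bt_li K (by omega : 0 < m) (by omega : 0 < q) (e + 2) (by omega) (by omega)
  have hne := hli.ne_zero (TD hm hq)
  apply hne
  rw [Ideal.Quotient.eq_zero_iff_mem]
  have : (Finset.univ.prod fun i => minorOf K ((TD hm hq).2.1 i)) = minorOf K (MD hm hq) := by
    show (Finset.univ.prod fun _ : Fin 1 => minorOf K (MD hm hq)) = _
    rw [Finset.prod_const, Finset.card_univ, Fintype.card_fin, pow_one]
  rw [this]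
  exact hmem

end Groth.Agent.H16.BT
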