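import Mathlib
import Groth.Prelude.Def_W4bk4grassmannianPl
import Groth.Agent.H16.GF2

set_option autoImplicit false
set_option linter.unusedSectionVars false
set_option linter.style.haveILetI false

/-! First fundamental theorem for `GL_n`: the descent theorem. -/

namespace Groth.Agent.H16.BT

open W4bk4grassmannian MvPolynomial

universe u

variable (K : Type u) [Field K] {m q e : ℕ}

/-- on a Schubert divisor of the leading minor, the leading minor vanishes and the point is a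
product. -/
theorem eval_eq_zero_of_divisor [Infinite K] (hm : e + 1 ≤ m) (hq : e + 1 ≤ q)
    (z : Fin m × Fin q → K) (ψ : Idx q (q + m)) (hψ : ψ ∈ divisors (Theta (MD hm hq)))
    (hzψ : ∀ θ : Idx q (q + m), ¬ θ ≤ ψ → ((Nz K z).submatrix θ.1 id).det = 0) :
    eval z (minorOf K (MD hm hq)) = 0 ∧
      ∀ (P : MvPolynomial (Fin m × Fin q) K) (f : PairRing K (e + 1) m q) (N : ℕ),
        pairingMap K (e + 1) m q P =
          f * (pairingMap K (e + 1) m q (minorOf K (MD hm hq))) ^ (N + 1) → eval z P = 0 := by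
  classical
  have ht : 1 ≤ e + 2 := by omega
  have htm : e + 2 ≤ m + 1 := by omega
  have hwψ : ¬ Theta (MD hm hq) ≤ ψ := not_le_of_gt hψ.1
  have hΔz : eval z (minorOf K (MD hm hq)) = 0 := by
    have h1 := det_Nz_Theta K z (MD hm hq)
    rw [hzψ _ hwψ] at h1
    have h2 := sgn_mul_self K (MD hm hq)
    have h3 : sgn K (MD hm hq) ≠ 0 := by
      intro h0; rw [h0, zero_mul] at h2; exact zero_ne_one h2
    rcases mul_eq_zero.mp h1.symm with h | h
    · exact absurd h h3
    · exact h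
  refine ⟨hΔz, ?_⟩
  intro P f N hPmap
  have hzS : ∀ θ : Idx q (q + m), ¬ θ ≤ phiT m q (e + 2) ht htm →
      ((Nz K z).submatrix θ.1 id).det = 0 := by
    intro θ hθ
    apply hzψ
    intro h
    apply hθ
    refine h.trans (hψ.1.le.trans ?_)
    rw [Theta_le_phiT_iff]
    show e + 1 ≤ e + 2 - 1
    omega
  set Zm : Matrix (Fin m) (Fin q) K := Matrix.of fun i j => z (i, j) with hZm
  have hminors : ∀ (f' : Fin (e + 1 + 1) → Fin m) (h : Fin (e + 1 + 1) → Fin q),
      (Zm.submatrix f' h).det = 0 := by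
    intro f' h
    have h1 : ((genMatrix K m q).submatrix f' h).det ∈
        CAlgX.minorIdeal (genMatrix K m q) (e + 2) :=
      Ideal.subset_span ⟨(f', h), rfl⟩
    have h2 := eval_eq_zero_of_mem_minorIdeal K _ ht htm z hzS _ h1
    rw [RingHom.map_det] at h2
    rw [← h2]
    congr 1
    apply Matrix.ext
    intro a b
    show z (f' a, h b) = eval z (X (f' a, h b))
    rw [eval_X]
  obtain ⟨u, ξ, huξ⟩ := exists_factorization Zm (rank_le_of_minors Zm hminors)
  have hz' : (fun x : Fin m × Fin q => ∑ k : Fin (e + 1),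
      Sum.elim (fun x : Fin m × Fin (e + 1) => u x.1 x.2)
        (fun x : Fin (e + 1) × Fin q => ξ x.1 x.2) (Sum.inl (x.1, k)) *
      Sum.elim (fun x : Fin m × Fin (e + 1) => u x.1 x.2)
        (fun x : Fin (e + 1) × Fin q => ξ x.1 x.2) (Sum.inr (k, x.2))) = z := by
    funext x
    have : z x = Zm x.1 x.2 := rfl
    rw [this, huξ, Matrix.mul_apply]
    rfl
  have hevP := eval_pairingMap K (e + 1) q
    (Sum.elim (fun x : Fin m × Fin (e + 1) => u x.1 x.2)
      (fun x : Fin (e + 1) × Fin q => ξ x.1 x.2)) P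
  have hevΔ := eval_pairingMap K (e + 1) q
    (Sum.elim (fun x : Fin m × Fin (e + 1) => u x.1 x.2)
      (fun x : Fin (e + 1) × Fin q => ξ x.1 x.2)) (minorOf K (MD hm hq))
  rw [hz'] at hevP hevΔ
  rw [← hevP, hPmap, map_mul, map_pow, hevΔ, hΔz, zero_pow (Nat.succ_ne_zero N), mul_zero]

/-- the standard bitableaux without the leading minor are independent on the divisors. -/
theorem free_part_zero [Infinite K] (hm : e + 1 ≤ m) (hq : e + 1 ≤ q)
    (S₀ : Finset (BTIdx m q (e + 2))) (hS₀ : ∀ T ∈ S₀, ∀ k, T.2.1 k ≠ MD hm hq)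
    (l : BTIdx m q (e + 2) → K)
    (hvan : ∀ (z : Fin m × Fin q → K) (ψ : Idx q (q + m)),
      ψ ∈ divisors (Theta (MD hm hq)) →
      (∀ θ : Idx q (q + m), ¬ θ ≤ ψ → ((Nz K z).submatrix θ.1 id).det = 0) →
        eval z (∑ T ∈ S₀, l T • (Finset.univ.prod fun i => minorOf K (T.2.1 i))) = 0) :
    ∀ T ∈ S₀, l T = 0 := by
  classical
  have hm0 : 0 < m := by omega
  have hq0 : 0 < q := by omega
  have hq' : q < q + m := by omega
  obtain ⟨τs, hτs⟩ : ∃ τs : {ψ : Idx q (q + m) // ψ ∈ divisors (Theta (MD hm hq))} →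
      Idx q (q + m), τs = fun i => i.1 := ⟨_, rfl⟩
  have hbound : ∀ T ∈ S₀, ∃ i, ∀ k, Theta (T.2.1 k) ≤ τs i := by
    intro T hT
    rw [hτs]
    exact exists_divisor_of_free hm hq hq' T (hS₀ T hT)
  set emb : {T // T ∈ S₀} ↪ BTIdx' (e + 2) τs :=
    ⟨fun T => ⟨T.1, hbound T.1 T.2⟩,
      fun a b h => Subtype.ext (congrArg (fun x : BTIdx' (e + 2) τs => x.1) h)⟩ with hemb
  have hsum : ∑ T' ∈ S₀.attach.map emb,
      l T'.1 • (Finset.univ.prod fun i => minorOf K (T'.1.2.1 i)) =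
      ∑ T ∈ S₀, l T • (Finset.univ.prod fun i => minorOf K (T.2.1 i)) := by
    rw [Finset.sum_map]
    exact Finset.sum_attach S₀ (fun T => l T • (Finset.univ.prod fun i => minorOf K (T.2.1 i)))
  have hv : ∀ z : Fin m × Fin q → K,
      (∃ i, ∀ θ : Idx q (q + m), ¬ θ ≤ τs i → ((Nz K z).submatrix θ.1 id).det = 0) →
        eval z (∑ T' ∈ S₀.attach.map emb,
          l T'.1 • (Finset.univ.prod fun i => minorOf K (T'.1.2.1 i))) = 0 := by
    intro z hz
    obtain ⟨⟨ψ, hψ⟩, hzψ⟩ := hz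
    rw [hsum]
    rw [hτs] at hzψ
    exact hvan z ψ hψ hzψ
  have hcore := bt_core' K hm0 hq0 (e + 2) τs (S₀.attach.map emb) (fun T' => l T'.1) hv
  intro T hT
  exact hcore ⟨T, hbound T hT⟩
    (Finset.mem_map.mpr ⟨⟨T, hT⟩, Finset.mem_attach _ _, rfl⟩)

end Groth.Agent.H16.BT
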