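import Mathlib
import Groth.Prelude.Def_W4bk4grassmannianPl
import Groth.Agent.H16.GF3

set_option autoImplicit false
set_option linter.unusedSectionVars false
set_option linter.style.haveILetI false

/-! First fundamental theorem for `GL_n`: the descent theorem. -/

namespace Groth.Agent.H16.BT

open W4bk4grassmannian MvPolynomial

universe u

variable (K : Type u) [Field K] {m q e : ℕ}

theorem descent_gl [Infinite K] (hm : e + 1 ≤ m) (hq : e + 1 ≤ q)
    (f : PairRing K (e + 1) m q) :
    ∀ (N : ℕ) (c' : MvPolynomial (Fin m × Fin q) K),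
      pairingMap K (e + 1) m q c' =
        f * (pairingMap K (e + 1) m q (minorOf K (MD hm hq))) ^ N →
        ∃ c'' : MvPolynomial (Fin m × Fin q) K, pairingMap K (e + 1) m q c'' = f := by
  classical
  intro N
  induction N with
  | zero =>
    intro c' hc'
    exact ⟨c', by rw [hc', pow_zero, mul_one]⟩
  | succ N ih =>
    intro c' hc'
    have hm0 : 0 < m := by omega
    have hq0 : 0 < q := by omega
    have ht : 1 ≤ e + 2 := by omega
    have htm : e + 2 ≤ m + 1 := by omega
    -- expand `c'` in standard bitableaux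
    have hspan := bt_span K hm0 hq0 (e + 2) ht htm
    have hcs : Ideal.Quotient.mk (CAlgX.minorIdeal (genMatrix K m q) (e + 2)) c' ∈
        Submodule.span K (Set.range fun c : BTIdx m q (e + 2) =>
          Ideal.Quotient.mk (CAlgX.minorIdeal (genMatrix K m q) (e + 2))
            (Finset.univ.prod fun i => minorOf K (c.2.1 i))) := by
      rw [hspan]; exact Submodule.mem_top
    obtain ⟨l, hl⟩ := (Finsupp.mem_span_range_iff_exists_finsupp).mp hcs
    obtain ⟨P, hP⟩ : ∃ P : MvPolynomial (Fin m × Fin q) K,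
      P = ∑ T ∈ l.support, l T • (Finset.univ.prod fun i => minorOf K (T.2.1 i)) := ⟨_, rfl⟩
    have hPc : Ideal.Quotient.mk (CAlgX.minorIdeal (genMatrix K m q) (e + 2)) P =
        Ideal.Quotient.mk _ c' := by
      rw [← hl, hP, Finsupp.sum, map_sum]
      refine Finset.sum_congr rfl (fun c _ => ?_)
      rfl
    have hdiff : P - c' ∈ CAlgX.minorIdeal (genMatrix K m q) (e + 2) :=
      Ideal.Quotient.eq.mp hPc
    have hPmap : pairingMap K (e + 1) m q P =
        f * (pairingMap K (e + 1) m q (minorOf K (MD hm hq))) ^ (N + 1) := by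
      have h1 : P - c' ∈ RingHom.ker (pairingMap K (e + 1) m q).toRingHom :=
        minorIdeal_le_ker K (e + 1) q hdiff
      have h2 : pairingMap K (e + 1) m q (P - c') = 0 := RingHom.mem_ker.mp h1
      rw [map_sub] at h2
      rw [← hc']
      exact sub_eq_zero.mp h2
    -- split off the bitableaux containing the leading minor
    obtain ⟨S₁, hS₁⟩ : ∃ S₁ : Finset (BTIdx m q (e + 2)),
      S₁ = l.support.filter (fun T => ∃ k, T.2.1 k = MD hm hq) := ⟨_, rfl⟩
    obtain ⟨S₀, hS₀⟩ : ∃ S₀ : Finset (BTIdx m q (e + 2)),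
      S₀ = l.support.filter (fun T => ¬ ∃ k, T.2.1 k = MD hm hq) := ⟨_, rfl⟩
    have hsplit : P = (∑ T ∈ S₁, l T • (Finset.univ.prod fun i => minorOf K (T.2.1 i))) +
        ∑ T ∈ S₀, l T • (Finset.univ.prod fun i => minorOf K (T.2.1 i)) := by
      rw [hP, hS₁, hS₀]
      exact (Finset.sum_filter_add_sum_filter_not _ _ _).symm
    have hfac : ∀ T ∈ S₁, ∃ R : MvPolynomial (Fin m × Fin q) K,
        (Finset.univ.prod fun i => minorOf K (T.2.1 i)) = minorOf K (MD hm hq) * R := by
      intro T hT
      rw [hS₁] at hT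
      obtain ⟨k, hk⟩ := (Finset.mem_filter.mp hT).2
      refine ⟨∏ i ∈ Finset.univ.erase k, minorOf K (T.2.1 i), ?_⟩
      rw [← hk]
      exact (Finset.mul_prod_erase Finset.univ (fun i => minorOf K (T.2.1 i))
        (Finset.mem_univ k)).symm
    choose! Rf hRf using hfac
    have hP₁ : ∑ T ∈ S₁, l T • (Finset.univ.prod fun i => minorOf K (T.2.1 i)) =
        minorOf K (MD hm hq) * ∑ T ∈ S₁, l T • Rf T := by
      rw [Finset.mul_sum]
      refine Finset.sum_congr rfl (fun T hT => ?_)
      rw [hRf T hT, mul_smul_comm]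
    -- the part without the leading minor vanishes
    have hzero : ∀ T ∈ S₀, l T = 0 := by
      apply free_part_zero K hm hq S₀
      · intro T hT k hk
        rw [hS₀] at hT
        exact (Finset.mem_filter.mp hT).2 ⟨k, hk⟩
      · intro z ψ hψ hzψ
        obtain ⟨hΔz, hPz⟩ := eval_eq_zero_of_divisor K hm hq z ψ hψ hzψ
        have h4 : ∑ T ∈ S₀, l T • (Finset.univ.prod fun i => minorOf K (T.2.1 i)) =
            P - minorOf K (MD hm hq) * ∑ T ∈ S₁, l T • Rf T := by
          rw [← hP₁, eq_sub_iff_add_eq, add_comm]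
          exact hsplit.symm
        rw [h4, map_sub, hPz P f N hPmap, map_mul, hΔz, zero_mul, sub_zero]
    have hP₀ : ∑ T ∈ S₀, l T • (Finset.univ.prod fun i => minorOf K (T.2.1 i)) = 0 :=
      Finset.sum_eq_zero (fun T hT => by rw [hzero T hT, zero_smul])
    apply ih (∑ T ∈ S₁, l T • Rf T)
    rw [hsplit, hP₁, hP₀, add_zero, map_mul, pow_succ, ← mul_assoc] at hPmap
    have hne := pairingMap_MD_ne_zero K hm hq
    exact mul_left_cancel₀ hne (by rw [hPmap]; ring)

end Groth.Agent.H16.BT
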