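import Mathlib
import Groth.Prelude.Def_W4bk4grassmannianPl
import Groth.Agent.H16.GF4
import Groth.Agent.H16.FT2

set_option autoImplicit false
set_option linter.unusedSectionVars false
set_option linter.style.haveILetI false

/-! First fundamental theorem for `GL_n`: the Cramer step and the easy direction. -/

namespace Groth.Agent.H16.BT

open W4bk4grassmannian MvPolynomial Matrix

universe u

variable (K : Type u) [Field K] {m q r : ℕ}

/-- the point of a pair of matrices. -/
def ptp (U : Matrix (Fin m) (Fin r) K) (W : Matrix (Fin r) (Fin q) K) :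
    (Fin m × Fin r) ⊕ (Fin r × Fin q) → K :=
  Sum.elim (fun p => U p.1 p.2) (fun p => W p.1 p.2)

theorem eval_ptp_pairingMap (U : Matrix (Fin m) (Fin r) K) (W : Matrix (Fin r) (Fin q) K)
    (G : MvPolynomial (Fin m × Fin q) K) :
    eval (ptp K U W) (pairingMap K r m q G) = eval (FT.pt K (U * W)) G := by
  rw [eval_pairingMap]
  congr 1

theorem eval_glTranslate (A : GL (Fin r) K) (U : Matrix (Fin m) (Fin r) K)
    (W : Matrix (Fin r) (Fin q) K) (F : PairRing K r m q) :
    eval (ptp K U W) (glTranslate K r m q A F) =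
      eval (ptp K (U * ((A⁻¹ : GL (Fin r) K) : Matrix (Fin r) (Fin r) K))
        ((A : Matrix (Fin r) (Fin r) K) * W)) F := by
  induction F using MvPolynomial.induction_on with
  | C c =>
    have : glTranslate K r m q A (C c) = C c := by
      unfold glTranslate; rw [aeval_C]; rfl
    rw [this, eval_C, eval_C]
  | add p p' hp hp' => rw [map_add, map_add, map_add, hp, hp']
  | mul_X p x hp =>
    rw [map_mul, map_mul, map_mul, hp, eval_X]
    congr 1
    unfold glTranslate
    rw [aeval_X]
    rcases x with ⟨i, k⟩ | ⟨k, j⟩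
    · simp only [Sum.elim_inl, ptp]
      rw [map_sum, Matrix.mul_apply]
      refine Finset.sum_congr rfl (fun l _ => ?_)
      rw [map_mul, eval_X, eval_C]
      rfl
    · simp only [Sum.elim_inr, ptp]
      rw [map_sum, Matrix.mul_apply]
      refine Finset.sum_congr rfl (fun l _ => ?_)
      rw [map_mul, eval_X, eval_C]
      rfl

theorem eq_ptp (x : (Fin m × Fin r) ⊕ (Fin r × Fin q) → K) :
    x = ptp K (Matrix.of fun i k => x (Sum.inl (i, k))) (Matrix.of fun k j => x (Sum.inr (k, j))) := by
  funext p
  rcases p with ⟨i, k⟩ | ⟨k, j⟩ <;> rfl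

/-- polynomials in the entries of the product are invariant. -/
theorem glTranslate_pairingMap [Infinite K] (A : GL (Fin r) K)
    (G : MvPolynomial (Fin m × Fin q) K) :
    glTranslate K r m q A (pairingMap K r m q G) = pairingMap K r m q G := by
  apply MvPolynomial.funext
  intro x
  rw [eq_ptp K x, eval_glTranslate, eval_ptp_pairingMap, eval_ptp_pairingMap]
  congr 2
  rw [Matrix.mul_assoc, ← Matrix.mul_assoc _ (A : Matrix (Fin r) (Fin r) K)]
  have : ((A⁻¹ : GL (Fin r) K) : Matrix (Fin r) (Fin r) K) * (A : Matrix (Fin r) (Fin r) K) = 1 :=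
    Units.inv_mul A
  rw [this, Matrix.one_mul]

end Groth.Agent.H16.BT
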