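import Mathlib
import Groth.Prelude.Def_W4bk4grassmannianPl
import Groth.Agent.H16.GF5

set_option autoImplicit false
set_option linter.unusedSectionVars false
set_option linter.style.haveILetI false

/-! First fundamental theorem for `GL_n`: the Cramer step. -/

namespace Groth.Agent.H16.BT

open W4bk4grassmannian MvPolynomial Matrix

universe u

variable (K : Type u) [Field K] {m q e : ℕ}

/-- the first `e + 1` columns of the generic matrix. -/
noncomputable def Ybeta (hq : e + 1 ≤ q) :
    Matrix (Fin m) (Fin (e + 1)) (MvPolynomial (Fin m × Fin q) K) :=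
  Matrix.of fun i k => X (i, Fin.castLE hq k)

/-- the substitution of the normalized pair. -/
noncomputable def sigmaGL (hm : e + 1 ≤ m) (hq : e + 1 ≤ q) :
    PairRing K (e + 1) m q →ₐ[K] Polynomial (MvPolynomial (Fin m × Fin q) K) :=
  aeval (Sum.elim
    (fun p : Fin m × Fin (e + 1) => Polynomial.C
      (((Ybeta K hq).submatrix (Function.update (Fin.castLE hm) p.2 p.1) id).det) * Polynomial.X)
    (fun p : Fin (e + 1) × Fin q => Polynomial.C (X (Fin.castLE hm p.1, p.2))))

theorem eval_sigmaGL (hm : e + 1 ≤ m) (hq : e + 1 ≤ q) (Z : Matrix (Fin m) (Fin q) K)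
    (F : PairRing K (e + 1) m q) :
    Polynomial.eval₂ (eval (FT.pt K Z)) ((Z.submatrix (Fin.castLE hm) (Fin.castLE hq)).det⁻¹)
      (sigmaGL K hm hq F) =
    eval (ptp K ((Z.submatrix id (Fin.castLE hq)) *
      (Z.submatrix (Fin.castLE hm) (Fin.castLE hq))⁻¹) (Z.submatrix (Fin.castLE hm) id)) F := by
  induction F using MvPolynomial.induction_on with
  | C c =>
    have : sigmaGL K hm hq (C c) = Polynomial.C (C c) := by
      unfold sigmaGL; rw [aeval_C]; rfl
    rw [this, Polynomial.eval₂_C, eval_C, eval_C]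
  | add p p' hp hp' => rw [map_add, Polynomial.eval₂_add, map_add, hp, hp']
  | mul_X p x hp =>
    rw [map_mul, Polynomial.eval₂_mul, map_mul, hp, eval_X]
    congr 1
    unfold sigmaGL
    rw [aeval_X]
    rcases x with ⟨i, k⟩ | ⟨k, j⟩
    · simp only [Sum.elim_inl, ptp]
      rw [Polynomial.eval₂_mul, Polynomial.eval₂_C, Polynomial.eval₂_X, RingHom.map_det]
      rw [Matrix.inv_def, Ring.inverse_eq_inv', Matrix.mul_smul, Matrix.smul_apply, smul_eq_mul,
        mul_comm]
      congr 1
      have h1 := FT.mul_adjugate_apply K (Z.submatrix id (Fin.castLE hq)) (Fin.castLE hm) i k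
      have h2 : (Z.submatrix id (Fin.castLE hq)).submatrix (Fin.castLE hm) id =
          Z.submatrix (Fin.castLE hm) (Fin.castLE hq) := rfl
      rw [h2] at h1
      rw [h1]
      congr 1
      apply Matrix.ext
      intro a b
      show eval (FT.pt K Z) (X (Function.update (Fin.castLE hm) k i a, Fin.castLE hq b)) = _
      rw [eval_X]
      rfl
    · simp only [Sum.elim_inr, ptp]
      rw [Polynomial.eval₂_C, eval_X]
      rfl

theorem eval_eq_eval_sigmaGL (hm : e + 1 ≤ m) (hq : e + 1 ≤ q) (f : PairRing K (e + 1) m q)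
    (hf : ∀ A : GL (Fin (e + 1)) K, glTranslate K (e + 1) m q A f = f)
    (U : Matrix (Fin m) (Fin (e + 1)) K) (W : Matrix (Fin (e + 1)) (Fin q) K)
    (hδ : ((U * W).submatrix (Fin.castLE hm) (Fin.castLE hq)).det ≠ 0) :
    eval (ptp K U W) f = Polynomial.eval₂ (eval (FT.pt K (U * W)))
      (((U * W).submatrix (Fin.castLE hm) (Fin.castLE hq)).det⁻¹) (sigmaGL K hm hq f) := by
  classical
  rw [eval_sigmaGL]
  set g := U.submatrix (Fin.castLE hm) id with hg
  set Wβ := W.submatrix id (Fin.castLE hq) with hWβ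
  have hT : (U * W).submatrix (Fin.castLE hm) (Fin.castLE hq) = g * Wβ := by
    apply Matrix.ext
    intro a b
    rw [Matrix.submatrix_apply, Matrix.mul_apply, Matrix.mul_apply]
    rfl
  rw [hT, Matrix.det_mul] at hδ
  have hgdet : g.det ≠ 0 := left_ne_zero_of_mul hδ
  have hWdet : Wβ.det ≠ 0 := right_ne_zero_of_mul hδ
  have hgu : IsUnit g.det := isUnit_iff_ne_zero.mpr hgdet
  have hWu : IsUnit Wβ.det := isUnit_iff_ne_zero.mpr hWdet
  have h1 : (U * W).submatrix id (Fin.castLE hq) = U * Wβ := by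
    apply Matrix.ext
    intro a b
    rw [Matrix.submatrix_apply, Matrix.mul_apply, Matrix.mul_apply]
    rfl
  have h2 : (U * W).submatrix (Fin.castLE hm) id = g * W := by
    apply Matrix.ext
    intro a b
    rw [Matrix.submatrix_apply, Matrix.mul_apply, Matrix.mul_apply]
    rfl
  have h3 : U * Wβ * (g * Wβ)⁻¹ = U * g⁻¹ := by
    rw [Matrix.mul_inv_rev, Matrix.mul_assoc, ← Matrix.mul_assoc Wβ, Matrix.mul_nonsing_inv Wβ hWu,
      Matrix.one_mul]
  rw [hT, h1, h2, h3]
  have hinv := hf (g.nonsingInvUnit hgu)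
  conv_lhs => rw [← hinv]
  rw [eval_glTranslate]
  rfl

theorem eval_minorOf_MD (hm : e + 1 ≤ m) (hq : e + 1 ≤ q) (Z : Matrix (Fin m) (Fin q) K) :
    eval (FT.pt K Z) (minorOf K (MD hm hq)) =
      (Z.submatrix (Fin.castLE hm) (Fin.castLE hq)).det := by
  unfold minorOf
  rw [RingHom.map_det]
  congr 1
  apply Matrix.ext
  intro a b
  show eval (FT.pt K Z) (X (Fin.castLE hm a, Fin.castLE hq b)) = _
  rw [eval_X]
  rfl

theorem exists_pow_mul_gl [Infinite K] (hm : e + 1 ≤ m) (hq : e + 1 ≤ q)
    (f : PairRing K (e + 1) m q)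
    (hf : ∀ A : GL (Fin (e + 1)) K, glTranslate K (e + 1) m q A f = f) :
    ∃ (N : ℕ) (c' : MvPolynomial (Fin m × Fin q) K),
      pairingMap K (e + 1) m q c' =
        f * (pairingMap K (e + 1) m q (minorOf K (MD hm hq))) ^ N := by
  classical
  set p := sigmaGL K hm hq f with hp
  set Δ := minorOf K (MD hm hq) with hΔ
  refine ⟨p.natDegree, ∑ k ∈ Finset.range (p.natDegree + 1),
    p.coeff k * Δ ^ (p.natDegree - k), ?_⟩
  have hne := pairingMap_MD_ne_zero K hm hq
  have key : (pairingMap K (e + 1) m q (∑ k ∈ Finset.range (p.natDegree + 1),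
      p.coeff k * Δ ^ (p.natDegree - k)) -
      f * (pairingMap K (e + 1) m q Δ) ^ p.natDegree) * pairingMap K (e + 1) m q Δ = 0 := by
    apply MvPolynomial.funext
    intro x
    rw [eq_ptp K x]
    set U : Matrix (Fin m) (Fin (e + 1)) K := Matrix.of fun i k => x (Sum.inl (i, k)) with hU
    set W : Matrix (Fin (e + 1)) (Fin q) K := Matrix.of fun k j => x (Sum.inr (k, j)) with hW
    rw [map_mul, map_zero, eval_ptp_pairingMap, eval_minorOf_MD]
    by_cases hδ : ((U * W).submatrix (Fin.castLE hm) (Fin.castLE hq)).det = 0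
    · rw [hδ, mul_zero]
    · rw [map_sub, map_mul, map_pow, eval_ptp_pairingMap, eval_ptp_pairingMap, eval_minorOf_MD,
        eval_eq_eval_sigmaGL K hm hq f hf U W hδ, ← hp, Polynomial.eval₂_eq_sum_range, map_sum,
        Finset.sum_mul, ← Finset.sum_sub_distrib, Finset.sum_eq_zero, zero_mul]
      intro k hk
      have hk' : k ≤ p.natDegree := by
        have := Finset.mem_range.mp hk; omega
      rw [map_mul, map_pow, eval_minorOf_MD]
      have h1 : (((U * W).submatrix (Fin.castLE hm) (Fin.castLE hq)).det⁻¹) ^ k *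
          ((U * W).submatrix (Fin.castLE hm) (Fin.castLE hq)).det ^ p.natDegree =
          ((U * W).submatrix (Fin.castLE hm) (Fin.castLE hq)).det ^ (p.natDegree - k) := by
        have h2 : p.natDegree = (p.natDegree - k) + k := (Nat.sub_add_cancel hk').symm
        conv_lhs => rw [h2]
        rw [pow_add, inv_pow, mul_comm (_ ^ (p.natDegree - k)), ← mul_assoc,
          inv_mul_cancel₀ (pow_ne_zero _ hδ), one_mul]
      rw [mul_assoc, h1, sub_self]
  rcases mul_eq_zero.mp key with h | h
  · exact sub_eq_zero.mp h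
  · exact absurd h hne

/-- the first fundamental theorem when both outer dimensions are at least the inner one. -/
theorem fft_gl_big [Infinite K] (hm : e + 1 ≤ m) (hq : e + 1 ≤ q) (f : PairRing K (e + 1) m q)
    (hf : ∀ A : GL (Fin (e + 1)) K, glTranslate K (e + 1) m q A f = f) :
    f ∈ (pairingMap K (e + 1) m q).range := by
  obtain ⟨N, c', hc'⟩ := exists_pow_mul_gl K hm hq f hf
  obtain ⟨c'', hc''⟩ := descent_gl K hm hq f N c' hc'
  exact (AlgHom.mem_range _).mpr ⟨c'', hc''⟩

end Groth.Agent.H16.BT
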