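import Mathlib
import Groth.Prelude.Def_W4bk4grassmannianPl
import Groth.Agent.H16.GF6

set_option autoImplicit false
set_option linter.unusedSectionVars false
set_option linter.style.haveILetI false

/-! First fundamental theorem for `GL_n`: padding and the main theorem. -/

namespace Groth.Agent.H16.BT

open W4bk4grassmannian MvPolynomial Matrix

universe u

variable (K : Type u) [Field K] (m q r : ℕ)

/-- extension by new rows of `U` and new columns of `W`. -/
noncomputable def incl : PairRing K r m q →ₐ[K] PairRing K r (m + r) (q + r) :=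
  rename (Sum.map (Prod.map (Fin.castAdd r) id) (Prod.map id (Fin.castAdd r)))

/-- restriction: the new rows and columns are set to zero. -/
noncomputable def res : PairRing K r (m + r) (q + r) →ₐ[K] PairRing K r m q :=
  aeval (Sum.elim
    (fun p : Fin (m + r) × Fin r =>
      if h : p.1.val < m then (X (Sum.inl (⟨p.1.val, h⟩, p.2)) : PairRing K r m q) else 0)
    (fun p : Fin r × Fin (q + r) =>
      if h : p.2.val < q then (X (Sum.inr (p.1, ⟨p.2.val, h⟩)) : PairRing K r m q) else 0))

/-- restriction on the product matrix. -/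
noncomputable def resY :
    MvPolynomial (Fin (m + r) × Fin (q + r)) K →ₐ[K] MvPolynomial (Fin m × Fin q) K :=
  aeval (fun p : Fin (m + r) × Fin (q + r) =>
    if h : p.1.val < m ∧ p.2.val < q then
      (X (⟨p.1.val, h.1⟩, ⟨p.2.val, h.2⟩) : MvPolynomial (Fin m × Fin q) K) else 0)

theorem res_incl (F : PairRing K r m q) : res K m q r (incl K m q r F) = F := by
  have : (res K m q r).comp (incl K m q r) = AlgHom.id K _ := by
    apply MvPolynomial.algHom_ext
    intro x
    rw [AlgHom.comp_apply, AlgHom.id_apply]
    unfold incl res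
    rw [rename_X, aeval_X]
    rcases x with ⟨i, k⟩ | ⟨k, j⟩
    · simp only [Sum.map_inl, Sum.elim_inl, Prod.map_apply, id]
      rw [dif_pos (by show (Fin.castAdd r i).val < m; exact i.isLt)]
      rfl
    · simp only [Sum.map_inr, Sum.elim_inr, Prod.map_apply, id]
      rw [dif_pos (by show (Fin.castAdd r j).val < q; exact j.isLt)]
      rfl
  exact congrArg (fun φ : PairRing K r m q →ₐ[K] PairRing K r m q => φ F) this

theorem glTranslate_incl (A : GL (Fin r) K) (F : PairRing K r m q) :
    glTranslate K r (m + r) (q + r) A (incl K m q r F) =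
      incl K m q r (glTranslate K r m q A F) := by
  have : (glTranslate K r (m + r) (q + r) A).comp (incl K m q r) =
      (incl K m q r).comp (glTranslate K r m q A) := by
    apply MvPolynomial.algHom_ext
    intro x
    rw [AlgHom.comp_apply, AlgHom.comp_apply]
    unfold incl glTranslate
    rw [rename_X, aeval_X, aeval_X]
    rcases x with ⟨i, k⟩ | ⟨k, j⟩
    · simp only [Sum.map_inl, Sum.elim_inl, Prod.map_apply, id]
      rw [map_sum]
      refine Finset.sum_congr rfl (fun l _ => ?_)
      rw [map_mul, rename_X, rename_C]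
      rfl
    · simp only [Sum.map_inr, Sum.elim_inr, Prod.map_apply, id]
      rw [map_sum]
      refine Finset.sum_congr rfl (fun l _ => ?_)
      rw [map_mul, rename_X, rename_C]
      rfl
  exact congrArg (fun φ : PairRing K r m q →ₐ[K] PairRing K r (m + r) (q + r) => φ F) this

theorem res_pairingMap (G : MvPolynomial (Fin (m + r) × Fin (q + r)) K) :
    res K m q r (pairingMap K r (m + r) (q + r) G) = pairingMap K r m q (resY K m q r G) := by
  have : (res K m q r).comp (pairingMap K r (m + r) (q + r)) =
      (pairingMap K r m q).comp (resY K m q r) := by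
    apply MvPolynomial.algHom_ext
    intro x
    obtain ⟨i, j⟩ := x
    rw [AlgHom.comp_apply, AlgHom.comp_apply]
    unfold pairingMap resY
    rw [aeval_X, aeval_X, map_sum]
    by_cases h : i.val < m ∧ j.val < q
    · rw [dif_pos h, aeval_X]
      refine Finset.sum_congr rfl (fun k _ => ?_)
      rw [map_mul]
      unfold res
      rw [aeval_X, aeval_X]
      simp only [Sum.elim_inl, Sum.elim_inr]
      rw [dif_pos h.1, dif_pos h.2]
    · rw [dif_neg h, map_zero]
      apply Finset.sum_eq_zero
      intro k _
      rw [map_mul]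
      unfold res
      rw [aeval_X, aeval_X]
      simp only [Sum.elim_inl, Sum.elim_inr]
      by_cases hi : i.val < m
      · have hj : ¬ j.val < q := fun hj => h ⟨hi, hj⟩
        rw [dif_neg hj, mul_zero]
      · rw [dif_neg hi, zero_mul]
  exact congrArg (fun φ : MvPolynomial (Fin (m + r) × Fin (q + r)) K →ₐ[K] PairRing K r m q =>
    φ G) this

theorem fft_gl [Infinite K] (f : PairRing K r m q) :
    (∀ A : GL (Fin r) K, glTranslate K r m q A f = f) ↔ f ∈ (pairingMap K r m q).range := by
  constructor
  · intro hf
    rcases Nat.eq_zero_or_pos r with h0 | hpos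
    · subst h0
      haveI : IsEmpty ((Fin m × Fin 0) ⊕ (Fin 0 × Fin q)) := by
        rw [isEmpty_sum]
        exact ⟨⟨fun p => p.2.elim0⟩, ⟨fun p => p.1.elim0⟩⟩
      refine (AlgHom.mem_range _).mpr ⟨C (coeff 0 f), ?_⟩
      have : pairingMap K 0 m q (C (coeff 0 f)) = C (coeff 0 f) := by
        unfold pairingMap; rw [aeval_C]; rfl
      rw [this]
      exact (MvPolynomial.eq_C_of_isEmpty f).symm
    · obtain ⟨e, rfl⟩ := Nat.exists_eq_succ_of_ne_zero (Nat.pos_iff_ne_zero.mp hpos)
      have hinv : ∀ A : GL (Fin (e + 1)) K,
          glTranslate K (e + 1) (m + (e + 1)) (q + (e + 1)) A (incl K m q (e + 1) f) =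
            incl K m q (e + 1) f := by
        intro A
        rw [glTranslate_incl, hf A]
      have hbig := fft_gl_big K (by omega : e + 1 ≤ m + (e + 1)) (by omega : e + 1 ≤ q + (e + 1))
        (incl K m q (e + 1) f) hinv
      obtain ⟨G, hG⟩ := (AlgHom.mem_range _).mp hbig
      refine (AlgHom.mem_range _).mpr ⟨resY K m q (e + 1) G, ?_⟩
      rw [← res_pairingMap, hG, res_incl]
  · intro hf A
    obtain ⟨G, rfl⟩ := (AlgHom.mem_range _).mp hf
    exact glTranslate_pairingMap K A G

end Groth.Agent.H16.BT
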