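import Groth.Agent.H16.Plane3
set_option autoImplicit false
set_option linter.unusedSimpArgs false

namespace Groth.Agent.Helper16.Plane

open FunFld Module Groth.Agent.Helper17.FF

variable {k K : Type*} [Field k] [Field K] [Algebra k K]

/-- Gauss's lemma: if `f` is an irreducible relation between `x` and a transcendental `y`, then the
degree of `x` over `k(y)` is the degree of `f` in its first variable -/
theorem natDegree_minpoly_of_irreducible {x y : K} (hy : Transcendental k y)
    (f : MvPolynomial (Fin 2) k) (hf : Irreducible f)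
    (hfxy : MvPolynomial.aeval ![x, y] f = 0) :
    (minpoly (IntermediateField.adjoin k ({y} : Set K)) x).natDegree = f.degreeOf 0 := by
  classical
  obtain ⟨L, hL⟩ : ∃ L : IntermediateField k K, L = IntermediateField.adjoin k ({y} : Set K) :=
    ⟨_, rfl⟩
  rw [← hL]
  have hyL : y ∈ L := by rw [hL]; exact IntermediateField.mem_adjoin_simple_self k y
  obtain ⟨yL, hyL'⟩ : ∃ yL : L, yL = ⟨y, hyL⟩ := ⟨_, rfl⟩
  have hyLc : (yL : K) = y := by rw [hyL']
  obtain ⟨ι, hι⟩ : ∃ ι : MvPolynomial (Fin 1) k →ₐ[k] L, ι = MvPolynomial.aeval (fun _ => yL) :=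
    ⟨_, rfl⟩
  have hιX : ι (MvPolynomial.X 0) = yL := by rw [hι, MvPolynomial.aeval_X]
  have hcomp : (L.val).comp ι = MvPolynomial.aeval (fun _ : Fin 1 => y) := by
    rw [hι, MvPolynomial.comp_aeval]
    congr 1
    funext i
    exact hyLc
  have hinjK : Function.Injective (MvPolynomial.aeval (R := k) (fun _ : Fin 1 => y)) := by
    have h1 : AlgebraicIndependent k (fun _ : Fin 1 => y) := by
      rw [algebraicIndependent_unique_type_iff]
      exact hy
    exact h1
  have hιinj : Function.Injective ι := by
    have h2 : Function.Injective ((L.val).comp ι) := by rw [hcomp]; exact hinjK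
    exact Function.Injective.of_comp (f := L.val) (by simpa using h2)
  letI : Algebra (MvPolynomial (Fin 1) k) L := ι.toRingHom.toAlgebra
  have halg : ∀ r, algebraMap (MvPolynomial (Fin 1) k) L r = ι r := fun r => rfl
  haveI : FaithfulSMul (MvPolynomial (Fin 1) k) L :=
    (faithfulSMul_iff_algebraMap_injective _ _).mpr hιinj
  haveI : IsFractionRing (MvPolynomial (Fin 1) k) L := by
    apply IsFractionRing.of_field
    intro z
    have hz : (z : K) ∈ IntermediateField.adjoin k ({y} : Set K) := by rw [← hL]; exact z.2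
    rw [IntermediateField.mem_adjoin_simple_iff] at hz
    obtain ⟨r, s, hrs⟩ := hz
    have hconv : ∀ r : Polynomial k,
        ((ι (Polynomial.aeval (MvPolynomial.X 0 : MvPolynomial (Fin 1) k) r) : L) : K) =
          Polynomial.aeval y r := by
      intro r
      rw [← Polynomial.aeval_algHom_apply, hιX]
      have := Polynomial.aeval_algHom_apply L.val yL r
      rw [IntermediateField.val_mk] at this
      rw [← hyLc]
      exact this.symm
    refine ⟨Polynomial.aeval (MvPolynomial.X 0) r, Polynomial.aeval (MvPolynomial.X 0) s, ?_⟩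
    apply Subtype.ext
    rw [halg, halg]
    push_cast
    rw [hconv, hconv]
    exact hrs
  obtain ⟨p, hp⟩ : ∃ p, p = MvPolynomial.finSuccEquiv k 1 f := ⟨_, rfl⟩
  have hpirr : Irreducible p := by
    rw [hp]
    exact (MulEquiv.irreducible_iff (MvPolynomial.finSuccEquiv k 1).toMulEquiv).mpr hf
  have hdeg : p.natDegree = f.degreeOf 0 := by
    rw [hp]; exact MvPolynomial.natDegree_finSuccEquiv f
  have hΨ : (Polynomial.eval₂RingHom ((algebraMap L K).comp (algebraMap (MvPolynomial (Fin 1) k) L))
      x).comp ((MvPolynomial.finSuccEquiv k 1).toAlgHom.toRingHom) =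
      (MvPolynomial.aeval ![x, y] : MvPolynomial (Fin 2) k →ₐ[k] K).toRingHom := by
    apply MvPolynomial.ringHom_ext
    · intro r
      show Polynomial.eval₂ _ x (MvPolynomial.finSuccEquiv k 1 (MvPolynomial.C r)) =
        MvPolynomial.aeval ![x, y] (MvPolynomial.C r)
      have e1 : (MvPolynomial.C r : MvPolynomial (Fin 2) k) = algebraMap k _ r := rfl
      rw [e1, AlgEquiv.commutes, AlgHom.commutes, Polynomial.algebraMap_apply, Polynomial.eval₂_C,
        RingHom.comp_apply, halg, AlgHom.commutes, ← IsScalarTower.algebraMap_apply]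
    · intro i
      fin_cases i
      · simp [MvPolynomial.finSuccEquiv_X_zero]
      · have e : (MvPolynomial.X (1 : Fin 2) : MvPolynomial (Fin 2) k) =
            MvPolynomial.X (Fin.succ (0 : Fin 1)) := rfl
        simp only [RingHom.comp_apply, RingHom.coe_coe]
        show Polynomial.eval₂RingHom _ x (MvPolynomial.finSuccEquiv k 1 (MvPolynomial.X 1)) = _
        rw [e, MvPolynomial.finSuccEquiv_X_succ]
        simp [halg, hιX, hyLc]
  have heval : Polynomial.aeval x (p.map (algebraMap (MvPolynomial (Fin 1) k) L)) = 0 := by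
    rw [Polynomial.aeval_def, Polynomial.eval₂_map, hp]
    have := RingHom.congr_fun hΨ f
    change Polynomial.eval₂ _ x (MvPolynomial.finSuccEquiv k 1 f) =
      MvPolynomial.aeval ![x, y] f at this
    rw [hfxy] at this
    exact this
  have hpdeg : p.natDegree ≠ 0 := by
    intro h0
    have hpC := Polynomial.eq_C_of_natDegree_eq_zero h0
    rw [hpC, Polynomial.map_C, Polynomial.aeval_C] at heval
    have h1 : algebraMap (MvPolynomial (Fin 1) k) L (p.coeff 0) = 0 := by
      have := (algebraMap L K).injective
      apply this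
      rw [heval, map_zero]
    rw [halg] at h1
    have h2 : p.coeff 0 = 0 := hιinj (by rw [h1, map_zero])
    rw [h2, Polynomial.C_0] at hpC
    exact hpirr.ne_zero hpC
  have hprim := hpirr.isPrimitive hpdeg
  have hirrL : Irreducible (p.map (algebraMap (MvPolynomial (Fin 1) k) L)) :=
    hprim.irreducible_iff_irreducible_map_fraction_map.mp hpirr
  have hmin := minpoly.eq_of_irreducible hirrL heval
  rw [← hmin, ← hdeg]
  have hlc : (p.map (algebraMap (MvPolynomial (Fin 1) k) L)).leadingCoeff⁻¹ ≠ 0 :=
    inv_ne_zero (Polynomial.leadingCoeff_ne_zero.mpr hirrL.ne_zero)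
  rw [Polynomial.natDegree_mul_C hlc]
  exact Polynomial.natDegree_map_eq_of_injective hιinj p

end Groth.Agent.Helper16.Plane
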