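import Groth.Agent.H16.Gauss
set_option autoImplicit false
set_option linter.unusedSimpArgs false

namespace Groth.Agent.Helper16.Plane

open FunFld Module Groth.Agent.Helper17.FF

variable {k : Type*} [Field k]

/-- the shear `X₀ ↦ X₀`, `X₁ ↦ X₁ - c X₀` -/
noncomputable def shear (c : k) : MvPolynomial (Fin 2) k →ₐ[k] MvPolynomial (Fin 2) k :=
  MvPolynomial.aeval ![MvPolynomial.X 0, MvPolynomial.X 1 - MvPolynomial.C c * MvPolynomial.X 0]

theorem shear_comp (c : k) : (shear c).comp (shear (-c)) = AlgHom.id k _ := by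
  apply MvPolynomial.algHom_ext
  intro i
  fin_cases i
  · simp [shear]
  · simp [shear]

/-- the shear as an algebra automorphism -/
noncomputable def shearEquiv (c : k) : MvPolynomial (Fin 2) k ≃ₐ[k] MvPolynomial (Fin 2) k :=
  AlgEquiv.ofAlgHom (shear c) (shear (-c)) (shear_comp c) (by
    have := shear_comp (-c)
    rwa [neg_neg] at this)

theorem shear_irreducible (c : k) {f : MvPolynomial (Fin 2) k} (hf : Irreducible f) :
    Irreducible (shear c f) :=
  (MulEquiv.irreducible_iff (shearEquiv c).toMulEquiv).mpr hf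

theorem aeval_shear {K : Type*} [Field K] [Algebra k K] (c : k) (x y : K)
    (f : MvPolynomial (Fin 2) k) :
    MvPolynomial.aeval ![x, y] (shear c f) =
      MvPolynomial.aeval ![x, y - algebraMap k K c * x] f := by
  have h : (MvPolynomial.aeval ![x, y]).comp (shear c) =
      (MvPolynomial.aeval ![x, y - algebraMap k K c * x] : MvPolynomial (Fin 2) k →ₐ[k] K) := by
    apply MvPolynomial.algHom_ext
    intro i
    fin_cases i
    · simp [shear]
    · simp [shear]
  exact AlgHom.congr_fun h f

theorem totalDegree_aeval_le {σ τ : Type*} [Fintype σ] (g : σ → MvPolynomial τ k)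
    (hg : ∀ i, (g i).totalDegree ≤ 1) (f : MvPolynomial σ k) :
    (MvPolynomial.aeval g f).totalDegree ≤ f.totalDegree := by
  classical
  rw [MvPolynomial.aeval_def, MvPolynomial.eval₂_eq']
  apply MvPolynomial.totalDegree_finsetSum_le
  intro s hs
  refine (MvPolynomial.totalDegree_mul _ _).trans ?_
  have h1 : (algebraMap k (MvPolynomial τ k) (f.coeff s)).totalDegree = 0 :=
    MvPolynomial.totalDegree_C _
  rw [h1, zero_add]
  refine (MvPolynomial.totalDegree_finsetProd _ _).trans ?_
  have h2 : ∀ i ∈ (Finset.univ : Finset σ), ((g i) ^ (s i)).totalDegree ≤ s i := by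
    intro i _
    refine (MvPolynomial.totalDegree_pow _ _).trans ?_
    calc s i * (g i).totalDegree ≤ s i * 1 := Nat.mul_le_mul_left _ (hg i)
      _ = s i := mul_one _
  refine (Finset.sum_le_sum h2).trans ?_
  have h3 := MvPolynomial.le_totalDegree hs
  rw [Finsupp.sum_fintype _ _ (fun _ => rfl)] at h3
  exact h3

theorem totalDegree_shear_le (c : k) (f : MvPolynomial (Fin 2) k) :
    (shear c f).totalDegree ≤ f.totalDegree := by
  apply totalDegree_aeval_le
  intro i
  fin_cases i
  · simp
  · simp only [Fin.mk_one, Matrix.cons_val_one, Matrix.head_cons]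
    refine (MvPolynomial.totalDegree_sub _ _).trans (max_le ?_ ?_)
    · simp
    · refine (MvPolynomial.totalDegree_mul _ _).trans ?_
      simp

/-- the specialisation `X₀ ↦ T`, `X₁ ↦ -cT` -/
theorem spec_eq (f : MvPolynomial (Fin 2) k) (c : k) :
    MvPolynomial.aeval ![(Polynomial.X : Polynomial k), -(Polynomial.C c * Polynomial.X)] f =
      ∑ s ∈ f.support, Polynomial.C (f.coeff s * (-c) ^ (s 1)) * Polynomial.X ^ (s 0 + s 1) := by
  rw [MvPolynomial.aeval_def, MvPolynomial.eval₂_eq']
  refine Finset.sum_congr rfl fun s _ => ?_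
  rw [Fin.prod_univ_two]
  simp only [Matrix.cons_val_zero, Matrix.cons_val_one, Matrix.head_cons]
  rw [← Polynomial.C_eq_algebraMap, neg_mul_eq_neg_mul, ← Polynomial.C_neg, mul_pow,
    ← Polynomial.C_pow, Polynomial.C_mul, pow_add]
  ring

theorem spec_eq_shear (f : MvPolynomial (Fin 2) k) (c : k) :
    MvPolynomial.aeval ![(Polynomial.X : Polynomial k), -(Polynomial.C c * Polynomial.X)] f =
      MvPolynomial.aeval ![(Polynomial.X : Polynomial k), 0] (shear c f) := by
  have h : (MvPolynomial.aeval ![(Polynomial.X : Polynomial k), 0]).comp (shear c) =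
      (MvPolynomial.aeval ![(Polynomial.X : Polynomial k), -(Polynomial.C c * Polynomial.X)] :
        MvPolynomial (Fin 2) k →ₐ[k] Polynomial k) := by
    apply MvPolynomial.algHom_ext
    intro i
    fin_cases i
    · simp [shear]
    · simp [shear, Polynomial.C_eq_algebraMap]
  exact (AlgHom.congr_fun h f).symm

theorem natDegree_aeval_X_zero_le (g : MvPolynomial (Fin 2) k) :
    (MvPolynomial.aeval ![(Polynomial.X : Polynomial k), 0] g).natDegree ≤ g.degreeOf 0 := by
  rw [MvPolynomial.aeval_def, MvPolynomial.eval₂_eq']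
  apply Polynomial.natDegree_sum_le_of_forall_le
  intro s hs
  rw [Fin.prod_univ_two]
  simp only [Matrix.cons_val_zero, Matrix.cons_val_one, Matrix.head_cons]
  rw [← Polynomial.C_eq_algebraMap]
  refine (Polynomial.natDegree_C_mul_le _ _).trans ?_
  refine (Polynomial.natDegree_mul_le).trans ?_
  have h1 : ((Polynomial.X : Polynomial k) ^ s 0).natDegree ≤ s 0 :=
    Polynomial.natDegree_X_pow_le _
  have h2 : ((0 : Polynomial k) ^ s 1).natDegree = 0 := by
    by_cases h : s 1 = 0
    · rw [h, pow_zero, Polynomial.natDegree_one]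
    · rw [zero_pow h, Polynomial.natDegree_zero]
  rw [h2, add_zero]
  exact h1.trans (MvPolynomial.monomial_le_degreeOf 0 hs)

end Groth.Agent.Helper16.Plane
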