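import Groth.Agent.H16.Gauss2
set_option autoImplicit false
set_option linter.unusedSimpArgs false

namespace Groth.Agent.Helper16.Plane

open FunFld Module Groth.Agent.Helper17.FF

variable {k : Type*} [Field k]

theorem totalDegree_shear (c : k) (f : MvPolynomial (Fin 2) k) :
    (shear c f).totalDegree = f.totalDegree := by
  apply le_antisymm (totalDegree_shear_le c f)
  have h := totalDegree_shear_le (-c) (shear c f)
  have e : shear (-c) (shear c f) = f := by
    have := shear_comp (-c)
    rw [neg_neg] at this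
    exact AlgHom.congr_fun this f
  rwa [e] at h

theorem sum_eq_two (s : Fin 2 →₀ ℕ) : (s.sum fun _ e => e) = s 0 + s 1 := by
  rw [Finsupp.sum_fintype _ _ (fun _ => rfl), Fin.sum_univ_two]

/-- for all but finitely many `c`, the sheared polynomial has `X₀`-degree equal to the total
degree -/
theorem finite_bad_shear (f : MvPolynomial (Fin 2) k) (hf : f ≠ 0) :
    {c : k | (shear c f).degreeOf 0 ≠ f.totalDegree}.Finite := by
  classical
  obtain ⟨d, hd⟩ : ∃ d : ℕ, d = f.totalDegree := ⟨_, rfl⟩
  rw [← hd]
  obtain ⟨H, hH⟩ : ∃ H : Polynomial k, H = ∑ s ∈ f.support,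
      if s 0 + s 1 = d then Polynomial.C (f.coeff s * (-1) ^ (s 1)) * Polynomial.X ^ (s 1)
      else 0 := ⟨_, rfl⟩
  have hsupp : f.support.Nonempty := by
    rw [Finset.nonempty_iff_ne_empty, Ne, MvPolynomial.support_eq_empty]
    exact hf
  obtain ⟨s₀, hs₀, hs₀d⟩ := Finset.exists_mem_eq_sup f.support hsupp
    (fun s => s.sum fun _ e => e)
  have hs₀d' : s₀ 0 + s₀ 1 = d := by
    rw [hd, MvPolynomial.totalDegree, hs₀d, sum_eq_two]
  have hH0 : H ≠ 0 := by
    intro h0
    have h1 : H.coeff (s₀ 1) = f.coeff s₀ * (-1) ^ (s₀ 1) := by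
      rw [hH, Polynomial.finsetSum_coeff]
      rw [Finset.sum_eq_single s₀]
      · rw [if_pos hs₀d', Polynomial.coeff_C_mul_X_pow, if_pos rfl]
      · intro s _ hne
        by_cases hsd : s 0 + s 1 = d
        · rw [if_pos hsd, Polynomial.coeff_C_mul_X_pow]
          by_cases h1 : s₀ 1 = s 1
          · exfalso
            apply hne
            ext i
            fin_cases i
            · show s 0 = s₀ 0
              omega
            · show s 1 = s₀ 1
              omega
          · rw [if_neg h1]
        · rw [if_neg hsd, Polynomial.coeff_zero]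
      · intro h; exact absurd hs₀ h
    rw [h0, Polynomial.coeff_zero] at h1
    have h2 : f.coeff s₀ ≠ 0 := MvPolynomial.mem_support_iff.mp hs₀
    have h3 : ((-1 : k)) ^ (s₀ 1) ≠ 0 := pow_ne_zero _ (neg_ne_zero.mpr one_ne_zero)
    exact mul_ne_zero h2 h3 h1.symm
  have hfin : {c : k | H.IsRoot c}.Finite := Polynomial.finite_setOf_isRoot hH0
  refine hfin.subset ?_
  intro c hc
  by_contra hroot
  apply hc
  have hev : H.eval c = (MvPolynomial.aeval
      ![(Polynomial.X : Polynomial k), -(Polynomial.C c * Polynomial.X)] f).coeff d := by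
    rw [spec_eq, Polynomial.finsetSum_coeff, hH, Polynomial.eval_finsetSum]
    refine Finset.sum_congr rfl fun s _ => ?_
    rw [Polynomial.coeff_C_mul_X_pow]
    by_cases hsd : s 0 + s 1 = d
    · rw [if_pos hsd, if_pos hsd.symm, Polynomial.eval_mul, Polynomial.eval_C, Polynomial.eval_pow,
        Polynomial.eval_X, neg_pow c]
      ring
    · rw [if_neg hsd, if_neg (fun h => hsd h.symm), Polynomial.eval_zero]
  have h1 : (MvPolynomial.aeval
      ![(Polynomial.X : Polynomial k), -(Polynomial.C c * Polynomial.X)] f).coeff d ≠ 0 := by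
    rw [← hev]; exact hroot
  have h2 : d ≤ (MvPolynomial.aeval
      ![(Polynomial.X : Polynomial k), -(Polynomial.C c * Polynomial.X)] f).natDegree :=
    Polynomial.le_natDegree_of_ne_zero h1
  rw [spec_eq_shear] at h2
  have h3 := natDegree_aeval_X_zero_le (shear c f)
  have h4 := MvPolynomial.degreeOf_le_totalDegree (shear c f) 0
  rw [totalDegree_shear, ← hd] at h4
  omega

end Groth.Agent.Helper16.Plane
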