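import Groth.Agent.H16.Gauss3
set_option autoImplicit false
set_option linter.unusedSimpArgs false

namespace Groth.Agent.Helper16.Plane

open FunFld Module Groth.Agent.Helper17.FF

variable {k K : Type*} [Field k] [Field K] [Algebra k K]

/-- all but finitely many linear changes of the first coordinate are good -/
theorem finite_bad_coord (hK : IsFunctionField k K) (x y : K) :
    {c : k | ¬ ∀ P : Place k K, P.1 y ≤ max 1 (P.1 (x + algebraMap k K c * y))}.Finite := by
  classical
  by_cases hy0 : y = 0
  · have : {c : k | ¬ ∀ P : Place k K, P.1 y ≤ max 1 (P.1 (x + algebraMap k K c * y))} = ∅ := by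
      ext c
      simp only [Set.mem_setOf_eq, Set.mem_empty_iff_false, iff_false, not_not]
      intro P
      rw [hy0, map_zero]; exact zero_le
    rw [this]; exact Set.finite_empty
  have hS : {P : Place k K | 1 < P.1 y}.Finite := by
    refine (finite_support_ord hK y).subset ?_
    intro P hP
    rw [Function.mem_support]
    have := (ord_neg_iff P hy0).mpr hP
    omega
  have hB : ∀ P : Place k K, {c : k | P.1 (x + algebraMap k K c * y) < P.1 y}.Subsingleton := by
    intro P c₁ h₁ c₂ h₂
    by_contra hne
    have e : algebraMap k K (c₁ - c₂) * y =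
        (x + algebraMap k K c₁ * y) - (x + algebraMap k K c₂ * y) := by
      rw [map_sub]; ring
    have h3 : P.1 (algebraMap k K (c₁ - c₂) * y) < P.1 y := by
      rw [e]
      exact lt_of_le_of_lt (Valuation.map_sub _ _ _) (max_lt h₁ h₂)
    rw [map_mul, val_const P (sub_ne_zero.mpr hne), one_mul] at h3
    exact lt_irrefl _ h3
  have hBfin : (⋃ P ∈ {P : Place k K | 1 < P.1 y},
      {c : k | P.1 (x + algebraMap k K c * y) < P.1 y}).Finite :=
    hS.biUnion (fun P _ => (hB P).finite)
  refine hBfin.subset ?_
  intro c hc
  by_contra hnot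
  apply hc
  intro P
  by_cases hP : P.1 y ≤ 1
  · exact hP.trans (le_max_left _ _)
  · push Not at hP
    have h1 : ¬ P.1 (x + algebraMap k K c * y) < P.1 y := by
      intro h
      apply hnot
      simp only [Set.mem_iUnion, Set.mem_setOf_eq]
      exact ⟨P, hP, h⟩
    exact (not_lt.mp h1).trans (le_max_right _ _)

/-- a good shear: new coordinate `y' = y + c x` carrying all poles, with the sheared relation
of `X₀`-degree equal to the total degree -/
theorem exists_good_shear [IsAlgClosed k] (hK : IsFunctionField k K) (x y : K)
    (f : MvPolynomial (Fin 2) k) (hf : f ≠ 0) :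
    ∃ c : k, (∀ P : Place k K, P.1 x ≤ max 1 (P.1 (y + algebraMap k K c * x))) ∧
      (shear c f).degreeOf 0 = f.totalDegree := by
  haveI : Infinite k := IsAlgClosed.instInfinite
  have h1 := finite_bad_coord hK y x
  have h2 := finite_bad_shear f hf
  obtain ⟨c, hc⟩ := (h1.union h2).exists_notMem
  rw [Set.mem_union, not_or] at hc
  refine ⟨c, ?_, ?_⟩
  · have := hc.1
    simp only [Set.mem_setOf_eq, not_not] at this
    exact this
  · have := hc.2
    simp only [Set.mem_setOf_eq, not_not] at this
    exact this

theorem adjoin_shear (x y : K) (c : k)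
    (hxy : IntermediateField.adjoin k ({x, y} : Set K) = ⊤) :
    IntermediateField.adjoin k ({y + algebraMap k K c * x, x} : Set K) = ⊤ := by
  rw [eq_top_iff, ← hxy, IntermediateField.adjoin_le_iff]
  have hx : x ∈ IntermediateField.adjoin k ({y + algebraMap k K c * x, x} : Set K) :=
    IntermediateField.subset_adjoin k _ (by simp)
  have hy' : y + algebraMap k K c * x ∈
      IntermediateField.adjoin k ({y + algebraMap k K c * x, x} : Set K) :=
    IntermediateField.subset_adjoin k _ (by simp)
  rintro z (rfl | rfl)
  · exact hx
  · have e : z = (z + algebraMap k K c * x) - algebraMap k K c * x := by ring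
    have h := sub_mem hy' (mul_mem (IntermediateField.algebraMap_mem _ c) hx)
    rw [← e] at h
    exact h

theorem mapDiv_shear (hK : IsFunctionField k K) (x y : K) (c : k) :
    mapDiv k ![(1 : K), y + algebraMap k K c * x, x] = mapDiv k ![(1 : K), x, y] := by
  ext P
  have h1 := exp_mapDiv_one_xy hK (y + algebraMap k K c * x) x P
  have h2 := exp_mapDiv_one_xy hK x y P
  have hcx : P.1 (algebraMap k K c * x) ≤ P.1 x := by
    rw [map_mul]
    calc P.1 (algebraMap k K c) * P.1 x ≤ 1 * P.1 x := mul_le_mul' (P.2.1 c) le_rfl
      _ = P.1 x := one_mul _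
  have h3 : max (P.1 (y + algebraMap k K c * x)) (P.1 x) = max (P.1 x) (P.1 y) := by
    apply le_antisymm
    · refine max_le ?_ (le_max_left _ _)
      refine (P.1.map_add _ _).trans (max_le (le_max_right _ _) ?_)
      exact hcx.trans (le_max_left _ _)
    · refine max_le (le_max_right _ _) ?_
      have e : y = (y + algebraMap k K c * x) - algebraMap k K c * x := by ring
      rw [e]
      refine (Valuation.map_sub _ _ _).trans (max_le ?_ ?_)
      · rw [← e]; exact le_max_left _ _
      · exact hcx.trans (le_max_right _ _)
  rw [h3, ← h2] at h1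
  exact WithZero.exp_injective h1

/-- the degree of a plane model is the total degree of its irreducible equation -/
theorem deg_mapDiv_eq_totalDegree [IsAlgClosed k] (hK : IsFunctionField k K) (x y : K)
    (hxy : IntermediateField.adjoin k ({x, y} : Set K) = ⊤) (f : MvPolynomial (Fin 2) k)
    (hf : Irreducible f) (hfxy : MvPolynomial.aeval ![x, y] f = 0) :
    (mapDiv k ![(1 : K), x, y]).deg = f.totalDegree := by
  obtain ⟨c, hgood, hdeg⟩ := exists_good_shear hK x y f hf.ne_zero
  obtain ⟨y', hy'⟩ : ∃ y' : K, y' = y + algebraMap k K c * x := ⟨_, rfl⟩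
  rw [← hy'] at hgood
  have hxy' : IntermediateField.adjoin k ({y', x} : Set K) = ⊤ := by
    rw [hy']; exact adjoin_shear x y c hxy
  have hty' := transcendental_of_good hK y' x hxy' hgood
  have hy'0 : y' ≠ 0 := by
    rintro h
    rw [h] at hty'
    exact hty' isAlgebraic_zero
  have hrel : MvPolynomial.aeval ![x, y'] (shear c f) = 0 := by
    rw [aeval_shear, hy']
    have e : y + algebraMap k K c * x - algebraMap k K c * x = y := by ring
    rw [e, hfxy]
  have hG := natDegree_minpoly_of_irreducible hty' (shear c f) (shear_irreducible c hf) hrel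
  have hN := natDegree_minpoly_eq hK hty' hxy'
  rw [← mapDiv_shear hK x y c, ← hy', mapDiv_eq_poles hK y' x hy'0 hgood, deg_poles hK hty',
    ← hN, hG, hdeg]

end Groth.Agent.Helper16.Plane
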