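import Groth.Agent.H16.Gauss4
set_option autoImplicit false
set_option linter.unusedSimpArgs false

namespace Groth.Agent.Helper16.Plane

open FunFld Module Groth.Agent.Helper17.FF

variable {k K : Type*} [Field k] [Field K] [Algebra k K]

/-- two elements of a function field of one variable are algebraically dependent -/
theorem not_algebraicIndependent (hK : IsFunctionField k K) (x y : K) :
    ¬ AlgebraicIndependent k ![x, y] := by
  intro ind
  have hx : Transcendental k x := ind.transcendental 0
  haveI := finite_of_transcendental hK hx
  have h1 := ind.transcendental_adjoin (s := {0}) (i := 1) (by simp)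
  have e1 : (![x, y] '' ({0} : Set (Fin 2))) = {x} := by
    rw [Set.image_singleton]; rfl
  rw [e1] at h1
  have h2 : Transcendental (IntermediateField.adjoin k ({x} : Set K)) y :=
    IntermediateField.transcendental_adjoin_iff.mpr h1
  exact h2 (Algebra.IsAlgebraic.isAlgebraic y)

/-- an irreducible relation between two elements of a function field -/
theorem exists_irreducible_rel (hK : IsFunctionField k K) (x y : K) :
    ∃ f : MvPolynomial (Fin 2) k, Irreducible f ∧ MvPolynomial.aeval ![x, y] f = 0 := by
  have hprime : (RingHom.ker (MvPolynomial.aeval ![x, y] : MvPolynomial (Fin 2) k →ₐ[k] K)).IsPrime :=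
    RingHom.ker_isPrime _
  have hne : RingHom.ker (MvPolynomial.aeval ![x, y] : MvPolynomial (Fin 2) k →ₐ[k] K) ≠ ⊥ := by
    intro h
    apply not_algebraicIndependent hK x y
    exact (RingHom.injective_iff_ker_eq_bot _).mpr h
  obtain ⟨f, hf, hfp⟩ := hprime.exists_mem_prime_of_ne_bot hne
  exact ⟨f, hfp.irreducible, hf⟩

end Groth.Agent.Helper16.Plane
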