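import Mathlib
import Groth.Prelude.Def_LocRes
set_option autoImplicit false

/-! Existence of a total Hasse derivative with respect to a separating element. -/

namespace Groth.Agent.Helper16.HF

open Polynomial

variable {k K : Type*} [Field k] [Field K] [Algebra k K]

theorem constantCoeff_aeval (s : K) (p : k[X]) :
    PowerSeries.constantCoeff (Polynomial.aeval (PowerSeries.C s + PowerSeries.X : PowerSeries K) p)
      = Polynomial.aeval s p := by
  have h1 : (PowerSeries.constantCoeff (R := K)).comp (algebraMap k (PowerSeries K)) =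
      algebraMap k K := by
    ext c
    simp [PowerSeries.algebraMap_apply]
  have h2 : PowerSeries.constantCoeff (PowerSeries.C s + PowerSeries.X : PowerSeries K) = s := by
    simp
  rw [Polynomial.aeval_def, Polynomial.hom_eval₂, Polynomial.aeval_def, h1, h2]

theorem exists_hasseFamily (s : K) (hs : Transcendental k s)
    [FiniteDimensional (IntermediateField.adjoin k ({s} : Set K)) K]
    [Algebra.IsSeparable (IntermediateField.adjoin k ({s} : Set K)) K] :
    ∃ H : K →ₐ[k] PowerSeries K, LocRes.IsHasseFamily s H := by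
  classical
  obtain ⟨g₀, hg₀⟩ : ∃ g₀ : k[X] →ₐ[k] PowerSeries K,
      g₀ = Polynomial.aeval (PowerSeries.C s + PowerSeries.X : PowerSeries K) := ⟨_, rfl⟩
  have hcc₀ : ∀ p : k[X], PowerSeries.constantCoeff (g₀ p) = Polynomial.aeval s p := by
    intro p; rw [hg₀]; exact constantCoeff_aeval s p
  have hunit : ∀ y : nonZeroDivisors k[X], IsUnit (g₀ y) := by
    intro y
    rw [PowerSeries.isUnit_iff_constantCoeff, hcc₀, isUnit_iff_ne_zero]
    intro h0
    exact (nonZeroDivisors.ne_zero y.2) ((transcendental_iff.mp hs) _ h0)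
  obtain ⟨g₁, hg₁⟩ : ∃ g₁ : RatFunc k →ₐ[k] PowerSeries K,
      g₁ = IsLocalization.liftAlgHom (M := nonZeroDivisors k[X]) (f := g₀) hunit := ⟨_, rfl⟩
  have hg₁p : ∀ p : k[X], g₁ (algebraMap k[X] (RatFunc k) p) = g₀ p := by
    intro p
    rw [hg₁, IsLocalization.liftAlgHom_apply, IsLocalization.lift_eq]
    rfl
  let F := IntermediateField.adjoin k ({s} : Set K)
  let e : RatFunc k ≃ₐ[k] F := RatFunc.algEquivOfTranscendental s hs
  let g₂ : F →ₐ[k] PowerSeries K := g₁.comp (e.symm : F →ₐ[k] RatFunc k)
  -- constant coefficients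
  have hF1' : (PowerSeries.constantCoeff (R := K)).comp (g₁ : RatFunc k →+* PowerSeries K) =
      (algebraMap F K).comp (e : RatFunc k →+* F) := by
    apply IsLocalization.ringHom_ext (nonZeroDivisors k[X])
    apply Polynomial.ringHom_ext
    · intro a
      simp only [RingHom.coe_comp, Function.comp_apply, RingHom.coe_coe]
      rw [hg₁p, hcc₀, Polynomial.aeval_C]
      have : algebraMap k[X] (RatFunc k) (Polynomial.C a) = algebraMap k (RatFunc k) a := by
        rw [Polynomial.C_eq_algebraMap, ← IsScalarTower.algebraMap_apply k k[X] (RatFunc k)]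
      rw [this, AlgEquiv.commutes]
      rfl
    · simp only [RingHom.coe_comp, Function.comp_apply, RingHom.coe_coe]
      rw [hg₁p, hcc₀, Polynomial.aeval_X, RatFunc.algebraMap_X]
      exact (RatFunc.algEquivOfTranscendental_X s hs).symm
  have hF1 : ∀ z : F, PowerSeries.constantCoeff (g₂ z) = (z : K) := by
    intro z
    have := congrArg (fun f => f (e.symm z)) hF1'
    simp only [RingHom.coe_comp, Function.comp_apply, RingHom.coe_coe] at this
    rw [AlgEquiv.apply_symm_apply] at this
    exact this
  have hF2 : g₂ (IntermediateField.AdjoinSimple.gen k s) = PowerSeries.C s + PowerSeries.X := by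
    show g₁ (e.symm (IntermediateField.AdjoinSimple.gen k s)) = _
    rw [RatFunc.algEquivOfTranscendental_symm_gen, ← RatFunc.algebraMap_X, hg₁p, hg₀,
      Polynomial.aeval_X]
  -- the algebra structure
  let alg : Algebra F (PowerSeries K) := g₂.toRingHom.toAlgebra
  have halg : ∀ z : F, algebraMap F (PowerSeries K) z = g₂ z := fun z => rfl
  have hst : @IsScalarTower k F (PowerSeries K) _ alg.toSMul _ :=
    @IsScalarTower.of_algebraMap_eq k F (PowerSeries K) _ _ _ _ alg _ (fun c => by
      rw [halg, AlgHom.commutes])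
  let pb : PowerBasis F K := Field.powerBasisOfFiniteOfSeparable F K
  obtain ⟨m, hm⟩ : ∃ m : F[X], m = minpoly F pb.gen := ⟨_, rfl⟩
  have hmsep : m.Separable := by rw [hm]; exact Algebra.IsSeparable.isSeparable F pb.gen
  have hmmonic : m.Monic := by rw [hm]; exact minpoly.monic (Algebra.IsIntegral.isIntegral pb.gen)
  have hccomp : (PowerSeries.constantCoeff (R := K)).comp (algebraMap F (PowerSeries K)) =
      algebraMap F K := by
    ext z
    exact hF1 z
  have hcceval : ∀ q : F[X], PowerSeries.constantCoeff
      ((q.map (algebraMap F (PowerSeries K))).eval (PowerSeries.C pb.gen)) =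
        Polynomial.aeval pb.gen q := by
    intro q
    rw [Polynomial.eval_map, Polynomial.hom_eval₂, hccomp, PowerSeries.constantCoeff_C,
      Polynomial.aeval_def]
  have h₁ : (m.map (algebraMap F (PowerSeries K))).eval (PowerSeries.C pb.gen) ∈
      (Ideal.span {PowerSeries.X} : Ideal (PowerSeries K)) := by
    rw [Ideal.mem_span_singleton, PowerSeries.X_dvd_iff, hcceval, hm, minpoly.aeval]
  have h₂ : IsUnit (Ideal.Quotient.mk (Ideal.span {PowerSeries.X} : Ideal (PowerSeries K))
      ((m.map (algebraMap F (PowerSeries K))).derivative.eval (PowerSeries.C pb.gen))) := by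
    apply IsUnit.map
    rw [Polynomial.derivative_map, PowerSeries.isUnit_iff_constantCoeff, hcceval, isUnit_iff_ne_zero]
    exact hmsep.aeval_derivative_ne_zero (by rw [hm]; exact minpoly.aeval F pb.gen)
  obtain ⟨β, hβroot, hβ⟩ := HenselianRing.is_henselian
    (I := (Ideal.span {PowerSeries.X} : Ideal (PowerSeries K)))
    (m.map (algebraMap F (PowerSeries K))) (hmmonic.map _) (PowerSeries.C pb.gen) h₁ h₂
  have hβc : PowerSeries.constantCoeff β = pb.gen := by
    rw [Ideal.mem_span_singleton, PowerSeries.X_dvd_iff, map_sub, PowerSeries.constantCoeff_C,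
      sub_eq_zero] at hβ
    exact hβ
  have hβ0 : Polynomial.aeval β (minpoly F pb.gen) = 0 := by
    rw [← hm, Polynomial.aeval_def, ← Polynomial.eval_map]
    exact hβroot
  let H₁ : K →ₐ[F] PowerSeries K := pb.lift β hβ0
  let cc : PowerSeries K →ₐ[F] K :=
    { (PowerSeries.constantCoeff (R := K)) with commutes' := fun z => hF1 z }
  have hid : cc.comp H₁ = AlgHom.id F K := by
    apply pb.algHom_ext
    show PowerSeries.constantCoeff (pb.lift β hβ0 pb.gen) = pb.gen
    rw [PowerBasis.lift_gen, hβc]
  refine ⟨H₁.restrictScalars k, ?_, ?_⟩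
  · show H₁ s = _
    have : s = algebraMap F K (IntermediateField.AdjoinSimple.gen k s) := rfl
    rw [this, AlgHom.commutes, halg, hF2]
    rfl
  · intro y
    have := congrArg (fun f => f y) hid
    exact this

end Groth.Agent.Helper16.HF
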