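import Groth.Agent.H16.HTopRes
set_option autoImplicit false
universe u
open CategoryTheory AlgebraicGeometry Groth.Agent.Helper16.EtaLib TensorProduct

namespace Groth.Agent.Helper16.EtaLib
theorem universallyInjective_SpecMap_iff {A C : Type u} [CommRing A] [CommRing C] (φ : A →+* C) :
    UniversallyInjective (Spec.map (CommRingCat.ofHom φ)) ↔
      ∀ (K : Type u) [Field K] (g₁ g₂ : C →+* K), g₁.comp φ = g₂.comp φ → g₁ = g₂ := by
  refine ((tfae_universallyInjective (Spec.map (CommRingCat.ofHom φ))).out 0 1).trans ?_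
  constructor
  · intro h K _ g₁ g₂ hg
    have := @h K _ (Spec.map (CommRingCat.ofHom g₁)) (Spec.map (CommRingCat.ofHom g₂)) (by
      change Spec.map (CommRingCat.ofHom g₁) ≫ Spec.map (CommRingCat.ofHom φ) =
        Spec.map (CommRingCat.ofHom g₂) ≫ Spec.map (CommRingCat.ofHom φ)
      rw [← Spec.map_comp, ← Spec.map_comp, ← CommRingCat.ofHom_comp, ← CommRingCat.ofHom_comp, hg])
    have h2 := Spec.map_injective this
    exact congrArg CommRingCat.Hom.hom h2
  · intro h K _ g₁ g₂ hg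
    change g₁ ≫ Spec.map (CommRingCat.ofHom φ) = g₂ ≫ Spec.map (CommRingCat.ofHom φ) at hg
    rw [← Spec.map_preimage g₁, ← Spec.map_preimage g₂] at hg ⊢
    rw [← Spec.map_comp, ← Spec.map_comp] at hg
    have h2 := Spec.map_injective hg
    congr 1
    apply CommRingCat.hom_ext
    apply h K
    exact congrArg CommRingCat.Hom.hom h2

section WN
variable {A B : Type u} [CommRing A] [CommRing B] [Algebra A B]

/-- the subalgebra of `b` with `b ⊗ 1 - 1 ⊗ b` nilpotent -/
def wnSub (A B : Type u) [CommRing A] [CommRing B] [Algebra A B] : Subalgebra A B where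
  carrier := {b | IsNilpotent (b ⊗ₜ[A] (1 : B) - (1 : B) ⊗ₜ[A] b)}
  mul_mem' := by
    intro b b' hb hb'
    simp only [Set.mem_ofPred_eq, ← mem_nilradical] at hb hb' ⊢
    have : (b * b') ⊗ₜ[A] (1 : B) - (1 : B) ⊗ₜ[A] (b * b') =
        (b ⊗ₜ[A] (1 : B)) * (b' ⊗ₜ[A] (1 : B) - (1 : B) ⊗ₜ[A] b') +
          (b ⊗ₜ[A] (1 : B) - (1 : B) ⊗ₜ[A] b) * ((1 : B) ⊗ₜ[A] b') := by
      simp only [mul_sub, sub_mul, Algebra.TensorProduct.tmul_mul_tmul, mul_one, one_mul]
      abel
    rw [this]
    exact Ideal.add_mem _ (Ideal.mul_mem_left _ _ hb') (Ideal.mul_mem_right _ _ hb)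
  add_mem' := by
    intro b b' hb hb'
    simp only [Set.mem_ofPred_eq, ← mem_nilradical] at hb hb' ⊢
    have : (b + b') ⊗ₜ[A] (1 : B) - (1 : B) ⊗ₜ[A] (b + b') =
        (b ⊗ₜ[A] (1 : B) - (1 : B) ⊗ₜ[A] b) + (b' ⊗ₜ[A] (1 : B) - (1 : B) ⊗ₜ[A] b') := by
      rw [TensorProduct.add_tmul, TensorProduct.tmul_add]
      abel
    rw [this]
    exact Ideal.add_mem _ hb hb'
  algebraMap_mem' := by
    intro a
    simp only [Set.mem_ofPred_eq]
    rw [Algebra.algebraMap_eq_smul_one, TensorProduct.smul_tmul, sub_self]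
    exact IsNilpotent.zero

theorem mem_wnSub (b : B) : b ∈ wnSub A B ↔ IsNilpotent (b ⊗ₜ[A] (1 : B) - (1 : B) ⊗ₜ[A] b) :=
  Iff.rfl

theorem eq_of_isNilpotent {Ω : Type u} [Field Ω] (h₁ h₂ : B →+* Ω)
    (h : h₁.comp (algebraMap A B) = h₂.comp (algebraMap A B)) (b : B)
    (hb : IsNilpotent (b ⊗ₜ[A] (1 : B) - (1 : B) ⊗ₜ[A] b)) : h₁ b = h₂ b := by
  let _ : Algebra A Ω := (h₁.comp (algebraMap A B)).toAlgebra
  let h₁' : B →ₐ[A] Ω := { h₁ with commutes' := fun a => rfl }
  let h₂' : B →ₐ[A] Ω := { h₂ with commutes' := fun a => (DFunLike.congr_fun h a).symm }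
  have := (hb.map (Algebra.TensorProduct.productMap h₁' h₂')).eq_zero
  rw [map_sub, Algebra.TensorProduct.productMap_apply_tmul,
    Algebra.TensorProduct.productMap_apply_tmul, map_one, map_one, mul_one, one_mul, sub_eq_zero]
    at this
  exact this



theorem le_wnSub_of_universallyInjective (C : Subalgebra A B)
    (hC : UniversallyInjective (Spec.map (CommRingCat.ofHom (algebraMap A C)))) :
    C ≤ wnSub A B := by
  intro c hc
  rw [mem_wnSub, nilpotent_iff_mem_prime]
  intro P hP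
  have key := (universallyInjective_SpecMap_iff (algebraMap A C)).mp hC P.ResidueField
    (((algebraMap (B ⊗[A] B) P.ResidueField).comp
      (Algebra.TensorProduct.includeLeft : B →ₐ[A] B ⊗[A] B).toRingHom).comp C.val.toRingHom)
    (((algebraMap (B ⊗[A] B) P.ResidueField).comp
      (Algebra.TensorProduct.includeRight : B →ₐ[A] B ⊗[A] B).toRingHom).comp C.val.toRingHom)
    (by
      ext a
      simp only [RingHom.comp_apply]
      congr 1
      change (algebraMap A B a) ⊗ₜ[A] (1 : B) = (1 : B) ⊗ₜ[A] (algebraMap A B a)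
      rw [Algebra.algebraMap_eq_smul_one, TensorProduct.smul_tmul])
  have h2 := DFunLike.congr_fun key ⟨c, hc⟩
  simp only [RingHom.comp_apply] at h2
  rw [← Ideal.algebraMap_residueField_eq_zero, map_sub, sub_eq_zero]
  exact h2

theorem universallyInjective_wnSub [Algebra.IsIntegral A B] :
    UniversallyInjective (Spec.map (CommRingCat.ofHom (algebraMap A (wnSub A B)))) := by
  rw [universallyInjective_SpecMap_iff]
  intro K _ g₁ g₂ hg
  have hs : Function.Surjective (PrimeSpectrum.comap (wnSub A B).val.toRingHom) := by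
    have : Algebra.IsIntegral (wnSub A B) B := Algebra.IsIntegral.tower_top (R := A)
    have h2 : Function.Injective (algebraMap (wnSub A B) B) := Subtype.val_injective
    have : FaithfulSMul (wnSub A B) B := (faithfulSMul_iff_algebraMap_injective _ _).mpr h2
    exact Algebra.IsIntegral.comap_surjective (wnSub A B) B
  obtain ⟨Ω₁, _, i₁, J₁, hJ₁⟩ := exists_extend_point_of_surjective _ hs g₁
  obtain ⟨Ω₂, _, i₂, J₂, hJ₂⟩ := exists_extend_point_of_surjective _ hs (i₁.comp g₂)
  ext ⟨b, hb⟩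
  apply (i₂.comp i₁).injective
  have e := eq_of_isNilpotent (A := A) (i₂.comp J₁) J₂ (by
    ext a
    have e1 := DFunLike.congr_fun hJ₁ (algebraMap A (wnSub A B) a)
    have e2 := DFunLike.congr_fun hJ₂ (algebraMap A (wnSub A B) a)
    have e3 := DFunLike.congr_fun hg a
    simp only [RingHom.comp_apply] at e1 e2 e3 ⊢
    change i₂ (J₁ ((wnSub A B).val.toRingHom (algebraMap A (wnSub A B) a))) =
      J₂ ((wnSub A B).val.toRingHom (algebraMap A (wnSub A B) a))
    rw [e1, e2, e3]) b hb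
  have e1 := DFunLike.congr_fun hJ₁ ⟨b, hb⟩
  have e2 := DFunLike.congr_fun hJ₂ ⟨b, hb⟩
  simp only [RingHom.comp_apply] at e1 e2 e ⊢
  rw [← e1, ← e2]
  exact e

end WN

end Groth.Agent.Helper16.EtaLib
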