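import Groth.Agent.H16.Cond8
import Groth.Prelude.Def_W4bk4goldsch45p2
set_option autoImplicit false
set_option linter.unusedSimpArgs false

namespace Groth.Agent.Helper16.Hasse

open FunFld Module Groth.Agent.Helper17.FF Polynomial

variable {k K : Type*} [Field k] [Field K] [Algebra k K]

/-- power series with coefficients in the valuation ring of `P` -/
def RP (P : Place k K) : Subring (PowerSeries K) where
  carrier := {f | ∀ n, P.1 (PowerSeries.coeff n f) ≤ 1}
  mul_mem' := by
    intro f g hf hg n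
    rw [PowerSeries.coeff_mul]
    apply Valuation.map_sum_le
    intro p _
    rw [map_mul]
    calc P.1 (PowerSeries.coeff p.1 f) * P.1 (PowerSeries.coeff p.2 g) ≤ 1 * 1 :=
          mul_le_mul' (hf _) (hg _)
      _ = 1 := one_mul _
  one_mem' := by
    intro n
    rw [PowerSeries.coeff_one]
    split_ifs
    · rw [map_one]
    · rw [map_zero]; exact zero_le
  add_mem' := by
    intro f g hf hg n
    rw [map_add]
    exact (P.1.map_add _ _).trans (max_le (hf n) (hg n))
  zero_mem' := by
    intro n
    rw [map_zero, map_zero]; exact zero_le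
  neg_mem' := by
    intro f hf n
    rw [map_neg, Valuation.map_neg]
    exact hf n

theorem mem_RP {P : Place k K} {f : PowerSeries K} :
    f ∈ RP P ↔ ∀ n, P.1 (PowerSeries.coeff n f) ≤ 1 := Iff.rfl

/-- the functions all of whose Hasse derivatives are regular at `P` -/
def SP (P : Place k K) (H : K →ₐ[k] PowerSeries K) : Subalgebra k K where
  carrier := {y | H y ∈ RP P}
  mul_mem' := by
    intro a b ha hb
    show H (a * b) ∈ RP P
    rw [map_mul]; exact (RP P).mul_mem ha hb
  add_mem' := by
    intro a b ha hb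
    show H (a + b) ∈ RP P
    rw [map_add]; exact (RP P).add_mem ha hb
  algebraMap_mem' := by
    intro c
    show H (algebraMap k K c) ∈ RP P
    rw [AlgHom.commutes]
    intro n
    rw [PowerSeries.algebraMap_apply, PowerSeries.coeff_C]
    split_ifs
    · exact P.2.1 c
    · rw [map_zero]; exact zero_le

theorem mem_SP {P : Place k K} {H : K →ₐ[k] PowerSeries K} {y : K} :
    y ∈ SP P H ↔ ∀ n, P.1 (LocRes.hasseD H n y) ≤ 1 := Iff.rfl


/-- Hensel-type recursion: a simple root (unit derivative) of a polynomial with coefficients in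
`A₀ ⊆ SP` lies in `SP` -/
theorem hensel_step (P : Place k K) (H : K →ₐ[k] PowerSeries K)
    (hH0 : ∀ y : K, PowerSeries.constantCoeff (H y) = y)
    (A₀ : Subalgebra k K) (hA₀ : A₀ ≤ SP P H)
    (G : Polynomial ↥A₀) (r : K) (hr : P.1 r ≤ 1) (hG : aeval r G = 0)
    (hG' : P.1 (aeval r (derivative G)) = 1) : r ∈ SP P H := by
  set g : ↥A₀ →+* PowerSeries K := H.toRingHom.comp (algebraMap ↥A₀ K) with hg
  set Gh : Polynomial (PowerSeries K) := G.map g with hGh
  set ρ : PowerSeries K := H r with hρ
  have hroot : Gh.eval ρ = 0 := by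
    rw [hGh, eval_map]
    have : H (aeval r G) = eval₂ g ρ G := by
      rw [aeval_def]
      exact hom_eval₂ G (algebraMap ↥A₀ K) H.toRingHom r
    rw [← this, hG, map_zero]
  have hcc : (PowerSeries.constantCoeff (R := K)).comp g = algebraMap ↥A₀ K := by
    ext a
    simp [hg, hH0]
  intro n
  induction n using Nat.strong_induction_on with
  | _ n ih =>
    rcases Nat.eq_zero_or_pos n with rfl | hn
    · rw [PowerSeries.coeff_zero_eq_constantCoeff_apply, hH0]; exact hr
    set ρ₀ : PowerSeries K := ((PowerSeries.trunc n ρ : Polynomial K) : PowerSeries K) with hρ₀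
    have hρ₀c : ∀ m, PowerSeries.coeff m ρ₀ = if m < n then PowerSeries.coeff m ρ else 0 := by
      intro m
      rw [hρ₀, Polynomial.coeff_coe, PowerSeries.coeff_trunc]
    set σ : PowerSeries K := PowerSeries.mk (fun m => PowerSeries.coeff (m + n) ρ) with hσ
    have hdec : ρ = ρ₀ + PowerSeries.X ^ n * σ := by
      ext m
      rw [map_add, hρ₀c, PowerSeries.coeff_X_pow_mul']
      by_cases hm : m < n
      · rw [if_pos hm, if_neg (by omega), add_zero]
      · rw [if_neg hm, if_pos (by omega), zero_add, hσ, PowerSeries.coeff_mk,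
          Nat.sub_add_cancel (by omega)]
    have hρ₀R : ρ₀ ∈ RP P := by
      intro m
      rw [hρ₀c]
      split_ifs with hm
      · exact ih m hm
      · rw [map_zero]; exact zero_le
    have hGhR : Gh.eval ρ₀ ∈ RP P := by
      rw [eval_eq_sum_range]
      apply Subring.sum_mem
      intro i _
      apply Subring.mul_mem _ _ (Subring.pow_mem _ hρ₀R i)
      rw [hGh, coeff_map]
      exact hA₀ (G.coeff i).2
    obtain ⟨κ, hκ⟩ := Polynomial.binomExpansion Gh ρ₀ (PowerSeries.X ^ n * σ)
    rw [← hdec, hroot] at hκ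
    have h3 : PowerSeries.coeff n (κ * (PowerSeries.X ^ n * σ) ^ 2) = 0 := by
      have e : κ * (PowerSeries.X ^ n * σ) ^ 2 = PowerSeries.X ^ (2 * n) * (κ * σ ^ 2) := by
        rw [mul_pow, ← pow_mul, mul_comm n 2]; ring
      rw [e, PowerSeries.coeff_X_pow_mul', if_neg (by omega)]
    have hcc0 : PowerSeries.constantCoeff ρ₀ = r := by
      rw [← PowerSeries.coeff_zero_eq_constantCoeff_apply, hρ₀c, if_pos hn,
        PowerSeries.coeff_zero_eq_constantCoeff_apply, hρ, hH0]
    have h2 : PowerSeries.coeff n (eval ρ₀ (derivative Gh) * (PowerSeries.X ^ n * σ)) =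
        aeval r (derivative G) * PowerSeries.coeff n ρ := by
      have e : eval ρ₀ (derivative Gh) * (PowerSeries.X ^ n * σ) =
          PowerSeries.X ^ n * (eval ρ₀ (derivative Gh) * σ) := by ring
      rw [e, PowerSeries.coeff_X_pow_mul', if_pos le_rfl, Nat.sub_self,
        PowerSeries.coeff_zero_eq_constantCoeff_apply, map_mul]
      congr 1
      · rw [hGh, derivative_map, eval_map]
        have := hom_eval₂ (derivative G) g (PowerSeries.constantCoeff (R := K)) ρ₀
        rw [this, hcc, hcc0, aeval_def]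
      · rw [← PowerSeries.coeff_zero_eq_constantCoeff_apply, hσ, PowerSeries.coeff_mk, zero_add]
    have hcoef := congrArg (PowerSeries.coeff n) hκ
    rw [map_zero, map_add, map_add, h3, add_zero, h2] at hcoef
    have hD : PowerSeries.coeff n ρ =
        -(PowerSeries.coeff n (eval ρ₀ Gh)) / aeval r (derivative G) := by
      have hne : aeval r (derivative G) ≠ 0 := by
        intro h0
        rw [h0, map_zero] at hG'
        exact zero_ne_one hG'
      field_simp
      linear_combination -hcoef
    show P.1 (PowerSeries.coeff n ρ) ≤ 1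
    rw [hD, map_div₀, hG', div_one, Valuation.map_neg]
    exact hGhR n


/-- elements of `k[t]` are regular at `P` when `t` is -/
theorem adjoin_val_le (P : Place k K) {t : K} (ht : P.1 t ≤ 1) {a : K}
    (ha : a ∈ Algebra.adjoin k ({t} : Set K)) : P.1 a ≤ 1 := by
  induction ha using Algebra.adjoin_induction with
  | mem x hx => rw [Set.mem_singleton_iff.mp hx]; exact ht
  | algebraMap r => exact P.2.1 r
  | add x y _ _ hx hy => exact (P.1.map_add x y).trans (max_le hx hy)
  | mul x y _ _ hx hy =>
    rw [map_mul]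
    calc P.1 x * P.1 y ≤ 1 * 1 := mul_le_mul' hx hy
      _ = 1 := one_mul _

theorem adjoin_decomp {t : K} {a : K} (ha : a ∈ Algebra.adjoin k ({t} : Set K)) :
    ∃ (c : k) (a₁ : K), a₁ ∈ Algebra.adjoin k ({t} : Set K) ∧ a = algebraMap k K c + t * a₁ := by
  rw [Algebra.adjoin_singleton_eq_range_aeval, AlgHom.mem_range] at ha
  obtain ⟨q, rfl⟩ := ha
  refine ⟨q.coeff 0, aeval t q.divX, ?_, ?_⟩
  · rw [Algebra.adjoin_singleton_eq_range_aeval, AlgHom.mem_range]
    exact ⟨_, rfl⟩
  · conv_lhs => rw [← Polynomial.divX_mul_X_add q]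
    rw [map_add, map_mul, aeval_X, aeval_C]
    ring

/-- divisibility by powers of the local parameter inside `k[t]` -/
theorem adjoin_dvd (P : Place k K) {t : K} (ht : P.1 t = WithZero.exp (-1 : ℤ)) (m : ℕ) {a : K}
    (ha : a ∈ Algebra.adjoin k ({t} : Set K)) (hva : P.1 a ≤ WithZero.exp (-(m : ℤ))) :
    ∃ a' ∈ Algebra.adjoin k ({t} : Set K), a = t ^ m * a' := by
  have ht1 : P.1 t ≤ 1 := by
    rw [ht]
    calc WithZero.exp (-1 : ℤ) ≤ WithZero.exp (0 : ℤ) := WithZero.exp_le_exp.mpr (by norm_num)
      _ = 1 := WithZero.exp_zero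
  have ht0 : t ≠ 0 := by
    rintro rfl
    rw [map_zero] at ht
    exact WithZero.exp_ne_zero ht.symm
  induction m generalizing a with
  | zero => exact ⟨a, ha, by rw [pow_zero, one_mul]⟩
  | succ m ih =>
    obtain ⟨c, a₁, ha₁, rfl⟩ := adjoin_decomp ha
    have hlt1 : WithZero.exp (-((m + 1 : ℕ) : ℤ)) < (1 : WithZero (Multiplicative ℤ)) := by
      calc WithZero.exp (-((m + 1 : ℕ) : ℤ)) < WithZero.exp (0 : ℤ) :=
            WithZero.exp_lt_exp.mpr (by push_cast; linarith [Int.natCast_nonneg m])
        _ = 1 := WithZero.exp_zero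
    have hta : P.1 (t * a₁) < 1 := by
      rw [map_mul, ht]
      calc WithZero.exp (-1 : ℤ) * P.1 a₁ ≤ WithZero.exp (-1 : ℤ) * 1 :=
            mul_le_mul' le_rfl (adjoin_val_le P ht1 ha₁)
        _ = WithZero.exp (-1 : ℤ) := mul_one _
        _ < WithZero.exp (0 : ℤ) := WithZero.exp_lt_exp.mpr (by norm_num)
        _ = 1 := WithZero.exp_zero
    have hc : c = 0 := by
      by_contra hne
      have h1 : P.1 (algebraMap k K c) = 1 := val_const P hne
      have h2 := Valuation.map_add_eq_of_lt_left P.1 (x := algebraMap k K c) (y := t * a₁)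
        (by rw [h1]; exact hta)
      rw [h2, h1] at hva
      exact absurd hva (not_le.mpr hlt1)
    rw [hc, map_zero, zero_add] at hva ⊢
    have hva₁ : P.1 a₁ ≤ WithZero.exp (-(m : ℤ)) := by
      rw [map_mul, ht] at hva
      have : P.1 a₁ = WithZero.exp (1 : ℤ) * (WithZero.exp (-1 : ℤ) * P.1 a₁) := by
        rw [← mul_assoc, ← WithZero.exp_add]; simp
      rw [this]
      calc WithZero.exp (1 : ℤ) * (WithZero.exp (-1 : ℤ) * P.1 a₁)
          ≤ WithZero.exp (1 : ℤ) * WithZero.exp (-((m + 1 : ℕ) : ℤ)) := mul_le_mul' le_rfl hva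
        _ = WithZero.exp (-(m : ℤ)) := by
          rw [← WithZero.exp_add]; congr 1; push_cast; ring
    obtain ⟨a', ha', rfl⟩ := ih ha₁ hva₁
    exact ⟨a', ha', by rw [pow_succ]; ring⟩

/-- approximation of a regular function by polynomials in the local parameter -/
theorem approx [IsAlgClosed k] (hK : IsFunctionField k K) (P : Place k K) {t : K}
    (ht : P.1 t = WithZero.exp (-1 : ℤ)) (N : ℕ) {y : K} (hy : P.1 y ≤ 1) :
    ∃ p ∈ Algebra.adjoin k ({t} : Set K), ∃ r : K, P.1 r ≤ 1 ∧ y = p + t ^ N * r := by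
  have ht0 : t ≠ 0 := by
    rintro rfl
    rw [map_zero] at ht
    exact WithZero.exp_ne_zero ht.symm
  induction N with
  | zero => exact ⟨0, Subalgebra.zero_mem _, y, hy, by ring⟩
  | succ N ih =>
    obtain ⟨p, hp, r, hr, rfl⟩ := ih
    obtain ⟨c, hc⟩ := Groth.Agent.Helper16.LLS.exists_const_sub_lt hK P hr
    refine ⟨p + algebraMap k K c * t ^ N, Subalgebra.add_mem _ hp (Subalgebra.mul_mem _
      (Subalgebra.algebraMap_mem _ c) (Subalgebra.pow_mem _ (Algebra.self_mem_adjoin_singleton k t) N)),
      (r - algebraMap k K c) / t, ?_, ?_⟩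
    · rw [map_div₀, ht]
      have h1 : P.1 (r - algebraMap k K c) < WithZero.exp (0 : ℤ) := by
        rw [WithZero.exp_zero]; exact hc
      rw [val_lt_exp_iff_le] at h1
      rw [div_le_one₀ (zero_lt_iff.mpr WithZero.exp_ne_zero)]
      simpa using h1
    · field_simp
      ring

end Groth.Agent.Helper16.Hasse
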