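import Groth.Agent.H16.Hasse
import Groth.Agent.Lib.Helper17.FFSep2
import Groth.Agent.Lib.Helper17.FFGeom
set_option autoImplicit false
set_option linter.unusedSimpArgs false

namespace Groth.Agent.Helper16.Hasse

open FunFld Module Groth.Agent.Helper17.FF Polynomial

variable {k K : Type*} [Field k] [Field K] [Algebra k K]

theorem aeval_val_le (P : Place k K) {t : K} (ht1 : P.1 t ≤ 1)
    (F : Polynomial ↥(Algebra.adjoin k ({t} : Set K))) {u : K} (hu : P.1 u ≤ 1) :
    P.1 (aeval u F) ≤ 1 := by
  rw [aeval_eq_sum_range]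
  apply Valuation.map_sum_le
  intro i _
  rw [Algebra.smul_def, map_mul, map_pow]
  calc P.1 (algebraMap _ K (F.coeff i)) * P.1 u ^ i ≤ 1 * 1 :=
        mul_le_mul' (adjoin_val_le P ht1 (F.coeff i).2) (pow_le_one' hu i)
    _ = 1 := one_mul _

open scoped IntermediateField.algebraAdjoinAdjoin in
/-- a polynomial relation over `k[t]` with nonvanishing derivative -/
theorem exists_sep_poly (t : K) [Algebra.IsSeparable (IntermediateField.adjoin k ({t} : Set K)) K]
    (y : K) :
    ∃ F : Polynomial ↥(Algebra.adjoin k ({t} : Set K)),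
      aeval y F = 0 ∧ aeval y (derivative F) ≠ 0 := by
  have hsep : (minpoly (IntermediateField.adjoin k ({t} : Set K)) y).Separable :=
    Algebra.IsSeparable.isSeparable (IntermediateField.adjoin k ({t} : Set K)) y
  have hroot : aeval y (minpoly (IntermediateField.adjoin k ({t} : Set K)) y) = 0 :=
    minpoly.aeval (IntermediateField.adjoin k ({t} : Set K)) y
  have hder := hsep.aeval_derivative_ne_zero hroot
  obtain ⟨b, hb⟩ := IsLocalization.integerNormalization_map_to_map
    (nonZeroDivisors ↥(Algebra.adjoin k ({t} : Set K)))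
    (minpoly (IntermediateField.adjoin k ({t} : Set K)) y)
  refine ⟨IsLocalization.integerNormalization (nonZeroDivisors ↥(Algebra.adjoin k ({t} : Set K)))
    (minpoly (IntermediateField.adjoin k ({t} : Set K)) y), ?_, ?_⟩
  · exact IsLocalization.integerNormalization_aeval_eq_zero _ _ hroot
  · have h1 : aeval y (derivative (IsLocalization.integerNormalization
        (nonZeroDivisors ↥(Algebra.adjoin k ({t} : Set K)))
        (minpoly (IntermediateField.adjoin k ({t} : Set K)) y))) =
        aeval y (derivative ((b : ↥(Algebra.adjoin k ({t} : Set K))) •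
          minpoly (IntermediateField.adjoin k ({t} : Set K)) y)) := by
      rw [← hb, derivative_map, aeval_map_algebraMap]
    rw [h1, ← IsScalarTower.algebraMap_smul (IntermediateField.adjoin k ({t} : Set K))
      (b : ↥(Algebra.adjoin k ({t} : Set K))), derivative_smul, map_smul]
    intro h0
    rw [Algebra.smul_def, mul_eq_zero] at h0
    rcases h0 with h0 | h0
    · have hb0 : (b : ↥(Algebra.adjoin k ({t} : Set K))) ≠ 0 := nonZeroDivisors.coe_ne_zero b
      apply hb0
      apply Subtype.ext
      have := (map_eq_zero_iff (algebraMap (IntermediateField.adjoin k ({t} : Set K)) K)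
        (algebraMap (IntermediateField.adjoin k ({t} : Set K)) K).injective).mp h0
      have h2 := congrArg Subtype.val this
      exact h2
    · exact hder h0


theorem aeval_sub_val_le (P : Place k K) {t : K} (ht1 : P.1 t ≤ 1)
    (F : Polynomial ↥(Algebra.adjoin k ({t} : Set K))) {u w : K} (hu : P.1 u ≤ 1)
    (hw : P.1 w ≤ 1) : P.1 (aeval u F - aeval w F) ≤ P.1 (u - w) := by
  rw [aeval_eq_sum_range, aeval_eq_sum_range, ← Finset.sum_sub_distrib]
  apply Valuation.map_sum_le
  intro i _
  rw [← smul_sub, Algebra.smul_def, map_mul, ← geom_sum₂_mul, map_mul]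
  have h1 : P.1 (∑ j ∈ Finset.range i, u ^ j * w ^ (i - 1 - j)) ≤ 1 := by
    apply Valuation.map_sum_le
    intro j _
    rw [map_mul, map_pow, map_pow]
    calc P.1 u ^ j * P.1 w ^ (i - 1 - j) ≤ 1 * 1 :=
          mul_le_mul' (pow_le_one' hu _) (pow_le_one' hw _)
      _ = 1 := one_mul _
  calc P.1 (algebraMap _ K (F.coeff i)) *
        (P.1 (∑ j ∈ Finset.range i, u ^ j * w ^ (i - 1 - j)) * P.1 (u - w))
      ≤ 1 * (1 * P.1 (u - w)) :=
        mul_le_mul' (adjoin_val_le P ht1 (F.coeff i).2) (mul_le_mul' h1 le_rfl)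
    _ = P.1 (u - w) := by rw [one_mul, one_mul]

/-- the first Hasse derivative as a derivation -/
noncomputable def hasseDer (H : K →ₐ[k] PowerSeries K)
    (hH0 : ∀ y : K, PowerSeries.constantCoeff (H y) = y) : Derivation k K K where
  toFun y := PowerSeries.coeff 1 (H y)
  map_add' := by intro a b; simp
  map_smul' := by intro c y; simp
  map_one_eq_zero' := by
    show PowerSeries.coeff 1 (H 1) = 0
    rw [map_one, PowerSeries.coeff_one]; simp
  leibniz' := by
    intro a b
    show PowerSeries.coeff 1 (H (a * b)) = a • PowerSeries.coeff 1 (H b) + b • PowerSeries.coeff 1 (H a)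
    rw [map_mul, PowerSeries.coeff_mul]
    have : (Finset.HasAntidiagonal.antidiagonal 1 : Finset (ℕ × ℕ)) = {(0, 1), (1, 0)} := by decide
    rw [this, Finset.sum_pair (by decide)]
    simp only [PowerSeries.coeff_zero_eq_constantCoeff_apply, hH0, smul_eq_mul]
    ring

open scoped KaehlerDifferential in
theorem sep_of_hasse [IsAlgClosed k] (hK : IsFunctionField k K) {t : K}
    (H : K →ₐ[k] PowerSeries K) (hH : LocRes.IsHasseFamily t H) :
    Algebra.IsSeparable (IntermediateField.adjoin k ({t} : Set K)) K := by
  have hg := isGeometric_of_perfect k K hK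
  rw [isSeparable_iff_D_ne_zero hK hg t]
  intro h0
  have h1 := Derivation.liftKaehlerDifferential_comp_D (hasseDer H hH.2) t
  rw [h0, map_zero] at h1
  have h2 : hasseDer H hH.2 t = 1 := by
    show PowerSeries.coeff 1 (H t) = 1
    rw [hH.1, map_add, PowerSeries.coeff_C, PowerSeries.coeff_one_X]
    simp
  rw [h2] at h1
  exact zero_ne_one h1

end Groth.Agent.Helper16.Hasse
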