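import Groth.Agent.H16.Hasse2
set_option autoImplicit false
set_option linter.unusedSimpArgs false

namespace Groth.Agent.Helper16.Hasse

open FunFld Module Groth.Agent.Helper17.FF Polynomial

variable {k K : Type*} [Field k] [Field K] [Algebra k K]

theorem val_t_le_one (P : Place k K) {t : K} (ht : P.1 t = WithZero.exp (-1 : ℤ)) : P.1 t ≤ 1 := by
  rw [ht]
  calc WithZero.exp (-1 : ℤ) ≤ WithZero.exp (0 : ℤ) := WithZero.exp_le_exp.mpr (by norm_num)
    _ = 1 := WithZero.exp_zero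

theorem t_mem_SP (P : Place k K) {t : K} (ht1 : P.1 t ≤ 1) (H : K →ₐ[k] PowerSeries K)
    (hH : LocRes.IsHasseFamily t H) : t ∈ SP P H := by
  intro n
  show P.1 (PowerSeries.coeff n (H t)) ≤ 1
  rw [hH.1, map_add, PowerSeries.coeff_C, PowerSeries.coeff_X]
  by_cases h0 : n = 0
  · subst h0; simpa using ht1
  · by_cases h1 : n = 1
    · subst h1; simp
    · simp [h0, h1]

/-- Hasse derivatives with respect to a local parameter at `P` preserve the valuation ring of `P` -/
theorem hasse_mem_SP [IsAlgClosed k] (hK : IsFunctionField k K) (P : Place k K) {t : K}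
    (ht : P.1 t = WithZero.exp (-1 : ℤ)) (H : K →ₐ[k] PowerSeries K)
    (hH : LocRes.IsHasseFamily t H) {y : K} (hy : P.1 y ≤ 1) : y ∈ SP P H := by
  classical
  have ht1 : P.1 t ≤ 1 := val_t_le_one P ht
  have ht0 : t ≠ 0 := by
    rintro rfl
    rw [map_zero] at ht
    exact WithZero.exp_ne_zero ht.symm
  have htS : t ∈ SP P H := t_mem_SP P ht1 H hH
  have hA₀ : Algebra.adjoin k ({t} : Set K) ≤ SP P H :=
    Algebra.adjoin_le (Set.singleton_subset_iff.mpr htS)
  haveI : Algebra.IsSeparable (IntermediateField.adjoin k ({t} : Set K)) K := sep_of_hasse hK H hH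
  obtain ⟨F, hF0, hF'⟩ := exists_sep_poly (k := k) t y
  have hzle : P.1 (aeval y (derivative F)) ≤ 1 := aeval_val_le P ht1 _ hy
  have hord : 0 ≤ P.ord (aeval y (derivative F)) := (ord_nonneg_iff P hF').mpr hzle
  obtain ⟨d, hd⟩ : ∃ d : ℕ, P.ord (aeval y (derivative F)) = (d : ℤ) :=
    ⟨(P.ord (aeval y (derivative F))).toNat, (Int.toNat_of_nonneg hord).symm⟩
  have hzd : P.1 (aeval y (derivative F)) = WithZero.exp (-(d : ℤ)) := by
    rw [val_eq_exp_neg_ord P hF', hd]
  obtain ⟨p, hp, r, hr, hyp⟩ := approx hK P ht (d + 1) hy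
  have hpv : P.1 p ≤ 1 := adjoin_val_le P ht1 hp
  let p₀ : ↥(Algebra.adjoin k ({t} : Set K)) := ⟨p, hp⟩
  let t₀ : ↥(Algebra.adjoin k ({t} : Set K)) := ⟨t, Algebra.self_mem_adjoin_singleton k t⟩
  obtain ⟨κ, hκ⟩ := Polynomial.binomExpansion (F.map C) (C p₀) (C (t₀ ^ (d + 1)) * X)
  have hq : aeval r (C p₀ + C (t₀ ^ (d + 1)) * X :
      Polynomial ↥(Algebra.adjoin k ({t} : Set K))) = y := by
    rw [map_add, map_mul, aeval_C, aeval_C, aeval_X, hyp]
    rfl
  have e0 : aeval r ((F.map C).eval (C p₀ + C (t₀ ^ (d + 1)) * X)) = 0 := by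
    rw [eval_map, ← comp, aeval_comp, hq, hF0]
  have e1 : (F.map C).eval (C p₀) = C (F.eval p₀) := by rw [eval_map, eval₂_at_apply]
  have e2 : (F.map C).derivative.eval (C p₀) = C (F.derivative.eval p₀) := by
    rw [derivative_map, eval_map, eval₂_at_apply]
  have hp₀ : algebraMap ↥(Algebra.adjoin k ({t} : Set K)) K p₀ = p := rfl
  have ht₀ : algebraMap ↥(Algebra.adjoin k ({t} : Set K)) K t₀ = t := rfl
  have hu0 : algebraMap ↥(Algebra.adjoin k ({t} : Set K)) K (F.eval p₀) = aeval p F := by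
    rw [← hp₀]; exact (aeval_algebraMap_apply_eq_algebraMap_eval (A := K) p₀ F).symm
  have hu1 : algebraMap ↥(Algebra.adjoin k ({t} : Set K)) K (F.derivative.eval p₀) =
      aeval p (derivative F) := by
    rw [← hp₀]; exact (aeval_algebraMap_apply_eq_algebraMap_eval (A := K) p₀ (derivative F)).symm
  have hrel : 0 = aeval p F + aeval p (derivative F) * (t ^ (d + 1) * r) +
      aeval r κ * (t ^ (d + 1) * r) ^ 2 := by
    have := congrArg (aeval r) hκ
    rw [e0, e1, e2] at this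
    simp only [map_add, map_mul, map_pow, aeval_C, aeval_X, hu0, hu1, ht₀] at this
    exact this
  -- valuation of F'(p)
  have hyp' : P.1 (y - p) ≤ WithZero.exp (-((d : ℤ) + 1)) := by
    rw [hyp, add_sub_cancel_left, map_mul, map_pow, ht, ← WithZero.exp_nsmul]
    calc WithZero.exp ((d + 1) • (-1 : ℤ)) * P.1 r ≤ WithZero.exp ((d + 1) • (-1 : ℤ)) * 1 :=
          mul_le_mul' le_rfl hr
      _ = WithZero.exp (-((d : ℤ) + 1)) := by
          rw [mul_one]; congr 1; simp only [nsmul_eq_mul]; push_cast; ring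
  have hu1v : P.1 (aeval p (derivative F)) = WithZero.exp (-(d : ℤ)) := by
    have hdiff := aeval_sub_val_le P ht1 (derivative F) hy hpv
    have hlt : P.1 (aeval y (derivative F) - aeval p (derivative F)) <
        P.1 (aeval y (derivative F)) := by
      refine lt_of_le_of_lt (hdiff.trans hyp') ?_
      rw [hzd, WithZero.exp_lt_exp]; linarith
    have := Valuation.map_sub_eq_of_lt_left P.1 hlt
    rw [sub_sub_cancel] at this
    rw [this, hzd]
  have hκv : P.1 (aeval r κ) ≤ 1 := aeval_val_le P ht1 κ hr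
  have hu0v : P.1 (aeval p F) ≤ WithZero.exp (-((2 * d + 1 : ℕ) : ℤ)) := by
    have e : aeval p F = -(aeval p (derivative F) * (t ^ (d + 1) * r) +
        aeval r κ * (t ^ (d + 1) * r) ^ 2) := by linear_combination -hrel
    have htr : P.1 (t ^ (d + 1) * r) ≤ WithZero.exp (-((d : ℤ) + 1)) := by
      have := hyp'
      rwa [hyp, add_sub_cancel_left] at this
    rw [e, Valuation.map_neg]
    refine (P.1.map_add _ _).trans (max_le ?_ ?_)
    · rw [map_mul, hu1v]
      calc WithZero.exp (-(d : ℤ)) * P.1 (t ^ (d + 1) * r)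
          ≤ WithZero.exp (-(d : ℤ)) * WithZero.exp (-((d : ℤ) + 1)) := mul_le_mul' le_rfl htr
        _ = WithZero.exp (-((2 * d + 1 : ℕ) : ℤ)) := by
          rw [← WithZero.exp_add]; congr 1; push_cast; ring
    · rw [map_mul, map_pow]
      calc P.1 (aeval r κ) * P.1 (t ^ (d + 1) * r) ^ 2
          ≤ 1 * WithZero.exp (-((d : ℤ) + 1)) ^ 2 :=
            mul_le_mul' hκv (pow_le_pow_left' htr 2)
        _ ≤ WithZero.exp (-((2 * d + 1 : ℕ) : ℤ)) := by
          rw [one_mul, ← WithZero.exp_nsmul, WithZero.exp_le_exp]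
          simp only [nsmul_eq_mul]; push_cast; linarith
  have hFp_mem : aeval p F ∈ Algebra.adjoin k ({t} : Set K) := by
    rw [← hu0]; exact (F.eval p₀).2
  have hF'p_mem : aeval p (derivative F) ∈ Algebra.adjoin k ({t} : Set K) := by
    rw [← hu1]; exact (F.derivative.eval p₀).2
  obtain ⟨g₀, hg₀, hg₀e⟩ := adjoin_dvd P ht (2 * d + 1) hFp_mem hu0v
  obtain ⟨a₁, ha₁, ha₁e⟩ := adjoin_dvd P ht d hF'p_mem (le_of_eq hu1v)
  have ha₁v : P.1 a₁ = 1 := by
    have h1 := hu1v
    rw [ha₁e, map_mul, map_pow, ht, ← WithZero.exp_nsmul] at h1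
    have h2 : WithZero.exp (d • (-1 : ℤ)) = WithZero.exp (-(d : ℤ)) := by
      congr 1; simp
    rw [h2] at h1
    have hne : WithZero.exp (-(d : ℤ)) ≠ 0 := WithZero.exp_ne_zero
    have := mul_left_cancel₀ hne (h1.trans (mul_one _).symm)
    exact this
  -- the polynomial with a simple root `r`
  obtain ⟨G, hGdef⟩ : ∃ G : Polynomial ↥(Algebra.adjoin k ({t} : Set K)),
      G = C ⟨g₀, hg₀⟩ + C ⟨a₁, ha₁⟩ * X + C t₀ * (κ * X ^ 2) := ⟨_, rfl⟩
  have hg₀' : algebraMap ↥(Algebra.adjoin k ({t} : Set K)) K ⟨g₀, hg₀⟩ = g₀ := rfl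
  have ha₁' : algebraMap ↥(Algebra.adjoin k ({t} : Set K)) K ⟨a₁, ha₁⟩ = a₁ := rfl
  have hGr : aeval r G = 0 := by
    have h1 : t ^ (2 * d + 1) * aeval r G = 0 := by
      rw [hGdef]
      simp only [map_add, map_mul, map_pow, aeval_C, aeval_X, hg₀', ha₁', ht₀]
      rw [hg₀e, ha₁e] at hrel
      rw [hrel]
      ring
    exact (mul_eq_zero.mp h1).resolve_left (pow_ne_zero _ ht0)
  have hG'r : P.1 (aeval r (derivative G)) = 1 := by
    have h1 : aeval r (derivative G) = a₁ + t * aeval r (derivative (κ * X ^ 2)) := by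
      rw [hGdef, derivative_add, derivative_add, derivative_C, zero_add, derivative_C_mul,
        derivative_X, mul_one, derivative_C_mul, map_add, map_mul, aeval_C, aeval_C, ha₁', ht₀]
    have h2 : P.1 (t * aeval r (derivative (κ * X ^ 2))) < P.1 a₁ := by
      rw [ha₁v, map_mul, ht]
      calc WithZero.exp (-1 : ℤ) * P.1 (aeval r (derivative (κ * X ^ 2)))
          ≤ WithZero.exp (-1 : ℤ) * 1 := mul_le_mul' le_rfl (aeval_val_le P ht1 _ hr)
        _ = WithZero.exp (-1 : ℤ) := mul_one _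
        _ < WithZero.exp (0 : ℤ) := WithZero.exp_lt_exp.mpr (by norm_num)
        _ = 1 := WithZero.exp_zero
    rw [h1, Valuation.map_add_eq_of_lt_left P.1 h2, ha₁v]
  have hrS := hensel_step P H hH.2 _ hA₀ G r hr hGr hG'r
  rw [hyp]
  exact (SP P H).add_mem (hA₀ hp) ((SP P H).mul_mem ((SP P H).pow_mem htS _) hrS)

end Groth.Agent.Helper16.Hasse
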