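import Groth.Agent.H16.EvalP
set_option autoImplicit false
set_option linter.unusedSimpArgs false

namespace Groth.Agent.Helper16.Hasse

open FunFld Module Groth.Agent.Helper17.FF

variable {k K : Type*} [Field k] [Field K] [Algebra k K]

theorem coeff_C_add_X_pow (t : K) (m a : ℕ) :
    PowerSeries.coeff a ((PowerSeries.C t + PowerSeries.X : PowerSeries K) ^ m) =
      t ^ (m - a) * (m.choose a : K) := by
  have e : (PowerSeries.C t + PowerSeries.X : PowerSeries K) ^ m =
      (((Polynomial.X + Polynomial.C t) ^ m : Polynomial K) : PowerSeries K) := by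
    rw [Polynomial.coe_pow, Polynomial.coe_add, Polynomial.coe_X, Polynomial.coe_C, add_comm]
  rw [e, Polynomial.coeff_coe, Polynomial.coeff_X_add_C_pow]

theorem val_natCast_le (P : Place k K) (m : ℕ) : P.1 (m : K) ≤ 1 := by
  have : (m : K) = algebraMap k K (m : k) := by simp
  rw [this]; exact P.2.1 _

/-- the Hasse derivatives of `t^m u` -/
theorem hasseD_pow_mul {t : K} (H : K →ₐ[k] PowerSeries K) (hH : LocRes.IsHasseFamily t H)
    (m i : ℕ) (u : K) :
    LocRes.hasseD H i (t ^ m * u) =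
      ∑ p ∈ Finset.HasAntidiagonal.antidiagonal i,
        (t ^ (m - p.1) * (m.choose p.1 : K)) * LocRes.hasseD H p.2 u := by
  rw [LocRes.hasseD_apply, map_mul, map_pow, hH.1, PowerSeries.coeff_mul]
  refine Finset.sum_congr rfl (fun p _ => ?_)
  rw [coeff_C_add_X_pow]
  rfl

/-- (F1) Hasse derivatives lower the order by at most the index -/
theorem val_hasseD_le [IsAlgClosed k] (hK : IsFunctionField k K) (P : Place k K) {t : K}
    (ht : P.1 t = WithZero.exp (-1 : ℤ)) (H : K →ₐ[k] PowerSeries K)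
    (hH : LocRes.IsHasseFamily t H) {f : K} {m : ℕ} (hf : P.1 f ≤ WithZero.exp (-(m : ℤ)))
    {i : ℕ} (hi : i ≤ m) :
    P.1 (LocRes.hasseD H i f) ≤ WithZero.exp (-((m - i : ℕ) : ℤ)) := by
  have ht0 : t ≠ 0 := by
    rintro rfl
    rw [map_zero] at ht
    exact WithZero.exp_ne_zero ht.symm
  have hu : P.1 (f / t ^ m) ≤ 1 := by
    rw [map_div₀, map_pow, ht, ← WithZero.exp_nsmul,
      div_le_one₀ (zero_lt_iff.mpr WithZero.exp_ne_zero)]
    convert hf using 2
    simp
  have hfe : f = t ^ m * (f / t ^ m) := by field_simp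
  rw [hfe, hasseD_pow_mul H hH]
  apply Valuation.map_sum_le
  intro p hp
  have hp1 : p.1 ≤ i := by
    have := Finset.HasAntidiagonal.mem_antidiagonal.mp hp
    omega
  rw [map_mul, map_mul, map_pow, ht, ← WithZero.exp_nsmul]
  calc WithZero.exp ((m - p.1) • (-1 : ℤ)) * P.1 (m.choose p.1 : K) *
        P.1 (LocRes.hasseD H p.2 (f / t ^ m))
      ≤ WithZero.exp ((m - p.1) • (-1 : ℤ)) * 1 * 1 :=
        mul_le_mul' (mul_le_mul' le_rfl (val_natCast_le P _))
          (hasse_mem_SP hK P ht H hH hu p.2)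
    _ = WithZero.exp ((m - p.1) • (-1 : ℤ)) := by rw [mul_one, mul_one]
    _ ≤ WithZero.exp (-((m - i : ℕ) : ℤ)) := by
        rw [WithZero.exp_le_exp]
        simp only [nsmul_eq_mul, mul_neg, mul_one, neg_le_neg_iff]
        exact_mod_cast Nat.sub_le_sub_left hp1 m

/-- (F2) leading term of the Hasse derivatives of `t^m u` -/
theorem hasseD_leading [IsAlgClosed k] (hK : IsFunctionField k K) (P : Place k K) {t : K}
    (ht : P.1 t = WithZero.exp (-1 : ℤ)) (H : K →ₐ[k] PowerSeries K)
    (hH : LocRes.IsHasseFamily t H) {u : K} (hu : P.1 u ≤ 1) {m i : ℕ} (hi : i ≤ m) :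
    P.1 (LocRes.hasseD H i (t ^ m * u) - (m.choose i : K) * t ^ (m - i) * u) ≤
      WithZero.exp (-((m - i + 1 : ℕ) : ℤ)) := by
  classical
  rw [hasseD_pow_mul H hH]
  have hmem : (i, 0) ∈ Finset.HasAntidiagonal.antidiagonal i := by
    rw [Finset.HasAntidiagonal.mem_antidiagonal]
    simp
  rw [← Finset.add_sum_erase _ _ hmem]
  have h0 : LocRes.hasseD H 0 u = u := by
    rw [LocRes.hasseD_apply, PowerSeries.coeff_zero_eq_constantCoeff_apply, hH.2]
  have e : t ^ (m - i) * (m.choose i : K) * LocRes.hasseD H 0 u +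
      ∑ p ∈ (Finset.HasAntidiagonal.antidiagonal i).erase (i, 0),
        (t ^ (m - p.1) * (m.choose p.1 : K)) * LocRes.hasseD H p.2 u -
      (m.choose i : K) * t ^ (m - i) * u =
      ∑ p ∈ (Finset.HasAntidiagonal.antidiagonal i).erase (i, 0),
        (t ^ (m - p.1) * (m.choose p.1 : K)) * LocRes.hasseD H p.2 u := by
    rw [h0]; ring
  rw [e]
  apply Valuation.map_sum_le
  intro p hp
  have hp' := Finset.HasAntidiagonal.mem_antidiagonal.mp (Finset.mem_of_mem_erase hp)
  have hpne := Finset.ne_of_mem_erase hp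
  have hp1 : p.1 < i := by
    by_contra hcon
    apply hpne
    ext <;> simp <;> omega
  rw [map_mul, map_mul, map_pow, ht, ← WithZero.exp_nsmul]
  calc WithZero.exp ((m - p.1) • (-1 : ℤ)) * P.1 (m.choose p.1 : K) *
        P.1 (LocRes.hasseD H p.2 u)
      ≤ WithZero.exp ((m - p.1) • (-1 : ℤ)) * 1 * 1 :=
        mul_le_mul' (mul_le_mul' le_rfl (val_natCast_le P _))
          (hasse_mem_SP hK P ht H hH hu p.2)
    _ = WithZero.exp ((m - p.1) • (-1 : ℤ)) := by rw [mul_one, mul_one]
    _ ≤ WithZero.exp (-((m - i + 1 : ℕ) : ℤ)) := by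
        rw [WithZero.exp_le_exp]
        simp only [nsmul_eq_mul, mul_neg, mul_one, neg_le_neg_iff]
        have : m - i + 1 ≤ m - p.1 := by omega
        exact_mod_cast this

end Groth.Agent.Helper16.Hasse
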