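import Mathlib.CategoryTheory.Triangulated.HomologicalFunctor
import Mathlib.CategoryTheory.Triangulated.Subcategory

set_option autoImplicit false
universe v u v' u'

namespace Groth.Agent.H16

open CategoryTheory CategoryTheory.Limits CategoryTheory.Pretriangulated ZeroObject

/-- General form: objects whose `H`-cohomology vanishes on a range of degrees `r N`. -/
theorem homolBounded {D : Type u} [Category.{v} D] [Preadditive D] [HasZeroObject D] [HasShift D ℤ]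
    [∀ n : ℤ, (shiftFunctor D n).Additive] [Pretriangulated D]
    {A : Type u'} [Category.{v'} A] [Abelian A] (H : D ⥤ A) [H.IsHomological]
    (r : ℤ → ℤ → Prop)
    (hshift : ∀ a N : ℤ, ∃ N' : ℤ, ∀ n, r N' n → r N (a + n))
    (hmeet : ∀ N₁ N₂ : ℤ, ∃ N : ℤ, ∀ n, r N n → r N₁ n ∧ r N₂ n) :
    (ObjectProperty.IsTriangulated (fun X : D => ∃ N : ℤ, ∀ n : ℤ, r N n →
      IsZero (H.obj ((shiftFunctor D n).obj X)))) ∧
    (ObjectProperty.IsClosedUnderIsomorphisms (fun X : D => ∃ N : ℤ, ∀ n : ℤ, r N n →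
      IsZero (H.obj ((shiftFunctor D n).obj X)))) ∧
    (∀ X Y : D, (∃ N : ℤ, ∀ n : ℤ, r N n → IsZero (H.obj ((shiftFunctor D n).obj (X ⊞ Y)))) →
      (∃ N : ℤ, ∀ n : ℤ, r N n → IsZero (H.obj ((shiftFunctor D n).obj X))) ∧
      (∃ N : ℤ, ∀ n : ℤ, r N n → IsZero (H.obj ((shiftFunctor D n).obj Y)))) := by
  have hiso : ObjectProperty.IsClosedUnderIsomorphisms (fun X : D => ∃ N : ℤ, ∀ n : ℤ, r N n →
      IsZero (H.obj ((shiftFunctor D n).obj X))) :=
    ⟨fun e ⟨N, hN⟩ => ⟨N, fun n hn => (hN n hn).of_iso ((shiftFunctor D n ⋙ H).mapIso e.symm)⟩⟩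
  refine ⟨?_, hiso, ?_⟩
  · have h0 : ObjectProperty.ContainsZero (fun X : D => ∃ N : ℤ, ∀ n : ℤ, r N n →
        IsZero (H.obj ((shiftFunctor D n).obj X))) :=
      ⟨⟨0, isZero_zero D, 0, fun n _ => (shiftFunctor D n ⋙ H).map_isZero (isZero_zero D)⟩⟩
    have hs : ObjectProperty.IsStableUnderShift (fun X : D => ∃ N : ℤ, ∀ n : ℤ, r N n →
        IsZero (H.obj ((shiftFunctor D n).obj X))) ℤ :=
      ⟨fun a => ⟨fun X ⟨N, hN⟩ => by
        obtain ⟨N', hN'⟩ := hshift a N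
        exact ⟨N', fun n hn => (hN (a + n) (hN' n hn)).of_iso
          (H.mapIso ((shiftFunctorAdd D a n).app X).symm)⟩⟩⟩
    have h2 : ObjectProperty.IsTriangulatedClosed₂ (fun X : D => ∃ N : ℤ, ∀ n : ℤ, r N n →
        IsZero (H.obj ((shiftFunctor D n).obj X))) :=
      ObjectProperty.IsTriangulatedClosed₂.mk' (fun T hT ⟨N₁, h₁⟩ ⟨N₃, h₃⟩ => by
        obtain ⟨N, hN⟩ := hmeet N₁ N₃
        exact ⟨N, fun n hn => (H.map_distinguished_exact _
          (Triangle.shift_distinguished T hT n)).isZero_of_both_zeros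
            ((h₁ n (hN n hn).1).eq_of_src _ _) ((h₃ n (hN n hn).2).eq_of_tgt _ _)⟩)
    exact { }
  · rintro X Y ⟨N, hN⟩
    refine ⟨⟨N, fun n hn => ?_⟩, ⟨N, fun n hn => ?_⟩⟩
    · rw [IsZero.iff_id_eq_zero]
      have : 𝟙 ((shiftFunctor D n ⋙ H).obj X) =
          (shiftFunctor D n ⋙ H).map (biprod.inl : X ⟶ X ⊞ Y) ≫
            (shiftFunctor D n ⋙ H).map (biprod.fst : X ⊞ Y ⟶ X) := by
        rw [← CategoryTheory.Functor.map_comp, biprod.inl_fst, CategoryTheory.Functor.map_id]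
      change 𝟙 ((shiftFunctor D n ⋙ H).obj X) = 0
      rw [this, (hN n hn).eq_of_tgt ((shiftFunctor D n ⋙ H).map (biprod.inl : X ⟶ X ⊞ Y)) 0,
        zero_comp]
    · rw [IsZero.iff_id_eq_zero]
      have : 𝟙 ((shiftFunctor D n ⋙ H).obj Y) =
          (shiftFunctor D n ⋙ H).map (biprod.inr : Y ⟶ X ⊞ Y) ≫
            (shiftFunctor D n ⋙ H).map (biprod.snd : X ⊞ Y ⟶ Y) := by
        rw [← CategoryTheory.Functor.map_comp, biprod.inr_snd, CategoryTheory.Functor.map_id]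
      change 𝟙 ((shiftFunctor D n ⋙ H).obj Y) = 0
      rw [this, (hN n hn).eq_of_tgt ((shiftFunctor D n ⋙ H).map (biprod.inr : Y ⟶ X ⊞ Y)) 0,
        zero_comp]

end Groth.Agent.H16
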