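import Mathlib

set_option autoImplicit false
set_option linter.style.haveILetI false

/-! Relative ranks `rank (V / W)` of nested subspaces. -/

namespace Groth.Agent.H16.IM

universe u v

section QR

variable {k : Type u} {E : Type v} [Field k] [AddCommGroup E] [Module k E]

/-- the rank of `V / W` for subspaces `W`, `V` of `E` (meaningful for `W ≤ V`). -/
noncomputable def qr (V W : Submodule k E) : Cardinal.{v} :=
  Module.rank k (↥V ⧸ W.submoduleOf V)

theorem qr_add {U W V : Submodule k E} (hUW : U ≤ W) (hWV : W ≤ V) :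
    qr V U = qr V W + qr W U := by
  unfold qr
  have hle : U.submoduleOf V ≤ W.submoduleOf V := Submodule.comap_mono hUW
  have h1 := rank_quotient_add_rank_of_divisionRing
    ((W.submoduleOf V).map (U.submoduleOf V).mkQ)
  have e1 : ((↥V ⧸ U.submoduleOf V) ⧸ (W.submoduleOf V).map (U.submoduleOf V).mkQ) ≃ₗ[k]
      ↥V ⧸ W.submoduleOf V :=
    Submodule.quotientQuotientEquivQuotient (U.submoduleOf V) (W.submoduleOf V) hle
  let g : ↥W →ₗ[k] (↥V ⧸ U.submoduleOf V) :=
    (U.submoduleOf V).mkQ.comp (Submodule.inclusion hWV)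
  have hker : LinearMap.ker g = U.submoduleOf W := by
    ext w
    rw [LinearMap.mem_ker]
    show (U.submoduleOf V).mkQ (Submodule.inclusion hWV w) = 0 ↔ _
    rw [Submodule.mkQ_apply, Submodule.Quotient.mk_eq_zero]
    rfl
  have hrange : LinearMap.range g = (W.submoduleOf V).map (U.submoduleOf V).mkQ := by
    ext z
    constructor
    · rintro ⟨w, rfl⟩
      exact ⟨Submodule.inclusion hWV w, w.2, rfl⟩
    · rintro ⟨v, hv, rfl⟩
      exact ⟨⟨v.1, hv⟩, rfl⟩
  have e2 : (↥W ⧸ U.submoduleOf W) ≃ₗ[k] ↥((W.submoduleOf V).map (U.submoduleOf V).mkQ) :=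
    (Submodule.quotEquivOfEq _ _ hker.symm).trans
      (g.quotKerEquivRange.trans (LinearEquiv.ofEq _ _ hrange))
  rw [← h1, e1.rank_eq, e2.rank_eq]

theorem qr_self (V : Submodule k E) : qr V V = 0 := by
  unfold qr
  have : V.submoduleOf V = ⊤ := by
    ext v
    simp [Submodule.submoduleOf]
  rw [this]
  exact rank_subsingleton' _ _

theorem qr_le_of_le {W V V' : Submodule k E} (hWV : W ≤ V) (hVV' : V ≤ V') :
    qr V W ≤ qr V' W := by
  have h := qr_add hWV hVV'
  rw [h]
  exact le_add_self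

/-- relative ranks are invariant under a linear automorphism. -/
theorem qr_map (e : E ≃ₗ[k] E) (V W : Submodule k E) :
    qr (V.map (e : E →ₗ[k] E)) (W.map (e : E →ₗ[k] E)) = qr V W := by
  unfold qr
  let eV : ↥V ≃ₗ[k] ↥(V.map (e : E →ₗ[k] E)) := e.submoduleMap V
  have hmap : (W.submoduleOf V).map (eV : ↥V →ₗ[k] ↥(V.map (e : E →ₗ[k] E))) =
      (W.map (e : E →ₗ[k] E)).submoduleOf (V.map (e : E →ₗ[k] E)) := by
    ext z
    constructor
    · rintro ⟨v, hv, rfl⟩
      exact ⟨v.1, hv, rfl⟩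
    · rintro ⟨w, hw, hwz⟩
      obtain ⟨v, hv, hvz⟩ := z.2
      have hwv : w = v := e.injective (hwz.trans hvz.symm)
      refine ⟨⟨v, hv⟩, ?_, ?_⟩
      · show v ∈ W
        rw [← hwv]; exact hw
      · exact Subtype.ext hvz
  exact (Submodule.Quotient.equiv (W.submoduleOf V)
    ((W.map (e : E →ₗ[k] E)).submoduleOf (V.map (e : E →ₗ[k] E))) eV hmap).rank_eq.symm

end QR

end Groth.Agent.H16.IM
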