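import Mathlib
import Groth.Agent.H16.IM1
import Groth.Agent.Lib.Helper17.FFFrob
import Groth.Agent.Lib.Helper17.FF20
import Groth.Agent.Lib.Helper17.FF6

set_option autoImplicit false
set_option linter.style.haveILetI false

/-! Semi-local Riemann–Roch spaces: relative dimension counts. -/

namespace Groth.Agent.H16.IM

open FunFld Module
open Groth.Agent.Helper17.FF

variable {k K : Type*} [Field k] [Field K] [Algebra k K]

/-- functions with prescribed minimal orders at the places of `S`. -/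
def Vs (S : Finset (Place k K)) (a : Place k K → ℤ) : Submodule k K where
  carrier := {z | ∀ Q ∈ S, Q.1 z ≤ WithZero.exp (-(a Q))}
  add_mem' {x y} hx hy Q hQ := (Q.1.map_add x y).trans (max_le (hx Q hQ) (hy Q hQ))
  zero_mem' Q _ := by simp
  smul_mem' c x hx Q hQ := by
    rw [Algebra.smul_def, map_mul]
    exact (mul_le_mul' (Q.2.1 c) (hx Q hQ)).trans_eq (one_mul _)

theorem mem_Vs {S : Finset (Place k K)} {a : Place k K → ℤ} {z : K} :
    z ∈ Vs S a ↔ ∀ Q ∈ S, Q.1 z ≤ WithZero.exp (-(a Q)) := Iff.rfl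

theorem Vs_mono {S : Finset (Place k K)} {a b : Place k K → ℤ} (hab : ∀ Q ∈ S, a Q ≤ b Q) :
    Vs S b ≤ Vs S a := by
  intro z hz Q hQ
  refine (hz Q hQ).trans ?_
  rw [WithZero.exp_le_exp]
  have := hab Q hQ
  omega

theorem Vs_congr {S : Finset (Place k K)} {a b : Place k K → ℤ} (hab : ∀ Q ∈ S, a Q = b Q) :
    Vs S a = Vs S b :=
  le_antisymm (Vs_mono (fun Q hQ => (hab Q hQ).ge)) (Vs_mono (fun Q hQ => (hab Q hQ).le))

open Classical in
theorem qr_Vs_step [IsAlgClosed k] (hK : IsFunctionField k K) (S : Finset (Place k K))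
    (a : Place k K → ℤ) (Q₀ : Place k K) (hQ₀ : Q₀ ∈ S) :
    qr (Vs S a) (Vs S (Function.update a Q₀ (a Q₀ + 1))) = 1 := by
  set b := Function.update a Q₀ (a Q₀ + 1) with hb
  have hbQ₀ : b Q₀ = a Q₀ + 1 := Function.update_self ..
  have hbQ : ∀ Q, Q ≠ Q₀ → b Q = a Q := fun Q hQ => Function.update_of_ne hQ ..
  have hab : ∀ Q ∈ S, a Q ≤ b Q := by
    intro Q _
    by_cases h : Q = Q₀
    · rw [h, hbQ₀]; omega
    · rw [hbQ Q h]
  have hle : Vs S b ≤ Vs S a := Vs_mono hab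
  -- an element of exact order
  obtain ⟨z₀, hz₀⟩ := weak_approx_exact (k := k) (K := K) (fun i : S => (i : Place k K))
    Subtype.val_injective (fun _ => 0) (fun i => a i)
  have hz₀' : ∀ Q ∈ S, Q.1 z₀ = WithZero.exp (-(a Q)) := by
    intro Q hQ
    have := hz₀ ⟨Q, hQ⟩
    simpa using this
  have hz₀a : z₀ ∈ Vs S a := fun Q hQ => (hz₀' Q hQ).le
  have hz₀0 : z₀ ≠ 0 := by
    intro h0
    have := hz₀' Q₀ hQ₀
    rw [h0, map_zero] at this
    exact WithZero.exp_ne_zero this.symm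
  have hz₀b : z₀ ∉ Vs S b := by
    intro h
    have h1 := h Q₀ hQ₀
    rw [hz₀' Q₀ hQ₀, hbQ₀, WithZero.exp_le_exp] at h1
    omega
  -- every element is congruent to a multiple of `z₀`
  have hcong : ∀ z ∈ Vs S a, ∃ c : k, z - c • z₀ ∈ Vs S b := by
    intro z hz
    have hw : Q₀.1 (z / z₀) ≤ 1 := by
      rw [map_div₀, hz₀' Q₀ hQ₀]
      exact div_le_one_of_le₀ (hz Q₀ hQ₀) zero_le
    obtain ⟨c, hc⟩ := exists_const_of_deg_one (deg_eq_one_of_isAlgClosed hK Q₀) hw
    refine ⟨c, ?_⟩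
    have h1 : z - c • z₀ = z₀ * (z / z₀ - algebraMap k K c) := by
      rw [Algebra.smul_def]; field_simp
    intro Q hQ
    by_cases h : Q = Q₀
    · subst h
      rw [hbQ₀, h1, map_mul, hz₀' Q hQ]
      have h2 : Q.1 (z / z₀ - algebraMap k K c) ≤ WithZero.exp (-1 : ℤ) := by
        have h3 : Q.1 (z / z₀ - algebraMap k K c) < WithZero.exp (0 : ℤ) := by
          rw [WithZero.exp_zero]; exact hc
        rw [val_lt_exp_iff_le] at h3
        simpa using h3
      calc WithZero.exp (-(a Q)) * Q.1 (z / z₀ - algebraMap k K c)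
          ≤ WithZero.exp (-(a Q)) * WithZero.exp (-1 : ℤ) := mul_le_mul' le_rfl h2
        _ = WithZero.exp (-(a Q + 1)) := by
            rw [← WithZero.exp_add]; congr 1; ring
    · rw [hbQ Q h]
      refine (Q.1.map_sub _ _).trans (max_le (hz Q hQ) ?_)
      rw [Algebra.smul_def, map_mul]
      exact (mul_le_mul' (Q.2.1 c) (hz₀' Q hQ).le).trans_eq (one_mul _)
  -- the quotient is one-dimensional
  unfold qr
  rw [rank_eq_one_iff_finrank_eq_one]
  have hne : (Submodule.Quotient.mk (⟨z₀, hz₀a⟩ : Vs S a) :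
      ↥(Vs S a) ⧸ (Vs S b).submoduleOf (Vs S a)) ≠ 0 := by
    rw [Ne, Submodule.Quotient.mk_eq_zero]
    exact hz₀b
  rw [finrank_eq_one_iff_of_nonzero' _ hne]
  intro w
  obtain ⟨⟨z, hz⟩, rfl⟩ := Submodule.Quotient.mk_surjective _ w
  obtain ⟨c, hc⟩ := hcong z hz
  refine ⟨c, ?_⟩
  rw [← Submodule.Quotient.mk_smul, eq_comm, Submodule.Quotient.eq]
  exact hc

open Classical in
theorem qr_Vs [IsAlgClosed k] (hK : IsFunctionField k K) (S : Finset (Place k K))
    (a b : Place k K → ℤ) (hab : ∀ Q ∈ S, a Q ≤ b Q) :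
    qr (Vs S a) (Vs S b) = ((∑ Q ∈ S, (b Q - a Q)).toNat : Cardinal) := by
  obtain ⟨n, hn⟩ : ∃ n : ℕ, (∑ Q ∈ S, (b Q - a Q)) = n :=
    ⟨(∑ Q ∈ S, (b Q - a Q)).toNat, (Int.toNat_of_nonneg (Finset.sum_nonneg
      (fun Q hQ => sub_nonneg.2 (hab Q hQ)))).symm⟩
  rw [hn, Int.toNat_natCast]
  induction n generalizing b with
  | zero =>
    have h0 : ∀ Q ∈ S, b Q - a Q = 0 :=
      (Finset.sum_eq_zero_iff_of_nonneg (fun Q hQ => sub_nonneg.2 (hab Q hQ))).1
        (by exact_mod_cast hn)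
    rw [Vs_congr (a := b) (b := a) (fun Q hQ => by linarith [h0 Q hQ]), qr_self]
    simp
  | succ n ih =>
    have hex : ∃ Q₀ ∈ S, a Q₀ < b Q₀ := by
      by_contra hcon
      push Not at hcon
      have h0 : ∑ Q ∈ S, (b Q - a Q) = 0 := Finset.sum_eq_zero (fun Q hQ => by
        have h1 := hcon Q hQ
        have h2 := hab Q hQ
        omega)
      rw [h0] at hn
      have : (0 : ℤ) < ((n + 1 : ℕ) : ℤ) := by positivity
      omega
    obtain ⟨Q₀, hQ₀, hlt⟩ := hex
    set b' := Function.update b Q₀ (b Q₀ - 1) with hb'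
    have hb'Q₀ : b' Q₀ = b Q₀ - 1 := Function.update_self ..
    have hb'Q : ∀ Q, Q ≠ Q₀ → b' Q = b Q := fun Q hQ => Function.update_of_ne hQ ..
    have hab' : ∀ Q ∈ S, a Q ≤ b' Q := by
      intro Q hQ
      by_cases h : Q = Q₀
      · rw [h, hb'Q₀]; omega
      · rw [hb'Q Q h]; exact hab Q hQ
    have hb'b : ∀ Q ∈ S, b' Q ≤ b Q := by
      intro Q _
      by_cases h : Q = Q₀
      · rw [h, hb'Q₀]; omega
      · rw [hb'Q Q h]
    have hsum' : ∑ Q ∈ S, (b' Q - a Q) = (n : ℕ) := by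
      have h1 : ∑ Q ∈ S, (b' Q - a Q) = ∑ Q ∈ S, (b Q - a Q) - 1 := by
        rw [← Finset.add_sum_erase S _ hQ₀, ← Finset.add_sum_erase S (fun Q => b Q - a Q) hQ₀,
          hb'Q₀]
        rw [Finset.sum_congr rfl (fun Q hQ => by rw [hb'Q Q (Finset.ne_of_mem_erase hQ)])]
        ring
      rw [h1, hn]
      push_cast
      ring
    have hstep := qr_Vs_step hK S b' Q₀ hQ₀
    have hupd : Function.update b' Q₀ (b' Q₀ + 1) = b := by
      funext Q
      by_cases h : Q = Q₀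
      · rw [h, Function.update_self, hb'Q₀]; ring
      · rw [Function.update_of_ne h, hb'Q Q h]
    rw [hupd] at hstep
    rw [qr_add (Vs_mono hb'b) (Vs_mono hab'), ih b' hab' hsum', hstep]
    push_cast
    rfl

end Groth.Agent.H16.IM
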