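import Mathlib
import Groth.Agent.H16.IM2
import Groth.Agent.H16.Cond3

set_option autoImplicit false
set_option linter.style.haveILetI false

/-! Local rings of an affine ring inside a function field, and the count `dim O/gO = Σ ord g`. -/

namespace Groth.Agent.H16.IM

open FunFld Module
open Groth.Agent.Helper17.FF
open Groth.Agent.Helper16.Emb

variable {k K : Type*} [Field k] [Field K] [Algebra k K]

/-- membership in the local ring of the affine ring `R` at the place `P`. -/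
def InO (R : Subalgebra k K) (P : Place k K) (z : K) : Prop :=
  ∃ u ∈ R, ∃ w ∈ R, P.1 w = 1 ∧ z * w = u

/-- the local ring of the affine ring `R` at the centre of `P`, as a `k`-subspace. -/
def Oloc (R : Subalgebra k K) (P : Place k K) : Submodule k K where
  carrier := {z | InO R P z}
  add_mem' := by
    rintro z₁ z₂ ⟨u₁, hu₁, w₁, hw₁, hP₁, h₁⟩ ⟨u₂, hu₂, w₂, hw₂, hP₂, h₂⟩
    refine ⟨u₁ * w₂ + u₂ * w₁, R.add_mem (R.mul_mem hu₁ hw₂) (R.mul_mem hu₂ hw₁), w₁ * w₂,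
      R.mul_mem hw₁ hw₂, by rw [map_mul, hP₁, hP₂, one_mul], ?_⟩
    rw [← h₁, ← h₂]; ring
  zero_mem' := ⟨0, R.zero_mem, 1, R.one_mem, map_one _, by simp⟩
  smul_mem' := by
    rintro a z ⟨u, hu, w, hw, hP, h⟩
    refine ⟨a • u, R.smul_mem hu a, w, hw, hP, ?_⟩
    rw [← h, smul_mul_assoc]

theorem mem_Oloc {R : Subalgebra k K} {P : Place k K} {z : K} :
    z ∈ Oloc R P ↔ InO R P z := Iff.rfl

theorem R_le_Oloc {R : Subalgebra k K} {P : Place k K} {r : K} (hr : r ∈ R) : r ∈ Oloc R P :=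
  ⟨r, hr, 1, R.one_mem, map_one _, mul_one r⟩

theorem mul_mem_Oloc {R : Subalgebra k K} {P : Place k K} {r z : K} (hr : r ∈ R)
    (hz : z ∈ Oloc R P) : r * z ∈ Oloc R P := by
  obtain ⟨u, hu, w, hw, hP, h⟩ := hz
  exact ⟨r * u, R.mul_mem hr hu, w, hw, hP, by rw [← h, mul_assoc]⟩

/-- the hypotheses on an affine ring `R`, its finite places, and the fibre `𝔉` of `P`. -/
structure Setup (R : Subalgebra k K) (P : Place k K) (fin : Place k K → Prop)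
    (𝔉 : Finset (Place k K)) : Prop where
  le_one : ∀ r ∈ R, ∀ Q, fin Q → Q.1 r ≤ 1
  fib_fin : ∀ Q ∈ 𝔉, fin Q
  sep : ∀ Q, fin Q → Q ∉ 𝔉 → ∃ ℓ ∈ R, Q.1 ℓ < 1 ∧ P.1 ℓ = 1
  const : ∀ r ∈ R, ∃ a : k, P.1 (r - algebraMap k K a) < 1 ∧
    ∀ Q ∈ 𝔉, Q.1 (r - algebraMap k K a) < 1

variable {R : Subalgebra k K} {P : Place k K} {fin : Place k K → Prop} {𝔉 : Finset (Place k K)}

theorem Setup.P_fin_le (S : Setup R P fin 𝔉) (hP : P ∈ 𝔉) {r : K} (hr : r ∈ R) : P.1 r ≤ 1 :=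
  S.le_one r hr P (S.fib_fin P hP)

theorem Setup.unit (S : Setup R P fin 𝔉) {w : K} (hw : w ∈ R) (hPw : P.1 w = 1) :
    ∀ Q ∈ 𝔉, Q.1 w = 1 := by
  intro Q hQ
  obtain ⟨a, haP, haQ⟩ := S.const w hw
  have ha : a ≠ 0 := by
    intro h0
    rw [h0, map_zero, sub_zero, hPw] at haP
    exact lt_irrefl _ haP
  have h1 : Q.1 (algebraMap k K a) = 1 := val_const_eq_one' Q ha
  have h2 : w = (w - algebraMap k K a) + algebraMap k K a := by ring
  rw [h2, Valuation.map_add_eq_of_lt_right _ (by rw [h1]; exact haQ Q hQ), h1]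

theorem Setup.Oloc_le (S : Setup R P fin 𝔉) : Oloc R P ≤ Vs 𝔉 (fun _ => 0) := by
  rintro z ⟨u, hu, w, hw, hPw, h⟩ Q hQ
  have h1 : Q.1 w = 1 := S.unit hw hPw Q hQ
  have h2 : Q.1 u ≤ 1 := S.le_one u hu Q (S.fib_fin Q hQ)
  have h3 : Q.1 z = Q.1 u := by rw [← h, map_mul, h1, mul_one]
  rw [h3]
  simpa using h2

theorem Setup.sep_finset (S : Setup R P fin 𝔉) (B : Finset (Place k K))
    (hB : ∀ Q ∈ B, fin Q ∧ Q ∉ 𝔉) :
    ∃ ℓ ∈ R, P.1 ℓ = 1 ∧ ∀ Q ∈ B, Q.1 ℓ < 1 := by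
  classical
  induction B using Finset.induction_on with
  | empty => exact ⟨1, R.one_mem, map_one _, fun Q hQ => absurd hQ (Finset.notMem_empty Q)⟩
  | insert Q B' hQB ih =>
    obtain ⟨ℓ, hℓ, hℓP, hℓB⟩ := ih (fun Q' hQ' => hB Q' (Finset.mem_insert_of_mem hQ'))
    obtain ⟨hQj, hQP⟩ := hB Q (Finset.mem_insert_self Q B')
    obtain ⟨ℓ₀, hℓ₀, hℓ₀Q, hℓ₀P⟩ := S.sep Q hQj hQP
    refine ⟨ℓ₀ * ℓ, R.mul_mem hℓ₀ hℓ, by rw [map_mul, hℓ₀P, hℓP, one_mul], ?_⟩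
    intro Q' hQ'
    rw [Finset.mem_insert] at hQ'
    rw [map_mul]
    rcases hQ' with rfl | hQ'
    · calc Q'.1 ℓ₀ * Q'.1 ℓ ≤ Q'.1 ℓ₀ * 1 := mul_le_mul' le_rfl (S.le_one ℓ hℓ Q' hQj)
        _ = Q'.1 ℓ₀ := mul_one _
        _ < 1 := hℓ₀Q
    · have hQ'j := (hB Q' (Finset.mem_insert_of_mem hQ')).1
      calc Q'.1 ℓ₀ * Q'.1 ℓ ≤ 1 * Q'.1 ℓ := mul_le_mul' (S.le_one ℓ₀ hℓ₀ Q' hQ'j) le_rfl
        _ = Q'.1 ℓ := one_mul _
        _ < 1 := hℓB Q' hQ'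

/-- the local conductor: functions vanishing along the fibre at least as much as the conductor
belong to the local ring. -/
theorem Setup.le_Oloc (hK : IsFunctionField k K) (S : Setup R P fin 𝔉)
    {c : K} (hc0 : c ≠ 0) (hcond : ∀ z, (∀ Q, fin Q → Q.1 z ≤ 1) → c * z ∈ R)
    (z : K) (hz : ∀ Q ∈ 𝔉, Q.1 z ≤ Q.1 c) : InO R P z := by
  classical
  by_cases hz0 : z = 0
  · exact ⟨0, R.zero_mem, 1, R.one_mem, map_one _, by rw [hz0, zero_mul]⟩
  have hzc0 : z / c ≠ 0 := div_ne_zero hz0 hc0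
  obtain ⟨M, hM⟩ := exists_pole_bound hK hzc0
  have hBfin : {Q : Place k K | fin Q ∧ Q ∉ 𝔉 ∧ Q.1 c < Q.1 z}.Finite := by
    refine (finite_val_ne_one hK hzc0).subset ?_
    rintro Q ⟨-, -, hlt⟩
    show Q.1 (z / c) ≠ 1
    rw [map_div₀]
    have hpos : 0 < Q.1 c := zero_lt_iff.mpr ((map_ne_zero Q.1).mpr hc0)
    exact ne_of_gt ((one_lt_div₀ hpos).mpr hlt)
  obtain ⟨ℓ, hℓ, hℓP, hℓB⟩ := S.sep_finset hBfin.toFinset (by
    intro Q hQ
    rw [Set.Finite.mem_toFinset] at hQ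
    exact ⟨hQ.1, hQ.2.1⟩)
  have hreg : ∀ Q : Place k K, fin Q → Q.1 (z * ℓ ^ M / c) ≤ 1 := by
    intro Q hQj
    have hpos : 0 < Q.1 c := zero_lt_iff.mpr ((map_ne_zero Q.1).mpr hc0)
    rw [map_div₀, div_le_one₀ hpos, map_mul, map_pow]
    have hℓQ : Q.1 ℓ ≤ 1 := S.le_one ℓ hℓ Q hQj
    have hℓQM : Q.1 ℓ ^ M ≤ 1 := pow_le_one' hℓQ M
    by_cases hQP : Q ∈ 𝔉
    · calc Q.1 z * Q.1 ℓ ^ M ≤ Q.1 c * 1 := mul_le_mul' (hz Q hQP) hℓQM
        _ = Q.1 c := mul_one _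
    · by_cases hlt : Q.1 c < Q.1 z
      · have hQB : Q ∈ hBfin.toFinset := by
          rw [Set.Finite.mem_toFinset]; exact ⟨hQj, hQP, hlt⟩
        have h1 : Q.1 ℓ ≤ WithZero.exp (-1 : ℤ) := by
          have : Q.1 ℓ < WithZero.exp (0 : ℤ) := by rw [WithZero.exp_zero]; exact hℓB Q hQB
          rw [val_lt_exp_iff_le] at this
          simpa using this
        have h2 : Q.1 z ≤ WithZero.exp (M : ℤ) * Q.1 c := by
          have := hM Q
          rw [map_div₀, div_le_iff₀ hpos] at this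
          exact this
        calc Q.1 z * Q.1 ℓ ^ M ≤ (WithZero.exp (M : ℤ) * Q.1 c) * WithZero.exp (-1 : ℤ) ^ M :=
              mul_le_mul' h2 (pow_le_pow_left' h1 M)
          _ = Q.1 c := by
              rw [← WithZero.exp_nsmul, mul_comm (WithZero.exp (M : ℤ)), mul_assoc,
                ← WithZero.exp_add]
              have : (M : ℤ) + M • (-1 : ℤ) = 0 := by simp
              rw [this, WithZero.exp_zero, mul_one]
      · calc Q.1 z * Q.1 ℓ ^ M ≤ Q.1 c * 1 := mul_le_mul' (not_lt.mp hlt) hℓQM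
          _ = Q.1 c := mul_one _
  have h := hcond _ hreg
  rw [mul_div_cancel₀ _ hc0] at h
  exact ⟨z * ℓ ^ M, h, ℓ ^ M, R.pow_mem hℓ M, by rw [map_pow, hℓP, one_pow], rfl⟩

/-- multiplication by a nonzero element, as a `k`-linear automorphism of `K`. -/
noncomputable def mulEquiv (g : K) (hg : g ≠ 0) : K ≃ₗ[k] K :=
  (LinearEquiv.smulOfNeZero K K g hg).restrictScalars k

@[simp] theorem mulEquiv_apply (g : K) (hg : g ≠ 0) (z : K) :
    mulEquiv (k := k) g hg z = g * z := rfl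

theorem map_Vs (S : Finset (Place k K)) (a : Place k K → ℤ) (g : K) (hg : g ≠ 0) :
    (Vs S a).map ((mulEquiv (k := k) g hg : K ≃ₗ[k] K) : K →ₗ[k] K) =
      Vs S (fun Q => a Q + Q.ord g) := by
  ext z
  constructor
  · rintro ⟨z', hz', rfl⟩ Q hQ
    show Q.1 (g * z') ≤ _
    rw [map_mul, val_eq_exp_neg_ord Q hg]
    calc WithZero.exp (-(Q.ord g)) * Q.1 z'
        ≤ WithZero.exp (-(Q.ord g)) * WithZero.exp (-(a Q)) := mul_le_mul' le_rfl (hz' Q hQ)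
      _ = WithZero.exp (-(a Q + Q.ord g)) := by
          rw [← WithZero.exp_add]; congr 1; ring
  · intro hz
    refine ⟨z / g, ?_, ?_⟩
    · intro Q hQ
      have h1 := hz Q hQ
      have hpos : 0 < Q.1 g := zero_lt_iff.mpr ((map_ne_zero Q.1).mpr hg)
      rw [map_div₀, div_le_iff₀ hpos, val_eq_exp_neg_ord Q hg, ← WithZero.exp_add]
      refine h1.trans_eq ?_
      congr 1; ring
    · show g * (z / g) = z
      field_simp

open Classical in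
/-- the main count: `dim_k O/gO = Σ_{Q ∈ 𝔉} ord_Q g`. -/
theorem Setup.qr_Oloc [IsAlgClosed k] (hK : IsFunctionField k K) (S : Setup R P fin 𝔉)
    {c : K} (hcR : c ∈ R) (hc0 : c ≠ 0) (hcond : ∀ z, (∀ Q, fin Q → Q.1 z ≤ 1) → c * z ∈ R)
    {g : K} (hgR : g ∈ R) (hg : g ≠ 0) :
    qr (Oloc R P) ((Oloc R P).map ((mulEquiv (k := k) g hg : K ≃ₗ[k] K) : K →ₗ[k] K)) =
      ((∑ Q ∈ 𝔉, Q.ord g).toNat : Cardinal) := by
  set e : K ≃ₗ[k] K := mulEquiv (k := k) g hg with he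
  set O := Oloc R P with hO
  set a : Place k K → ℤ := fun Q => Q.ord c with ha
  set C := Vs 𝔉 a with hC
  have ha0 : ∀ Q ∈ 𝔉, 0 ≤ a Q := by
    intro Q hQ
    have h1 := S.le_one c hcR Q (S.fib_fin Q hQ)
    rw [val_eq_exp_neg_ord Q hc0, ← WithZero.exp_zero, WithZero.exp_le_exp] at h1
    show 0 ≤ Q.ord c
    omega
  have hb0 : ∀ Q ∈ 𝔉, 0 ≤ Q.ord g := by
    intro Q hQ
    have h1 := S.le_one g hgR Q (S.fib_fin Q hQ)
    rw [val_eq_exp_neg_ord Q hg, ← WithZero.exp_zero, WithZero.exp_le_exp] at h1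
    omega
  have hCO : C ≤ O := by
    intro z hz
    refine S.le_Oloc hK hc0 hcond z (fun Q hQ => ?_)
    rw [val_eq_exp_neg_ord Q hc0]
    exact hz Q hQ
  have hOO : O ≤ Vs 𝔉 (fun _ => 0) := S.Oloc_le
  have hgC : C.map (e : K →ₗ[k] K) = Vs 𝔉 (fun Q => a Q + Q.ord g) := map_Vs 𝔉 a g hg
  have hgCC : C.map (e : K →ₗ[k] K) ≤ C := by
    rw [hgC]
    exact Vs_mono (fun Q hQ => by have := hb0 Q hQ; omega)
  have hgOO : O.map (e : K →ₗ[k] K) ≤ O := by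
    rintro _ ⟨z, hz, rfl⟩
    exact mul_mem_Oloc hgR hz
  have hgCgO : C.map (e : K →ₗ[k] K) ≤ O.map (e : K →ₗ[k] K) := Submodule.map_mono hCO
  have h1 := qr_add hgCC hCO
  have h2 := qr_add hgCgO hgOO
  have h3 : qr (O.map (e : K →ₗ[k] K)) (C.map (e : K →ₗ[k] K)) = qr O C := qr_map e O C
  have h4 : qr C (C.map (e : K →ₗ[k] K)) = ((∑ Q ∈ 𝔉, Q.ord g).toNat : Cardinal) := by
    rw [hgC, hC, qr_Vs hK 𝔉 a _ (fun Q hQ => by have := hb0 Q hQ; omega)]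
    congr 2
    exact Finset.sum_congr rfl (fun Q _ => by ring)
  have h5 : qr O C < Cardinal.aleph0 := by
    refine lt_of_le_of_lt (qr_le_of_le hCO hOO) ?_
    rw [hC, qr_Vs hK 𝔉 _ a (fun Q hQ => ha0 Q hQ)]
    exact Cardinal.natCast_lt_aleph0
  rw [h2, h3, h4, add_comm (qr O C)] at h1
  exact Cardinal.eq_of_add_eq_add_right h1 h5

end Groth.Agent.H16.IM
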