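import Mathlib
import Groth.Agent.H16.IM3
import Groth.Agent.H16.Cond3

set_option autoImplicit false
set_option linter.style.haveILetI false

/-! The affine plane model `k[x, y] ⊆ K`: finite places, fibres and the conductor. -/

namespace Groth.Agent.H16.IM

open FunFld Module
open Groth.Agent.Helper17.FF
open Groth.Agent.Helper16.Emb

variable {k K : Type*} [Field k] [Field K] [Algebra k K]

/-- evaluation of plane polynomials at `(x, y)`. -/
noncomputable abbrev ev (x y : K) : MvPolynomial (Fin 2) k →ₐ[k] K := MvPolynomial.aeval ![x, y]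

/-- finite places of the plane model. -/
def finPl (x y : K) (Q : Place k K) : Prop := Q.1 x ≤ 1 ∧ Q.1 y ≤ 1

/-- places over the point `c`. -/
def fibPl (x y : K) (c : Fin 2 → k) (Q : Place k K) : Prop :=
  Q.1 (x - algebraMap k K (c 0)) < 1 ∧ Q.1 (y - algebraMap k K (c 1)) < 1

variable {x y : K} {c : Fin 2 → k}

theorem val_le_one_of_sub_lt (Q : Place k K) {z : K} {a : k}
    (h : Q.1 (z - algebraMap k K a) < 1) : Q.1 z ≤ 1 := by
  have : z = (z - algebraMap k K a) + algebraMap k K a := by ring
  rw [this]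
  exact (Q.1.map_add _ _).trans (max_le h.le (Q.2.1 a))

theorem fibPl.fin {Q : Place k K} (h : fibPl x y c Q) : finPl x y Q :=
  ⟨val_le_one_of_sub_lt Q h.1, val_le_one_of_sub_lt Q h.2⟩

theorem val_pair_le_one {Q : Place k K} (hQ : finPl x y Q) (i : Fin 2) : Q.1 (![x, y] i) ≤ 1 := by
  fin_cases i
  · exact hQ.1
  · exact hQ.2

theorem val_pair_sub_lt {Q : Place k K} (hQ : fibPl x y c Q) (i : Fin 2) :
    Q.1 (![x, y] i - algebraMap k K (c i)) < 1 := by
  fin_cases i
  · exact hQ.1
  · exact hQ.2

theorem val_ev_le_one {Q : Place k K} (hQ : finPl x y Q) (s : MvPolynomial (Fin 2) k) :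
    Q.1 (ev x y s) ≤ 1 := by
  induction s using MvPolynomial.induction_on with
  | C a =>
    rw [MvPolynomial.aeval_C]
    exact Q.2.1 a
  | add p q hp hq =>
    rw [map_add]
    exact (Q.1.map_add _ _).trans (max_le hp hq)
  | mul_X p i hp =>
    rw [map_mul, MvPolynomial.aeval_X, map_mul]
    exact (mul_le_mul' hp (val_pair_le_one hQ i)).trans_eq (one_mul _)

theorem val_ev_sub_lt {Q : Place k K} (hQ : fibPl x y c Q) (s : MvPolynomial (Fin 2) k) :
    Q.1 (ev x y s - algebraMap k K (MvPolynomial.eval c s)) < 1 := by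
  induction s using MvPolynomial.induction_on with
  | C a =>
    rw [MvPolynomial.aeval_C, MvPolynomial.eval_C, sub_self, map_zero]
    exact zero_lt_one
  | add p q hp hq =>
    have : ev x y (p + q) - algebraMap k K (MvPolynomial.eval c (p + q)) =
        (ev x y p - algebraMap k K (MvPolynomial.eval c p)) +
          (ev x y q - algebraMap k K (MvPolynomial.eval c q)) := by
      rw [map_add, map_add, map_add]; ring
    rw [this]
    exact Q.1.map_add_lt hp hq
  | mul_X p i hp =>
    have : ev x y (p * MvPolynomial.X i) - algebraMap k K (MvPolynomial.eval c (p * MvPolynomial.X i)) =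
        ev x y p * (![x, y] i - algebraMap k K (c i)) +
          (ev x y p - algebraMap k K (MvPolynomial.eval c p)) * algebraMap k K (c i) := by
      rw [map_mul, map_mul, MvPolynomial.aeval_X, MvPolynomial.eval_X, map_mul]; ring
    rw [this]
    refine Q.1.map_add_lt ?_ ?_
    · rw [map_mul]
      calc Q.1 (ev x y p) * Q.1 (![x, y] i - algebraMap k K (c i))
          ≤ 1 * Q.1 (![x, y] i - algebraMap k K (c i)) :=
            mul_le_mul' (val_ev_le_one hQ.fin p) le_rfl
        _ = Q.1 (![x, y] i - algebraMap k K (c i)) := one_mul _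
        _ < 1 := val_pair_sub_lt hQ i
    · rw [map_mul]
      calc Q.1 (ev x y p - algebraMap k K (MvPolynomial.eval c p)) * Q.1 (algebraMap k K (c i))
          ≤ Q.1 (ev x y p - algebraMap k K (MvPolynomial.eval c p)) * 1 :=
            mul_le_mul' le_rfl (Q.2.1 _)
        _ = Q.1 (ev x y p - algebraMap k K (MvPolynomial.eval c p)) := mul_one _
        _ < 1 := hp

theorem x_mem_range : x ∈ (ev (k := k) x y).range :=
  ⟨MvPolynomial.X 0, by simp [ev]⟩

theorem y_mem_range : y ∈ (ev (k := k) x y).range :=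
  ⟨MvPolynomial.X 1, by simp [ev]⟩

/-- a nonzero constant is a unit at every place; a constant of small value vanishes. -/
theorem const_eq_of_val_lt (Q : Place k K) {a b : k}
    (h : Q.1 (algebraMap k K a - algebraMap k K b) < 1) : a = b := by
  by_contra hab
  have h1 : Q.1 (algebraMap k K (a - b)) = 1 := val_const_eq_one' Q (sub_ne_zero.mpr hab)
  rw [map_sub, ] at h1
  rw [h1] at h
  exact lt_irrefl _ h

theorem exists_sep_pl [IsAlgClosed k] (hK : IsFunctionField k K) {P Q : Place k K}
    (hP : fibPl x y c P) (hQ : finPl x y Q) (hQc : ¬ fibPl x y c Q) :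
    ∃ ℓ ∈ (ev (k := k) x y).range, Q.1 ℓ < 1 ∧ P.1 ℓ = 1 := by
  obtain ⟨α, hα⟩ := exists_const_of_deg_one (deg_eq_one_of_isAlgClosed hK Q) hQ.1
  obtain ⟨β, hβ⟩ := exists_const_of_deg_one (deg_eq_one_of_isAlgClosed hK Q) hQ.2
  have key : ∀ (t : K) (γ δ : k), t ∈ (ev (k := k) x y).range → Q.1 (t - algebraMap k K γ) < 1 →
      P.1 (t - algebraMap k K δ) < 1 → γ ≠ δ →
      ∃ ℓ ∈ (ev (k := k) x y).range, Q.1 ℓ < 1 ∧ P.1 ℓ = 1 := by
    intro t γ δ ht hQt hPt hne
    refine ⟨t - algebraMap k K γ, Subalgebra.sub_mem _ ht (Subalgebra.algebraMap_mem _ _), hQt, ?_⟩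
    have h1 : P.1 (algebraMap k K (δ - γ)) = 1 := val_const_eq_one' P (sub_ne_zero.mpr hne.symm)
    have h2 : t - algebraMap k K γ = (t - algebraMap k K δ) + algebraMap k K (δ - γ) := by
      rw [map_sub]; ring
    rw [h2, Valuation.map_add_eq_of_lt_right _ (by rw [h1]; exact hPt), h1]
  by_cases h0 : α = c 0
  · have h1 : β ≠ c 1 := by
      intro h1
      exact hQc ⟨by rw [← h0]; exact hα, by rw [← h1]; exact hβ⟩
    exact key y β (c 1) y_mem_range hβ hP.2 h1
  · exact key x α (c 0) x_mem_range hα hP.1 h0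

theorem not_both_const (hK : IsFunctionField k K)
    (hxy : IntermediateField.adjoin k ({x, y} : Set K) = ⊤)
    (hx : x ∈ Set.range (algebraMap k K)) (hy : y ∈ Set.range (algebraMap k K)) : False := by
  obtain ⟨t, ht, -⟩ := hK.1
  have h1 : IntermediateField.adjoin k ({x, y} : Set K) ≤ ⊥ := by
    rw [IntermediateField.adjoin_le_iff]
    rintro z (rfl | rfl)
    · exact IntermediateField.mem_bot.mpr hx
    · exact IntermediateField.mem_bot.mpr hy
  have h2 : t ∈ (⊥ : IntermediateField k K) := h1 (by rw [hxy]; trivial)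
  obtain ⟨a, rfl⟩ := IntermediateField.mem_bot.mp h2
  exact ht (isAlgebraic_algebraMap a)

theorem fibre_finite (hK : IsFunctionField k K)
    (hxy : IntermediateField.adjoin k ({x, y} : Set K) = ⊤) :
    {Q : Place k K | fibPl x y c Q}.Finite := by
  by_cases hx : x - algebraMap k K (c 0) = 0
  · by_cases hy : y - algebraMap k K (c 1) = 0
    · exact (not_both_const hK hxy ⟨c 0, (sub_eq_zero.mp hx).symm⟩
        ⟨c 1, (sub_eq_zero.mp hy).symm⟩).elim
    · refine (finite_val_ne_one hK hy).subset ?_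
      intro Q hQ
      exact ne_of_lt hQ.2
  · refine (finite_val_ne_one hK hx).subset ?_
    intro Q hQ
    exact ne_of_lt hQ.1

end Groth.Agent.H16.IM
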