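import Mathlib
import Groth.Agent.H16.IM4

set_option autoImplicit false
set_option linter.style.haveILetI false

/-! The conductor of the plane model and the fibre of a place. -/

namespace Groth.Agent.H16.IM

open FunFld Module
open Groth.Agent.Helper17.FF
open Groth.Agent.Helper16.Emb

variable {k K : Type*} [Field k] [Field K] [Algebra k K]

theorem cond_aux [IsAlgClosed k] (hK : IsFunctionField k K) (t : K) (ht : Transcendental k t)
    (hbir : IntermediateField.adjoin k ({t} : Set K) = ⊤) :
    ∃ c ∈ Algebra.adjoin k ({t} : Set K), c ≠ 0 ∧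
      ∀ z : K, (∀ Q : Place k K, Q.1 t ≤ 1 → Q.1 z ≤ 1) → c * z ∈ Algebra.adjoin k ({t} : Set K) := by
  have hφ : LinearIndependent k ![(1 : K), t] := by
    rw [LinearIndependent.pair_iff]
    intro a b hab
    have hb : b = 0 := by
      by_contra hb
      apply ht
      have : t = algebraMap k K (-a / b) := by
        rw [map_div₀, map_neg, eq_div_iff ((map_ne_zero (algebraMap k K)).mpr hb)]
        rw [Algebra.smul_def, Algebra.smul_def, mul_one] at hab
        linear_combination hab
      rw [this]
      exact isAlgebraic_algebraMap _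
    rw [hb, zero_smul, add_zero, Algebra.smul_def, mul_one] at hab
    exact ⟨(map_eq_zero (algebraMap k K)).mp hab, hb⟩
  have hbir' : IntermediateField.adjoin k (Set.range fun i => ![(1 : K), t] i / ![(1 : K), t] 0) = ⊤ := by
    rw [eq_top_iff, ← hbir, IntermediateField.adjoin_le_iff]
    rintro z rfl
    exact IntermediateField.subset_adjoin k _ ⟨1, by simp⟩
  obtain ⟨c, hc, hc0, hcond⟩ := exists_conductor hK le_rfl ![(1 : K), t] hφ hbir' 0
  have hle : Algebra.adjoin k (Set.range fun i => ![(1 : K), t] i / ![(1 : K), t] 0) ≤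
      Algebra.adjoin k ({t} : Set K) := by
    refine Algebra.adjoin_le ?_
    rintro _ ⟨i, rfl⟩
    fin_cases i
    · simp
    · simp [Algebra.subset_adjoin (Set.mem_singleton t)]
  refine ⟨c, hle hc, hc0, fun z hz => hle (hcond z (fun Q hQ => hz Q ?_))⟩
  have := hQ 1
  simpa using this

theorem exists_cond_pl [IsAlgClosed k] (hK : IsFunctionField k K) {x y : K}
    (hxy : IntermediateField.adjoin k ({x, y} : Set K) = ⊤) :
    ∃ c ∈ (ev (k := k) x y).range, c ≠ 0 ∧
      ∀ z : K, (∀ Q : Place k K, finPl x y Q → Q.1 z ≤ 1) → c * z ∈ (ev (k := k) x y).range := by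
  -- the line case: `s = α + β t` with `t` generating
  have line : ∀ (t s : K) (α β : k), t ∈ (ev (k := k) x y).range →
      s = algebraMap k K α + algebraMap k K β * t →
      IntermediateField.adjoin k ({t, s} : Set K) = ⊤ →
      (∀ Q : Place k K, Q.1 t ≤ 1 → Q.1 s ≤ 1 → finPl x y Q) →
      ∃ c ∈ (ev (k := k) x y).range, c ≠ 0 ∧
      ∀ z : K, (∀ Q : Place k K, finPl x y Q → Q.1 z ≤ 1) → c * z ∈ (ev (k := k) x y).range := by
    intro t s α β htR hs hts hfin
    have ht : Transcendental k t := by
      intro halg
      obtain ⟨a, ha⟩ := hK.2 t halg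
      refine not_both_const hK hts ⟨a, ha⟩ ⟨α + β * a, ?_⟩
      rw [hs, ← ha, map_add, map_mul]
    have hbir : IntermediateField.adjoin k ({t} : Set K) = ⊤ := by
      rw [eq_top_iff, ← hts, IntermediateField.adjoin_le_iff]
      rintro z (rfl | rfl)
      · exact IntermediateField.subset_adjoin k _ (Set.mem_singleton _)
      · rw [hs]
        exact add_mem (IntermediateField.algebraMap_mem _ _)
          (mul_mem (IntermediateField.algebraMap_mem _ _)
            (IntermediateField.subset_adjoin k _ (Set.mem_singleton _)))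
    obtain ⟨c, hc, hc0, hcond⟩ := cond_aux hK t ht hbir
    have hle : Algebra.adjoin k ({t} : Set K) ≤ (ev (k := k) x y).range := by
      refine Algebra.adjoin_le ?_
      rintro _ rfl
      exact htR
    refine ⟨c, hle hc, hc0, fun z hz => hle (hcond z (fun Q hQ => hz Q (hfin Q hQ ?_)))⟩
    rw [hs]
    refine (Q.1.map_add _ _).trans (max_le (Q.2.1 α) ?_)
    rw [map_mul]
    exact (mul_le_mul' (Q.2.1 β) hQ).trans_eq (one_mul _)
  by_cases hφ : LinearIndependent k ![(1 : K), x, y]
  · have hbir' : IntermediateField.adjoin k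
        (Set.range fun i => ![(1 : K), x, y] i / ![(1 : K), x, y] 0) = ⊤ := by
      rw [eq_top_iff, ← hxy, IntermediateField.adjoin_le_iff]
      rintro z (rfl | rfl)
      · exact IntermediateField.subset_adjoin k _ ⟨1, by simp⟩
      · exact IntermediateField.subset_adjoin k _ ⟨2, by simp⟩
    obtain ⟨c, hc, hc0, hcond⟩ := exists_conductor hK (by norm_num : 1 ≤ 2) ![(1 : K), x, y] hφ hbir' 0
    have hle : Algebra.adjoin k (Set.range fun i => ![(1 : K), x, y] i / ![(1 : K), x, y] 0) ≤
        (ev (k := k) x y).range := by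
      refine Algebra.adjoin_le ?_
      rintro _ ⟨i, rfl⟩
      have h0 : ![(1 : K), x, y] 0 = 1 := rfl
      show ![(1 : K), x, y] i / ![(1 : K), x, y] 0 ∈ _
      rw [h0, div_one]
      fin_cases i
      · exact Subalgebra.one_mem (ev (k := k) x y).range
      · exact (x_mem_range : x ∈ (ev (k := k) x y).range)
      · exact (y_mem_range : y ∈ (ev (k := k) x y).range)
    refine ⟨c, hle hc, hc0, fun z hz => hle (hcond z (fun Q hQ => hz Q ⟨?_, ?_⟩))⟩
    · simpa using hQ 1
    · simpa using hQ 2
  · rw [Fintype.not_linearIndependent_iff] at hφ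
    obtain ⟨g, hg, hne⟩ := hφ
    rw [Fin.sum_univ_three] at hg
    simp only [Matrix.cons_val_zero, Matrix.cons_val_one, Matrix.cons_val_two, Matrix.head_cons,
      Matrix.tail_cons, Algebra.smul_def, mul_one] at hg
    by_cases h2 : g 2 = 0
    · by_cases h1 : g 1 = 0
      · exfalso
        rw [h2, h1, map_zero, zero_mul, zero_mul, add_zero, add_zero] at hg
        have h0 : g 0 = 0 := (map_eq_zero (algebraMap k K)).mp hg
        obtain ⟨i, hi⟩ := hne
        fin_cases i
        · exact hi h0
        · exact hi h1
        · exact hi h2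
      · -- `x` is constant
        have h1' : algebraMap k K (g 1) ≠ 0 := (map_ne_zero (algebraMap k K)).mpr h1
        have hx : x = algebraMap k K (-g 0 / g 1) + algebraMap k K 0 * y := by
          rw [map_zero, zero_mul, add_zero, map_div₀, map_neg, eq_div_iff h1']
          rw [h2, map_zero, zero_mul, add_zero] at hg
          linear_combination hg
        refine line y x _ _ y_mem_range hx ?_ (fun Q hy hx => ⟨hx, hy⟩)
        rw [← hxy, Set.pair_comm]
    · have h2' : algebraMap k K (g 2) ≠ 0 := (map_ne_zero (algebraMap k K)).mpr h2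
      have hy : y = algebraMap k K (-g 0 / g 2) + algebraMap k K (-g 1 / g 2) * x := by
        rw [map_div₀, map_div₀, map_neg, map_neg]
        field_simp
        linear_combination hg
      exact line x y _ _ x_mem_range hy hxy (fun Q hx hy => ⟨hx, hy⟩)

end Groth.Agent.H16.IM
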