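import Mathlib
import Groth.Agent.H16.IM5

set_option autoImplicit false
set_option linter.style.haveILetI false

/-! The fibre of the plane model over a finite point, and the count of `Σ ord g`. -/

namespace Groth.Agent.H16.IM

open FunFld Module
open Groth.Agent.Helper17.FF
open Groth.Agent.Helper16.Emb

variable {k K : Type*} [Field k] [Field K] [Algebra k K]

theorem sameImage_aux {V : Place k K} {u t : K} {d₀ d : k} (hu0 : u ≠ 0) (hd₀ : d₀ ≠ 0)
    (hVu : V.1 u = 1)
    (h0 : V.1 (1 / u - algebraMap k K d₀) < 1)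
    (ht : V.1 (t / u - algebraMap k K d) < 1) :
    V.1 (t - algebraMap k K (d / d₀)) < 1 := by
  have hd₀' : algebraMap k K d₀ ≠ 0 := (map_ne_zero (algebraMap k K)).mpr hd₀
  have h1 : t - algebraMap k K (d / d₀) =
      u * ((t / u - algebraMap k K d) - algebraMap k K (d / d₀) * (1 / u - algebraMap k K d₀)) := by
    rw [map_div₀]
    field_simp
    ring
  rw [h1, map_mul, hVu, one_mul]
  refine V.1.map_sub_lt ht ?_
  rw [map_mul]
  calc V.1 (algebraMap k K (d / d₀)) * V.1 (1 / u - algebraMap k K d₀)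
      ≤ 1 * V.1 (1 / u - algebraMap k K d₀) := mul_le_mul' (V.2.1 _) le_rfl
    _ = V.1 (1 / u - algebraMap k K d₀) := one_mul _
    _ < 1 := h0

theorem sameImage_iff {x y : K} {c : Fin 2 → k} {P : Place k K} (hP : fibPl x y c P)
    (Q : Place k K) : SameImage ![(1 : K), x, y] P Q ↔ fibPl x y c Q := by
  have hle : ∀ V : Place k K, finPl x y V → ∀ i, V.1 (![(1 : K), x, y] i) ≤ 1 := by
    intro V hV i
    fin_cases i
    · exact (map_one V.1).le
    · exact hV.1
    · exact hV.2
  constructor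
  · rintro ⟨j, hj0, hjP, hjQ, hcc⟩
    set u := ![(1 : K), x, y] j with hu
    have hPu : P.1 u = 1 := by
      refine le_antisymm (hle P hP.fin j) ?_
      have := hjP 0
      rwa [show ![(1 : K), x, y] 0 = 1 from rfl, map_one] at this
    obtain ⟨d₀, hd₀P, hd₀Q⟩ := hcc 0
    rw [show ![(1 : K), x, y] 0 = 1 from rfl] at hd₀P hd₀Q
    have hd₀ : d₀ ≠ 0 := by
      intro h0
      rw [h0, map_zero, sub_zero, map_div₀, map_one, hPu, div_one] at hd₀P
      exact lt_irrefl _ hd₀P
    have hQu : Q.1 u = 1 := by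
      have h1 : Q.1 (algebraMap k K d₀) = 1 := val_const_eq_one' Q hd₀
      have h2 : (1 : K) / u = (1 / u - algebraMap k K d₀) + algebraMap k K d₀ := by ring
      have h3 : Q.1 (1 / u) = 1 := by
        rw [h2, Valuation.map_add_eq_of_lt_right _ (by rw [h1]; exact hd₀Q), h1]
      rw [map_div₀, map_one, one_div, inv_eq_one] at h3
      exact h3
    have key : ∀ (i : Fin 3) (γ : k), P.1 (![(1 : K), x, y] i - algebraMap k K γ) < 1 →
        Q.1 (![(1 : K), x, y] i - algebraMap k K γ) < 1 := by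
      intro i γ hγ
      obtain ⟨d, hdP, hdQ⟩ := hcc i
      have hP' := sameImage_aux hj0 hd₀ hPu hd₀P hdP
      have hQ' := sameImage_aux hj0 hd₀ hQu hd₀Q hdQ
      have hγd : γ = d / d₀ := by
        refine const_eq_of_val_lt P ?_
        have : algebraMap k K γ - algebraMap k K (d / d₀) =
            (![(1 : K), x, y] i - algebraMap k K (d / d₀)) -
              (![(1 : K), x, y] i - algebraMap k K γ) := by ring
        rw [this]
        exact P.1.map_sub_lt hP' hγ
      rw [hγd]
      exact hQ'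
    exact ⟨key 1 (c 0) hP.1, key 2 (c 1) hP.2⟩
  · intro hQ
    refine ⟨0, one_ne_zero, fun i => ?_, fun i => ?_, fun i => ?_⟩
    · rw [show ![(1 : K), x, y] 0 = 1 from rfl, map_one]
      exact hle P hP.fin i
    · rw [show ![(1 : K), x, y] 0 = 1 from rfl, map_one]
      exact hle Q hQ.fin i
    · rw [show ![(1 : K), x, y] 0 = 1 from rfl, div_one]
      fin_cases i
      · refine ⟨1, ?_, ?_⟩ <;>
        · show _ < _
          rw [map_one]
          simp
      · exact ⟨c 0, hP.1, hQ.1⟩
      · exact ⟨c 1, hP.2, hQ.2⟩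

theorem mem_fib (hK : IsFunctionField k K) {x y : K} {c : Fin 2 → k}
    (hxy : IntermediateField.adjoin k ({x, y} : Set K) = ⊤) {Q : Place k K} :
    Q ∈ (fibre_finite (c := c) hK hxy).toFinset ↔ fibPl x y c Q :=
  Set.Finite.mem_toFinset (fibre_finite (c := c) hK hxy)

theorem setup_pl [IsAlgClosed k] (hK : IsFunctionField k K) {x y : K} {c : Fin 2 → k}
    (hxy : IntermediateField.adjoin k ({x, y} : Set K) = ⊤) {P : Place k K}
    (hP : fibPl x y c P) :
    Setup (ev (k := k) x y).range P (finPl x y) (fibre_finite (c := c) hK hxy).toFinset where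
  le_one := by
    rintro _ ⟨s, rfl⟩ Q hQ
    exact val_ev_le_one hQ s
  fib_fin := fun Q hQ => ((mem_fib hK hxy).mp hQ).fin
  sep := fun Q hQ hQF => exists_sep_pl hK hP hQ (fun h => hQF ((mem_fib hK hxy).mpr h))
  const := by
    rintro _ ⟨s, rfl⟩
    exact ⟨MvPolynomial.eval c s, val_ev_sub_lt hP s,
      fun Q hQ => val_ev_sub_lt ((mem_fib hK hxy).mp hQ) s⟩

theorem sum_ord_eq [IsAlgClosed k] (hK : IsFunctionField k K) {x y : K} {c : Fin 2 → k}
    (hxy : IntermediateField.adjoin k ({x, y} : Set K) = ⊤) {P : Place k K}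
    (hP : fibPl x y c P) {g : K} (hgR : g ∈ (ev (k := k) x y).range) (hg : g ≠ 0) :
    ∃ n : ℕ, (∑ᶠ Q ∈ {Q : Place k K | SameImage ![(1 : K), x, y] P Q}, Q.ord g) = (n : ℤ) ∧
      qr (Oloc (ev (k := k) x y).range P)
        ((Oloc (ev (k := k) x y).range P).map
          ((mulEquiv (k := k) g hg : K ≃ₗ[k] K) : K →ₗ[k] K)) = (n : Cardinal) := by
  classical
  have S := setup_pl hK hxy hP
  obtain ⟨c', hcR, hc0, hcond⟩ := exists_cond_pl hK hxy
  have h := S.qr_Oloc hK hcR hc0 hcond hgR hg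
  refine ⟨(∑ Q ∈ (fibre_finite (c := c) hK hxy).toFinset, Q.ord g).toNat, ?_, h⟩
  have hset : {Q : Place k K | SameImage ![(1 : K), x, y] P Q} = {Q : Place k K | fibPl x y c Q} := by
    ext Q
    exact sameImage_iff hP Q
  rw [hset, finsum_mem_eq_finite_toFinset_sum _ (fibre_finite (c := c) hK hxy)]
  rw [Int.toNat_of_nonneg]
  refine Finset.sum_nonneg (fun Q hQ => ?_)
  have h1 := S.le_one g hgR Q (S.fib_fin Q hQ)
  rw [val_eq_exp_neg_ord Q hg, ← WithZero.exp_zero, WithZero.exp_le_exp] at h1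
  omega

end Groth.Agent.H16.IM
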