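import Mathlib

set_option autoImplicit false
set_option linter.style.haveILetI false

open Polynomial IsLocalization

namespace Groth.Agent.H16.PM

/-- The kernel of evaluation `R[X] → K` (UFD `R` embedded in a field `K`) at an element algebraic
over `R` is generated by an irreducible polynomial. -/
theorem ker_eval₂_principal {R K : Type*} [CommRing R] [IsDomain R] [UniqueFactorizationMonoid R]
    [Field K] (ι : R →+* K) (hι : Function.Injective ι) (s : K) (g : R[X]) (hg : g ≠ 0)
    (hgs : Polynomial.eval₂ ι s g = 0) :
    ∃ f₀ : R[X], Irreducible f₀ ∧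
      RingHom.ker (Polynomial.eval₂RingHom ι s) = Ideal.span {f₀} := by
  classical
  have := Classical.arbitrary (NormalizedGCDMonoid R)
  obtain ⟨Fr, hFr⟩ : ∃ Fr, Fr = FractionRing R := ⟨_, rfl⟩
  subst hFr
  letI : Algebra R K := ι.toAlgebra
  letI : Algebra (FractionRing R) K := (IsFractionRing.lift (K := FractionRing R) hι).toAlgebra
  haveI : IsScalarTower R (FractionRing R) K :=
    IsScalarTower.of_algebraMap_eq (fun x => (IsFractionRing.lift_algebraMap hι x).symm)
  have hinjF : Function.Injective (algebraMap R (FractionRing R)) := IsFractionRing.injective _ _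
  have hev : ∀ p : R[X], Polynomial.eval₂ ι s p = aeval s (p.map (algebraMap R (FractionRing R))) := by
    intro p
    rw [aeval_def, eval₂_map, ← IsScalarTower.algebraMap_eq]
    rfl
  have halg : IsIntegral (FractionRing R) s := by
    refine IsAlgebraic.isIntegral ⟨g.map (algebraMap R (FractionRing R)), ?_, ?_⟩
    · exact (Polynomial.map_ne_zero_iff hinjF).2 hg
    · rw [← hev]; exact hgs
  set m := minpoly (FractionRing R) s with hm
  have hmirr : Irreducible m := minpoly.irreducible halg
  obtain ⟨b, hb0, hb⟩ := integerNormalization_spec (nonZeroDivisors R) m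
  set q := integerNormalization (nonZeroDivisors R) m with hq
  have hb0' : b ≠ 0 := mem_nonZeroDivisors_iff_ne_zero.1 hb0
  have hbF : algebraMap R (FractionRing R) b ≠ 0 := fun h => hb0' (hinjF (by rw [h, map_zero]))
  rw [Algebra.smul_def, Polynomial.algebraMap_apply] at hb
  have hq0 : q ≠ 0 := by
    intro h
    rw [h, Polynomial.map_zero] at hb
    exact (mul_ne_zero (by rwa [Ne, C_eq_zero]) hmirr.ne_zero) hb.symm
  have hc0 : q.content ≠ 0 := fun h => hq0 (content_eq_zero_iff.1 h)
  have hcF : algebraMap R (FractionRing R) q.content ≠ 0 :=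
    fun h => hc0 (hinjF (by rw [h, map_zero]))
  have hprim : q.primPart.IsPrimitive := isPrimitive_primPart q
  have hassoc : Associated (q.primPart.map (algebraMap R (FractionRing R))) m := by
    have h1 : C (algebraMap R (FractionRing R) q.content) *
        q.primPart.map (algebraMap R (FractionRing R)) =
        C (algebraMap R (FractionRing R) b) * m := by
      rw [← hb, ← Polynomial.map_C, ← Polynomial.map_mul, ← eq_C_content_mul_primPart]
    have hu1 : IsUnit (C (algebraMap R (FractionRing R) q.content)) :=
      Polynomial.isUnit_C.2 (isUnit_iff_ne_zero.2 hcF)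
    have hu2 : IsUnit (C (algebraMap R (FractionRing R) b)) :=
      Polynomial.isUnit_C.2 (isUnit_iff_ne_zero.2 hbF)
    have a1 : Associated (q.primPart.map (algebraMap R (FractionRing R)))
        (C (algebraMap R (FractionRing R) q.content) *
        q.primPart.map (algebraMap R (FractionRing R))) :=
      (associated_isUnit_mul_left_iff hu1).2 (Associated.refl _) |>.symm
    have a2 : Associated (C (algebraMap R (FractionRing R) b) * m) m :=
      (associated_isUnit_mul_left_iff hu2).2 (Associated.refl _)
    exact a1.trans (h1 ▸ a2)
  have hirr : Irreducible q.primPart :=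
    (hprim.irreducible_iff_irreducible_map_fraction_map (K := FractionRing R)).2
      (hassoc.symm.irreducible hmirr)
  refine ⟨q.primPart, hirr, ?_⟩
  ext p
  rw [RingHom.mem_ker, Ideal.mem_span_singleton, Polynomial.coe_eval₂RingHom, hev,
    ← minpoly.dvd_iff, hprim.dvd_iff_fraction_map_dvd_fraction_map (FractionRing R)]
  exact ⟨fun h => hassoc.dvd.trans h, fun h => hassoc.symm.dvd.trans h⟩

end Groth.Agent.H16.PM
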