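import Mathlib
import Groth.Agent.H16.PM1

set_option autoImplicit false
set_option linter.style.haveILetI false

open Polynomial

namespace Groth.Agent.H16.PM

section

variable {k K : Type*} [Field k] [Field K] [Algebra k K]

/-- evaluation of two-variable polynomials through `finSuccEquiv`. -/
theorem eval₂_finSuccEquiv (s t : K) (p : MvPolynomial (Fin 2) k) :
    Polynomial.eval₂ (MvPolynomial.aeval (fun _ : Fin 1 => t) : MvPolynomial (Fin 1) k →ₐ[k] K).toRingHom
      s (MvPolynomial.finSuccEquiv k 1 p) = MvPolynomial.aeval ![s, t] p := by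
  have h : (Polynomial.aevalTower (MvPolynomial.aeval (fun _ : Fin 1 => t) :
      MvPolynomial (Fin 1) k →ₐ[k] K) s).comp (MvPolynomial.finSuccEquiv k 1).toAlgHom =
      (MvPolynomial.aeval ![s, t] : MvPolynomial (Fin 2) k →ₐ[k] K) := by
    apply MvPolynomial.algHom_ext
    intro i
    fin_cases i
    · simp [MvPolynomial.finSuccEquiv_X_zero]
    · have h1 : (MvPolynomial.X (1 : Fin 2) : MvPolynomial (Fin 2) k) =
          MvPolynomial.X (Fin.succ (0 : Fin 1)) := rfl
      simp only [AlgHom.comp_apply, Fin.mk_one]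
      have h2 : ((MvPolynomial.finSuccEquiv k 1 : MvPolynomial (Fin 2) k →ₐ[k]
          Polynomial (MvPolynomial (Fin 1) k))
          (MvPolynomial.X (Fin.succ (0 : Fin 1)))) = Polynomial.C (MvPolynomial.X 0) :=
        MvPolynomial.finSuccEquiv_X_succ (R := k) (n := 1) (j := 0)
      rw [h1, h2]
      simp
  exact DFunLike.congr_fun h p

theorem injective_aeval_of_transcendental {t : K} (ht : Transcendental k t) :
    Function.Injective (MvPolynomial.aeval (fun _ : Fin 1 => t) : MvPolynomial (Fin 1) k →ₐ[k] K) :=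
  (algebraicIndependent_unique_type_iff (x := fun _ : Fin 1 => t)).2 ht

/-- A nonzero relation between `s` and a transcendental `t` makes the relation ideal principal,
generated by an irreducible polynomial. -/
theorem ker_aeval_pair_principal (s t : K) (ht : Transcendental k t)
    (p : MvPolynomial (Fin 2) k) (hp : p ≠ 0) (hps : MvPolynomial.aeval ![s, t] p = 0) :
    ∃ f : MvPolynomial (Fin 2) k, Irreducible f ∧
      RingHom.ker (MvPolynomial.aeval ![s, t] : MvPolynomial (Fin 2) k →ₐ[k] K) = Ideal.span {f} := by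
  classical
  set e := MvPolynomial.finSuccEquiv k 1 with he
  set ι : MvPolynomial (Fin 1) k →+* K :=
    (MvPolynomial.aeval (fun _ : Fin 1 => t) : MvPolynomial (Fin 1) k →ₐ[k] K).toRingHom with hι
  have hinj : Function.Injective ι := injective_aeval_of_transcendental ht
  have hg0 : e p ≠ 0 := by
    intro h; exact hp (e.injective (by rw [h, map_zero]))
  have hgs : Polynomial.eval₂ ι s (e p) = 0 := by
    rw [hι, he, eval₂_finSuccEquiv]; exact hps
  obtain ⟨f₀, hirr, hker⟩ := ker_eval₂_principal ι hinj s (e p) hg0 hgs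
  refine ⟨e.symm f₀, ?_, ?_⟩
  · exact (MulEquiv.irreducible_iff e.symm.toMulEquiv).2 hirr
  · ext q
    rw [RingHom.mem_ker, Ideal.mem_span_singleton]
    have h1 : MvPolynomial.aeval ![s, t] q = Polynomial.eval₂ ι s (e q) := by
      rw [hι, he, eval₂_finSuccEquiv]
    have h2 : Polynomial.eval₂ ι s (e q) = 0 ↔ f₀ ∣ e q := by
      rw [← Ideal.mem_span_singleton, ← hker, RingHom.mem_ker, Polynomial.coe_eval₂RingHom]
    rw [h1, h2]
    constructor
    · rintro ⟨c, hc⟩
      refine ⟨e.symm c, ?_⟩
      apply e.injective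
      rw [map_mul, AlgEquiv.apply_symm_apply, AlgEquiv.apply_symm_apply, hc]
    · rintro ⟨c, hc⟩
      refine ⟨e c, ?_⟩
      rw [hc, map_mul, AlgEquiv.apply_symm_apply]

/-- A nonzero relation with `t` transcendental makes `s` algebraic over `k(t)`. -/
theorem isAlgebraic_of_rel (s t : K) (ht : Transcendental k t)
    (p : MvPolynomial (Fin 2) k) (hp : p ≠ 0) (hps : MvPolynomial.aeval ![s, t] p = 0) :
    IsAlgebraic (IntermediateField.adjoin k ({t} : Set K)) s := by
  classical
  set F := IntermediateField.adjoin k ({t} : Set K) with hF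
  have htF : t ∈ F := IntermediateField.subset_adjoin k _ (Set.mem_singleton t)
  set ι' : MvPolynomial (Fin 1) k →ₐ[k] F := MvPolynomial.aeval (fun _ : Fin 1 => (⟨t, htF⟩ : F)) with hι'
  have hcomp : (F.val.comp ι') = (MvPolynomial.aeval (fun _ : Fin 1 => t) : MvPolynomial (Fin 1) k →ₐ[k] K) := by
    apply MvPolynomial.algHom_ext
    intro i
    simp [hι']
  have hinj' : Function.Injective ι' := by
    intro a b hab
    apply injective_aeval_of_transcendental ht
    rw [← hcomp]
    simp only [AlgHom.comp_apply, hab]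
  set g := MvPolynomial.finSuccEquiv k 1 p with hg
  have hg0 : g ≠ 0 := by
    intro h; exact hp ((MvPolynomial.finSuccEquiv k 1).injective (by rw [← hg, h, map_zero]))
  refine ⟨g.map ι'.toRingHom, (Polynomial.map_ne_zero_iff hinj').2 hg0, ?_⟩
  rw [Polynomial.aeval_def, Polynomial.eval₂_map]
  have h3 : (algebraMap F K).comp ι'.toRingHom =
      (MvPolynomial.aeval (fun _ : Fin 1 => t) : MvPolynomial (Fin 1) k →ₐ[k] K).toRingHom := by
    rw [← hcomp]; rfl
  rw [h3, hg, eval₂_finSuccEquiv]
  exact hps

end

end Groth.Agent.H16.PM
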