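import Mathlib
import Groth.Agent.H16.IM6
import Groth.Agent.H16.PM2

set_option autoImplicit false
set_option linter.style.haveILetI false

/-! Intersection multiplicity as the dimension of `A_M/(f, g)`. -/

namespace Groth.Agent.H16.IM

open FunFld Module
open Groth.Agent.Helper17.FF
open Groth.Agent.Helper16.Emb

variable {k K : Type*} [Field k] [Field K] [Algebra k K]

theorem mem_M_iff {c : Fin 2 → k} {M : Ideal (MvPolynomial (Fin 2) k)} [hMm : M.IsMaximal]
    (hM : M = Ideal.span {MvPolynomial.X 0 - MvPolynomial.C (c 0),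
      MvPolynomial.X 1 - MvPolynomial.C (c 1)}) (s : MvPolynomial (Fin 2) k) :
    s ∈ M ↔ MvPolynomial.eval c s = 0 := by
  have hle : M ≤ RingHom.ker (MvPolynomial.eval c) := by
    rw [hM, Ideal.span_le]
    rintro _ (rfl | rfl)
    · simp [RingHom.mem_ker]
    · simp [RingHom.mem_ker]
  have hne : RingHom.ker (MvPolynomial.eval c) ≠ ⊤ := RingHom.ker_ne_top _
  have := hMm.eq_of_le hne hle
  rw [this, RingHom.mem_ker]

theorem val_ev_eq_one {x y : K} {c : Fin 2 → k} {P : Place k K} (hP : fibPl x y c P)
    (s : MvPolynomial (Fin 2) k) (hs : MvPolynomial.eval c s ≠ 0) : P.1 (ev x y s) = 1 := by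
  have h1 : P.1 (algebraMap k K (MvPolynomial.eval c s)) = 1 := val_const_eq_one' P hs
  have h2 : ev x y s = (ev x y s - algebraMap k K (MvPolynomial.eval c s)) +
      algebraMap k K (MvPolynomial.eval c s) := by ring
  rw [h2, Valuation.map_add_eq_of_lt_right _ (by rw [h1]; exact val_ev_sub_lt hP s), h1]

theorem val_ev_lt_one {x y : K} {c : Fin 2 → k} {P : Place k K} (hP : fibPl x y c P)
    (s : MvPolynomial (Fin 2) k) (hs : MvPolynomial.eval c s = 0) : P.1 (ev x y s) < 1 := by
  have := val_ev_sub_lt hP s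
  rwa [hs, map_zero, sub_zero] at this

theorem ker_eq_span_of_transcendental (s t : K) (ht : Transcendental k t)
    {f : MvPolynomial (Fin 2) k} (hf : Irreducible f)
    (hfs : MvPolynomial.aeval ![s, t] f = 0) :
    RingHom.ker (MvPolynomial.aeval ![s, t] : MvPolynomial (Fin 2) k →ₐ[k] K) = Ideal.span {f} := by
  obtain ⟨f₀, hirr, hker⟩ := Groth.Agent.H16.PM.ker_aeval_pair_principal s t ht f hf.ne_zero hfs
  have h1 : f ∈ Ideal.span {f₀} := by
    rw [← hker, RingHom.mem_ker]; exact hfs
  rw [Ideal.mem_span_singleton] at h1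
  have h2 : Associated f₀ f := hirr.associated_of_dvd hf h1
  rw [hker]
  exact Ideal.span_singleton_eq_span_singleton.mpr h2

theorem ker_ev_eq_span (hK : IsFunctionField k K) {x y : K}
    (hxy : IntermediateField.adjoin k ({x, y} : Set K) = ⊤)
    {f : MvPolynomial (Fin 2) k} (hf : Irreducible f)
    (hfxy : MvPolynomial.aeval ![x, y] f = 0) :
    RingHom.ker (ev (k := k) x y) = Ideal.span {f} := by
  by_cases hy : Transcendental k y
  · exact ker_eq_span_of_transcendental x y hy hf hfxy
  · have hx : Transcendental k x := by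
      intro hx
      rw [Transcendental, not_not] at hy
      exact not_both_const hK hxy (hK.2 x hx) (hK.2 y hy)
    set σ : Fin 2 ≃ Fin 2 := Equiv.swap 0 1 with hσ
    set ρ : MvPolynomial (Fin 2) k ≃ₐ[k] MvPolynomial (Fin 2) k :=
      MvPolynomial.renameEquiv k σ with hρ
    have hcomp : (![y, x] ∘ σ : Fin 2 → K) = ![x, y] := by
      funext i
      fin_cases i <;> simp [hσ]
    have hev : ∀ p : MvPolynomial (Fin 2) k,
        MvPolynomial.aeval ![y, x] (ρ p) = MvPolynomial.aeval ![x, y] p := by
      intro p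
      rw [hρ, MvPolynomial.renameEquiv_apply, MvPolynomial.aeval_rename, hcomp]
    have hf' : Irreducible (ρ f) := (MulEquiv.irreducible_iff ρ).mpr hf
    have hker := ker_eq_span_of_transcendental y x hx hf' (by rw [hev]; exact hfxy)
    ext p
    rw [RingHom.mem_ker, ← hev p, ← RingHom.mem_ker, hker, Ideal.mem_span_singleton,
      Ideal.mem_span_singleton, map_dvd_iff]

end Groth.Agent.H16.IM
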