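import Mathlib
import Groth.Agent.H16.IM7

set_option autoImplicit false
set_option linter.style.haveILetI false

/-! Intersection multiplicity as the dimension of `A_M/(f, g)`: the main theorem. -/

namespace Groth.Agent.H16.IM

open FunFld Module
open Groth.Agent.Helper17.FF
open Groth.Agent.Helper16.Emb

variable {k K : Type*} [Field k] [Field K] [Algebra k K]

theorem main [IsAlgClosed k] (hK : IsFunctionField k K) (x y : K)
    (hxy : IntermediateField.adjoin k ({x, y} : Set K) = ⊤) (f g : MvPolynomial (Fin 2) k)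
    (hf : Irreducible f) (hfxy : MvPolynomial.aeval ![x, y] f = 0)
    (hgxy : MvPolynomial.aeval ![x, y] g ≠ 0) (P : Place k K) (c : Fin 2 → k)
    (hc : ∀ i, P.1 (![x, y] i - algebraMap k K (c i)) < 1)
    (M : Ideal (MvPolynomial (Fin 2) k)) [M.IsMaximal]
    (hM : M = Ideal.span {MvPolynomial.X 0 - MvPolynomial.C (c 0),
      MvPolynomial.X 1 - MvPolynomial.C (c 1)}) :
    ∑ᶠ Q ∈ {Q : Place k K | SameImage ![(1 : K), x, y] P Q},
        Q.ord (MvPolynomial.aeval ![x, y] g) =
      (Module.finrank k (Localization.AtPrime M ⧸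
        Ideal.map (algebraMap (MvPolynomial (Fin 2) k) (Localization.AtPrime M))
          (Ideal.span {f, g})) : ℤ) := by
  classical
  have hP : fibPl x y c P := ⟨hc 0, hc 1⟩
  have hgR : ev (k := k) x y g ∈ (ev (k := k) x y).range := ⟨g, rfl⟩
  obtain ⟨n, hn, hqr⟩ := sum_ord_eq hK hxy hP hgR hgxy
  refine hn.trans ?_
  congr 1
  symm
  have hunitP : ∀ s : MvPolynomial (Fin 2) k, s ∉ M → P.1 (ev (k := k) x y s) = 1 :=
    fun s hs => val_ev_eq_one hP s (fun h => hs ((mem_M_iff hM s).mpr h))
  have hunit : ∀ s : M.primeCompl, IsUnit (ev (k := k) x y (s : MvPolynomial (Fin 2) k)) := by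
    intro s
    refine isUnit_iff_ne_zero.mpr (fun h0 => ?_)
    have := hunitP s s.2
    rw [h0, map_zero] at this
    exact zero_ne_one this
  let ψ : Localization.AtPrime M →ₐ[k] K :=
    IsLocalization.liftAlgHom (M := M.primeCompl) (f := ev (k := k) x y) hunit
  have hψalg : ∀ a : MvPolynomial (Fin 2) k,
      ψ (algebraMap (MvPolynomial (Fin 2) k) (Localization.AtPrime M) a) = ev x y a :=
    fun a => IsLocalization.lift_eq _ a
  have hψspec : ∀ (a : MvPolynomial (Fin 2) k) (s : M.primeCompl) (v : K),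
      ψ (IsLocalization.mk' (Localization.AtPrime M) a s) = v ↔
        ev x y a = ev x y (s : MvPolynomial (Fin 2) k) * v :=
    fun a s v => IsLocalization.lift_mk'_spec _ a v s
  set O := Oloc (ev (k := k) x y).range P with hO
  have hrange : ∀ α : Localization.AtPrime M, ψ α ∈ O := by
    intro α
    obtain ⟨a, s, rfl⟩ := IsLocalization.exists_mk'_eq M.primeCompl α
    have h1 := (hψspec a s _).mp rfl
    exact ⟨ev x y a, ⟨a, rfl⟩, ev x y (s : MvPolynomial (Fin 2) k), ⟨s, rfl⟩, hunitP s s.2,
      by rw [h1]; ring⟩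
  have hrange' : ∀ z ∈ O, ∃ α : Localization.AtPrime M, ψ α = z := by
    rintro z ⟨u, ⟨a, rfl⟩, w, ⟨s, rfl⟩, hPw, h⟩
    have hs : s ∉ M := by
      intro hs
      have h1 := val_ev_lt_one hP s ((mem_M_iff hM s).mp hs)
      have h2 : P.1 (ev x y s) = 1 := hPw
      rw [h2] at h1
      exact lt_irrefl _ h1
    refine ⟨IsLocalization.mk' (Localization.AtPrime M) a (⟨s, hs⟩ : M.primeCompl), ?_⟩
    rw [hψspec]
    have h' : z * ev x y s = ev x y a := h
    show ev x y a = ev x y s * z
    rw [← h']; ring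
  have hkerψ : RingHom.ker (ψ : Localization.AtPrime M →+* K) =
      Ideal.map (algebraMap (MvPolynomial (Fin 2) k) (Localization.AtPrime M)) (Ideal.span {f}) := by
    have h1 : (RingHom.ker (ψ : Localization.AtPrime M →+* K)).under (MvPolynomial (Fin 2) k) =
        Ideal.span {f} := by
      rw [← ker_ev_eq_span hK hxy hf hfxy]
      ext a
      rw [Ideal.under_def, Ideal.mem_comap, RingHom.mem_ker, RingHom.mem_ker]
      show ψ _ = 0 ↔ _
      rw [hψalg]
    rw [← h1, IsLocalization.map_under M.primeCompl (Localization.AtPrime M)]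
  set e := mulEquiv (k := k) (ev (k := k) x y g) hgxy with he
  set gO := O.map ((e : K ≃ₗ[k] K) : K →ₗ[k] K) with hgO
  let ψO : Localization.AtPrime M →ₗ[k] ↥O := ψ.toLinearMap.codRestrict O hrange
  let Φ : Localization.AtPrime M →ₗ[k] (↥O ⧸ gO.submoduleOf O) := (gO.submoduleOf O).mkQ.comp ψO
  have hΦsurj : Function.Surjective Φ := by
    intro w
    obtain ⟨⟨z, hz⟩, rfl⟩ := Submodule.Quotient.mk_surjective _ w
    obtain ⟨α, hα⟩ := hrange' z hz
    refine ⟨α, ?_⟩
    show Submodule.Quotient.mk (ψO α) = _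
    congr 1
    exact Subtype.ext hα
  set I := Ideal.map (algebraMap (MvPolynomial (Fin 2) k) (Localization.AtPrime M))
    (Ideal.span {f, g}) with hI
  have hkerΦ : LinearMap.ker Φ = I.restrictScalars k := by
    ext α
    rw [LinearMap.mem_ker, Submodule.restrictScalars_mem]
    show (gO.submoduleOf O).mkQ (ψO α) = 0 ↔ _
    rw [Submodule.mkQ_apply, Submodule.Quotient.mk_eq_zero]
    show ψ α ∈ gO ↔ _
    constructor
    · rintro ⟨z, hz, hzα⟩
      obtain ⟨β, rfl⟩ := hrange' z hz
      have hzα' : ev x y g * ψ β = ψ α := hzα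
      have h1 : ψ (α - algebraMap (MvPolynomial (Fin 2) k) (Localization.AtPrime M) g * β) = 0 := by
        rw [map_sub, map_mul, hψalg, ← hzα', sub_self]
      have h2 : α - algebraMap (MvPolynomial (Fin 2) k) (Localization.AtPrime M) g * β ∈
          Ideal.map (algebraMap (MvPolynomial (Fin 2) k) (Localization.AtPrime M))
            (Ideal.span {f}) := by
        rw [← hkerψ]; exact h1
      have h3 : Ideal.map (algebraMap (MvPolynomial (Fin 2) k) (Localization.AtPrime M))
          (Ideal.span {f}) ≤ I :=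
        Ideal.map_mono (Ideal.span_mono (by simp))
      have h4 : algebraMap (MvPolynomial (Fin 2) k) (Localization.AtPrime M) g * β ∈ I :=
        Ideal.mul_mem_right _ _ (Ideal.mem_map_of_mem _ (Ideal.subset_span (by simp)))
      have := I.add_mem (h3 h2) h4
      simpa using this
    · intro hα
      have hI' : I = Ideal.span {algebraMap (MvPolynomial (Fin 2) k) (Localization.AtPrime M) f,
          algebraMap (MvPolynomial (Fin 2) k) (Localization.AtPrime M) g} := by
        rw [hI, Ideal.map_span, Set.image_pair]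
      rw [hI', Ideal.mem_span_pair] at hα
      obtain ⟨a, b, hab⟩ := hα
      refine ⟨ψ b, hrange b, ?_⟩
      show ev x y g * ψ b = ψ α
      have hf0 : ev (k := k) x y f = 0 := hfxy
      rw [← hab, map_add, map_mul, map_mul, hψalg, hψalg, hf0, mul_zero, zero_add, mul_comm]
  let E1 : (Localization.AtPrime M ⧸ I.restrictScalars k) ≃ₗ[k] (Localization.AtPrime M ⧸ I) :=
    Submodule.Quotient.restrictScalarsEquiv k I
  let E2 : (Localization.AtPrime M ⧸ LinearMap.ker Φ) ≃ₗ[k] (↥O ⧸ gO.submoduleOf O) :=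
    Φ.quotKerEquivOfSurjective hΦsurj
  let E3 : (Localization.AtPrime M ⧸ I.restrictScalars k) ≃ₗ[k]
      (Localization.AtPrime M ⧸ LinearMap.ker Φ) :=
    Submodule.quotEquivOfEq _ _ hkerΦ.symm
  have hfr : Module.finrank k (Localization.AtPrime M ⧸ I) =
      Module.finrank k (↥O ⧸ gO.submoduleOf O) :=
    (E1.symm.trans (E3.trans E2)).finrank_eq
  rw [hfr]
  exact Module.finrank_eq_of_rank_eq hqr

end Groth.Agent.H16.IM
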