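import Groth.Agent.H16.PG1

/-!
# Cartan formula for wedges of general closed factors (helper16)
-/

set_option autoImplicit false

namespace Groth.Agent.H16.LD

open Groth.Agent.H16.PL Groth.Agent.H16.PG

universe u v

variable {R : Type v} {B M : Type u} [CommRing R] [CommRing B] [Algebra R B]
  [AddCommGroup M] [Module B M] [Module R M] [IsScalarTower R B M]
  (δ : Derivation R B M) (E : Derivation R B B) (lam : M →ₗ[B] B)
  (hlam : ∀ b : B, lam (δ b) = E b)
  (d' : ∀ p : ℕ, ↥(⋀[B]^p M) →ₗ[R] ↥(⋀[B]^(p + 1) M))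

include hlam in
theorem L_wedge_succ (p : ℕ) (b₀ : B) (e : Fin (p + 1) → M) (m : Fin (p + 1) → ℕ)
    (hrule1 : ∀ i : Fin (p + 1),
      d' p ((b₀ * lam (e i)) • exteriorPower.ιMulti B p (e ∘ i.succAbove)) =
      exteriorPower.ιMulti B (p + 1) (Fin.cons (δ (b₀ * lam (e i))) (e ∘ i.succAbove)))
    (hrule2 : d' (p + 1) (b₀ • exteriorPower.ιMulti B (p + 1) e) =
      exteriorPower.ιMulti B (p + 2) (Fin.cons (δ b₀) e))
    (heig : ∀ i, δ (lam (e i)) = m i • e i) :
    L lam d' (p + 1) (b₀ • exteriorPower.ιMulti B (p + 1) e) =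
      E b₀ • exteriorPower.ιMulti B (p + 1) e +
        (∑ i, m i) • (b₀ • exteriorPower.ιMulti B (p + 1) e) := by
  rw [L_succ]
  have hA : cR R lam p (b₀ • exteriorPower.ιMulti B (p + 1) e) =
      ∑ i : Fin (p + 1), ((-1 : ℤ) ^ (i : ℕ)) •
        ((b₀ * lam (e i)) • exteriorPower.ιMulti B p (e ∘ i.succAbove)) := by
    rw [cR_apply, map_smul, c_ιMulti, Finset.smul_sum]
    apply Finset.sum_congr rfl
    intro i _
    rw [← Int.cast_smul_eq_zsmul B, smul_smul, smul_smul]
    congr 1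
    push_cast
    ring
  have hB : ∀ i : Fin (p + 1),
      d' p ((b₀ * lam (e i)) • exteriorPower.ιMulti B p (e ∘ i.succAbove)) =
      ((m i : B) * (b₀ * (-1 : B) ^ (i : ℕ))) • exteriorPower.ιMulti B (p + 1) e +
      lam (e i) • exteriorPower.ιMulti B (p + 1) (Fin.cons (δ b₀) (e ∘ i.succAbove)) := by
    intro i
    rw [hrule1 i]
    have e1 : (Fin.cons (δ (b₀ * lam (e i))) (e ∘ i.succAbove) : Fin (p + 1) → M) =
        Matrix.vecCons (b₀ • δ (lam (e i)) + lam (e i) • δ b₀) (e ∘ i.succAbove) := by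
      rw [Derivation.leibniz]
      rfl
    rw [e1, AlternatingMap.map_vecCons_add, AlternatingMap.map_vecCons_smul,
      AlternatingMap.map_vecCons_smul, heig i, ← Nat.cast_smul_eq_nsmul B (m i) (e i),
      AlternatingMap.map_vecCons_smul]
    have h3 := ιMulti_cons_removeNth (B := B) p e i
    have h4 : (Matrix.vecCons (e i) (e ∘ i.succAbove) : Fin (p + 1) → M) =
        Fin.cons (e i) (e ∘ i.succAbove) := rfl
    rw [h4, h3, smul_smul, smul_smul]
    congr 2
    ring
  have hC : cR R lam (p + 1) (d' (p + 1) (b₀ • exteriorPower.ιMulti B (p + 1) e)) =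
      E b₀ • exteriorPower.ιMulti B (p + 1) e +
      ∑ i : Fin (p + 1), (-((-1 : B) ^ (i : ℕ) * lam (e i))) •
        exteriorPower.ιMulti B (p + 1) (Fin.cons (δ b₀) (e ∘ i.succAbove)) := by
    rw [hrule2, cR_apply, c_ιMulti, Fin.sum_univ_succ]
    congr 1
    · rw [Fin.cons_zero, hlam]
      have e0 : ((Fin.cons (δ b₀) e : Fin (p + 2) → M) ∘ (0 : Fin (p + 2)).succAbove) = e := by
        funext l
        simp [Fin.succAbove_zero]
      rw [e0]
      simp only [Fin.val_zero, pow_zero, one_mul]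
    · apply Finset.sum_congr rfl
      intro j _
      have e1 : ((Fin.cons (δ b₀) e : Fin (p + 2) → M) ∘ j.succ.succAbove) =
          Fin.cons (δ b₀) (e ∘ j.succAbove) := by
        funext l
        cases l using Fin.cases with
        | zero => simp
        | succ l => simp [Fin.succ_succAbove_succ]
      rw [e1, Fin.cons_succ]
      congr 1
      rw [Fin.val_succ, pow_succ]
      ring
  rw [hA, map_sum, hC]
  have hterm : ∀ i : Fin (p + 1),
      d' p (((-1 : ℤ) ^ (i : ℕ)) •
        ((b₀ * lam (e i)) • exteriorPower.ιMulti B p (e ∘ i.succAbove))) +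
      (-((-1 : B) ^ (i : ℕ) * lam (e i))) •
        exteriorPower.ιMulti B (p + 1) (Fin.cons (δ b₀) (e ∘ i.succAbove)) =
      m i • (b₀ • exteriorPower.ιMulti B (p + 1) e) := by
    intro i
    rw [map_zsmul, hB i, ← Int.cast_smul_eq_zsmul B, ← Nat.cast_smul_eq_nsmul B, smul_add,
      smul_smul, smul_smul, smul_smul]
    push_cast
    have hs : ((-1 : B) ^ (i : ℕ)) * ((-1 : B) ^ (i : ℕ)) = 1 := by
      rw [← pow_add, ← two_mul, pow_mul]
      simp
    have hx : (-1 : B) ^ (i : ℕ) * ((m i : B) * (b₀ * (-1 : B) ^ (i : ℕ))) = (m i : B) * b₀ := by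
      calc (-1 : B) ^ (i : ℕ) * ((m i : B) * (b₀ * (-1 : B) ^ (i : ℕ)))
          = ((-1 : B) ^ (i : ℕ) * (-1 : B) ^ (i : ℕ)) * ((m i : B) * b₀) := by ring
        _ = (m i : B) * b₀ := by rw [hs, one_mul]
    rw [hx, add_assoc, ← add_smul, add_neg_cancel, zero_smul, add_zero]
  rw [Finset.sum_smul, ← Finset.sum_congr rfl (fun i _ => hterm i), Finset.sum_add_distrib]
  abel

end Groth.Agent.H16.LD
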