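import Mathlib
import Groth.Prelude.Def_LogDiff

/-!
# The module of logarithmic differentials of affine space is free (helper16)
-/

set_option autoImplicit false

namespace Groth.Agent.H16.LD

open MvPolynomial

universe u

section reg

variable {R : Type u} [CommRing R] {n : ℕ}

/-- right-regular elements -/
def IsReg (q : MvPolynomial (Fin n) R) : Prop := ∀ f : MvPolynomial (Fin n) R, f * q = 0 → f = 0

lemma IsReg.one : IsReg (1 : MvPolynomial (Fin n) R) := fun f h => by rwa [mul_one] at h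

lemma IsReg.mul {q₁ q₂ : MvPolynomial (Fin n) R} (h₁ : IsReg q₁) (h₂ : IsReg q₂) :
    IsReg (q₁ * q₂) := fun f h => h₁ f (h₂ (f * q₁) (by rw [mul_assoc]; exact h))

lemma IsReg.pow {q : MvPolynomial (Fin n) R} (h : IsReg q) (N : ℕ) : IsReg (q ^ N) := by
  induction N with
  | zero => rw [pow_zero]; exact IsReg.one
  | succ N ih => rw [pow_succ]; exact ih.mul h

lemma IsReg.prod {ι' : Type*} (s : Finset ι') (q : ι' → MvPolynomial (Fin n) R)
    (h : ∀ i ∈ s, IsReg (q i)) : IsReg (∏ i ∈ s, q i) :=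
  Finset.prod_induction q IsReg (fun _ _ => IsReg.mul) IsReg.one h

lemma IsReg.X (ν : Fin n) : IsReg (X ν : MvPolynomial (Fin n) R) := by
  intro f h
  ext m
  have h1 := congrArg (coeff (m + Finsupp.single ν 1)) h
  rw [coeff_mul_X, coeff_zero] at h1
  rw [h1, coeff_zero]

end reg

variable {R : Type u} [CommRing R] {n r : ℕ} (hr : r ≤ n)
  {L : Type u} [AddCommGroup L] [Module (MvPolynomial (Fin n) R) L]
  (ι : (Ω[MvPolynomial (Fin n) R⁄R]) →ₗ[MvPolynomial (Fin n) R] L) (dl : Fin r → L)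
  (hL : LogDiff.IsLog (KaehlerDifferential.D R (MvPolynomial (Fin n) R))
    (fun i : Fin r => (MvPolynomial.X (Fin.castLE hr i) : MvPolynomial (Fin n) R)) ι dl)

/-- the product of the boundary equations -/
noncomputable def Pr : MvPolynomial (Fin n) R := ∏ i : Fin r, X (Fin.castLE hr i)

lemma Pr_reg : IsReg (Pr (R := R) hr) := IsReg.prod _ _ (fun i _ => IsReg.X _)

include hL in
lemma ι_inj : Function.Injective ι := by
  rw [injective_iff_map_eq_zero]
  intro ω hω
  obtain ⟨N, hN⟩ := (hL.2.2.2 ω).mp hω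
  apply (KaehlerDifferential.mvPolynomialBasis R (Fin n)).repr.injective
  rw [map_zero]
  apply Finsupp.ext
  intro ν
  have h1 := congrArg (fun z => (KaehlerDifferential.mvPolynomialBasis R (Fin n)).repr z ν) hN
  simp only [map_smul, Finsupp.smul_apply, map_zero, Finsupp.zero_apply, smul_eq_mul] at h1
  rw [Finsupp.zero_apply]
  have h1' : ((KaehlerDifferential.mvPolynomialBasis R (Fin n)).repr ω ν) * Pr hr ^ N = 0 := by
    rw [mul_comm]
    exact h1
  exact ((Pr_reg hr).pow N) _ h1'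

/-- the candidate basis of `L` -/
noncomputable def u : Fin n → L := fun ν =>
  if h : (ν : ℕ) < r then dl ⟨ν, h⟩ else ι (KaehlerDifferential.D R (MvPolynomial (Fin n) R) (X ν))

/-- `ι (d x_ν) = eps ν • u ν` -/
noncomputable def eps (r : ℕ) (ν : Fin n) : MvPolynomial (Fin n) R := if (ν : ℕ) < r then X ν else 1

include hL in
lemma ι_DX (ν : Fin n) :
    ι (KaehlerDifferential.D R (MvPolynomial (Fin n) R) (X ν)) =
      (eps r ν : MvPolynomial (Fin n) R) • u ι dl ν := by
  unfold eps u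
  by_cases h : (ν : ℕ) < r
  · rw [if_pos h, dif_pos h]
    have h1 := hL.1 ⟨ν, h⟩
    have h2 : Fin.castLE hr ⟨ν, h⟩ = ν := Fin.ext rfl
    simp only [h2] at h1
    exact h1.symm
  · rw [if_neg h, dif_neg h, one_smul]

include hL in
lemma span_u : Submodule.span (MvPolynomial (Fin n) R) (Set.range (u ι dl)) = ⊤ := by
  rw [eq_top_iff, ← hL.2.1, Submodule.span_le]
  rintro x (⟨ω, rfl⟩ | ⟨i, rfl⟩)
  · rw [← (KaehlerDifferential.mvPolynomialBasis R (Fin n)).sum_repr ω, map_sum]
    apply Submodule.sum_mem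
    intro ν _
    rw [map_smul, KaehlerDifferential.mvPolynomialBasis_apply, ι_DX hr ι dl hL ν, smul_smul]
    exact Submodule.smul_mem _ _ (Submodule.subset_span ⟨ν, rfl⟩)
  · apply Submodule.subset_span
    refine ⟨Fin.castLE hr i, ?_⟩
    unfold u
    have h : ((Fin.castLE hr i : Fin n) : ℕ) < r := i.2
    rw [dif_pos h]
    congr 1

/-- cofactor: `Pr • u ν = Qc ν • ι (d x_ν)` -/
noncomputable def Qc (ν : Fin n) : MvPolynomial (Fin n) R :=
  if h : (ν : ℕ) < r then ∏ i ∈ Finset.univ.erase (⟨ν, h⟩ : Fin r), X (Fin.castLE hr i)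
  else Pr hr

lemma Qc_reg (ν : Fin n) : IsReg (Qc (R := R) hr ν) := by
  unfold Qc
  by_cases h : (ν : ℕ) < r
  · rw [dif_pos h]
    exact IsReg.prod _ _ (fun i _ => IsReg.X _)
  · rw [dif_neg h]
    exact Pr_reg hr

include hL in
lemma Pr_smul_u (ν : Fin n) :
    Pr (R := R) hr • u ι dl ν =
      Qc (R := R) hr ν • ι (KaehlerDifferential.D R (MvPolynomial (Fin n) R) (X ν)) := by
  unfold Qc
  by_cases h : (ν : ℕ) < r
  · rw [dif_pos h]
    have h2 : Fin.castLE hr ⟨ν, h⟩ = ν := Fin.ext rfl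
    have h1 : Pr (R := R) hr = X ν * ∏ i ∈ Finset.univ.erase (⟨ν, h⟩ : Fin r),
        X (Fin.castLE hr i) := by
      unfold Pr
      rw [← Finset.mul_prod_erase Finset.univ _ (Finset.mem_univ (⟨ν, h⟩ : Fin r)), h2]
    rw [h1, ι_DX hr ι dl hL ν, smul_smul]
    congr 1
    unfold eps
    rw [if_pos h, mul_comm]
  · rw [dif_neg h]
    unfold u
    rw [dif_neg h]

include hL in
lemma linind_u : LinearIndependent (MvPolynomial (Fin n) R) (u ι dl) := by
  rw [Fintype.linearIndependent_iff]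
  intro g hg ν
  have h1 : ι (∑ ν, (g ν * Qc hr ν) • KaehlerDifferential.mvPolynomialBasis R (Fin n) ν) = 0 := by
    rw [map_sum]
    have h2 := congrArg (fun z => Pr (R := R) hr • z) hg
    simp only [Finset.smul_sum, smul_zero] at h2
    rw [← h2]
    apply Finset.sum_congr rfl
    intro μ _
    rw [map_smul, KaehlerDifferential.mvPolynomialBasis_apply, smul_comm, Pr_smul_u hr ι dl hL μ,
      smul_smul]
  have h3 := ι_inj hr ι dl hL (h1.trans (map_zero ι).symm)
  have h4 := Fintype.linearIndependent_iff.mp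
    (KaehlerDifferential.mvPolynomialBasis R (Fin n)).linearIndependent _ h3 ν
  exact Qc_reg hr ν _ h4

/-- the basis of `L` -/
noncomputable def bu : Module.Basis (Fin n) (MvPolynomial (Fin n) R) L :=
  Module.Basis.mk (linind_u hr ι dl hL) (by rw [span_u hr ι dl hL])

lemma bu_apply (ν : Fin n) : bu hr ι dl hL ν = u ι dl ν := by
  unfold bu
  rw [Module.Basis.mk_apply]

end Groth.Agent.H16.LD
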