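import Groth.Agent.H16.LD1
import Groth.Agent.H16.LD2

/-!
# Multi-weights on the logarithmic de Rham complex of affine space (helper16)
-/

set_option autoImplicit false

namespace Groth.Agent.H16.LD

open MvPolynomial Groth.Agent.H16.PL Groth.Agent.H16.PG

universe u

variable {R : Type u} [CommRing R] {n r : ℕ} (hr : r ≤ n)
  {L : Type u} [AddCommGroup L] [Module (MvPolynomial (Fin n) R) L] [Module R L]
  [IsScalarTower R (MvPolynomial (Fin n) R) L]
  (ι : (Ω[MvPolynomial (Fin n) R⁄R]) →ₗ[MvPolynomial (Fin n) R] L) (dl : Fin r → L)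
  (hL : LogDiff.IsLog (KaehlerDifferential.D R (MvPolynomial (Fin n) R))
    (fun i : Fin r => (MvPolynomial.X (Fin.castLE hr i) : MvPolynomial (Fin n) R)) ι dl)
  (d : ∀ q : ℕ, ↥(⋀[MvPolynomial (Fin n) R]^q L) →ₗ[R] ↥(⋀[MvPolynomial (Fin n) R]^(q + 1) L))
  (hd : DeRham.IsDiff (ι.compDer (KaehlerDifferential.D R (MvPolynomial (Fin n) R))) d)
  (hlog : LogDiff.IsLogRule (KaehlerDifferential.D R (MvPolynomial (Fin n) R)) ι dl d)

/-- the other cofactor -/
noncomputable def epsd (r : ℕ) (ν : Fin n) : MvPolynomial (Fin n) R :=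
  if (ν : ℕ) < r then 1 else X ν

omit [Module R L] [IsScalarTower R (MvPolynomial (Fin n) R) L] in
lemma eps_mul_epsd (ν : Fin n) : (eps r ν : MvPolynomial (Fin n) R) * epsd r ν = X ν := by
  unfold eps epsd
  by_cases h : (ν : ℕ) < r
  · rw [if_pos h, if_pos h, mul_one]
  · rw [if_neg h, if_neg h, one_mul]

/-- the linear form dual to `x_ν ∂_ν` -/
noncomputable def mu (ν : Fin n) : L →ₗ[MvPolynomial (Fin n) R] MvPolynomial (Fin n) R :=
  (epsd r ν : MvPolynomial (Fin n) R) • (bu hr ι dl hL).coord ν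

omit [Module R L] [IsScalarTower R (MvPolynomial (Fin n) R) L] in
lemma mu_u (ν μ : Fin n) :
    mu hr ι dl hL ν (u ι dl μ) = if μ = ν then (epsd r ν : MvPolynomial (Fin n) R) else 0 := by
  classical
  unfold mu
  rw [LinearMap.smul_apply, Module.Basis.coord_apply, ← bu_apply hr ι dl hL μ,
    Module.Basis.repr_self, Finsupp.single_apply, smul_eq_mul]
  by_cases h : μ = ν
  · rw [if_pos h, if_pos h, mul_one]
  · rw [if_neg h, if_neg h, mul_zero]

/-- the Euler derivations -/
noncomputable def Eν (ν : Fin n) : Derivation R (MvPolynomial (Fin n) R) (MvPolynomial (Fin n) R) :=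
  (X ν : MvPolynomial (Fin n) R) • (pderiv ν)

lemma Eν_apply (ν : Fin n) (b : MvPolynomial (Fin n) R) :
    Eν (R := R) ν b = X ν * pderiv ν b := rfl

lemma hlamν (ν : Fin n) (b : MvPolynomial (Fin n) R) :
    mu hr ι dl hL ν ((ι.compDer (KaehlerDifferential.D R (MvPolynomial (Fin n) R))) b) =
      Eν ν b := by
  classical
  show mu hr ι dl hL ν (ι (KaehlerDifferential.D R (MvPolynomial (Fin n) R) b)) = _
  rw [← (KaehlerDifferential.mvPolynomialBasis R (Fin n)).sum_repr
    (KaehlerDifferential.D R (MvPolynomial (Fin n) R) b), map_sum, map_sum,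
    Finset.sum_eq_single ν]
  · rw [map_smul, map_smul, KaehlerDifferential.mvPolynomialBasis_apply, ι_DX hr ι dl hL ν,
      map_smul, mu_u, if_pos rfl, KaehlerDifferential.mvPolynomialBasis_repr_apply, smul_eq_mul,
      smul_eq_mul, Eν_apply, ← eps_mul_epsd (R := R) (r := r) ν]
    ring
  · intro μ _ hμ
    rw [map_smul, map_smul, KaehlerDifferential.mvPolynomialBasis_apply, ι_DX hr ι dl hL μ,
      map_smul, mu_u, if_neg hμ, smul_zero, smul_zero]
  · intro h
    exact absurd (Finset.mem_univ ν) h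

omit [Module R L] [IsScalarTower R (MvPolynomial (Fin n) R) L] in
lemma u_adm (μ : Fin n) :
    (∃ b, u ι dl μ = ι (KaehlerDifferential.D R (MvPolynomial (Fin n) R) b)) ∨
      ∃ i, u ι dl μ = dl i := by
  unfold u
  by_cases h : (μ : ℕ) < r
  · rw [dif_pos h]
    exact Or.inr ⟨_, rfl⟩
  · rw [dif_neg h]
    exact Or.inl ⟨_, rfl⟩

/-- the `ν`-weight of a wedge `u_{s 0} ∧ … ∧ u_{s (a-1)}` -/
def wcount (r : ℕ) {a : ℕ} (s : Fin a → Fin n) (ν : Fin n) : ℕ :=
  ∑ i : Fin a, if (s i = ν ∧ r ≤ (ν : ℕ)) then 1 else 0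

include hlog in
theorem L_mono_succ (ν : Fin n) (q : ℕ) (α : Fin n →₀ ℕ) (c : R) (s : Fin (q + 1) → Fin n) :
    Groth.Agent.H16.PG.L (mu hr ι dl hL ν) d (q + 1)
      (monomial α c • exteriorPower.ιMulti (MvPolynomial (Fin n) R) (q + 1) (u ι dl ∘ s)) =
    (α ν + wcount r s ν) •
      (monomial α c • exteriorPower.ιMulti (MvPolynomial (Fin n) R) (q + 1) (u ι dl ∘ s)) := by
  classical
  rw [L_wedge_succ (ι.compDer (KaehlerDifferential.D R (MvPolynomial (Fin n) R))) (Eν ν)
    (mu hr ι dl hL ν) (hlamν hr ι dl hL ν) d q (monomial α c) (u ι dl ∘ s)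
    (fun i => if (s i = ν ∧ r ≤ (ν : ℕ)) then 1 else 0)
    (fun i => hlog q _ _ (fun k => u_adm ι dl _))
    (hlog (q + 1) _ _ (fun k => u_adm ι dl _))
    (fun i => by
      show (ι.compDer (KaehlerDifferential.D R (MvPolynomial (Fin n) R)))
        (mu hr ι dl hL ν (u ι dl (s i))) = _
      rw [mu_u]
      by_cases h1 : s i = ν
      · rw [if_pos h1]
        unfold epsd
        by_cases h2 : (ν : ℕ) < r
        · rw [if_pos h2, if_neg (by omega), zero_smul, Derivation.map_one_eq_zero]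
        · rw [if_neg h2, if_pos ⟨h1, by omega⟩, one_smul]
          show ι (KaehlerDifferential.D R (MvPolynomial (Fin n) R) (X ν)) = (u ι dl ∘ s) i
          show _ = u ι dl (s i)
          rw [h1]
          unfold u
          rw [dif_neg h2]
      · rw [if_neg h1, if_neg (fun h => h1 h.1), zero_smul, map_zero])]
  rw [Eν_apply, X_mul_pderiv_monomial, add_smul, smul_assoc]
  rfl

include hlog in
theorem L_mono_zero (ν : Fin n) (α : Fin n →₀ ℕ) (c : R) (s : Fin 0 → Fin n) :
    Groth.Agent.H16.PG.L (mu hr ι dl hL ν) d 0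
      (monomial α c • exteriorPower.ιMulti (MvPolynomial (Fin n) R) 0 (u ι dl ∘ s)) =
    (α ν + wcount r s ν) •
      (monomial α c • exteriorPower.ιMulti (MvPolynomial (Fin n) R) 0 (u ι dl ∘ s)) := by
  rw [Groth.Agent.H16.PG.L_zero, hlog 0 _ _ (fun k => k.elim0), cR_apply, c_ιMulti, Fin.sum_univ_one, Fin.cons_zero]
  have h := hlamν hr ι dl hL ν (monomial α c)
  have h' : mu hr ι dl hL ν (ι (KaehlerDifferential.D R (MvPolynomial (Fin n) R) (monomial α c))) =
      Eν ν (monomial α c) := h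
  rw [h', Eν_apply, X_mul_pderiv_monomial]
  simp only [Fin.val_zero, pow_zero, one_mul]
  unfold wcount
  rw [Finset.univ_eq_empty, Finset.sum_empty, add_zero, smul_assoc]
  congr 2

include hlog in
theorem L_mono (ν : Fin n) (a : ℕ) (α : Fin n →₀ ℕ) (c : R) (s : Fin a → Fin n) :
    Groth.Agent.H16.PG.L (mu hr ι dl hL ν) d a
      (monomial α c • exteriorPower.ιMulti (MvPolynomial (Fin n) R) a (u ι dl ∘ s)) =
    (α ν + wcount r s ν) •
      (monomial α c • exteriorPower.ιMulti (MvPolynomial (Fin n) R) a (u ι dl ∘ s)) := by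
  cases a with
  | zero => exact L_mono_zero hr ι dl hL d hlog ν α c s
  | succ q => exact L_mono_succ hr ι dl hL d hlog ν q α c s

end Groth.Agent.H16.LD
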