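import Groth.Agent.H16.PG1
import Groth.Agent.H16.DeRhamGen

/-!
# The Poincaré lemma for polynomial rings (helper16)
-/

set_option autoImplicit false

namespace Groth.Agent.H16.PM

open Groth.Agent.H16.PG

universe u v

section general

variable {R : Type v} {B M : Type u} [CommRing R] [CommRing B] [Algebra R B]
  [AddCommGroup M] [Module B M] [Module R M] [IsScalarTower R B M]
  (δ : Derivation R B M) (lam : M →ₗ[B] B)
  (d' : ∀ p : ℕ, ↥(⋀[B]^p M) →ₗ[R] ↥(⋀[B]^(p + 1) M))
  (hd' : DeRham.IsDiff δ d')

lemma L_mem_cob (p : ℕ) (y : ↥(⋀[B]^p M)) (hcl : d' p y = 0) :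
    L lam d' p y ∈ DeRham.coboundaries d' p := by
  cases p with
  | zero =>
    rw [L_zero, hcl, map_zero]
    exact Submodule.zero_mem _
  | succ p =>
    rw [L_succ, hcl, map_zero, add_zero]
    show _ ∈ LinearMap.range (d' p)
    exact ⟨_, rfl⟩

variable [Algebra ℚ R]

include hd' in
theorem reduce (p : ℕ) : ∀ (F : Finset ℕ), 0 ∉ F →
    ∀ (y y₀ : ↥(⋀[B]^p M)) (yn : ℕ → ↥(⋀[B]^p M)),
    (∀ n ∈ F, L lam d' p (yn n) = n • yn n) → L lam d' p y₀ = 0 →
    y = y₀ + ∑ n ∈ F, yn n → d' p y = 0 → y - y₀ ∈ DeRham.coboundaries d' p := by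
  classical
  intro F
  induction F using Finset.induction_on with
  | empty =>
    intro _ y y₀ yn _ _ hy _
    rw [hy, Finset.sum_empty, add_zero, sub_self]
    exact Submodule.zero_mem _
  | insert N F' hN ih =>
    intro h0 y y₀ yn hL hL0 hy hcl
    have hN0 : N ≠ 0 := by
      rintro rfl
      exact h0 (Finset.mem_insert_self _ _)
    have h0' : 0 ∉ F' := fun h => h0 (Finset.mem_insert_of_mem h)
    obtain ⟨r, hrN⟩ : ∃ r : R, (N : R) * r = 1 := by
      refine ⟨algebraMap ℚ R ((N : ℚ)⁻¹), ?_⟩
      rw [← map_natCast (algebraMap ℚ R) N, ← map_mul,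
        mul_inv_cancel₀ (Nat.cast_ne_zero.mpr hN0), map_one]
    have hLy : L lam d' p y = (N : R) • yn N + ∑ n ∈ F', (n : R) • yn n := by
      rw [hy, map_add, hL0, zero_add, map_sum, Finset.sum_insert hN,
        hL N (Finset.mem_insert_self _ _), Nat.cast_smul_eq_nsmul]
      congr 1
      apply Finset.sum_congr rfl
      intro n hn
      rw [hL n (Finset.mem_insert_of_mem hn), Nat.cast_smul_eq_nsmul]
    have hcob : L lam d' p y ∈ DeRham.coboundaries d' p := L_mem_cob lam d' p y hcl
    have key := ih h0' (y - r • L lam d' p y) y₀ (fun n => (1 - (n : R) * r) • yn n)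
      (by
        intro n hn
        rw [map_smul, hL n (Finset.mem_insert_of_mem hn), smul_comm])
      hL0
      (by
        rw [hLy, hy, Finset.sum_insert hN, smul_add, Finset.smul_sum]
        have e1 : r • ((N : R) • yn N) = yn N := by rw [smul_smul, mul_comm, hrN, one_smul]
        rw [e1]
        have e2 : ∑ n ∈ F', (1 - (n : R) * r) • yn n =
            ∑ n ∈ F', yn n - ∑ n ∈ F', r • ((n : R) • yn n) := by
          rw [← Finset.sum_sub_distrib]
          apply Finset.sum_congr rfl
          intro n _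
          have h1 : (1 - (n : R) * r) • yn n = (1 : R) • yn n - ((n : R) * r) • yn n :=
            sub_smul (1 : R) ((n : R) * r) (yn n)
          have h2 : (1 : R) • yn n = yn n := one_smul R (yn n)
          have h3 : ((n : R) * r) • yn n = r • ((n : R) • yn n) := by
            rw [mul_comm]
            exact mul_smul r (n : R) (yn n)
          rw [h1, h2, h3]
        rw [e2]
        abel)
      (by
        rw [map_sub, map_smul, hcl, d'_L δ lam d' hd' p y, hcl, map_zero, smul_zero,
          sub_zero])
    have e3 : y - y₀ = (y - r • L lam d' p y - y₀) + r • L lam d' p y := by abel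
    rw [e3]
    exact Submodule.add_mem _ key (Submodule.smul_mem _ _ hcob)

end general

end Groth.Agent.H16.PM
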