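import Groth.Agent.H16.LD3
import Groth.Agent.H16.PN1

/-!
# Projectors onto the `p`-divisible weights (helper16)
-/

set_option autoImplicit false

namespace Groth.Agent.H16.LD

open MvPolynomial Groth.Agent.H16.PL Groth.Agent.H16.PG

universe u

local notation "LL" => Groth.Agent.H16.PG.L

variable {R : Type u} [CommRing R] {n r : ℕ} (hr : r ≤ n)
  {L : Type u} [AddCommGroup L] [Module (MvPolynomial (Fin n) R) L] [Module R L]
  [IsScalarTower R (MvPolynomial (Fin n) R) L]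
  (ι : (Ω[MvPolynomial (Fin n) R⁄R]) →ₗ[MvPolynomial (Fin n) R] L) (dl : Fin r → L)
  (hL : LogDiff.IsLog (KaehlerDifferential.D R (MvPolynomial (Fin n) R))
    (fun i : Fin r => (MvPolynomial.X (Fin.castLE hr i) : MvPolynomial (Fin n) R)) ι dl)
  (d : ∀ q : ℕ, ↥(⋀[MvPolynomial (Fin n) R]^q L) →ₗ[R] ↥(⋀[MvPolynomial (Fin n) R]^(q + 1) L))
  (hd : DeRham.IsDiff (ι.compDer (KaehlerDifferential.D R (MvPolynomial (Fin n) R))) d)

section general

variable (lam : L →ₗ[MvPolynomial (Fin n) R] MvPolynomial (Fin n) R)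

include hd in
lemma d_Lpow (k a : ℕ) (x : ↥(⋀[MvPolynomial (Fin n) R]^a L)) :
    d a ((LL lam d a ^ k) x) = (LL lam d (a + 1) ^ k) (d a x) := by
  induction k generalizing x with
  | zero => rw [pow_zero, pow_zero]; rfl
  | succ k ih =>
    rw [pow_succ, pow_succ, Module.End.mul_apply, Module.End.mul_apply, ih,
      d'_L (ι.compDer (KaehlerDifferential.D R (MvPolynomial (Fin n) R))) lam d hd a x]

/-- `Q = 1 - L^(p-1)` -/
noncomputable def Qop (p : ℕ) (a : ℕ) :
    ↥(⋀[MvPolynomial (Fin n) R]^a L) →ₗ[R] ↥(⋀[MvPolynomial (Fin n) R]^a L) :=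
  LinearMap.id - (LL lam d a) ^ (p - 1)

lemma Qop_apply (p a : ℕ) (x : ↥(⋀[MvPolynomial (Fin n) R]^a L)) :
    Qop d lam p a x = x - ((LL lam d a) ^ (p - 1)) x := rfl

include hd in
lemma d_Qop (p a : ℕ) (x : ↥(⋀[MvPolynomial (Fin n) R]^a L)) :
    d a (Qop d lam p a x) = Qop d lam p (a + 1) (d a x) := by
  rw [Qop_apply, Qop_apply, map_sub, d_Lpow ι d hd lam]

include hd in
lemma Lpow_cob (k a : ℕ) (x : ↥(⋀[MvPolynomial (Fin n) R]^a L)) (hx : d a x = 0) :
    ((LL lam d a) ^ (k + 1)) x ∈ DeRham.coboundaries d a := by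
  rw [pow_succ', Module.End.mul_apply]
  apply Groth.Agent.H16.PM.L_mem_cob
  rw [d_Lpow ι d hd lam, hx, map_zero]

include hd in
lemma Qop_cob (p : ℕ) (hp : 2 ≤ p) (a : ℕ) (x : ↥(⋀[MvPolynomial (Fin n) R]^a L))
    (hx : d a x = 0) : x - Qop d lam p a x ∈ DeRham.coboundaries d a := by
  rw [Qop_apply, sub_sub_cancel]
  have : p - 1 = (p - 2) + 1 := by omega
  rw [this]
  exact Lpow_cob ι d hd lam _ a x hx

lemma Lpow_eigen (k a : ℕ) (γ : ℕ) (x : ↥(⋀[MvPolynomial (Fin n) R]^a L))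
    (hx : LL lam d a x = γ • x) : ((LL lam d a) ^ k) x = (γ ^ k) • x := by
  induction k with
  | zero => rw [pow_zero, pow_zero, one_smul]; rfl
  | succ k ih =>
    rw [pow_succ', Module.End.mul_apply, ih, map_nsmul, hx, smul_smul, pow_succ]

lemma Qop_eigen (p : ℕ) [Fact p.Prime] [CharP R p] (a : ℕ) (γ : ℕ)
    (x : ↥(⋀[MvPolynomial (Fin n) R]^a L)) (hx : LL lam d a x = γ • x) :
    Qop d lam p a x = if p ∣ γ then x else 0 := by
  rw [Qop_apply, Lpow_eigen d lam _ a γ x hx, ← Nat.cast_smul_eq_nsmul R]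
  have hp := (Fact.out : p.Prime)
  by_cases h : p ∣ γ
  · rw [if_pos h]
    have h1 : ((γ ^ (p - 1) : ℕ) : R) = 0 := by
      rw [CharP.cast_eq_zero_iff R p]
      exact dvd_pow h (by have := hp.two_le; omega)
    rw [h1, zero_smul, sub_zero]
  · rw [if_neg h]
    have h1 : ((γ ^ (p - 1) : ℕ) : R) = 1 := by
      have h2 : ((γ : ZMod p)) ≠ 0 := by
        rw [Ne, ZMod.natCast_eq_zero_iff]
        exact h
      have h3 := ZMod.pow_card_sub_one_eq_one h2
      have h4 : ((γ ^ (p - 1) : ℕ) : ZMod p) = ((1 : ℕ) : ZMod p) := by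
        push_cast
        exact h3
      have h5 := (ZMod.natCast_eq_natCast_iff _ _ p).mp h4
      have h6 := (CharP.natCast_eq_natCast R p).mpr h5
      rw [h6, Nat.cast_one]
    rw [h1, one_smul, sub_self]

end general

end Groth.Agent.H16.LD
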