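import Groth.Agent.H16.LD4

/-!
# The total projector and spanning by monomial generators (helper16)
-/

set_option autoImplicit false

namespace Groth.Agent.H16.LD

open MvPolynomial Groth.Agent.H16.PL Groth.Agent.H16.PG

universe u

local notation "LL" => Groth.Agent.H16.PG.L

variable {R : Type u} [CommRing R] {n r : ℕ} (hr : r ≤ n)
  {L : Type u} [AddCommGroup L] [Module (MvPolynomial (Fin n) R) L] [Module R L]
  [IsScalarTower R (MvPolynomial (Fin n) R) L]
  (ι : (Ω[MvPolynomial (Fin n) R⁄R]) →ₗ[MvPolynomial (Fin n) R] L) (dl : Fin r → L)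
  (hL : LogDiff.IsLog (KaehlerDifferential.D R (MvPolynomial (Fin n) R))
    (fun i : Fin r => (MvPolynomial.X (Fin.castLE hr i) : MvPolynomial (Fin n) R)) ι dl)
  (d : ∀ q : ℕ, ↥(⋀[MvPolynomial (Fin n) R]^q L) →ₗ[R] ↥(⋀[MvPolynomial (Fin n) R]^(q + 1) L))
  (hd : DeRham.IsDiff (ι.compDer (KaehlerDifferential.D R (MvPolynomial (Fin n) R))) d)
  (hlog : LogDiff.IsLogRule (KaehlerDifferential.D R (MvPolynomial (Fin n) R)) ι dl d)
  (p : ℕ)

/-- compose the projectors `Q_ν` for `ν < k` -/
noncomputable def QQ : ℕ → ∀ a : ℕ,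
    (↥(⋀[MvPolynomial (Fin n) R]^a L) →ₗ[R] ↥(⋀[MvPolynomial (Fin n) R]^a L))
  | 0, _ => LinearMap.id
  | k + 1, a => (if h : k < n then Qop d (mu hr ι dl hL ⟨k, h⟩) p a else LinearMap.id) ∘ₗ
      QQ k a

lemma QQ_zero (a : ℕ) (x : ↥(⋀[MvPolynomial (Fin n) R]^a L)) : QQ hr ι dl hL d p 0 a x = x := rfl

lemma QQ_succ (k a : ℕ) (x : ↥(⋀[MvPolynomial (Fin n) R]^a L)) :
    QQ hr ι dl hL d p (k + 1) a x =
      (if h : k < n then Qop d (mu hr ι dl hL ⟨k, h⟩) p a else LinearMap.id)
        (QQ hr ι dl hL d p k a x) := rfl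

include hd in
lemma d_QQ (k a : ℕ) (x : ↥(⋀[MvPolynomial (Fin n) R]^a L)) :
    d a (QQ hr ι dl hL d p k a x) = QQ hr ι dl hL d p k (a + 1) (d a x) := by
  induction k with
  | zero => rfl
  | succ k ih =>
    rw [QQ_succ, QQ_succ]
    by_cases h : k < n
    · rw [dif_pos h, dif_pos h, d_Qop ι d hd, ih]
    · rw [dif_neg h, dif_neg h]
      exact ih

include hd in
lemma QQ_cob (hp : 2 ≤ p) (k a : ℕ) (x : ↥(⋀[MvPolynomial (Fin n) R]^a L)) (hx : d a x = 0) :
    x - QQ hr ι dl hL d p k a x ∈ DeRham.coboundaries d a := by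
  induction k with
  | zero =>
    rw [QQ_zero, sub_self]
    exact Submodule.zero_mem _
  | succ k ih =>
    rw [QQ_succ]
    by_cases h : k < n
    · rw [dif_pos h]
      have hcl : d a (QQ hr ι dl hL d p k a x) = 0 := by
        rw [d_QQ hr ι dl hL d hd, hx, map_zero]
      have h2 := Qop_cob ι d hd (mu hr ι dl hL ⟨k, h⟩) p hp a _ hcl
      have e : x - Qop d (mu hr ι dl hL ⟨k, h⟩) p a (QQ hr ι dl hL d p k a x) =
          (x - QQ hr ι dl hL d p k a x) + (QQ hr ι dl hL d p k a x -
            Qop d (mu hr ι dl hL ⟨k, h⟩) p a (QQ hr ι dl hL d p k a x)) := by abel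
      rw [e]
      exact Submodule.add_mem _ ih h2
    · rw [dif_neg h]
      exact ih

lemma QQ_eigen [Fact p.Prime] [CharP R p] (k a : ℕ) (γ : Fin n → ℕ)
    (x : ↥(⋀[MvPolynomial (Fin n) R]^a L))
    (hx : ∀ ν, LL (mu hr ι dl hL ν) d a x = γ ν • x) :
    QQ hr ι dl hL d p k a x = if (∀ ν : Fin n, (ν : ℕ) < k → p ∣ γ ν) then x else 0 := by
  classical
  induction k with
  | zero =>
    rw [QQ_zero, if_pos]
    intro ν hν
    omega
  | succ k ih =>
    rw [QQ_succ, ih]
    by_cases h : k < n
    · rw [dif_pos h]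
      by_cases hC : ∀ ν : Fin n, (ν : ℕ) < k → p ∣ γ ν
      · rw [if_pos hC, Qop_eigen d _ p a (γ ⟨k, h⟩) x (hx ⟨k, h⟩)]
        by_cases hk : p ∣ γ ⟨k, h⟩
        · rw [if_pos hk, if_pos]
          intro ν hν
          by_cases hνk : (ν : ℕ) < k
          · exact hC ν hνk
          · have : ν = ⟨k, h⟩ := Fin.ext (by simp; omega)
            rw [this]
            exact hk
        · rw [if_neg hk, if_neg]
          intro hall
          exact hk (hall ⟨k, h⟩ (by simp))
      · rw [if_neg hC, map_zero, if_neg]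
        intro hall
        exact hC (fun ν hν => hall ν (by omega))
    · rw [dif_neg h]
      have : (∀ ν : Fin n, (ν : ℕ) < k → p ∣ γ ν) ↔ (∀ ν : Fin n, (ν : ℕ) < k + 1 → p ∣ γ ν) := by
        constructor
        · intro hh ν hν
          exact hh ν (by have := ν.2; omega)
        · intro hh ν hν
          exact hh ν (by omega)
      simp only [this]
      rfl

include hL in
/-- spanning by monomial multiples of sorted wedges of the basis -/
theorem span_induction (a : ℕ) (Pd : ↥(⋀[MvPolynomial (Fin n) R]^a L) → Prop)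
    (h0 : Pd 0) (hadd : ∀ x y, Pd x → Pd y → Pd (x + y))
    (hmono : ∀ (α : Fin n →₀ ℕ) (c : R) (s : Fin a ↪o Fin n),
      Pd (monomial α c • exteriorPower.ιMulti (MvPolynomial (Fin n) R) a (u ι dl ∘ s)))
    (x : ↥(⋀[MvPolynomial (Fin n) R]^a L)) : Pd x := by
  have hx : x ∈ Submodule.span (MvPolynomial (Fin n) R)
      (Set.range ((bu hr ι dl hL).exteriorPower a)) := by
    rw [Module.Basis.span_eq]
    trivial
  have key : ∀ g : MvPolynomial (Fin n) R, Pd (g • x) := by
    induction hx using Submodule.span_induction with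
    | mem y hy =>
      obtain ⟨S, rfl⟩ := hy
      intro g
      have hb : ((bu hr ι dl hL).exteriorPower a) S =
          exteriorPower.ιMulti (MvPolynomial (Fin n) R) a
            (u ι dl ∘ (Set.powersetCard.ofFinEmbEquiv.symm S)) := by
        rw [exteriorPower.basis_apply]
        unfold exteriorPower.ιMulti_family
        congr 1
        funext i
        exact bu_apply hr ι dl hL _
      rw [hb]
      induction g using MvPolynomial.induction_on' with
      | monomial α c => exact hmono α c _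
      | add g₁ g₂ h₁ h₂ =>
        rw [add_smul]
        exact hadd _ _ h₁ h₂
    | zero =>
      intro g
      rw [smul_zero]
      exact h0
    | add y z _ _ hy hz =>
      intro g
      rw [smul_add]
      exact hadd _ _ (hy g) (hz g)
    | smul b y _ hy =>
      intro g
      rw [← mul_smul]
      exact hy (g * b)
  have := key 1
  rwa [one_smul] at this

end Groth.Agent.H16.LD
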