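import Groth.Agent.H16.LD5

/-!
# The classes `e_s` and the `p`-divisible monomials (helper16)
-/

set_option autoImplicit false

namespace Groth.Agent.H16.LD

open MvPolynomial

universe u

variable {R : Type u} [CommRing R] {n r : ℕ} (hr : r ≤ n)
  {L : Type u} [AddCommGroup L] [Module (MvPolynomial (Fin n) R) L]
  (ι : (Ω[MvPolynomial (Fin n) R⁄R]) →ₗ[MvPolynomial (Fin n) R] L) (dl : Fin r → L)
  (p a : ℕ)
  (w : Fin n → L) (hw : ∀ i : Fin r, w (Fin.castLE hr i) = dl i)
  (hw' : ∀ ν : Fin n, r ≤ (ν : ℕ) → w ν = ι (((MvPolynomial.X ν : MvPolynomial (Fin n) R) ^ (p - 1)) •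
    KaehlerDifferential.D R (MvPolynomial (Fin n) R) (MvPolynomial.X ν)))
  (e : Finset (Fin n) → ↥(⋀[MvPolynomial (Fin n) R]^a L))
  (he : ∀ (s : Finset (Fin n)) (hs : s.card = a),
    e s = exteriorPower.ιMulti (MvPolynomial (Fin n) R) a (fun j => w (s.orderEmbOfFin hs j)))

/-- exponent vector of the cofactor of `w ν` -/
noncomputable def kap (r p : ℕ) (ν : Fin n) : Fin n →₀ ℕ :=
  if (ν : ℕ) < r then 0 else Finsupp.single ν (p - 1)

include hw hw' in
lemma w_eq (ν : Fin n) :
    w ν = (monomial (kap r p ν) 1 : MvPolynomial (Fin n) R) • u ι dl ν := by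
  unfold kap u
  by_cases h : (ν : ℕ) < r
  · rw [if_pos h, dif_pos h]
    have h2 : Fin.castLE hr ⟨ν, h⟩ = ν := Fin.ext rfl
    have h3 := hw ⟨ν, h⟩
    rw [h2] at h3
    rw [h3]
    have : (monomial (0 : Fin n →₀ ℕ) 1 : MvPolynomial (Fin n) R) = 1 := rfl
    rw [this, one_smul]
  · rw [if_neg h, dif_neg h, hw' ν (by omega), map_smul, X_pow_eq_monomial]

/-- the finset attached to an order embedding -/
noncomputable def Sof (s : Fin a ↪o Fin n) : Finset (Fin n) := Finset.univ.map s.toEmbedding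

lemma Sof_card (s : Fin a ↪o Fin n) : (Sof a s).card = a := by
  unfold Sof
  rw [Finset.card_map, Finset.card_univ, Fintype.card_fin]

include hw hw' he in
lemma e_eq (s : Fin a ↪o Fin n) :
    e (Sof a s) = (monomial (∑ i, kap r p (s i)) 1 : MvPolynomial (Fin n) R) •
      exteriorPower.ιMulti (MvPolynomial (Fin n) R) a (u ι dl ∘ s) := by
  rw [he (Sof a s) (Sof_card a s)]
  have h1 : s = (Sof a s).orderEmbOfFin (Sof_card a s) :=
    Finset.orderEmbOfFin_unique' (Sof_card a s) (fun x => by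
      unfold Sof
      rw [Finset.mem_map]
      exact ⟨x, Finset.mem_univ _, rfl⟩)
  rw [← h1, monomial_sum_one]
  have h2 : (fun j => w (s j)) = fun j => (monomial (kap r p (s j)) 1 : MvPolynomial (Fin n) R) •
      (u ι dl ∘ s) j := funext fun j => w_eq hr ι dl p w hw hw' (s j)
  rw [h2, AlternatingMap.map_smul_univ]

/-- the weight count is at most one for an embedding -/
lemma wcount_le_one (s : Fin a ↪o Fin n) (ν : Fin n) : wcount r s ν ≤ 1 := by
  classical
  unfold wcount
  have h1 : ∑ i : Fin a, (if (s i = ν ∧ r ≤ (ν : ℕ)) then 1 else 0) ≤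
      ∑ i : Fin a, (if s i = ν then 1 else 0) := by
    apply Finset.sum_le_sum
    intro i _
    by_cases h : s i = ν
    · by_cases h2 : r ≤ (ν : ℕ)
      · rw [if_pos ⟨h, h2⟩, if_pos h]
      · rw [if_neg (fun hh => h2 hh.2), if_pos h]
        omega
    · rw [if_neg (fun hh => h hh.1), if_neg h]
  refine le_trans h1 ?_
  rw [Finset.sum_boole]
  simp only [Nat.cast_id]
  rw [Finset.card_le_one]
  intro i hi j hj
  rw [Finset.mem_filter] at hi hj
  exact s.injective (hi.2.trans hj.2.symm)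

lemma sum_kap_apply (s : Fin a → Fin n) (ν : Fin n) :
    (∑ i, kap r p (s i)) ν = (p - 1) * wcount r s ν := by
  classical
  unfold wcount
  rw [Finsupp.finset_sum_apply, Finset.mul_sum]
  apply Finset.sum_congr rfl
  intro i _
  unfold kap
  by_cases h : ((s i : Fin n) : ℕ) < r
  · rw [if_pos h, Finsupp.zero_apply, if_neg, mul_zero]
    rintro ⟨h1, h2⟩
    rw [h1] at h
    omega
  · rw [if_neg h, Finsupp.single_apply]
    by_cases h1 : s i = ν
    · rw [if_pos h1, if_pos ⟨h1, by rw [← h1]; omega⟩, mul_one]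
    · rw [if_neg h1, if_neg (fun hh => h1 hh.1), mul_zero]

/-- the arithmetic of `p`-divisible exponents -/
lemma exists_beta (hp : 2 ≤ p) (s : Fin a ↪o Fin n) (α : Fin n →₀ ℕ)
    (hdiv : ∀ ν, p ∣ α ν + wcount r s ν) :
    ∃ β : Fin n →₀ ℕ, α = p • β + ∑ i, kap r p (s i) := by
  have key : ∀ ν, ∃ b : ℕ, α ν = p * b + (p - 1) * wcount r s ν := by
    intro ν
    obtain ⟨t, ht⟩ := hdiv ν
    have hle := wcount_le_one (r := r) a s ν
    rcases Nat.eq_zero_or_pos (wcount r s ν) with h0 | h1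
    · refine ⟨t, ?_⟩
      rw [h0, mul_zero, add_zero]
      rw [h0, add_zero] at ht
      exact ht
    · have h1' : wcount r s ν = 1 := by omega
      rw [h1'] at ht
      rw [h1', mul_one]
      rcases Nat.eq_zero_or_pos t with ht0 | htpos
      · rw [ht0, mul_zero] at ht
        omega
      · obtain ⟨t', rfl⟩ : ∃ t', t = t' + 1 := ⟨t - 1, by omega⟩
        refine ⟨t', ?_⟩
        rw [Nat.mul_succ] at ht
        generalize p * t' = q at *
        omega
  choose b hb using key
  refine ⟨Finsupp.equivFunOnFinite.symm b, ?_⟩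
  ext ν
  rw [Finsupp.add_apply, Finsupp.smul_apply, sum_kap_apply, smul_eq_mul]
  exact hb ν

include hw hw' he in
/-- a `p`-divisible monomial generator is `expand p (monomial β c) • e_S` -/
lemma mono_eq_expand (hp : 2 ≤ p) (s : Fin a ↪o Fin n) (α : Fin n →₀ ℕ) (c : R)
    (hdiv : ∀ ν, p ∣ α ν + wcount r s ν) :
    ∃ β : Fin n →₀ ℕ,
      monomial α c • exteriorPower.ιMulti (MvPolynomial (Fin n) R) a (u ι dl ∘ s) =
        expand p (monomial β c) • e (Sof a s) := by
  obtain ⟨β, hβ⟩ := exists_beta (r := r) p a hp s α hdiv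
  refine ⟨β, ?_⟩
  rw [e_eq hr ι dl p a w hw hw' e he s, smul_smul, expand_monomial, monomial_mul, mul_one, ← hβ]

end Groth.Agent.H16.LD
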