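import Groth.Agent.H16.LD6

/-!
# Closed forms of `p`-divisible weight (helper16)
-/

set_option autoImplicit false

namespace Groth.Agent.H16.LD

open MvPolynomial Groth.Agent.H16.PL Groth.Agent.H16.PG

universe u

local notation "LL" => Groth.Agent.H16.PG.L

variable {R : Type u} [CommRing R] {n r : ℕ} (hr : r ≤ n)
  {L : Type u} [AddCommGroup L] [Module (MvPolynomial (Fin n) R) L] [Module R L]
  [IsScalarTower R (MvPolynomial (Fin n) R) L]
  (ι : (Ω[MvPolynomial (Fin n) R⁄R]) →ₗ[MvPolynomial (Fin n) R] L) (dl : Fin r → L)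
  (hL : LogDiff.IsLog (KaehlerDifferential.D R (MvPolynomial (Fin n) R))
    (fun i : Fin r => (MvPolynomial.X (Fin.castLE hr i) : MvPolynomial (Fin n) R)) ι dl)
  (d : ∀ q : ℕ, ↥(⋀[MvPolynomial (Fin n) R]^q L) →ₗ[R] ↥(⋀[MvPolynomial (Fin n) R]^(q + 1) L))
  (hd : DeRham.IsDiff (ι.compDer (KaehlerDifferential.D R (MvPolynomial (Fin n) R))) d)
  (hlog : LogDiff.IsLogRule (KaehlerDifferential.D R (MvPolynomial (Fin n) R)) ι dl d)
  (p : ℕ) [Fact p.Prime] [CharP R p] (a : ℕ)
  (w : Fin n → L) (hw : ∀ i : Fin r, w (Fin.castLE hr i) = dl i)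
  (hw' : ∀ ν : Fin n, r ≤ (ν : ℕ) → w ν = ι (((MvPolynomial.X ν : MvPolynomial (Fin n) R) ^ (p - 1)) •
    KaehlerDifferential.D R (MvPolynomial (Fin n) R) (MvPolynomial.X ν)))
  (e : Finset (Fin n) → ↥(⋀[MvPolynomial (Fin n) R]^a L))
  (he : ∀ (s : Finset (Fin n)) (hs : s.card = a),
    e s = exteriorPower.ιMulti (MvPolynomial (Fin n) R) a (fun j => w (s.orderEmbOfFin hs j)))

/-- combinations of the `e_s` with coefficients in `R[x^p]` -/
def Good (y : ↥(⋀[MvPolynomial (Fin n) R]^a L)) : Prop :=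
  ∃ g : Finset (Fin n) → MvPolynomial (Fin n) R,
    y = ∑ s ∈ Finset.powersetCard a Finset.univ, expand p (g s) • e s

omit [Module R L] [IsScalarTower R (MvPolynomial (Fin n) R) L] [Fact p.Prime] [CharP R p] in
lemma Good_zero : Good p a e 0 := ⟨fun _ => 0, by simp⟩

omit [Module R L] [IsScalarTower R (MvPolynomial (Fin n) R) L] [Fact p.Prime] [CharP R p] in
lemma Good_add (x y : ↥(⋀[MvPolynomial (Fin n) R]^a L)) (hx : Good p a e x) (hy : Good p a e y) :
    Good p a e (x + y) := by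
  obtain ⟨g, rfl⟩ := hx
  obtain ⟨g', rfl⟩ := hy
  refine ⟨fun s => g s + g' s, ?_⟩
  rw [← Finset.sum_add_distrib]
  apply Finset.sum_congr rfl
  intro s _
  rw [map_add, add_smul]

omit [Module R L] [IsScalarTower R (MvPolynomial (Fin n) R) L] [Fact p.Prime] [CharP R p] in
lemma Good_single (S : Finset (Fin n)) (hS : S.card = a) (f : MvPolynomial (Fin n) R) :
    Good p a e (expand p f • e S) := by
  classical
  refine ⟨fun T => if T = S then f else 0, ?_⟩
  rw [Finset.sum_eq_single S]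
  · beta_reduce
    rw [if_pos rfl]
  · intro T _ hT
    beta_reduce
    rw [if_neg hT, map_zero, zero_smul]
  · intro h
    exact absurd (Finset.mem_powersetCard.mpr ⟨Finset.subset_univ _, hS⟩) h

include hlog hw hw' he in
theorem Good_QQ (x : ↥(⋀[MvPolynomial (Fin n) R]^a L)) :
    Good p a e (QQ hr ι dl hL d p n a x) := by
  have hp2 : 2 ≤ p := (Fact.out : p.Prime).two_le
  refine span_induction hr ι dl hL a
    (fun x => Good p a e (QQ hr ι dl hL d p n a x)) ?_ ?_ ?_ x
  · show Good p a e (QQ hr ι dl hL d p n a 0)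
    rw [map_zero]
    exact Good_zero p a e
  · intro x y hx hy
    show Good p a e (QQ hr ι dl hL d p n a (x + y))
    rw [map_add]
    exact Good_add p a e _ _ hx hy
  · intro α c s
    show Good p a e (QQ hr ι dl hL d p n a _)
    rw [QQ_eigen hr ι dl hL d p n a (fun ν => α ν + wcount r s ν) _
      (fun ν => L_mono hr ι dl hL d hlog ν a α c s)]
    by_cases hC : ∀ ν : Fin n, (ν : ℕ) < n → p ∣ α ν + wcount r s ν
    · rw [if_pos hC]
      obtain ⟨β, hβ⟩ := mono_eq_expand hr ι dl p a w hw hw' e he hp2 s α c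
        (fun ν => hC ν ν.2)
      rw [hβ]
      exact Good_single p a e _ (Sof_card a s) _
    · rw [if_neg hC]
      exact Good_zero p a e

include hL hd hlog hw hw' he in
theorem closed_decomp (ω : ↥(⋀[MvPolynomial (Fin n) R]^a L)) (hω : d a ω = 0) :
    ∃ (g : Finset (Fin n) → MvPolynomial (Fin n) R) (η : ↥(⋀[MvPolynomial (Fin n) R]^a L)),
      η ∈ DeRham.coboundaries d a ∧
        ω = η + ∑ s ∈ Finset.powersetCard a Finset.univ, expand p (g s) • e s := by
  have hp2 : 2 ≤ p := (Fact.out : p.Prime).two_le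
  obtain ⟨g, hg⟩ := Good_QQ hr ι dl hL d hlog p a w hw hw' e he ω
  refine ⟨g, ω - QQ hr ι dl hL d p n a ω, QQ_cob hr ι dl hL d hd p hp2 n a ω hω, ?_⟩
  rw [← hg]
  abel

end Groth.Agent.H16.LD
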