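import Groth.Agent.H16.LD7

/-!
# Closedness and independence of the classes `e_s` (helper16)
-/

set_option autoImplicit false

namespace Groth.Agent.H16.LD

open MvPolynomial Groth.Agent.H16.PL Groth.Agent.H16.PG

universe u

local notation "LL" => Groth.Agent.H16.PG.L

variable {R : Type u} [CommRing R] {n r : ℕ} (hr : r ≤ n)
  {L : Type u} [AddCommGroup L] [Module (MvPolynomial (Fin n) R) L] [Module R L]
  [IsScalarTower R (MvPolynomial (Fin n) R) L]
  (ι : (Ω[MvPolynomial (Fin n) R⁄R]) →ₗ[MvPolynomial (Fin n) R] L) (dl : Fin r → L)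
  (hL : LogDiff.IsLog (KaehlerDifferential.D R (MvPolynomial (Fin n) R))
    (fun i : Fin r => (MvPolynomial.X (Fin.castLE hr i) : MvPolynomial (Fin n) R)) ι dl)
  (d : ∀ q : ℕ, ↥(⋀[MvPolynomial (Fin n) R]^q L) →ₗ[R] ↥(⋀[MvPolynomial (Fin n) R]^(q + 1) L))
  (hd : DeRham.IsDiff (ι.compDer (KaehlerDifferential.D R (MvPolynomial (Fin n) R))) d)
  (hlog : LogDiff.IsLogRule (KaehlerDifferential.D R (MvPolynomial (Fin n) R)) ι dl d)
  (p : ℕ) [Fact p.Prime] [CharP R p] (a : ℕ)
  (w : Fin n → L) (hw : ∀ i : Fin r, w (Fin.castLE hr i) = dl i)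
  (hw' : ∀ ν : Fin n, r ≤ (ν : ℕ) → w ν = ι (((MvPolynomial.X ν : MvPolynomial (Fin n) R) ^ (p - 1)) •
    KaehlerDifferential.D R (MvPolynomial (Fin n) R) (MvPolynomial.X ν)))
  (e : Finset (Fin n) → ↥(⋀[MvPolynomial (Fin n) R]^a L))
  (he : ∀ (s : Finset (Fin n)) (hs : s.card = a),
    e s = exteriorPower.ιMulti (MvPolynomial (Fin n) R) a (fun j => w (s.orderEmbOfFin hs j)))

omit [Module R L] [IsScalarTower R (MvPolynomial (Fin n) R) L] in
lemma cons_sum {κ : Type*} (t : Finset κ) (cf : κ → MvPolynomial (Fin n) R) (y : κ → L)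
    (V : Fin a → L) :
    exteriorPower.ιMulti (MvPolynomial (Fin n) R) (a + 1) (Fin.cons (∑ ν ∈ t, cf ν • y ν) V) =
      ∑ ν ∈ t, cf ν • exteriorPower.ιMulti (MvPolynomial (Fin n) R) (a + 1) (Fin.cons (y ν) V) := by
  classical
  induction t using Finset.induction_on with
  | empty =>
    rw [Finset.sum_empty, Finset.sum_empty]
    exact (exteriorPower.ιMulti (MvPolynomial (Fin n) R) (a + 1)).map_coord_zero 0 (by simp)
  | insert ν t hν ih =>
    rw [Finset.sum_insert hν, Finset.sum_insert hν, ← ih]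
    have e1 : (Fin.cons (cf ν • y ν + ∑ x ∈ t, cf x • y x) V : Fin (a + 1) → L) =
        Matrix.vecCons (cf ν • y ν + ∑ x ∈ t, cf x • y x) V := rfl
    rw [e1, AlternatingMap.map_vecCons_add, AlternatingMap.map_vecCons_smul]
    rfl

omit [Module R L] [IsScalarTower R (MvPolynomial (Fin n) R) L] in
include hL in
lemma ι_D_expand (b : MvPolynomial (Fin n) R) :
    ι (KaehlerDifferential.D R (MvPolynomial (Fin n) R) b) =
      ∑ ν, (pderiv ν b * eps r ν) • u ι dl ν := by
  rw [← (KaehlerDifferential.mvPolynomialBasis R (Fin n)).sum_repr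
    (KaehlerDifferential.D R (MvPolynomial (Fin n) R) b), map_sum]
  apply Finset.sum_congr rfl
  intro ν _
  rw [map_smul, KaehlerDifferential.mvPolynomialBasis_apply, ι_DX hr ι dl hL ν, smul_smul,
    KaehlerDifferential.mvPolynomialBasis_repr_apply]

include hL hlog in
lemma closed_mono (s : Fin a ↪o Fin n) (α : Fin n →₀ ℕ) (c : R)
    (hα : ∀ ν, (∀ i, s i ≠ ν) → p ∣ α ν) :
    d a (monomial α c • exteriorPower.ιMulti (MvPolynomial (Fin n) R) a (u ι dl ∘ s)) = 0 := by
  have h := hlog a (monomial α c) (u ι dl ∘ s) (fun k => u_adm ι dl _)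
  rw [h, ι_D_expand hr ι dl hL, cons_sum]
  apply Finset.sum_eq_zero
  intro ν _
  by_cases hν : ∃ i, s i = ν
  · obtain ⟨i, hi⟩ := hν
    rw [(exteriorPower.ιMulti (MvPolynomial (Fin n) R) (a + 1)).map_eq_zero_of_eq
      (Fin.cons (u ι dl ν) (u ι dl ∘ s)) (i := 0) (j := i.succ)
      (by rw [Fin.cons_zero, Fin.cons_succ, Function.comp_apply, hi])
      (Fin.succ_ne_zero i).symm, smul_zero]
  · have hν' : ∀ i, s i ≠ ν := fun i hi => hν ⟨i, hi⟩
    have h1 : X ν * pderiv ν (monomial α c) = (0 : MvPolynomial (Fin n) R) := by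
      rw [X_mul_pderiv_monomial, smul_monomial]
      have : α ν • c = 0 := by
        rw [← Nat.cast_smul_eq_nsmul R, (CharP.cast_eq_zero_iff R p (α ν)).mpr (hα ν hν'),
          zero_smul]
      rw [this, monomial_zero]
    have h2 : pderiv ν (monomial α c) = (0 : MvPolynomial (Fin n) R) :=
      IsReg.X ν _ (by rw [mul_comm]; exact h1)
    rw [h2, zero_mul, zero_smul]

omit [Module R L] [IsScalarTower R (MvPolynomial (Fin n) R) L] [Fact p.Prime] [CharP R p] in
include hw hw' he in
lemma e_eq' (S : Finset (Fin n)) (hS : S.card = a) :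
    e S = (monomial (∑ i, kap r p (S.orderEmbOfFin hS i)) 1 : MvPolynomial (Fin n) R) •
      exteriorPower.ιMulti (MvPolynomial (Fin n) R) a (u ι dl ∘ S.orderEmbOfFin hS) := by
  have h := e_eq hr ι dl p a w hw hw' e he (S.orderEmbOfFin hS)
  have hS' : Sof a (S.orderEmbOfFin hS) = S := Finset.map_orderEmbOfFin_univ S hS
  rw [hS'] at h
  exact h

omit [Module R L] [IsScalarTower R (MvPolynomial (Fin n) R) L] [Fact p.Prime] [CharP R p] in
lemma wcount_eq_zero (s : Fin a → Fin n) (ν : Fin n) (hν : ∀ i, s i ≠ ν) : wcount r s ν = 0 := by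
  unfold wcount
  apply Finset.sum_eq_zero
  intro i _
  rw [if_neg (fun hh => hν i hh.1)]

include hL hlog hw hw' he in
lemma closed_single (S : Finset (Fin n)) (hS : S.card = a) (f : MvPolynomial (Fin n) R) :
    d a (expand p f • e S) = 0 := by
  induction f using MvPolynomial.induction_on' with
  | monomial β c =>
    rw [e_eq' hr ι dl p a w hw hw' e he S hS, smul_smul, expand_monomial, monomial_mul, mul_one]
    apply closed_mono hr ι dl hL d hlog p a
    intro ν hν
    rw [Finsupp.add_apply, Finsupp.smul_apply, sum_kap_apply, wcount_eq_zero a _ ν hν, mul_zero,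
      add_zero, smul_eq_mul]
    exact dvd_mul_right p _
  | add f g hf hg => rw [map_add, add_smul, map_add, hf, hg, add_zero]

include hL hlog hw hw' he in
lemma closed_Good (y : ↥(⋀[MvPolynomial (Fin n) R]^a L)) (hy : Good p a e y) : d a y = 0 := by
  obtain ⟨g, rfl⟩ := hy
  rw [map_sum]
  apply Finset.sum_eq_zero
  intro S hS
  exact closed_single hr ι dl hL d hlog p a w hw hw' e he S (Finset.mem_powersetCard.mp hS).2 _

include hL hlog hw hw' he in
lemma QQ_single (S : Finset (Fin n)) (hS : S.card = a) (f : MvPolynomial (Fin n) R) :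
    QQ hr ι dl hL d p n a (expand p f • e S) = expand p f • e S := by
  induction f using MvPolynomial.induction_on' with
  | monomial β c =>
    rw [e_eq' hr ι dl p a w hw hw' e he S hS, smul_smul, expand_monomial, monomial_mul, mul_one]
    rw [QQ_eigen hr ι dl hL d p n a
      (fun ν => (p • β + ∑ i, kap r p (S.orderEmbOfFin hS i)) ν +
        wcount r (S.orderEmbOfFin hS) ν) _
      (fun ν => L_mono hr ι dl hL d hlog ν a _ c _), if_pos]
    intro ν _
    rw [Finsupp.add_apply, Finsupp.smul_apply, sum_kap_apply, smul_eq_mul]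
    have hp1 : 1 ≤ p := (Fact.out : p.Prime).one_le
    have : p * β ν + (p - 1) * wcount r (⇑(S.orderEmbOfFin hS)) ν +
        wcount r (⇑(S.orderEmbOfFin hS)) ν = p * (β ν + wcount r (⇑(S.orderEmbOfFin hS)) ν) := by
      obtain ⟨p', rfl⟩ : ∃ p', p = p' + 1 := ⟨p - 1, by omega⟩
      rw [Nat.add_sub_cancel]
      ring
    rw [this]
    exact dvd_mul_right p _
  | add f g hf hg => rw [map_add, add_smul, map_add, hf, hg]

end Groth.Agent.H16.LD
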