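import Groth.Agent.H16.LD8

/-!
# Independence of the classes `e_s` (helper16)
-/

set_option autoImplicit false

namespace Groth.Agent.H16.LD

open MvPolynomial Groth.Agent.H16.PL Groth.Agent.H16.PG

universe u

local notation "LL" => Groth.Agent.H16.PG.L

lemma IsReg.monomial {R : Type u} [CommRing R] {n : ℕ} (κ : Fin n →₀ ℕ) :
    IsReg (MvPolynomial.monomial κ (1 : R)) := by
  rw [MvPolynomial.monomial_eq, C_1, one_mul]
  exact IsReg.prod _ _ (fun ν _ => IsReg.pow (IsReg.X ν) _)

variable {R : Type u} [CommRing R] {n r : ℕ} (hr : r ≤ n)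
  {L : Type u} [AddCommGroup L] [Module (MvPolynomial (Fin n) R) L] [Module R L]
  [IsScalarTower R (MvPolynomial (Fin n) R) L]
  (ι : (Ω[MvPolynomial (Fin n) R⁄R]) →ₗ[MvPolynomial (Fin n) R] L) (dl : Fin r → L)
  (hL : LogDiff.IsLog (KaehlerDifferential.D R (MvPolynomial (Fin n) R))
    (fun i : Fin r => (MvPolynomial.X (Fin.castLE hr i) : MvPolynomial (Fin n) R)) ι dl)
  (d : ∀ q : ℕ, ↥(⋀[MvPolynomial (Fin n) R]^q L) →ₗ[R] ↥(⋀[MvPolynomial (Fin n) R]^(q + 1) L))
  (hd : DeRham.IsDiff (ι.compDer (KaehlerDifferential.D R (MvPolynomial (Fin n) R))) d)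
  (hlog : LogDiff.IsLogRule (KaehlerDifferential.D R (MvPolynomial (Fin n) R)) ι dl d)
  (p : ℕ) [Fact p.Prime] [CharP R p] (a : ℕ)
  (w : Fin n → L) (hw : ∀ i : Fin r, w (Fin.castLE hr i) = dl i)
  (hw' : ∀ ν : Fin n, r ≤ (ν : ℕ) → w ν = ι (((MvPolynomial.X ν : MvPolynomial (Fin n) R) ^ (p - 1)) •
    KaehlerDifferential.D R (MvPolynomial (Fin n) R) (MvPolynomial.X ν)))
  (e : Finset (Fin n) → ↥(⋀[MvPolynomial (Fin n) R]^a L))
  (he : ∀ (s : Finset (Fin n)) (hs : s.card = a),
    e s = exteriorPower.ιMulti (MvPolynomial (Fin n) R) a (fun j => w (s.orderEmbOfFin hs j)))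

/-- the standard classes in any degree -/
noncomputable def eStd (w : Fin n → L) (b : ℕ) (S : Finset (Fin n)) :
    ↥(⋀[MvPolynomial (Fin n) R]^b L) :=
  if hS : S.card = b then
    exteriorPower.ιMulti (MvPolynomial (Fin n) R) b (fun j => w (S.orderEmbOfFin hS j)) else 0

include hL hlog hw hw' he in
lemma QQ_Good (y : ↥(⋀[MvPolynomial (Fin n) R]^a L)) (hy : Good p a e y) :
    QQ hr ι dl hL d p n a y = y := by
  obtain ⟨g, rfl⟩ := hy
  rw [map_sum]
  apply Finset.sum_congr rfl
  intro S hS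
  exact QQ_single hr ι dl hL d hlog p a w hw hw' e he S (Finset.mem_powersetCard.mp hS).2 _

include hL hd hlog hw hw' he in
lemma Good_cob_zero (y : ↥(⋀[MvPolynomial (Fin n) R]^a L)) (hy : Good p a e y)
    (hc : y ∈ DeRham.coboundaries d a) : y = 0 := by
  have h1 : QQ hr ι dl hL d p n a y = y := QQ_Good hr ι dl hL d hlog p a w hw hw' e he y hy
  cases a with
  | zero => exact (Submodule.mem_bot R).mp hc
  | succ a' =>
    obtain ⟨θ, rfl⟩ := hc
    rw [← h1, ← d_QQ hr ι dl hL d hd]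
    exact closed_Good hr ι dl hL d hlog p a' w hw hw' (eStd w a') (fun s hs => dif_pos hs) _
      (Good_QQ hr ι dl hL d hlog p a' w hw hw' (eStd w a') (fun s hs => dif_pos hs) θ)

omit [Module R L] [IsScalarTower R (MvPolynomial (Fin n) R) L] [CharP R p] in
include hL hw hw' he in
lemma Good_indep (g : Finset (Fin n) → MvPolynomial (Fin n) R)
    (h0 : ∑ s ∈ Finset.powersetCard a Finset.univ, expand p (g s) • e s = 0) :
    ∀ s ∈ Finset.powersetCard a (Finset.univ : Finset (Fin n)), g s = 0 := by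
  intro S₀ hS₀
  have hS₀' : S₀.card = a := (Finset.mem_powersetCard.mp hS₀).2
  have hli := exteriorPower.ιMulti_family_linearIndependent_ofBasis
    (MvPolynomial (Fin n) R) a (bu hr ι dl hL)
  have hbu : (⇑(bu hr ι dl hL) : Fin n → L) = u ι dl := funext (bu_apply hr ι dl hL)
  have hsum : ∑ S : Set.powersetCard (Fin n) a,
      (expand p (g S.val) * monomial (∑ i, kap r p (S.val.orderEmbOfFin S.prop i)) 1) •
        exteriorPower.ιMulti_family (MvPolynomial (Fin n) R) a (bu hr ι dl hL) S = 0 := by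
    rw [← h0]
    rw [Finset.sum_subtype (Finset.powersetCard a (Finset.univ : Finset (Fin n)))
      (p := fun S => S ∈ Set.powersetCard (Fin n) a)
      (fun S => by
        rw [Finset.mem_powersetCard]
        exact ⟨fun h => h.2, fun h => ⟨Finset.subset_univ _, h⟩⟩)]
    apply Finset.sum_congr rfl
    intro S _
    rw [e_eq' hr ι dl p a w hw hw' e he S.val S.prop, smul_smul]
    unfold exteriorPower.ιMulti_family
    rw [hbu]
    rfl
  have h2 := Fintype.linearIndependent_iff.mp hli _ hsum ⟨S₀, hS₀'⟩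
  have h3 := IsReg.monomial _ _ h2
  exact MvPolynomial.expand_injective (Fact.out : p.Prime).pos (h3.trans (map_zero _).symm)

end Groth.Agent.H16.LD
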