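import Groth.Agent.Lib.Helper17.FF10
set_option autoImplicit false

namespace Groth.Agent.Helper16.LLS

open FunFld Module Groth.Agent.Helper17.FF

variable {k K : Type*} [Field k] [Field K] [Algebra k K]

/-- `dim V(-nP)` -/
noncomputable def fdim (V : Submodule k K) (D : Divisor k K) (P : Place k K) (n : ℤ) : ℕ :=
  finrank k ↥(V ⊓ L (D - Finsupp.single P n))

theorem deg_eq_one [IsAlgClosed k] (hK : IsFunctionField k K) (P : Place k K) : P.deg = 1 := by
  have hfin : @Module.Finite k (IsLocalRing.ResidueField P.O) _ _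
      (@Algebra.toModule _ _ _ _ (Place.algRes P)) := residue_finite hK P
  have hint : @Algebra.IsIntegral k (IsLocalRing.ResidueField P.O) _ _ (Place.algRes P) :=
    @Algebra.IsIntegral.of_finite k _ _ _ (Place.algRes P) hfin
  have hbij := @IsAlgClosed.algebraMap_bijective_of_isIntegral k _ _ _ _ _ (Place.algRes P) hint
  let e : k ≃ₗ[k] IsLocalRing.ResidueField P.O :=
    LinearEquiv.ofBijective (@Algebra.linearMap k _ _ _ (Place.algRes P)) hbij
  unfold Place.deg
  rw [← e.finrank_eq, finrank_self]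

theorem inf_step {W W' V : Submodule k K} [FiniteDimensional k W'] (h : W ≤ W')
    (hd : finrank k W' ≤ finrank k W + 1) :
    finrank k ↥(V ⊓ W') ≤ finrank k ↥(V ⊓ W) + 1 := by
  have hW : FiniteDimensional k W := Submodule.finiteDimensional_of_le h
  have hX : FiniteDimensional k ↥(V ⊓ W') := Submodule.finiteDimensional_of_le inf_le_right
  have e : (V ⊓ W') ⊓ W = V ⊓ W := by
    rw [inf_assoc, inf_eq_right.mpr h]
  have h1 := Submodule.finrank_sup_add_finrank_inf_eq (V ⊓ W') W
  rw [e] at h1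
  have h2 : finrank k ↥((V ⊓ W') ⊔ W) ≤ finrank k W' :=
    Submodule.finrank_mono (sup_le inf_le_right h)
  omega

theorem L_inf_le {D : Divisor k K} {P Q : Place k K} (hPQ : P ≠ Q) (a b : ℤ) :
    L (D - Finsupp.single P a) ⊓ L (D - Finsupp.single Q b) ≤
      L (D - Finsupp.single P a - Finsupp.single Q b) := by
  classical
  intro x hx R
  obtain ⟨h1, h2⟩ := hx
  by_cases hR : R = Q
  · subst hR
    have := h2 R
    simpa [Finsupp.sub_apply, Finsupp.single_apply, hPQ] using this
  · have := h1 R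
    simpa [Finsupp.sub_apply, Finsupp.single_apply, hR, Ne.symm hR] using this

section basic

variable (hK : IsFunctionField k K) {V : Submodule k K} {D : Divisor k K} (hV : V ≤ L D)
include hK hV

theorem finite_V : FiniteDimensional k V :=
  have := L_finite hK D
  Submodule.finiteDimensional_of_le hV

omit hK in
theorem fdim_zero (P : Place k K) : fdim V D P 0 = finrank k V := by
  unfold fdim
  rw [Finsupp.single_zero, sub_zero, inf_eq_left.mpr hV]

theorem fdim_anti (P : Place k K) {n m : ℤ} (h : n ≤ m) : fdim V D P m ≤ fdim V D P n := by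
  have := finite_V hK hV
  unfold fdim
  apply Submodule.finrank_mono
  apply inf_le_inf_left
  apply L_mono
  intro R
  rw [Finsupp.sub_apply, Finsupp.sub_apply]
  classical
  rw [Finsupp.single_apply, Finsupp.single_apply]
  split_ifs <;> omega

theorem fdim_le (P : Place k K) (n : ℤ) : fdim V D P n ≤ finrank k V := by
  have := finite_V hK hV
  unfold fdim
  exact Submodule.finrank_mono inf_le_left

omit hV in
theorem fdim_step [IsAlgClosed k] (P : Place k K) (n : ℤ) :
    fdim V D P n ≤ fdim V D P (n + 1) + 1 := by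
  unfold fdim
  have hfin := L_finite hK (D - Finsupp.single P (n + 1))
  obtain ⟨h1, h2⟩ := L_step hK (D - Finsupp.single P (n + 1)) P hfin
  have e : D - Finsupp.single P (n + 1) + Finsupp.single P 1 = D - Finsupp.single P n := by
    rw [Finsupp.single_add]; abel
  rw [e, deg_eq_one hK P] at h2
  rw [e] at h1
  refine inf_step (L_mono ?_) h2
  rw [← e]
  intro R
  rw [Finsupp.add_apply]
  classical
  rw [Finsupp.single_apply]
  split_ifs <;> omega

omit hV in
theorem fdim_eq_zero [IsAlgClosed k] (P : Place k K) {n : ℤ} (h : D.deg < n) :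
    fdim V D P n = 0 := by
  unfold fdim
  have : L (D - Finsupp.single P n) = ⊥ := by
    apply L_eq_bot_of_deg_neg hK
    rw [deg_sub, deg_single, deg_eq_one hK P]
    push_cast
    linarith
  rw [this, inf_bot_eq, finrank_bot]

theorem two_point [IsAlgClosed k] {P Q : Place k K} (hPQ : P ≠ Q) {a b : ℤ}
    (hab : D.deg < a + b) : fdim V D P a + fdim V D Q b ≤ finrank k V := by
  have hfin := finite_V hK hV
  unfold fdim
  have h1 := Submodule.finrank_sup_add_finrank_inf_eq (V ⊓ L (D - Finsupp.single P a))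
    (V ⊓ L (D - Finsupp.single Q b))
  have h2 : (V ⊓ L (D - Finsupp.single P a)) ⊓ (V ⊓ L (D - Finsupp.single Q b)) = ⊥ := by
    rw [eq_bot_iff]
    have h3 : L (D - Finsupp.single P a - Finsupp.single Q b) = ⊥ := by
      apply L_eq_bot_of_deg_neg hK
      rw [deg_sub, deg_sub, deg_single, deg_single, deg_eq_one hK P, deg_eq_one hK Q]
      push_cast
      linarith
    rw [← h3]
    exact le_trans (inf_le_inf inf_le_right inf_le_right) (L_inf_le hPQ a b)
  rw [h2, finrank_bot, add_zero] at h1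
  have h4 : finrank k ↥((V ⊓ L (D - Finsupp.single P a)) ⊔ (V ⊓ L (D - Finsupp.single Q b))) ≤
      finrank k V := Submodule.finrank_mono (sup_le inf_le_left inf_le_left)
  omega

omit hK hV in
theorem exists_common (hfin : FiniteDimensional k V) {P Q : Place k K} {a b : ℤ}
    (hab : finrank k V < fdim V D P a + fdim V D Q b) :
    ∃ σ : K, σ ≠ 0 ∧ σ ∈ V ∧ σ ∈ L (D - Finsupp.single P a) ∧ σ ∈ L (D - Finsupp.single Q b) := by
  unfold fdim at hab
  have h1 := Submodule.finrank_sup_add_finrank_inf_eq (V ⊓ L (D - Finsupp.single P a))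
    (V ⊓ L (D - Finsupp.single Q b))
  have h4 : finrank k ↥((V ⊓ L (D - Finsupp.single P a)) ⊔ (V ⊓ L (D - Finsupp.single Q b))) ≤
      finrank k V := Submodule.finrank_mono (sup_le inf_le_left inf_le_left)
  have h5 : 0 < finrank k
      ↥((V ⊓ L (D - Finsupp.single P a)) ⊓ (V ⊓ L (D - Finsupp.single Q b))) := by omega
  have h6 : (V ⊓ L (D - Finsupp.single P a)) ⊓ (V ⊓ L (D - Finsupp.single Q b)) ≠ ⊥ := by
    intro h
    rw [h, finrank_bot] at h5
    exact lt_irrefl _ h5
  obtain ⟨σ, hσ, hσ0⟩ := Submodule.exists_mem_ne_zero_of_ne_bot h6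
  exact ⟨σ, hσ0, hσ.1.1, hσ.1.2, hσ.2.2⟩

end basic

section sums

/-- the sum `∑_{n=1}^{d} g n` -/
def wsum (g : ℤ → ℕ) (d : ℕ) : ℕ := ∑ n ∈ Finset.range d, g ((n : ℤ) + 1)

theorem wsum_reflect (h : ℤ → ℕ) (d : ℕ) :
    wsum h d = ∑ n ∈ Finset.range d, h ((d : ℤ) + 1 - ((n : ℤ) + 1)) := by
  unfold wsum
  rw [← Finset.sum_range_reflect]
  apply Finset.sum_congr rfl
  intro j hj
  rw [Finset.mem_range] at hj
  congr 1
  obtain ⟨m, rfl⟩ : ∃ m, d = j + 1 + m := ⟨d - (j + 1), by omega⟩
  have : j + 1 + m - 1 - j = m := by omega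
  rw [this]
  push_cast
  ring

theorem wsum_add_le (g h : ℤ → ℕ) (d c : ℕ)
    (H : ∀ m : ℕ, m ≤ d + 1 → g m + h ((d : ℤ) + 1 - m) ≤ c) :
    wsum g d + wsum h d ≤ c * d := by
  rw [wsum_reflect h d]
  unfold wsum
  rw [← Finset.sum_add_distrib]
  calc _ ≤ ∑ _n ∈ Finset.range d, c := by
        apply Finset.sum_le_sum
        intro j hj
        rw [Finset.mem_range] at hj
        have := H (j + 1) (by omega)
        push_cast at this
        exact this
    _ = c * d := by rw [Finset.sum_const, Finset.card_range, smul_eq_mul, mul_comm]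

theorem wsum_add_eq (g h : ℤ → ℕ) (d c : ℕ)
    (H : ∀ m : ℕ, m ≤ d + 1 → g m + h ((d : ℤ) + 1 - m) = c) :
    wsum g d + wsum h d = c * d := by
  rw [wsum_reflect h d]
  unfold wsum
  rw [← Finset.sum_add_distrib]
  calc _ = ∑ _n ∈ Finset.range d, c := by
        apply Finset.sum_congr rfl
        intro j hj
        rw [Finset.mem_range] at hj
        have := H (j + 1) (by omega)
        push_cast at this
        exact this
    _ = c * d := by rw [Finset.sum_const, Finset.card_range, smul_eq_mul, mul_comm]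

end sums

theorem chain_arith (n d r c : ℕ) (WA WB : ℕ → ℕ)
    (h1 : ∀ m < n, WB m + WA (m + 1) = (r + 1) * d)
    (h2 : ∀ m, 0 < m → m < n → WA m + WB m ≤ (r + 1) * d)
    (hc : WB 0 + c + r * (r + 1) ≤ (r + 1) * d + r * (r + 1) / 2) :
    ∀ m, 0 < m → m ≤ n → c + r * (r + 1) / 2 ≤ WA m := by
  intro m
  induction m with
  | zero => intro h; exact absurd h (lt_irrefl 0)
  | succ m ih =>
    intro _ hm
    rcases Nat.eq_zero_or_pos m with rfl | hm0
    · have := h1 0 (by omega)
      generalize r * (r + 1) = x at *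
      generalize (r + 1) * d = y at *
      omega
    · have e1 := h1 m (by omega)
      have e2 := h2 m hm0 (by omega)
      have e3 := ih hm0 (by omega)
      generalize r * (r + 1) = x at *
      generalize (r + 1) * d = y at *
      omega



open Classical in
theorem count_lemma (fP fQ : ℤ → ℕ) (c d : ℕ)
    (hP0 : fP 0 = c) (hQ0 : fQ 0 = c) (hQend : fQ ((d : ℤ) + 1) = 0)
    (hQstep : ∀ n : ℤ, fQ n ≤ fQ (n + 1) + 1) (hQanti : ∀ n : ℤ, fQ (n + 1) ≤ fQ n)
    (htwo : ∀ n : ℕ, n ≤ d + 1 → fP n + fQ ((d : ℤ) + 1 - n) ≤ c) :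
    wsum fP d + wsum fQ d + c ≤ c * d +
      ((Finset.range (d + 1)).filter (fun n : ℕ => c + 1 ≤ fP n + fQ ((d : ℤ) - n))).card := by
  set S := (Finset.range (d + 1)).filter (fun n : ℕ => c + 1 ≤ fP n + fQ ((d : ℤ) - n)) with hS
  let u : ℕ → ℕ := fun n => fQ ((d : ℤ) + 1 - n)
  let g : ℕ → ℕ := fun n => c - (fP n + fQ ((d : ℤ) + 1 - n))
  have hu : Monotone u := by
    apply monotone_nat_of_le_succ
    intro n
    have := hQanti ((d : ℤ) + 1 - (n + 1 : ℕ))
    simp only [u]
    have e : (d : ℤ) + 1 - ((n + 1 : ℕ) : ℤ) + 1 = (d : ℤ) + 1 - n := by push_cast; ring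
    rw [e] at this
    exact this
  have htel : ∑ n ∈ Finset.range (d + 1), (u (n + 1) - u n) = c := by
    rw [Finset.sum_range_tsub hu]
    simp only [u]
    have e1 : (d : ℤ) + 1 - ((d + 1 : ℕ) : ℤ) = 0 := by push_cast; ring
    have e2 : (d : ℤ) + 1 - ((0 : ℕ) : ℤ) = (d : ℤ) + 1 := by push_cast; ring
    rw [e1, e2, hQ0, hQend]
    rfl
  have hpt : ∀ n ∈ Finset.range (d + 1), u (n + 1) - u n ≤ (if n ∈ S then 1 else 0) + g n := by
    intro n hn
    rw [Finset.mem_range] at hn
    have h1 := hQstep ((d : ℤ) + 1 - (n + 1 : ℕ))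
    have e : (d : ℤ) + 1 - ((n + 1 : ℕ) : ℤ) + 1 = (d : ℤ) + 1 - n := by push_cast; ring
    have e' : (d : ℤ) + 1 - ((n + 1 : ℕ) : ℤ) = (d : ℤ) - n := by push_cast; ring
    rw [e, e'] at h1
    have h2 := htwo n (by omega)
    simp only [u, g]
    rw [e']
    by_cases hnS : n ∈ S
    · rw [if_pos hnS]; omega
    · rw [if_neg hnS]
      have h3 : ¬ (c + 1 ≤ fP n + fQ ((d : ℤ) - n)) := fun h =>
        hnS (by rw [hS, Finset.mem_filter, Finset.mem_range]; exact ⟨hn, h⟩)
      omega
  have hsum := Finset.sum_le_sum hpt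
  rw [htel, Finset.sum_add_distrib, Finset.sum_ite_mem, Finset.sum_const, smul_eq_mul, mul_one] at hsum
  have hSsub : Finset.range (d + 1) ∩ S = S := by
    rw [Finset.inter_eq_right]
    exact Finset.filter_subset _ _
  rw [hSsub, Finset.sum_range_succ'] at hsum
  have hg0 : g 0 = 0 := by
    simp only [g]
    have : (d : ℤ) + 1 - ((0 : ℕ) : ℤ) = (d : ℤ) + 1 := by push_cast; ring
    rw [this, hQend]
    simp [hP0]
  rw [hg0, add_zero] at hsum
  have htot : wsum fP d + wsum fQ d + ∑ j ∈ Finset.range d, g (j + 1) = c * d := by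
    rw [wsum_reflect fQ d]
    unfold wsum
    rw [← Finset.sum_add_distrib, ← Finset.sum_add_distrib]
    calc _ = ∑ _n ∈ Finset.range d, c := by
          apply Finset.sum_congr rfl
          intro j hj
          rw [Finset.mem_range] at hj
          have := htwo (j + 1) (by omega)
          simp only [g]
          push_cast at this ⊢
          omega
      _ = c * d := by rw [Finset.sum_const, Finset.card_range, smul_eq_mul, mul_comm]
  omega


end Groth.Agent.Helper16.LLS
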