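import Groth.Agent.H16.LLS9
set_option autoImplicit false
set_option linter.unusedSimpArgs false

namespace Groth.Agent.Helper16.LLS

theorem chain_cusp (n r : ℕ) (FA FB : ℕ → ℕ) (h1 : ∀ m < n, FB m + FA (m + 1) = r + 1)
    (h2 : ∀ m, 0 < m → m < n → FA m + FB m ≤ r + 1) (h3 : FA n ≤ 1) :
    ∀ m < n, r ≤ FB m := by
  have C : ∀ j m, m + j = n → 0 < m → FA m ≤ 1 := by
    intro j
    induction j with
    | zero =>
      intro m hm _
      have : m = n := by omega
      rw [this]; exact h3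
    | succ j ih =>
      intro m hm hm0
      have hmn : m < n := by omega
      have i1 := ih (m + 1) (by omega) (by omega)
      have i2 := h1 m hmn
      have i3 := h2 m hm0 hmn
      omega
  intro m hm
  have i1 := C (n - (m + 1)) (m + 1) (by omega) (by omega)
  have i2 := h1 m hm
  omega

open FunFld Module Groth.Agent.Helper17.FF

theorem cusp_at_B {k : Type*} [Field k] [IsAlgClosed k]
    (n : ℕ) (U : Fin (n + 1) → Type*) [∀ l, Field (U l)] [∀ l, Algebra k (U l)]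
    (hU : ∀ l, IsFunctionField k (U l))
    (d r : ℕ) (D : ∀ l, Divisor k (U l)) (hD : ∀ l, (D l).deg = d)
    (V : ∀ l, Submodule k (U l)) (hV : ∀ l, V l ≤ L (D l))
    (hVr : ∀ l, finrank k ↥(V l) = r + 1)
    (A B : ∀ l, Place k (U l))
    (hAB : ∀ l : Fin (n + 1), 0 < (l : ℕ) → (l : ℕ) < n → A l ≠ B l)
    (hcomp : ∀ (l : Fin n) (m : ℕ), m ≤ d + 1 →
      fdim (V l.castSucc) (D l.castSucc) (B l.castSucc) (m : ℤ) +
        fdim (V l.succ) (D l.succ) (A l.succ) ((d : ℤ) + 1 - m) = r + 1)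
    (hpos : 0 < genus k (U (Fin.last n)))
    (l : Fin (n + 1)) (hln : (l : ℕ) < n) : r ≤ fdim (V l) (D l) (B l) 2 := by
  rcases Nat.eq_zero_or_pos d with hd0 | hd
  · have := r_le_d (hU l) (hD l) (hV l) (hVr l) (B l)
    omega
  let FA : ℕ → ℕ := fun m =>
    if h : m < n + 1 then fdim (V ⟨m, h⟩) (D ⟨m, h⟩) (A ⟨m, h⟩) ((d : ℤ) - 1) else 0
  let FB : ℕ → ℕ := fun m =>
    if h : m < n + 1 then fdim (V ⟨m, h⟩) (D ⟨m, h⟩) (B ⟨m, h⟩) 2 else 0
  have e : (d : ℤ) + 1 - ((2 : ℕ) : ℤ) = (d : ℤ) - 1 := by push_cast; ring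
  have h1 : ∀ m < n, FB m + FA (m + 1) = r + 1 := by
    intro m hm
    simp only [FA, FB, dif_pos (by omega : m < n + 1), dif_pos (by omega : m + 1 < n + 1)]
    have := hcomp ⟨m, hm⟩ 2 (by omega)
    rw [e] at this
    exact this
  have h2 : ∀ m, 0 < m → m < n → FA m + FB m ≤ r + 1 := by
    intro m hm0 hmn
    simp only [FA, FB, dif_pos (by omega : m < n + 1)]
    rw [← hVr ⟨m, by omega⟩]
    exact two_point (hU _) (hV _) (hAB ⟨m, by omega⟩ hm0 hmn) (by rw [hD]; linarith)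
  have h3 : FA n ≤ 1 := by
    simp only [FA, dif_pos (Nat.lt_succ_self n)]
    exact pos_genus_bound (hU _) hpos hd (hD _) (hV _) (A _)
  have := chain_cusp n r FA FB h1 h2 h3 l.val hln
  simp only [FB, dif_pos l.isLt] at this
  exact this

end Groth.Agent.Helper16.LLS
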