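import Groth.Agent.H16.LLS7
set_option autoImplicit false
set_option linter.unusedSimpArgs false

namespace Groth.Agent.Helper16.LLS

theorem chain_T_rev (N M r h : ℕ) (a b t : ℕ → ℕ)
    (hc : ∀ i < N, b i + a (i + 1) = M)
    (hin : ∀ i, 0 < i → i < N → a i + b i + r * t i ≤ M)
    (hlast : a N + r * t N + h ≤ M) :
    ∀ m, m < N → r * (∑ j ∈ Finset.range (N - m), t (N - j)) + h ≤ b m := by
  intro m hm
  have := chain_T N M r h (fun j => b (N - j)) (fun j => a (N - j)) (fun j => t (N - j))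
    (fun i hi => by
      have := hc (N - (i + 1)) (by omega)
      have e : N - (i + 1) + 1 = N - i := by omega
      rw [e] at this
      omega)
    (fun i hi0 hiN => by
      have := hin (N - i) (by omega) (by omega)
      omega)
    (by simpa using hlast) (N - m) (by omega) (by omega)
  have e : N - (N - m) = m := by omega
  simp only [e] at this
  exact this

theorem sum_split (N i : ℕ) (hi : i ≤ N) (t : ℕ → ℕ) :
    ∑ j ∈ Finset.range (N + 1), t j =
      ∑ j ∈ Finset.range i, t j + t i + ∑ j ∈ Finset.range (N - i), t (N - j) := by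
  rw [← Finset.sum_range_add_sum_Ico t (by omega : i + 1 ≤ N + 1), Finset.sum_range_succ,
    Finset.sum_Ico_eq_sum_range]
  congr 1
  have e : N + 1 - (i + 1) = N - i := by omega
  rw [e, ← Finset.sum_range_reflect]
  apply Finset.sum_congr rfl
  intro j hj
  rw [Finset.mem_range] at hj
  congr 1
  omega

open FunFld Module Groth.Agent.Helper17.FF

section backbone

variable {k : Type*} [Field k] {N : ℕ} {Z : Fin (N + 1) → Type*} [∀ i, Field (Z i)]
  [∀ i, Algebra k (Z i)]
variable [IsAlgClosed k] [CharZero k]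
  (hZ : ∀ i, IsFunctionField k (Z i)) (hrat : ∀ i, genus k (Z i) = 0)
  (d r : ℕ) (D : ∀ i, Divisor k (Z i)) (hD : ∀ i, (D i).deg = d)
  (V : ∀ i, Submodule k (Z i)) (hV : ∀ i, V i ≤ L (D i))
  (hVr : ∀ i, finrank k ↥(V i) = r + 1)
  (A B : ∀ i, Place k (Z i))
  (hAB : ∀ i : Fin (N + 1), 0 < (i : ℕ) → (i : ℕ) < N → A i ≠ B i)
  (hcomp : ∀ (l : Fin N) (m : ℕ), m ≤ d + 1 →
    fdim (V l.castSucc) (D l.castSucc) (B l.castSucc) (m : ℤ) +
      fdim (V l.succ) (D l.succ) (A l.succ) ((d : ℤ) + 1 - m) = r + 1)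
  (T : Finset (Fin (N + 1))) (Q : ∀ i, Place k (Z i))
  (hQA : ∀ i ∈ T, 0 < (i : ℕ) → Q i ≠ A i) (hQB : ∀ i ∈ T, (i : ℕ) < N → Q i ≠ B i)
  (hcusp : ∀ i ∈ T, r ≤ fdim (V i) (D i) (Q i) 2)

include hZ hrat hD hV hVr hAB hcomp hQA hQB hcusp in
theorem backbone_inner (i : Fin (N + 1)) (hi0 : 0 < (i : ℕ)) (hiN : (i : ℕ) < N) :
    r * (T.erase i).card + r * (r + 1) ≤
      wsum (fdim (V i) (D i) (A i)) d + wsum (fdim (V i) (D i) (B i)) d := by
  classical
  have hN : 0 < N := by omega
  have hfirst := bb_end hZ d r D hD V hV hVr T Q hcusp B (0 : Fin (N + 1))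
    (fun h => hQB 0 h (by simpa using hN))
  have hlast := bb_end hZ d r D hD V hV hVr T Q hcusp A (Fin.last N)
    (fun h => hQA _ h (by simpa using hN))
  simp only [Fin.val_zero, Fin.val_last] at hfirst hlast
  have hcompat := bb_compat d r D V A B hcomp
  have hinner := bb_inner hZ hrat d r D hD V hV hVr A B hAB T Q hQA hQB hcusp
  have hf := chain_T N (2 * ((r + 1) * d)) (2 * r) (r * (r + 1))
    (seqW V D A d) (seqW V D B d) (seqT T) hcompat hinner hfirst i.val hi0 (by omega)
  have hb := chain_T_rev N (2 * ((r + 1) * d)) (2 * r) (r * (r + 1))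
    (seqW V D A d) (seqW V D B d) (seqT T) hcompat hinner hlast i.val hiN
  rw [seqW_val] at hf hb
  have hsplit := sum_split N i.val (by omega) (seqT T)
  rw [← card_eq_sum_seqT] at hsplit
  have hcard : (T.erase i).card + seqT T i.val = T.card := by
    rw [seqT_val]
    by_cases hT : i ∈ T
    · rw [if_pos hT, Finset.card_erase_of_mem hT]
      have := Finset.card_pos.mpr ⟨i, hT⟩
      omega
    · rw [if_neg hT, Finset.erase_eq_of_notMem hT]
      rfl
  have hE : (T.erase i).card = ∑ j ∈ Finset.range i.val, seqT T j +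
      ∑ j ∈ Finset.range (N - i.val), seqT T (N - j) := by omega
  rw [hE, mul_add]
  rw [mul_assoc] at hf hb
  omega

end backbone

end Groth.Agent.Helper16.LLS
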