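import Groth.Agent.H16.Plucker
import Groth.Agent.H16.LLS8
set_option autoImplicit false
set_option linter.unusedSimpArgs false

namespace Groth.Agent.Helper16.LLS

open FunFld Module Groth.Agent.Helper17.FF

section pl
variable {k K : Type*} [Field k] [Field K] [Algebra k K]

/-- Plücker inequality for a nonempty list of distinct places. -/
theorem plucker_list [IsAlgClosed k] [CharZero k] (hK : IsFunctionField k K)
    (hg0 : genus k K = 0) {d r : ℕ} {D : Divisor k K} (hD : D.deg = d) {V : Submodule k K}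
    (hV : V ≤ L D) (hVr : finrank k V = r + 1) (X : Place k K) (l : List (Place k K))
    (hl : (X :: l).Nodup) :
    wsum (fdim V D X) d + (l.map (fun P => wsum (fdim V D P) d)).sum + r * (r + 1) ≤
      (r + 1) * d + (l.length + 1) * (r * (r + 1) / 2) := by
  classical
  have hev : 2 * (r * (r + 1) / 2) = r * (r + 1) :=
    Nat.two_mul_div_two_of_even (Nat.even_mul_succ_self r)
  cases l with
  | nil =>
    have := wsum_fdim_upper hK hD hV hVr X
    simp only [List.map_nil, List.sum_nil, List.length_nil]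
    omega
  | cons Y rest =>
    rw [List.nodup_cons, List.mem_cons, not_or, List.nodup_cons] at hl
    obtain ⟨⟨hXY, hXr⟩, hYr, hrest⟩ := hl
    have := plucker hK hg0 hD hV hVr hXY rest.toFinset
      (by rw [List.mem_toFinset]; exact hXr) (by rw [List.mem_toFinset]; exact hYr)
    rw [List.sum_toFinset _ hrest, List.toFinset_card_of_nodup hrest] at this
    simp only [List.map_cons, List.sum_cons, List.length_cons]
    have e : (rest.length + 1 + 1) * (r * (r + 1) / 2) =
        rest.length * (r * (r + 1) / 2) + 2 * (r * (r + 1) / 2) := by ring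
    rw [e]
    omega

end pl

section backbone

variable {k : Type*} [Field k] {N : ℕ} {Z : Fin (N + 1) → Type*} [∀ i, Field (Z i)]
  [∀ i, Algebra k (Z i)]
variable [IsAlgClosed k] [CharZero k]
  (hZ : ∀ i, IsFunctionField k (Z i)) (hrat : ∀ i, genus k (Z i) = 0)
  (d r : ℕ) (D : ∀ i, Divisor k (Z i)) (hD : ∀ i, (D i).deg = d)
  (V : ∀ i, Submodule k (Z i)) (hV : ∀ i, V i ≤ L (D i))
  (hVr : ∀ i, finrank k ↥(V i) = r + 1)
  (A B : ∀ i, Place k (Z i))
  (hAB : ∀ i : Fin (N + 1), 0 < (i : ℕ) → (i : ℕ) < N → A i ≠ B i)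
  (hcomp : ∀ (l : Fin N) (m : ℕ), m ≤ d + 1 →
    fdim (V l.castSucc) (D l.castSucc) (B l.castSucc) (m : ℤ) +
      fdim (V l.succ) (D l.succ) (A l.succ) ((d : ℤ) + 1 - m) = r + 1)
  (T : Finset (Fin (N + 1))) (Q : ∀ i, Place k (Z i))
  (hQA : ∀ i ∈ T, 0 < (i : ℕ) → Q i ≠ A i) (hQB : ∀ i ∈ T, (i : ℕ) < N → Q i ≠ B i)
  (hcusp : ∀ i ∈ T, r ≤ fdim (V i) (D i) (Q i) 2)

include hZ hrat hD hV hVr hAB hcomp hQA hQB hcusp in
/-- lower bounds for the weights at the two nodes of any backbone component -/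
theorem backbone_bounds (i : Fin (N + 1)) :
    ∃ S1 S2 : ℕ, T.card = S1 + (if i ∈ T then 1 else 0) + S2 ∧
      ((i : ℕ) = 0 → S1 = 0) ∧ ((i : ℕ) = N → S2 = 0) ∧
      (0 < (i : ℕ) → r * S1 + r * (r + 1) / 2 ≤ wsum (fdim (V i) (D i) (A i)) d) ∧
      ((i : ℕ) < N → r * S2 + r * (r + 1) / 2 ≤ wsum (fdim (V i) (D i) (B i)) d) := by
  classical
  have hev : 2 * (r * (r + 1) / 2) = r * (r + 1) :=
    Nat.two_mul_div_two_of_even (Nat.even_mul_succ_self r)
  refine ⟨∑ j ∈ Finset.range i.val, seqT T j,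
    ∑ j ∈ Finset.range (N - i.val), seqT T (N - j), ?_, ?_, ?_, ?_, ?_⟩
  · have hsplit := sum_split N i.val (by omega) (seqT T)
    rw [← card_eq_sum_seqT, seqT_val] at hsplit
    exact hsplit
  · intro h
    rw [h]
    simp
  · intro h
    rw [h]
    simp
  · intro hi0
    have hN : 0 < N := by omega
    have hfirst := bb_end hZ d r D hD V hV hVr T Q hcusp B (0 : Fin (N + 1))
      (fun h => hQB 0 h (by simpa using hN))
    simp only [Fin.val_zero] at hfirst
    have hcompat := bb_compat d r D V A B hcomp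
    have hinner := bb_inner hZ hrat d r D hD V hV hVr A B hAB T Q hQA hQB hcusp
    have hf := chain_T N (2 * ((r + 1) * d)) (2 * r) (r * (r + 1))
      (seqW V D A d) (seqW V D B d) (seqT T) hcompat hinner hfirst i.val hi0 (by omega)
    rw [seqW_val, mul_assoc] at hf
    omega
  · intro hiN
    have hN : 0 < N := by omega
    have hlast := bb_end hZ d r D hD V hV hVr T Q hcusp A (Fin.last N)
      (fun h => hQA _ h (by simpa using hN))
    simp only [Fin.val_last] at hlast
    have hcompat := bb_compat d r D V A B hcomp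
    have hinner := bb_inner hZ hrat d r D hD V hV hVr A B hAB T Q hQA hQB hcusp
    have hb := chain_T_rev N (2 * ((r + 1) * d)) (2 * r) (r * (r + 1))
      (seqW V D A d) (seqW V D B d) (seqT T) hcompat hinner hlast i.val hiN
    rw [seqW_val, mul_assoc] at hb
    omega

end backbone

end Groth.Agent.Helper16.LLS
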