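import Groth.Agent.H16.LLS
set_option autoImplicit false

namespace Groth.Agent.Helper16.LLS

open FunFld Module Groth.Agent.Helper17.FF

variable {k K : Type*} [Field k] [Field K] [Algebra k K]

theorem eq_zero_of_nonneg_of_deg_eq_zero (hK : IsFunctionField k K) {E : Divisor k K}
    (h0 : 0 ≤ E) (hdeg : E.deg = 0) : E = 0 := by
  unfold Divisor.deg Finsupp.sum at hdeg
  have h1 := (Finset.sum_eq_zero_iff_of_nonneg (fun P _ =>
    mul_nonneg (h0 P) (Nat.cast_nonneg _))).mp hdeg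
  ext P
  by_cases hP : P ∈ E.support
  · have h2 := h1 P hP
    have h3 : (0 : ℤ) < (P.deg : ℤ) := by exact_mod_cast deg_pos hK P
    rcases mul_eq_zero.mp h2 with h | h
    · exact h
    · omega
  · exact Finsupp.notMem_support_iff.mp hP

theorem div_div (hK : IsFunctionField k K) {x y : K} (hx : x ≠ 0) (hy : y ≠ 0) :
    FunFld.div k (x / y) = FunFld.div k x - FunFld.div k y := by
  ext P
  rw [Finsupp.sub_apply, div_apply hK, div_apply hK, div_apply hK, ord_div P hx hy]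

theorem div_eq_of_mem (hK : IsFunctionField k K) {D : Divisor k K} {σ : K} (hσ : σ ≠ 0)
    {E : Divisor k K} (hmem : σ ∈ L (D - E)) (hdeg : D.deg = E.deg) :
    FunFld.div k σ = E - D := by
  have h1 : 0 ≤ FunFld.div k σ + (D - E) := by
    intro P
    rw [Finsupp.zero_apply, Finsupp.add_apply, div_apply hK]
    have := (val_le_exp_iff P hσ ((D - E) P)).1 (hmem P)
    linarith
  have h2 : (FunFld.div k σ + (D - E)).deg = 0 := by
    rw [deg_add, deg_div hK, deg_sub, hdeg]; ring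
  have h3 := eq_zero_of_nonneg_of_deg_eq_zero hK h1 h2
  have : FunFld.div k σ = -(D - E) := eq_neg_of_add_eq_zero_left h3
  rw [this]; abel

theorem exists_section [IsAlgClosed k] (hK : IsFunctionField k K) {d : ℕ} {D : Divisor k K}
    (hD : D.deg = d) {V : Submodule k K} (hV : V ≤ L D) {P Q : Place k K} (hPQ : P ≠ Q) {n : ℕ}
    (hn : n ≤ d) (h : finrank k V < fdim V D P n + fdim V D Q ((d : ℤ) - n)) :
    ∃ σ : K, σ ≠ 0 ∧ σ ∈ V ∧
      FunFld.div k σ = Finsupp.single P (n : ℤ) + Finsupp.single Q ((d : ℤ) - n) - D := by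
  obtain ⟨σ, hσ0, hσV, h1, h2⟩ := exists_common (finite_V hK hV) h
  refine ⟨σ, hσ0, hσV, ?_⟩
  apply div_eq_of_mem hK hσ0
  · have := L_inf_le hPQ (n : ℤ) ((d : ℤ) - n) ⟨h1, h2⟩
    rwa [sub_sub] at this
  · rw [deg_add, deg_single, deg_single, deg_eq_one hK P, deg_eq_one hK Q, hD]
    push_cast
    ring

theorem torsion_aux [IsAlgClosed k] (hK : IsFunctionField k K) {d : ℕ} {D : Divisor k K}
    (hD : D.deg = d) {V : Submodule k K} (hV : V ≤ L D) {P Q : Place k K} (hPQ : P ≠ Q)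
    {n₁ n₂ : ℕ} (h12 : n₁ < n₂) (hn₂ : n₂ ≤ d)
    (h1 : finrank k V < fdim V D P n₁ + fdim V D Q ((d : ℤ) - n₁))
    (h2 : finrank k V < fdim V D P n₂ + fdim V D Q ((d : ℤ) - n₂)) :
    ∃ m : ℕ, 1 ≤ m ∧ m ≤ d ∧ ∃ h : K, h ≠ 0 ∧
      FunFld.div k h = Finsupp.single Q (m : ℤ) - Finsupp.single P (m : ℤ) := by
  obtain ⟨σ₁, hσ₁0, -, hd1⟩ := exists_section hK hD hV hPQ (by omega) h1
  obtain ⟨σ₂, hσ₂0, -, hd2⟩ := exists_section hK hD hV hPQ hn₂ h2
  refine ⟨n₂ - n₁, by omega, by omega, σ₁ / σ₂, div_ne_zero hσ₁0 hσ₂0, ?_⟩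
  rw [div_div hK hσ₁0 hσ₂0, hd1, hd2]
  have e : ((n₂ - n₁ : ℕ) : ℤ) = (n₂ : ℤ) - n₁ := by
    rw [Nat.cast_sub h12.le]
  rw [e]
  ext R
  classical
  simp only [Finsupp.sub_apply, Finsupp.add_apply, Finsupp.single_apply]
  split_ifs <;> ring

theorem torsion [IsAlgClosed k] (hK : IsFunctionField k K) (d r : ℕ) {D : Divisor k K}
    (hD : D.deg = d) {V : Submodule k K} (hV : V ≤ L D) (hVr : finrank k V = r + 1)
    {P Q : Place k K} (hPQ : P ≠ Q)
    (hw : (r + 1) * d + 1 ≤ wsum (fdim V D P) d + wsum (fdim V D Q) d + r) :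
    ∃ m : ℕ, 1 ≤ m ∧ m ≤ d ∧ ∃ h : K, h ≠ 0 ∧
      FunFld.div k h = Finsupp.single Q (m : ℤ) - Finsupp.single P (m : ℤ) := by
  have hcount := count_lemma (fdim V D P) (fdim V D Q) (r + 1) d
    (by rw [fdim_zero hV, hVr]) (by rw [fdim_zero hV, hVr])
    (fdim_eq_zero hK Q (by rw [hD]; linarith))
    (fun n => fdim_step hK Q n) (fun n => fdim_anti hK hV Q (by omega))
    (fun n hn => by rw [← hVr]; exact two_point hK hV hPQ (by rw [hD]; linarith))
  have hcard : 1 < ((Finset.range (d + 1)).filter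
      (fun n : ℕ => r + 1 + 1 ≤ fdim V D P n + fdim V D Q ((d : ℤ) - n))).card := by omega
  obtain ⟨n₁, hn₁, n₂, hn₂, hne⟩ := Finset.one_lt_card.mp hcard
  rw [Finset.mem_filter, Finset.mem_range] at hn₁ hn₂
  rcases lt_or_gt_of_ne hne with h | h
  · exact torsion_aux hK hD hV hPQ h (by omega) (by rw [hVr]; omega) (by rw [hVr]; omega)
  · exact torsion_aux hK hD hV hPQ h (by omega) (by rw [hVr]; omega) (by rw [hVr]; omega)

end Groth.Agent.Helper16.LLS
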