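import Groth.Agent.H16.LLS3
set_option autoImplicit false
set_option linter.unusedSimpArgs false

namespace Groth.Agent.Helper16.LLS

open FunFld Module Groth.Agent.Helper17.FF

variable {k K : Type*} [Field k] [Field K] [Algebra k K]

theorem const_of_ord_eq_zero (hK : IsFunctionField k K) {u : K} (hu : u ≠ 0)
    (h : ∀ R : Place k K, R.ord u = 0) : ∃ c : k, c ≠ 0 ∧ u = algebraMap k K c := by
  obtain ⟨c, hc⟩ := mem_range_of_forall_val_le_one hK (x := u) (fun R => by
    rw [(ord_eq_zero_iff R hu).mp (h R)])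
  refine ⟨c, ?_, hc.symm⟩
  rintro rfl
  rw [map_zero] at hc
  exact hu hc.symm

theorem ord_of_div_eq (hK : IsFunctionField k K) {s : K} {X Y : Place k K} (hXY : X ≠ Y)
    (hs : FunFld.div k s = Finsupp.single X 1 - Finsupp.single Y 1) :
    X.ord s = 1 ∧ Y.ord s = -1 ∧ ∀ R : Place k K, R ≠ X → R ≠ Y → R.ord s = 0 := by
  classical
  refine ⟨?_, ?_, fun R hRX hRY => ?_⟩
  · rw [← div_apply hK, hs]
    simp [Finsupp.single_apply, hXY, hXY.symm]
  · rw [← div_apply hK, hs]
    simp [Finsupp.single_apply, hXY, hXY.symm]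
  · rw [← div_apply hK, hs]
    simp [Finsupp.single_apply, hRX, hRY, Ne.symm hRX, Ne.symm hRY]

/-- if `s` has divisor `X - Y` and `Q ≠ X, Y`, then `s - s(Q)` has a simple zero at `Q`. -/
theorem val_sub_residue [IsAlgClosed k] (hK : IsFunctionField k K) {s : K} {X Y Q : Place k K}
    (hXY : X ≠ Y) (hQX : Q ≠ X) (hQY : Q ≠ Y)
    (hs : FunFld.div k s = Finsupp.single X 1 - Finsupp.single Y 1) :
    ∃ s₀ : k, s₀ ≠ 0 ∧ Q.1 (s - algebraMap k K s₀) = WithZero.exp (-1 : ℤ) := by
  classical
  obtain ⟨hX, hY, hR⟩ := ord_of_div_eq hK hXY hs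
  have hs0 : s ≠ 0 := by
    rintro rfl
    rw [ord_zero] at hX
    exact absurd hX (by norm_num)
  have hvQ : Q.1 s = 1 := (ord_eq_zero_iff Q hs0).mp (hR Q hQX hQY)
  obtain ⟨s₀, hs₀⟩ := exists_const_sub_lt hK Q hvQ.le
  have hs₀0 : s₀ ≠ 0 := by
    rintro rfl
    rw [map_zero, sub_zero, hvQ] at hs₀
    exact lt_irrefl _ hs₀
  refine ⟨s₀, hs₀0, ?_⟩
  set π := s - algebraMap k K s₀ with hπ
  have hπ0 : π ≠ 0 := by
    intro h
    have : s = algebraMap k K s₀ := sub_eq_zero.mp h
    rw [this, ord_const] at hX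
    exact absurd hX (by norm_num)
  have hmem : π ∈ L (Finsupp.single Y 1 - Finsupp.single Q 1 : Divisor k K) := by
    intro R
    have hc : R.1 (algebraMap k K s₀) = 1 := val_const R hs₀0
    have hsub : R.1 π ≤ max (R.1 s) 1 := by
      have := Valuation.map_sub R.1 s (algebraMap k K s₀)
      rwa [hc] at this
    by_cases hRQ : R = Q
    · subst hRQ
      have e : (Finsupp.single Y 1 - Finsupp.single R 1 : Divisor k K) R = 0 - 1 := by
        simp [Finsupp.single_apply, hQY, Ne.symm hQY]
      rw [e, ← val_lt_exp_iff_le, WithZero.exp_zero]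
      exact hs₀
    · by_cases hRY : R = Y
      · subst hRY
        have e : (Finsupp.single R 1 - Finsupp.single Q 1 : Divisor k K) R = 1 := by
          simp [Finsupp.single_apply, hRQ, Ne.symm hRQ]
        rw [e]
        have hvs : R.1 s = WithZero.exp (1 : ℤ) := by
          rw [val_eq_exp_neg_ord R hs0, hY]; rfl
        refine hsub.trans ?_
        rw [hvs]
        apply max_le le_rfl
        rw [← WithZero.exp_zero]
        exact WithZero.exp_le_exp.mpr (by norm_num)
      · have e : (Finsupp.single Y 1 - Finsupp.single Q 1 : Divisor k K) R = 0 := by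
          simp [Finsupp.single_apply, hRQ, hRY, Ne.symm hRQ, Ne.symm hRY]
        rw [e, WithZero.exp_zero]
        refine hsub.trans (max_le ?_ le_rfl)
        by_cases hRX : R = X
        · subst hRX
          rw [← ord_nonneg_iff R hs0, hX]; norm_num
        · rw [(ord_eq_zero_iff R hs0).mp (hR R hRX hRY)]
  have hdiv := div_eq_of_mem hK hπ0 hmem (by
    rw [deg_single, deg_single, deg_eq_one hK Y, deg_eq_one hK Q])
  have hordQ : Q.ord π = 1 := by
    rw [← div_apply hK, hdiv]
    simp [Finsupp.single_apply, hQY, Ne.symm hQY]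
  rw [val_eq_exp_neg_ord Q hπ0, hordQ]

/-- cusp at `Q`: any two independent members of `V` have a nontrivial combination vanishing to
order `≥ 2` at `Q`. -/
theorem exists_pencil_member
    {V : Submodule k K} [FiniteDimensional k V] {D : Divisor k K} {r : ℕ}
    (hVr : finrank k V = r + 1) {Q : Place k K} (hcusp : r ≤ fdim V D Q 2)
    {f g : K} (hf : f ∈ V) (hg : g ∈ V) (hli : LinearIndependent k ![f, g]) :
    ∃ α β : k, (α ≠ 0 ∨ β ≠ 0) ∧ α • f + β • g ∈ L (D - Finsupp.single Q 2) := by
  set W : Submodule k K := Submodule.span k (Set.range ![f, g]) with hW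
  have hWV : W ≤ V := by
    rw [hW, Submodule.span_le]
    rintro _ ⟨i, rfl⟩
    fin_cases i
    · exact hf
    · exact hg
  have hWfin : FiniteDimensional k W := Submodule.finiteDimensional_of_le hWV
  have hWr : finrank k W = 2 := by
    rw [hW, finrank_span_eq_card hli]
    rfl
  unfold fdim at hcusp
  have h1 := Submodule.finrank_sup_add_finrank_inf_eq W (V ⊓ L (D - Finsupp.single Q 2))
  have h2 : finrank k ↥(W ⊔ (V ⊓ L (D - Finsupp.single Q 2))) ≤ finrank k V :=
    Submodule.finrank_mono (sup_le hWV inf_le_left)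
  have h3 : 0 < finrank k ↥(W ⊓ (V ⊓ L (D - Finsupp.single Q 2))) := by omega
  have h4 : W ⊓ (V ⊓ L (D - Finsupp.single Q 2)) ≠ ⊥ := by
    intro h
    rw [h, finrank_bot] at h3
    exact lt_irrefl _ h3
  obtain ⟨σ, hσ, hσ0⟩ := Submodule.exists_mem_ne_zero_of_ne_bot h4
  have hσW : σ ∈ Submodule.span k {f, g} := by
    have : Set.range ![f, g] = {f, g} := by
      ext x
      simp only [Set.mem_range, Fin.exists_fin_two, Set.mem_insert_iff, Set.mem_singleton_iff]
      constructor
      · rintro (h | h)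
        · left; exact h.symm
        · right; exact h.symm
      · rintro (h | h)
        · left; exact h.symm
        · right; exact h.symm
    rw [← this]
    exact hσ.1
  obtain ⟨α, β, rfl⟩ := Submodule.mem_span_pair.mp hσW
  refine ⟨α, β, ?_, hσ.2.2⟩
  by_contra hcon
  push Not at hcon
  rw [hcon.1, hcon.2, zero_smul, zero_smul, add_zero] at hσ0
  exact hσ0 rfl

end Groth.Agent.Helper16.LLS
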