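import Groth.Agent.H16.LLS4
set_option autoImplicit false
set_option linter.unusedSimpArgs false

namespace Groth.Agent.Helper16.LLS

open FunFld Module Groth.Agent.Helper17.FF

variable {k K : Type*} [Field k] [Field K] [Algebra k K]

theorem core [IsAlgClosed k] [CharZero k] (hK : IsFunctionField k K) (hg0 : genus k K = 0)
    {r : ℕ} {D : Divisor k K} {V : Submodule k K} (hV : V ≤ L D) (hVr : finrank k V = r + 1)
    {Q X Y : Place k K} (hcusp : r ≤ fdim V D Q 2) (hXY : X ≠ Y) (hQX : Q ≠ X) (hQY : Q ≠ Y)
    {f u : K} (hf : f ∈ V) (hf0 : f ≠ 0) (hfQ : (FunFld.div k f + D) Q = 0) (hu0 : u ≠ 0)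
    (huf : u * f ∈ V) {m : ℕ} (hm : 0 < m) (huX : X.ord u = m) (huY : Y.ord u = -m)
    (huR : ∀ R : Place k K, R ≠ X → R ≠ Y → R.ord u = 0) : False := by
  obtain ⟨s, hs0, hs⟩ := exists_div_eq_single_sub_single hK hg0 X Y
  obtain ⟨hsX, hsY, hsR⟩ := ord_of_div_eq hK hXY hs
  have hsm0 : s ^ m ≠ 0 := pow_ne_zero _ hs0
  have hw0 : u / s ^ m ≠ 0 := div_ne_zero hu0 hsm0
  have hword : ∀ R : Place k K, R.ord (u / s ^ m) = 0 := by
    intro R
    rw [ord_div R hu0 hsm0, ord_pow]
    by_cases hRX : R = X
    · subst hRX; rw [huX, hsX]; ring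
    · by_cases hRY : R = Y
      · subst hRY; rw [huY, hsY]; ring
      · rw [huR R hRX hRY, hsR R hRX hRY]; ring
  obtain ⟨c, hc0, hc⟩ := const_of_ord_eq_zero hK hw0 hword
  have hu : u = algebraMap k K c * s ^ m := (div_eq_iff hsm0).mp hc
  obtain ⟨s₀, hs₀0, hπ⟩ := val_sub_residue hK hXY hQX hQY hs
  have hli : LinearIndependent k ![f, u * f] := by
    rw [LinearIndependent.pair_iff]
    intro a b hab
    have h1 : (algebraMap k K a + algebraMap k K b * u) * f = 0 := by
      rw [← hab, Algebra.smul_def, Algebra.smul_def]; ring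
    have h2 : algebraMap k K a + algebraMap k K b * u = 0 := by
      rcases mul_eq_zero.mp h1 with h | h
      · exact h
      · exact absurd h hf0
    have hb : b = 0 := by
      by_contra hb
      have h3 : u = algebraMap k K (-a / b) := by
        rw [map_div₀, map_neg, eq_div_iff ((map_ne_zero _).mpr hb)]
        linear_combination h2
      rw [h3, ord_const] at huX
      have : (m : ℤ) = 0 := huX.symm
      omega
    refine ⟨?_, hb⟩
    rw [hb, map_zero, zero_mul, add_zero] at h2
    exact (map_eq_zero _).mp h2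
  have hfin := finite_V hK hV
  obtain ⟨α, β, hαβ, hmem⟩ := exists_pencil_member hVr hcusp hf huf hli
  have hvf : Q.1 f = WithZero.exp (D Q) := by
    rw [Finsupp.add_apply, div_apply hK] at hfQ
    rw [val_eq_exp_neg_ord Q hf0]
    congr 1
    omega
  have hσ : α • f + β • (u * f) = (algebraMap k K α + algebraMap k K β * u) * f := by
    rw [Algebra.smul_def, Algebra.smul_def]; ring
  have h1 := hmem Q
  have e2 : (D - Finsupp.single Q 2 : Divisor k K) Q = D Q - 2 := by
    rw [Finsupp.sub_apply, Finsupp.single_eq_same]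
  rw [hσ, map_mul, hvf, e2] at h1
  have h1' : Q.1 (algebraMap k K α + algebraMap k K β * u) ≤ WithZero.exp (-2 : ℤ) := by
    have e3 : (WithZero.exp (D Q - 2) : WithZero (Multiplicative ℤ)) =
        WithZero.exp (-2 : ℤ) * WithZero.exp (D Q) := by
      rw [← WithZero.exp_add]; congr 1; ring
    rw [e3] at h1
    exact (mul_le_mul_iff_left₀ WithZero.exp_pos).mp h1
  have hlt : ¬ ((1 : WithZero (Multiplicative ℤ)) ≤ WithZero.exp (-2 : ℤ)) := by
    rw [← WithZero.exp_zero, WithZero.exp_le_exp]; norm_num
  have hβ : β ≠ 0 := by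
    rintro rfl
    have hα : α ≠ 0 := by tauto
    rw [map_zero, zero_mul, add_zero, val_const Q hα] at h1'
    exact hlt h1'
  have e : algebraMap k K α + algebraMap k K β * u =
      algebraMap k K (β * c) * (s ^ m - algebraMap k K (-α / (β * c))) := by
    rw [hu, map_div₀, map_neg, map_mul]
    have hβ' : algebraMap k K β ≠ 0 := (map_ne_zero _).mpr hβ
    have hc' : algebraMap k K c ≠ 0 := (map_ne_zero _).mpr hc0
    field_simp
    ring
  rw [e, map_mul, val_const Q (mul_ne_zero hβ hc0), one_mul] at h1'
  have h2 := val_pow_sub_const Q hs₀0 hπ m hm (-α / (β * c))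
  have := h2.trans h1'
  rw [WithZero.exp_le_exp] at this
  omega

theorem unique_two_point [IsAlgClosed k] [CharZero k] (hK : IsFunctionField k K)
    (hg0 : genus k K = 0) {r : ℕ} {D : Divisor k K} {V : Submodule k K} (hV : V ≤ L D)
    (hVr : finrank k V = r + 1) {Q : Place k K} (hcusp : r ≤ fdim V D Q 2)
    {P P' : Place k K} (hP : P ≠ Q) (hP' : P' ≠ Q) {f g : K} (hf : f ∈ V) (hg : g ∈ V)
    (hf0 : f ≠ 0) (hg0' : g ≠ 0)
    (hfs : ∀ R : Place k K, R ≠ P → R ≠ P' → (FunFld.div k f + D) R = 0)
    (hgs : ∀ R : Place k K, R ≠ P → R ≠ P' → (FunFld.div k g + D) R = 0) :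
    ∃ c : k, g = c • f := by
  classical
  set u := g / f with hu
  have hu0 : u ≠ 0 := div_ne_zero hg0' hf0
  have huf : u * f = g := div_mul_cancel₀ g hf0
  have hordR : ∀ R : Place k K, R ≠ P → R ≠ P' → R.ord u = 0 := by
    intro R h1 h2
    have e1 := hfs R h1 h2
    have e2 := hgs R h1 h2
    rw [Finsupp.add_apply, div_apply hK] at e1 e2
    rw [hu, ord_div R hg0' hf0]
    omega
  by_cases hconst : ∀ R : Place k K, R.ord u = 0
  · obtain ⟨c, -, hc⟩ := const_of_ord_eq_zero hK hu0 hconst
    exact ⟨c, by rw [← huf, hc, Algebra.smul_def]⟩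
  · exfalso
    have hfQ : (FunFld.div k f + D) Q = 0 := hfs Q hP.symm hP'.symm
    have hdeg := deg_div hK u
    by_cases hPP' : P = P'
    · subst hPP'
      have e : FunFld.div k u = Finsupp.single P (P.ord u) := by
        ext R
        rw [div_apply hK, Finsupp.single_apply]
        split_ifs with h
        · rw [h]
        · exact hordR R (Ne.symm h) (Ne.symm h)
      rw [e, deg_single, deg_eq_one hK P] at hdeg
      apply hconst
      intro R
      by_cases h : R = P
      · rw [h]; push_cast at hdeg; linarith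
      · exact hordR R h h
    · have e : FunFld.div k u = Finsupp.single P (P.ord u) + Finsupp.single P' (P'.ord u) := by
        ext R
        rw [div_apply hK, Finsupp.add_apply, Finsupp.single_apply, Finsupp.single_apply]
        by_cases h1 : R = P
        · subst h1
          rw [if_pos rfl, if_neg (Ne.symm hPP')]; ring
        · by_cases h2 : R = P'
          · subst h2
            rw [if_neg (Ne.symm h1), if_pos rfl]; ring
          · rw [if_neg (Ne.symm h1), if_neg (Ne.symm h2), hordR R h1 h2]; ring
      rw [e, deg_add, deg_single, deg_single, deg_eq_one hK P, deg_eq_one hK P'] at hdeg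
      push_cast at hdeg
      have hne : P.ord u ≠ 0 := by
        intro h0
        apply hconst
        intro R
        by_cases h1 : R = P
        · rw [h1, h0]
        · by_cases h2 : R = P'
          · rw [h2]; linarith
          · exact hordR R h1 h2
      rcases lt_or_gt_of_ne hne with hneg | hpos
      · -- ord_P u < 0: X = P', Y = P
        have hm : 0 < (P.ord u).natAbs := Int.natAbs_pos.mpr hne
        refine core hK hg0 hV hVr hcusp (X := P') (Y := P) (Ne.symm hPP') hP'.symm hP.symm hf hf0
          hfQ hu0 (huf ▸ hg) hm ?_ ?_ (fun R h1 h2 => hordR R h2 h1)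
        · rw [Int.natCast_natAbs, abs_of_neg hneg]; linarith
        · rw [Int.natCast_natAbs, abs_of_neg hneg]; ring
      · have hm : 0 < (P.ord u).natAbs := Int.natAbs_pos.mpr hne
        refine core hK hg0 hV hVr hcusp (X := P) (Y := P') hPP' hP.symm hP'.symm hf hf0
          hfQ hu0 (huf ▸ hg) hm ?_ ?_ hordR
        · rw [Int.natCast_natAbs, abs_of_pos hpos]
        · rw [Int.natCast_natAbs, abs_of_pos hpos]; linarith

end Groth.Agent.Helper16.LLS
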