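import Groth.Agent.H16.LLS5
set_option autoImplicit false
set_option linter.unusedSimpArgs false

namespace Groth.Agent.Helper16.LLS

open FunFld Module Groth.Agent.Helper17.FF

section abstract

theorem seq_lower : ∀ (d : ℕ) (G : ℕ → ℕ) (e : ℕ), e ≤ G 0 → (∀ j, G j ≤ G (j + 1) + 1) → e ≤ d →
    e * (e + 1) ≤ 2 * ∑ j ∈ Finset.range d, G j := by
  intro d
  induction d with
  | zero =>
    intro G e _ _ hed
    have : e = 0 := by omega
    subst this
    simp
  | succ d ih =>
    intro G e h0 hstep hed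
    rw [Finset.sum_range_succ']
    rcases Nat.eq_zero_or_pos e with rfl | hpos
    · simp
    · obtain ⟨e', rfl⟩ : ∃ e', e = e' + 1 := ⟨e - 1, by omega⟩
      have h1 := hstep 0
      have := ih (fun j => G (j + 1)) e' (by omega) (fun j => hstep (j + 1)) (by omega)
      nlinarith

theorem wsum_lower (g : ℤ → ℕ) (d e : ℕ) (h1 : e ≤ g 1) (hstep : ∀ n : ℤ, g n ≤ g (n + 1) + 1)
    (hed : e ≤ d) : e * (e + 1) ≤ 2 * wsum g d := by
  unfold wsum
  apply seq_lower d (fun j => g ((j : ℤ) + 1)) e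
  · simpa using h1
  · intro j
    have := hstep ((j : ℤ) + 1)
    push_cast
    exact this
  · exact hed

theorem wsum_upper (g : ℤ → ℕ) (d c : ℕ) (hle : ∀ n : ℤ, g n ≤ c)
    (hstep : ∀ n : ℤ, g n ≤ g (n + 1) + 1) (hend : g ((d : ℤ) + 1) = 0) (hcd : c ≤ d + 1) :
    2 * wsum g d + (c - 1) * c ≤ 2 * (c * d) := by
  have hrefl := wsum_reflect g d
  have hkey : (c - 1) * (c - 1 + 1) ≤
      2 * ∑ j ∈ Finset.range d, (c - g ((d : ℤ) + 1 - ((j : ℤ) + 1))) := by
    apply seq_lower d (fun j => c - g ((d : ℤ) + 1 - ((j : ℤ) + 1))) (c - 1)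
    · have h1 := hstep (d : ℤ)
      rw [hend] at h1
      have e : (d : ℤ) + 1 - (((0 : ℕ) : ℤ) + 1) = (d : ℤ) := by push_cast; ring
      rw [e]
      omega
    · intro j
      have h1 := hstep ((d : ℤ) + 1 - (((j + 1 : ℕ) : ℤ) + 1))
      have e : (d : ℤ) + 1 - (((j + 1 : ℕ) : ℤ) + 1) + 1 = (d : ℤ) + 1 - ((j : ℤ) + 1) := by
        push_cast; ring
      rw [e] at h1
      have h2 := hle ((d : ℤ) + 1 - ((j : ℤ) + 1))
      have h3 := hle ((d : ℤ) + 1 - (((j + 1 : ℕ) : ℤ) + 1))
      omega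
    · omega
  have hsum : wsum g d + ∑ j ∈ Finset.range d, (c - g ((d : ℤ) + 1 - ((j : ℤ) + 1))) = c * d := by
    rw [hrefl, ← Finset.sum_add_distrib]
    calc _ = ∑ _j ∈ Finset.range d, c := by
          apply Finset.sum_congr rfl
          intro j _
          have := hle ((d : ℤ) + 1 - ((j : ℤ) + 1))
          omega
      _ = c * d := by rw [Finset.sum_const, Finset.card_range, smul_eq_mul, mul_comm]
  rcases Nat.eq_zero_or_pos c with rfl | hc
  · simp at hsum ⊢
    omega
  · have e : c - 1 + 1 = c := by omega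
    rw [e] at hkey
    omega

end abstract

variable {k K : Type*} [Field k] [Field K] [Algebra k K]

theorem fdim_le_add [IsAlgClosed k] (hK : IsFunctionField k K) {V : Submodule k K}
    {D : Divisor k K} (P : Place k K) (m : ℤ) (n : ℕ) :
    fdim V D P m ≤ fdim V D P (m + n) + n := by
  induction n with
  | zero => simp
  | succ n ih =>
    have := fdim_step hK (V := V) (D := D) P (m + n)
    have e : m + ((n + 1 : ℕ) : ℤ) = m + n + 1 := by push_cast; ring
    rw [e]
    omega

theorem r_le_d [IsAlgClosed k] (hK : IsFunctionField k K) {d r : ℕ} {D : Divisor k K}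
    (hD : D.deg = d) {V : Submodule k K} (hV : V ≤ L D) (hVr : finrank k V = r + 1)
    (P : Place k K) : r ≤ d := by
  have h1 := fdim_le_add hK (V := V) (D := D) P 0 (d + 1)
  rw [fdim_zero hV, hVr] at h1
  have h2 := fdim_eq_zero hK (V := V) P (n := (0 : ℤ) + ((d + 1 : ℕ) : ℤ))
    (by rw [hD]; push_cast; linarith)
  omega

theorem wsum_fdim_lower [IsAlgClosed k] (hK : IsFunctionField k K) {d r : ℕ} {D : Divisor k K}
    (hD : D.deg = d) {V : Submodule k K} (hV : V ≤ L D) (hVr : finrank k V = r + 1)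
    (P : Place k K) : r * (r + 1) ≤ 2 * wsum (fdim V D P) d := by
  apply wsum_lower _ d r
  · have := fdim_step hK (V := V) (D := D) P 0
    rw [fdim_zero hV, hVr] at this
    simpa using this
  · exact fun n => fdim_step hK P n
  · exact r_le_d hK hD hV hVr P

theorem wsum_fdim_upper [IsAlgClosed k] (hK : IsFunctionField k K) {d r : ℕ} {D : Divisor k K}
    (hD : D.deg = d) {V : Submodule k K} (hV : V ≤ L D) (hVr : finrank k V = r + 1)
    (P : Place k K) : 2 * wsum (fdim V D P) d + r * (r + 1) ≤ 2 * ((r + 1) * d) := by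
  have := wsum_upper (fdim V D P) d (r + 1) (fun n => hVr ▸ fdim_le hK hV P n)
    (fun n => fdim_step hK P n) (fdim_eq_zero hK P (by rw [hD]; linarith))
    (by have := r_le_d hK hD hV hVr P; omega)
  simpa using this

theorem wsum_fdim_cusp_lower [IsAlgClosed k] (hK : IsFunctionField k K) {d r : ℕ}
    {D : Divisor k K} (hD : D.deg = d) {V : Submodule k K} (hV : V ≤ L D)
    {Q : Place k K} (hcusp : r ≤ fdim V D Q 2) :
    2 * r + r * (r + 1) ≤ 2 * wsum (fdim V D Q) d := by
  rcases Nat.eq_zero_or_pos d with rfl | hd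
  · have h0 := fdim_eq_zero hK (V := V) Q (n := (2 : ℤ)) (by rw [hD]; norm_num)
    have : r = 0 := by omega
    subst this
    simp
  · obtain ⟨d', rfl⟩ : ∃ d', d = d' + 1 := ⟨d - 1, by omega⟩
    have h21 : fdim V D Q 2 ≤ fdim V D Q 1 := fdim_anti hK hV Q (by norm_num)
    have hrd : r ≤ d' := by
      have h1 := fdim_le_add hK (V := V) (D := D) Q 2 d'
      have h2 := fdim_eq_zero hK (V := V) Q (n := (2 : ℤ) + (d' : ℤ))
        (by rw [hD]; push_cast; linarith)
      omega
    unfold wsum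
    rw [Finset.sum_range_succ']
    have hkey := seq_lower d' (fun j => fdim V D Q (((j + 1 : ℕ) : ℤ) + 1)) r
      (by simpa using hcusp)
      (fun j => by
        have := fdim_step hK (V := V) (D := D) Q (((j + 1 : ℕ) : ℤ) + 1)
        have e : (((j + 1 + 1 : ℕ) : ℤ) + 1) = ((j + 1 : ℕ) : ℤ) + 1 + 1 := by push_cast; ring
        rw [e]
        exact this) hrd
    have e1 : fdim V D Q (((0 : ℕ) : ℤ) + 1) = fdim V D Q 1 := by simp
    rw [e1]
    omega

theorem div_smul (hK : IsFunctionField k K) {c : k} (hc : c ≠ 0) {σ : K} (hσ : σ ≠ 0) :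
    FunFld.div k (c • σ) = FunFld.div k σ := by
  ext R
  rw [div_apply hK, div_apply hK, Algebra.smul_def,
    ord_mul R ((map_ne_zero _).mpr hc) hσ, ord_const, zero_add]

theorem refined [IsAlgClosed k] [CharZero k] (hK : IsFunctionField k K)
    (hg0 : genus k K = 0) {d r : ℕ} {D : Divisor k K} (hD : D.deg = d) {V : Submodule k K}
    (hV : V ≤ L D) (hVr : finrank k V = r + 1) {Q X Y : Place k K}
    (hcusp : r ≤ fdim V D Q 2) (hXY : X ≠ Y) (hQX : Q ≠ X) (hQY : Q ≠ Y) :
    wsum (fdim V D X) d + wsum (fdim V D Y) d + r ≤ (r + 1) * d := by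
  classical
  have hcount := count_lemma (fdim V D X) (fdim V D Y) (r + 1) d
    (by rw [fdim_zero hV, hVr]) (by rw [fdim_zero hV, hVr])
    (fdim_eq_zero hK Y (by rw [hD]; linarith))
    (fun n => fdim_step hK Y n) (fun n => fdim_anti hK hV Y (by omega))
    (fun n hn => by rw [← hVr]; exact two_point hK hV hXY (by rw [hD]; linarith))
  have hcard : ((Finset.range (d + 1)).filter
      (fun n : ℕ => r + 1 + 1 ≤ fdim V D X n + fdim V D Y ((d : ℤ) - n))).card ≤ 1 := by
    rw [Finset.card_le_one]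
    intro n₁ hn₁ n₂ hn₂
    rw [Finset.mem_filter, Finset.mem_range] at hn₁ hn₂
    obtain ⟨σ₁, hσ₁0, hσ₁V, hd1⟩ := exists_section hK hD hV hXY (n := n₁) (by omega)
      (by rw [hVr]; omega)
    obtain ⟨σ₂, hσ₂0, hσ₂V, hd2⟩ := exists_section hK hD hV hXY (n := n₂) (by omega)
      (by rw [hVr]; omega)
    have hsupp : ∀ (n : ℕ) (σ : K), FunFld.div k σ =
        Finsupp.single X (n : ℤ) + Finsupp.single Y ((d : ℤ) - n) - D →
        ∀ R : Place k K, R ≠ X → R ≠ Y → (FunFld.div k σ + D) R = 0 := by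
      intro n σ h R h1 h2
      rw [h]
      simp [Finsupp.single_apply, h1, h2, Ne.symm h1, Ne.symm h2]
    obtain ⟨c, hc⟩ := unique_two_point hK hg0 hV hVr hcusp hQX.symm hQY.symm hσ₁V hσ₂V hσ₁0 hσ₂0
      (hsupp n₁ σ₁ hd1) (hsupp n₂ σ₂ hd2)
    have hc0 : c ≠ 0 := by
      rintro rfl
      rw [zero_smul] at hc
      exact hσ₂0 hc
    have heq : FunFld.div k σ₂ = FunFld.div k σ₁ := by rw [hc, div_smul hK hc0 hσ₁0]
    rw [hd1, hd2] at heq
    have := DFunLike.congr_fun heq X
    simp [Finsupp.single_apply, hXY, hXY.symm] at this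
    omega
  omega

end Groth.Agent.Helper16.LLS
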