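import Groth.Agent.H16.LLS6
set_option autoImplicit false
set_option linter.unusedSimpArgs false

namespace Groth.Agent.Helper16.LLS

theorem chain_T (N M r h : ℕ) (a b t : ℕ → ℕ)
    (hc : ∀ i < N, b i + a (i + 1) = M)
    (hin : ∀ i, 0 < i → i < N → a i + b i + r * t i ≤ M)
    (hfirst : b 0 + r * t 0 + h ≤ M) :
    ∀ m, 0 < m → m ≤ N → r * (∑ j ∈ Finset.range m, t j) + h ≤ a m := by
  intro m
  induction m with
  | zero => intro h0; exact absurd h0 (lt_irrefl 0)
  | succ m ih =>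
    intro _ hm
    rw [Finset.sum_range_succ, mul_add]
    rcases Nat.eq_zero_or_pos m with rfl | hm0
    · have := hc 0 (by omega)
      simp only [Finset.range_zero, Finset.sum_empty, mul_zero, zero_add] at *
      omega
    · have e1 := hc m (by omega)
      have e2 := hin m hm0 (by omega)
      have e3 := ih hm0 (by omega)
      omega

theorem chain_T_total (N M r h : ℕ) (hN : 0 < N) (a b t : ℕ → ℕ)
    (hc : ∀ i < N, b i + a (i + 1) = M)
    (hin : ∀ i, 0 < i → i < N → a i + b i + r * t i ≤ M)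
    (hfirst : b 0 + r * t 0 + h ≤ M) (hlast : a N + r * t N + h ≤ M) :
    r * (∑ j ∈ Finset.range (N + 1), t j) + 2 * h ≤ M := by
  have := chain_T N M r h a b t hc hin hfirst N hN le_rfl
  rw [Finset.sum_range_succ, mul_add]
  omega

open FunFld Module Groth.Agent.Helper17.FF

section backbone

variable {k : Type*} [Field k] {N : ℕ} {Z : Fin (N + 1) → Type*} [∀ i, Field (Z i)]
  [∀ i, Algebra k (Z i)]

/-- doubled weight sums along the chain, indexed by `ℕ` -/
noncomputable def seqW (V : ∀ i, Submodule k (Z i)) (D : ∀ i, Divisor k (Z i))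
    (A : ∀ i, Place k (Z i)) (d : ℕ) : ℕ → ℕ :=
  fun m => if h : m < N + 1 then 2 * wsum (fdim (V ⟨m, h⟩) (D ⟨m, h⟩) (A ⟨m, h⟩)) d else 0

def seqT (T : Finset (Fin (N + 1))) : ℕ → ℕ :=
  fun m => if h : m < N + 1 then (if (⟨m, h⟩ : Fin (N + 1)) ∈ T then 1 else 0) else 0

theorem seqW_val (V : ∀ i, Submodule k (Z i)) (D : ∀ i, Divisor k (Z i))
    (A : ∀ i, Place k (Z i)) (d : ℕ) (i : Fin (N + 1)) :
    seqW V D A d i.val = 2 * wsum (fdim (V i) (D i) (A i)) d := by
  unfold seqW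
  rw [dif_pos i.isLt]

theorem seqT_val (T : Finset (Fin (N + 1))) (i : Fin (N + 1)) :
    seqT T i.val = if i ∈ T then 1 else 0 := by
  unfold seqT
  rw [dif_pos i.isLt]

theorem card_eq_sum_seqT (T : Finset (Fin (N + 1))) :
    T.card = ∑ j ∈ Finset.range (N + 1), seqT T j := by
  rw [← Fin.sum_univ_eq_sum_range (seqT T) (N + 1)]
  simp only [seqT_val]
  rw [Finset.sum_ite_mem, Finset.univ_inter, Finset.sum_const, smul_eq_mul, mul_one]

variable [IsAlgClosed k] [CharZero k]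
  (hZ : ∀ i, IsFunctionField k (Z i)) (hrat : ∀ i, genus k (Z i) = 0)
  (d r : ℕ) (D : ∀ i, Divisor k (Z i)) (hD : ∀ i, (D i).deg = d)
  (V : ∀ i, Submodule k (Z i)) (hV : ∀ i, V i ≤ L (D i))
  (hVr : ∀ i, finrank k ↥(V i) = r + 1)
  (A B : ∀ i, Place k (Z i))
  (hAB : ∀ i : Fin (N + 1), 0 < (i : ℕ) → (i : ℕ) < N → A i ≠ B i)
  (hcomp : ∀ (l : Fin N) (m : ℕ), m ≤ d + 1 →
    fdim (V l.castSucc) (D l.castSucc) (B l.castSucc) (m : ℤ) +
      fdim (V l.succ) (D l.succ) (A l.succ) ((d : ℤ) + 1 - m) = r + 1)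
  (T : Finset (Fin (N + 1))) (Q : ∀ i, Place k (Z i))
  (hQA : ∀ i ∈ T, 0 < (i : ℕ) → Q i ≠ A i) (hQB : ∀ i ∈ T, (i : ℕ) < N → Q i ≠ B i)
  (hcusp : ∀ i ∈ T, r ≤ fdim (V i) (D i) (Q i) 2)

omit [IsAlgClosed k] [CharZero k] in
include hcomp in
theorem bb_compat : ∀ i < N, seqW V D B d i + seqW V D A d (i + 1) = 2 * ((r + 1) * d) := by
  intro i hi
  have h1 := seqW_val V D B d (⟨i, hi⟩ : Fin N).castSucc
  have h2 := seqW_val V D A d (⟨i, hi⟩ : Fin N).succ
  simp only [Fin.val_castSucc, Fin.val_succ] at h1 h2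
  rw [h1, h2, ← mul_add, wsum_add_eq _ _ d (r + 1) (hcomp ⟨i, hi⟩)]

include hZ hrat hD hV hVr hAB hQA hQB hcusp in
theorem bb_inner : ∀ i, 0 < i → i < N →
    seqW V D A d i + seqW V D B d i + 2 * r * seqT T i ≤ 2 * ((r + 1) * d) := by
  intro i hi0 hiN
  have hlt : i < N + 1 := by omega
  have h1 := seqW_val V D A d (⟨i, hlt⟩ : Fin (N + 1))
  have h2 := seqW_val V D B d (⟨i, hlt⟩ : Fin (N + 1))
  have h3 := seqT_val T (⟨i, hlt⟩ : Fin (N + 1))
  simp only at h1 h2 h3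
  rw [h1, h2, h3]
  have hne := hAB ⟨i, hlt⟩ hi0 hiN
  by_cases hT : (⟨i, hlt⟩ : Fin (N + 1)) ∈ T
  · rw [if_pos hT]
    have := refined (hZ _) (hrat _) (hD _) (hV _) (hVr _) (hcusp _ hT) hne (hQA _ hT hi0)
      (hQB _ hT hiN)
    omega
  · rw [if_neg hT]
    have : wsum (fdim (V ⟨i, hlt⟩) (D ⟨i, hlt⟩) (A ⟨i, hlt⟩)) d +
        wsum (fdim (V ⟨i, hlt⟩) (D ⟨i, hlt⟩) (B ⟨i, hlt⟩)) d ≤ (r + 1) * d := by
      apply wsum_add_le
      intro j hj
      rw [← hVr ⟨i, hlt⟩]
      exact two_point (hZ _) (hV _) hne (by rw [hD]; linarith)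
    omega

omit [CharZero k] in
include hZ hD hV hVr hcusp in
/-- end-component estimate: a node `X` of component `i`, with the cusp point different from `X`
when `i ∈ T` -/
theorem bb_end (X : ∀ i, Place k (Z i)) (i : Fin (N + 1)) (hQX : i ∈ T → Q i ≠ X i) :
    seqW V D X d i.val + 2 * r * seqT T i.val + r * (r + 1) ≤ 2 * ((r + 1) * d) := by
  rw [seqW_val, seqT_val]
  by_cases hT : i ∈ T
  · rw [if_pos hT]
    have h1 : wsum (fdim (V i) (D i) (X i)) d + wsum (fdim (V i) (D i) (Q i)) d ≤ (r + 1) * d := by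
      apply wsum_add_le
      intro j hj
      rw [← hVr i]
      exact two_point (hZ _) (hV _) (hQX hT).symm (by rw [hD]; linarith)
    have h2 := wsum_fdim_cusp_lower (hZ i) (hD i) (hV i) (hcusp i hT)
    omega
  · rw [if_neg hT]
    have := wsum_fdim_upper (hZ i) (hD i) (hV i) (hVr i) (X i)
    omega

include hZ hrat hD hV hVr hAB hcomp hQA hQB hcusp in
theorem backbone_total : r * T.card + r * (r + 1) ≤ (r + 1) * d := by
  rcases Nat.eq_zero_or_pos N with hN0 | hN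
  · subst hN0
    rw [card_eq_sum_seqT, Finset.sum_range_one]
    have h3 := seqT_val T (0 : Fin (0 + 1))
    simp only [Fin.val_zero] at h3
    rw [h3]
    by_cases hT : (0 : Fin (0 + 1)) ∈ T
    · rw [if_pos hT]
      have h1 := wsum_fdim_cusp_lower (hZ 0) (hD 0) (hV 0) (hcusp 0 hT)
      have h2 := wsum_fdim_upper (hZ 0) (hD 0) (hV 0) (hVr 0) (Q 0)
      omega
    · rw [if_neg hT]
      have h1 := wsum_fdim_lower (hZ 0) (hD 0) (hV 0) (hVr 0) (A 0)
      have h2 := wsum_fdim_upper (hZ 0) (hD 0) (hV 0) (hVr 0) (A 0)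
      omega
  · have hfirst := bb_end hZ d r D hD V hV hVr T Q hcusp B (0 : Fin (N + 1))
      (fun h => hQB 0 h (by simpa using hN))
    have hlast := bb_end hZ d r D hD V hV hVr T Q hcusp A (Fin.last N)
      (fun h => hQA _ h (by simpa using hN))
    simp only [Fin.val_zero, Fin.val_last] at hfirst hlast
    have := chain_T_total N (2 * ((r + 1) * d)) (2 * r) (r * (r + 1)) hN
      (seqW V D A d) (seqW V D B d) (seqT T)
      (bb_compat d r D V A B hcomp)
      (bb_inner hZ hrat d r D hD V hV hVr A B hAB T Q hQA hQB hcusp) hfirst hlast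
    rw [← card_eq_sum_seqT] at this
    have e : 2 * r * T.card = 2 * (r * T.card) := by ring
    omega

end backbone

end Groth.Agent.Helper16.LLS
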