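import Groth.Agent.H16.LLS6
import Groth.Agent.S10996
set_option autoImplicit false
set_option linter.unusedSimpArgs false

namespace Groth.Agent.Helper16.LLS

open FunFld Module Groth.Agent.Helper17.FF

variable {k K : Type*} [Field k] [Field K] [Algebra k K]

theorem exists_single_of_deg_one [IsAlgClosed k] (hK : IsFunctionField k K) {E : Divisor k K}
    (h0 : 0 ≤ E) (hdeg : E.deg = 1) : ∃ R : Place k K, E = Finsupp.single R 1 := by
  classical
  have hne : E ≠ 0 := by
    rintro rfl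
    rw [deg_zero] at hdeg
    exact absurd hdeg (by norm_num)
  obtain ⟨R, hR⟩ := Finsupp.ne_iff.mp hne
  rw [Finsupp.zero_apply] at hR
  have hR1 : 1 ≤ E R := by
    have := h0 R
    rw [Finsupp.zero_apply] at this
    omega
  refine ⟨R, ?_⟩
  have h1 : 0 ≤ E - Finsupp.single R 1 := by
    intro S
    rw [Finsupp.zero_apply, Finsupp.sub_apply, Finsupp.single_apply]
    split_ifs with h
    · subst h; omega
    · have := h0 S
      rw [Finsupp.zero_apply] at this
      omega
  have h2 : (E - Finsupp.single R 1).deg = 0 := by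
    rw [deg_sub, deg_single, deg_eq_one hK R, hdeg]; norm_num
  have := eq_zero_of_nonneg_of_deg_eq_zero hK h1 h2
  exact sub_eq_zero.mp this

theorem pos_genus_bound [IsAlgClosed k] (hK : IsFunctionField k K) (hpos : 0 < genus k K)
    {d : ℕ} (hd : 1 ≤ d) {D : Divisor k K} (hD : D.deg = d) {V : Submodule k K} (hV : V ≤ L D)
    (A : Place k K) : fdim V D A ((d : ℤ) - 1) ≤ 1 := by
  classical
  by_contra hcon
  push Not at hcon
  unfold fdim at hcon
  set X := V ⊓ L (D - Finsupp.single A ((d : ℤ) - 1)) with hX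
  have hfinV := finite_V hK hV
  have hfinX : FiniteDimensional k X := Submodule.finiteDimensional_of_le inf_le_left
  have hnt : Nontrivial X := Module.nontrivial_of_finrank_pos (R := k) (by omega)
  obtain ⟨x, hx0⟩ := exists_ne (0 : X)
  obtain ⟨y, hxy⟩ := exists_linearIndependent_pair_of_one_lt_finrank hcon hx0
  have hy0 : y ≠ 0 := by
    rintro rfl
    have := hxy.ne_zero (1 : Fin 2)
    simp at this
  have hx0' : (x : K) ≠ 0 := fun h => hx0 (Subtype.ext h)
  have hy0' : (y : K) ≠ 0 := fun h => hy0 (Subtype.ext h)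
  -- divisors
  have key : ∀ τ : X, (τ : K) ≠ 0 → ∃ R : Place k K,
      FunFld.div k (τ : K) = Finsupp.single A ((d : ℤ) - 1) + Finsupp.single R 1 - D := by
    intro τ hτ
    have hmem : (τ : K) ∈ L (D - Finsupp.single A ((d : ℤ) - 1)) := τ.2.2
    have h1 : 0 ≤ FunFld.div k (τ : K) + (D - Finsupp.single A ((d : ℤ) - 1)) := by
      intro P
      rw [Finsupp.zero_apply, Finsupp.add_apply, div_apply hK]
      have := (val_le_exp_iff P hτ ((D - Finsupp.single A ((d : ℤ) - 1)) P)).1 (hmem P)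
      linarith
    have h2 : (FunFld.div k (τ : K) + (D - Finsupp.single A ((d : ℤ) - 1))).deg = 1 := by
      rw [deg_add, deg_div hK, deg_sub, deg_single, deg_eq_one hK A, hD]
      push_cast; ring
    obtain ⟨R, hR⟩ := exists_single_of_deg_one hK h1 h2
    refine ⟨R, ?_⟩
    have : FunFld.div k (τ : K) = Finsupp.single R 1 - (D - Finsupp.single A ((d : ℤ) - 1)) :=
      eq_sub_of_add_eq hR
    rw [this]; abel
  obtain ⟨R₁, hR₁⟩ := key x hx0'
  obtain ⟨R₂, hR₂⟩ := key y hy0'
  have hdiv : FunFld.div k ((x : K) / (y : K)) = Finsupp.single R₁ 1 - Finsupp.single R₂ 1 := by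
    rw [div_div hK hx0' hy0', hR₁, hR₂]; abel
  have hR12 : R₁ = R₂ := Groth.Agent.S10996.result k K hK hpos R₁ R₂ (deg_eq_one hK R₁)
    (deg_eq_one hK R₂) ((x : K) / (y : K)) (div_ne_zero hx0' hy0') hdiv.symm
  rw [hR12, sub_self] at hdiv
  obtain ⟨c, -, hc⟩ := const_of_ord_eq_zero hK (div_ne_zero hx0' hy0') (fun R => by
    rw [← div_apply hK, hdiv, Finsupp.zero_apply])
  have hxc : x = c • y := by
    apply Subtype.ext
    rw [Submodule.coe_smul, Algebra.smul_def, ← hc, div_mul_cancel₀ _ hy0']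
  have := (LinearIndependent.pair_iff.mp hxy) 1 (-c) (by
    rw [hxc]; simp)
  exact one_ne_zero this.1

theorem cusp_of_chain {k : Type*} [Field k] [IsAlgClosed k] {KY : Type*} [Field KY] [Algebra k KY]
    (hKY : IsFunctionField k KY)
    (n : ℕ) (hn : 0 < n) (W : Fin n → Type*) [∀ j, Field (W j)] [∀ j, Algebra k (W j)]
    (hW : ∀ j, IsFunctionField k (W j))
    (hpos : ∀ j : Fin n, (j : ℕ) + 1 = n → 0 < genus k (W j))
    (d r : ℕ) (DY : Divisor k KY) (hDY : DY.deg = d)
    (VY : Submodule k KY) (hVY : VY ≤ L DY) (hVYr : finrank k ↥VY = r + 1)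
    (D : ∀ j, Divisor k (W j)) (hD : ∀ j, (D j).deg = d)
    (V : ∀ j, Submodule k (W j)) (hV : ∀ j, V j ≤ L (D j))
    (hVr : ∀ j, finrank k ↥(V j) = r + 1)
    (P : Place k KY) (A B : ∀ j, Place k (W j))
    (hAB : ∀ j : Fin n, (j : ℕ) + 1 < n → A j ≠ B j)
    (hcomp0 : ∀ m : ℕ, m ≤ d + 1 →
      fdim VY DY P (m : ℤ) +
        fdim (V ⟨0, hn⟩) (D ⟨0, hn⟩) (A ⟨0, hn⟩) ((d : ℤ) + 1 - m) = r + 1)
    (hcomp : ∀ (j : Fin n) (hj : (j : ℕ) + 1 < n) (m : ℕ), m ≤ d + 1 →
      fdim (V j) (D j) (B j) (m : ℤ) +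
        fdim (V ⟨(j : ℕ) + 1, hj⟩) (D ⟨(j : ℕ) + 1, hj⟩) (A ⟨(j : ℕ) + 1, hj⟩)
          ((d : ℤ) + 1 - m) = r + 1) :
    r ≤ fdim VY DY P 2 := by
  rcases Nat.eq_zero_or_pos d with hd0 | hd
  · have := r_le_d hKY hDY hVY hVYr P
    omega
  · have e : (d : ℤ) + 1 - ((2 : ℕ) : ℤ) = (d : ℤ) - 1 := by push_cast; ring
    have C : ∀ (m : ℕ) (j : Fin n), j.val + m + 1 = n →
        fdim (V j) (D j) (A j) ((d : ℤ) - 1) ≤ 1 := by
      intro m
      induction m with
      | zero =>
        intro j hj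
        exact pos_genus_bound (hW j) (hpos j (by omega)) hd (hD j) (hV j) (A j)
      | succ m ih =>
        intro j hj
        have hj' : j.val + 1 < n := by omega
        have h1 := ih ⟨j.val + 1, hj'⟩ (by simp only; omega)
        have h2 := hcomp j hj' 2 (by omega)
        rw [e] at h2
        have h3 := two_point (hW j) (hV j) (hAB j hj') (a := (d : ℤ) - 1) (b := 2)
          (by rw [hD]; linarith)
        rw [hVr] at h3
        push_cast at h2
        omega
    have h0 := C (n - 1) ⟨0, hn⟩ (by simp only; omega)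
    have h2 := hcomp0 2 (by omega)
    rw [e] at h2
    push_cast at h2
    omega

end Groth.Agent.Helper16.LLS
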