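import Groth.Agent.S19632
import Groth.Agent.H16.DeRhamGen

/-!
# Kähler differentials of Laurent polynomials (helper16)
-/

set_option autoImplicit false
open LaurentPolynomial

namespace Groth.Agent.H16.LP

universe u

variable (k : Type u) [Field k]

/-- `d/dT` as a derivation. -/
noncomputable def Dv : Derivation k (LaurentPolynomial k) (LaurentPolynomial k) :=
  Derivation.mk' (Groth.Agent.S19632.Dl k) (Groth.Agent.S19632.Dl_leibniz k)

/-- The coefficient map `Ω → L`, `a dT ↦ a`. -/
noncomputable def lam : Ω[LaurentPolynomial k⁄k] →ₗ[LaurentPolynomial k] LaurentPolynomial k :=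
  (Dv k).liftKaehlerDifferential

lemma lam_D (f : LaurentPolynomial k) :
    lam k (KaehlerDifferential.D k (LaurentPolynomial k) f) = Groth.Agent.S19632.Dl k f :=
  Derivation.liftKaehlerDifferential_comp_D (Dv k) f

/-- The form `dT`. -/
noncomputable def dT : Ω[LaurentPolynomial k⁄k] :=
  KaehlerDifferential.D k (LaurentPolynomial k) (T 1)

lemma Dl_T (n : ℤ) : Groth.Agent.S19632.Dl k (T n) = C (n : k) * T (n - 1) := by
  have h := Groth.Agent.S19632.Dl_monomial k 1 n
  rw [map_one, one_mul, mul_one] at h
  exact h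

lemma lam_dT : lam k (dT k) = 1 := by
  unfold dT
  rw [lam_D, Dl_T]
  simp

lemma D_T_step_up (n : ℤ)
    (h : KaehlerDifferential.D k (LaurentPolynomial k) (T n) =
      (C (n : k) * T (n - 1)) • dT k) :
    KaehlerDifferential.D k (LaurentPolynomial k) (T (n + 1)) =
      (C ((n + 1 : ℤ) : k) * T (n + 1 - 1)) • dT k := by
  rw [T_add, Derivation.leibniz, h, smul_smul]
  unfold dT
  rw [← add_smul]
  congr 1
  have e1 : (T 1 : LaurentPolynomial k) * (C (n : k) * T (n - 1)) = C (n : k) * T n := by
    rw [mul_left_comm, ← T_add]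
    congr 2
    ring
  rw [e1, add_sub_cancel_right]
  push_cast
  rw [map_add, map_one]
  ring

lemma D_T_step_down (n : ℤ)
    (h : KaehlerDifferential.D k (LaurentPolynomial k) (T n) =
      (C (n : k) * T (n - 1)) • dT k) :
    KaehlerDifferential.D k (LaurentPolynomial k) (T (n - 1)) =
      (C ((n - 1 : ℤ) : k) * T (n - 1 - 1)) • dT k := by
  have h1 : (T n : LaurentPolynomial k) = T (n - 1) * T 1 := by
    rw [← T_add]; congr 1; ring
  have h2 := congrArg (KaehlerDifferential.D k (LaurentPolynomial k)) h1
  rw [Derivation.leibniz, h] at h2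
  have h3 : KaehlerDifferential.D k (LaurentPolynomial k) (T (n - 1)) =
      (T (-1) : LaurentPolynomial k) • ((C (n : k) * T (n - 1)) • dT k -
        (T (n - 1) : LaurentPolynomial k) • dT k) := by
    rw [h2]
    unfold dT
    rw [add_sub_cancel_left, smul_smul, ← T_add]
    simp
  rw [h3, ← sub_smul, smul_smul]
  congr 1
  have e1 : (T (-1) : LaurentPolynomial k) * (C (n : k) * T (n - 1) - T (n - 1)) =
      (C (n : k) - 1) * (T (-1) * T (n - 1)) := by ring
  rw [e1, ← T_add]
  push_cast
  rw [map_sub, map_one]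
  congr 2
  ring

lemma D_T (n : ℤ) : KaehlerDifferential.D k (LaurentPolynomial k) (T n) =
    (C (n : k) * T (n - 1)) • dT k := by
  induction n using Int.induction_on with
  | zero =>
    rw [T_zero, Derivation.map_one_eq_zero]
    simp
  | succ i hi => exact D_T_step_up k i hi
  | pred i hi => exact D_T_step_down k (-i) hi

lemma D_eq (f : LaurentPolynomial k) :
    KaehlerDifferential.D k (LaurentPolynomial k) f = (Groth.Agent.S19632.Dl k f) • dT k := by
  induction f using LaurentPolynomial.induction_on' with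
  | add p q hp hq => rw [map_add, map_add, hp, hq, add_smul]
  | C_mul_T n a =>
    rw [Derivation.leibniz, D_T, Groth.Agent.S19632.Dl_monomial]
    have hC : KaehlerDifferential.D k (LaurentPolynomial k) (C a) = 0 := by
      have : (C a : LaurentPolynomial k) = algebraMap k (LaurentPolynomial k) a := by
        rw [LaurentPolynomial.algebraMap_apply]
        rfl
      rw [this, Derivation.map_algebraMap]
    rw [hC, smul_zero, add_zero, smul_smul]
    congr 1
    rw [map_mul]
    ring

lemma omega_eq (ω : Ω[LaurentPolynomial k⁄k]) : ω = lam k ω • dT k := by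
  have hmem : ω ∈ Submodule.span (LaurentPolynomial k)
      (Set.range (KaehlerDifferential.D k (LaurentPolynomial k))) := by
    rw [KaehlerDifferential.span_range_derivation]; trivial
  induction hmem using Submodule.span_induction with
  | mem x hx =>
    obtain ⟨f, rfl⟩ := hx
    rw [lam_D]
    exact D_eq k f
  | zero => rw [map_zero, zero_smul]
  | add x y _ _ hx hy => rw [map_add, add_smul, ← hx, ← hy]
  | smul a x _ hx => rw [map_smul, smul_eq_mul, mul_smul, ← hx]

lemma span_dT : Submodule.span (LaurentPolynomial k) {dT k} = ⊤ := by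
  rw [eq_top_iff]
  intro ω _
  rw [omega_eq k ω]
  exact Submodule.smul_mem _ _ (Submodule.subset_span rfl)

lemma subsingleton_ext (p : ℕ) :
    Subsingleton ↥(⋀[LaurentPolynomial k]^(p + 2) (Ω[LaurentPolynomial k⁄k])) := by
  have h := exteriorPower.ιMulti_span_of_span (R := LaurentPolynomial k) (n := p + 2)
    (M := Ω[LaurentPolynomial k⁄k]) (span_dT k)
  have h0 : Submodule.span (LaurentPolynomial k)
      (exteriorPower.ιMulti (LaurentPolynomial k) (p + 2) ''
        {a : Fin (p + 2) → Ω[LaurentPolynomial k⁄k] | Set.range a ⊆ {dT k}}) = ⊥ := by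
    rw [Submodule.span_eq_bot]
    rintro _ ⟨a, ha, rfl⟩
    have h0 : a 0 = dT k := ha ⟨0, rfl⟩
    have h1 : a 1 = dT k := ha ⟨1, rfl⟩
    exact (exteriorPower.ιMulti (LaurentPolynomial k) (p + 2)).map_eq_zero_of_eq a
      (h0.trans h1.symm) (by simp [Fin.ext_iff])
  rw [h0] at h
  constructor
  intro x y
  have hx : x ∈ (⊥ : Submodule (LaurentPolynomial k) _) := by rw [h]; trivial
  have hy : y ∈ (⊥ : Submodule (LaurentPolynomial k) _) := by rw [h]; trivial
  rw [(Submodule.mem_bot _).mp hx, (Submodule.mem_bot _).mp hy]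

/-- Integration of Laurent polynomials without `T⁻¹` term. -/
lemma exists_Dl_eq [CharZero k] (a : LaurentPolynomial k) :
    ∃ f : LaurentPolynomial k, Groth.Agent.S19632.Dl k f = a - C (a.coeff (-1)) * T (-1) := by
  induction a using LaurentPolynomial.induction_on' with
  | add p q hp hq =>
    obtain ⟨f, hf⟩ := hp
    obtain ⟨g, hg⟩ := hq
    refine ⟨f + g, ?_⟩
    rw [map_add, hf, hg, AddMonoidAlgebra.coeff_add, Finsupp.add_apply, map_add]
    ring
  | C_mul_T n c =>
    by_cases hn : n = -1
    · refine ⟨0, ?_⟩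
      subst hn
      rw [map_zero, ← single_eq_C_mul_T, AddMonoidAlgebra.coeff_single, Finsupp.single_eq_same,
        single_eq_C_mul_T, sub_self]
    · refine ⟨C (c / ((n + 1 : ℤ) : k)) * T (n + 1), ?_⟩
      have hne : ((n + 1 : ℤ) : k) ≠ 0 := by
        rw [Int.cast_ne_zero]
        omega
      rw [Groth.Agent.S19632.Dl_monomial, mul_div_cancel₀ _ hne, add_sub_cancel_right,
        ← single_eq_C_mul_T, AddMonoidAlgebra.coeff_single, Finsupp.single_apply,
        if_neg hn, map_zero, zero_mul, sub_zero]

end Groth.Agent.H16.LP
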