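import Groth.Agent.H16.LP1

/-!
# The residue on 1-forms of Laurent polynomials (helper16)
-/

set_option autoImplicit false
open LaurentPolynomial

namespace Groth.Agent.H16.LP

universe u

variable (k : Type u) [Field k]

/-- The residue of a 1-form: the coefficient of `T⁻¹ dT`. -/
noncomputable def Res (ω : ↥(⋀[LaurentPolynomial k]^1 (Ω[LaurentPolynomial k⁄k]))) : k :=
  (lam k (exteriorPower.oneEquiv (LaurentPolynomial k) (Ω[LaurentPolynomial k⁄k]) ω)).coeff (-1)

lemma Res_add (x y : ↥(⋀[LaurentPolynomial k]^1 (Ω[LaurentPolynomial k⁄k]))) :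
    Res k (x + y) = Res k x + Res k y := by
  unfold Res
  rw [map_add, map_add, AddMonoidAlgebra.coeff_add, Finsupp.add_apply]

lemma Res_smul (c : k) (x : ↥(⋀[LaurentPolynomial k]^1 (Ω[LaurentPolynomial k⁄k]))) :
    Res k (c • x) = c * Res k x := by
  unfold Res
  rw [← algebraMap_smul (LaurentPolynomial k) c x, map_smul, map_smul, smul_eq_mul,
    ← Algebra.smul_def, AddMonoidAlgebra.coeff_smul_apply, smul_eq_mul]

lemma Res_sub (x y : ↥(⋀[LaurentPolynomial k]^1 (Ω[LaurentPolynomial k⁄k]))) :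
    Res k (x - y) = Res k x - Res k y := by
  unfold Res
  rw [map_sub, map_sub, AddMonoidAlgebra.coeff_sub, Finsupp.sub_apply]

/-- The form `T⁻¹ dT`. -/
noncomputable def g : ↥(⋀[LaurentPolynomial k]^1 (Ω[LaurentPolynomial k⁄k])) :=
  DeRham.gen (KaehlerDifferential.D k (LaurentPolynomial k)) 1
    (LaurentPolynomial.T (-1)) (fun _ => LaurentPolynomial.T 1)

lemma Res_g : Res k (g k) = 1 := by
  unfold Res g DeRham.gen
  rw [map_smul, exteriorPower.oneEquiv_ιMulti, map_smul]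
  have h : lam k (KaehlerDifferential.D k (LaurentPolynomial k) (T 1)) = 1 := lam_dT k
  rw [h, smul_eq_mul, mul_one]
  have h2 : (T (-1) : LaurentPolynomial k) = C 1 * T (-1) := by rw [map_one, one_mul]
  rw [h2, ← single_eq_C_mul_T, AddMonoidAlgebra.coeff_single, Finsupp.single_eq_same]

variable {k} in
lemma Res_d0 (d : ∀ p : ℕ, ↥(⋀[LaurentPolynomial k]^p (Ω[LaurentPolynomial k⁄k])) →ₗ[k]
      ↥(⋀[LaurentPolynomial k]^(p + 1) (Ω[LaurentPolynomial k⁄k])))
    (hd : DeRham.IsDiff (KaehlerDifferential.D k (LaurentPolynomial k)) d)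
    (x : ↥(⋀[LaurentPolynomial k]^0 (Ω[LaurentPolynomial k⁄k]))) :
    Res k (d 0 x) = 0 := by
  induction x using Groth.Agent.Helper16.gen_induction (R := k) with
  | h0 =>
    rw [map_zero]
    unfold Res
    rw [map_zero, map_zero, AddMonoidAlgebra.coeff_zero, Finsupp.zero_apply]
  | hadd x y hx hy => rw [map_add, Res_add, hx, hy, add_zero]
  | hgen b₀ b =>
    rw [hd.1 0 b₀ b]
    unfold Res
    rw [exteriorPower.oneEquiv_ιMulti, Fin.cons_zero, lam_D]
    have h := Groth.Agent.S19632.Dl_coeff k b₀ 0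
    rw [zero_sub, Int.cast_zero, zero_mul] at h
    exact h

variable {k} in
lemma mem_range_d0 [CharZero k]
    (d : ∀ p : ℕ, ↥(⋀[LaurentPolynomial k]^p (Ω[LaurentPolynomial k⁄k])) →ₗ[k]
      ↥(⋀[LaurentPolynomial k]^(p + 1) (Ω[LaurentPolynomial k⁄k])))
    (hd : DeRham.IsDiff (KaehlerDifferential.D k (LaurentPolynomial k)) d)
    (ω : ↥(⋀[LaurentPolynomial k]^1 (Ω[LaurentPolynomial k⁄k]))) (hω : Res k ω = 0) :
    ω ∈ LinearMap.range (d 0) := by
  obtain ⟨f, hf⟩ := exists_Dl_eq k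
    (lam k (exteriorPower.oneEquiv (LaurentPolynomial k) (Ω[LaurentPolynomial k⁄k]) ω))
  have hω' : (lam k (exteriorPower.oneEquiv (LaurentPolynomial k)
      (Ω[LaurentPolynomial k⁄k]) ω)).coeff (-1) = 0 := hω
  rw [hω', map_zero, zero_mul, sub_zero] at hf
  refine ⟨DeRham.gen (KaehlerDifferential.D k (LaurentPolynomial k)) 0 f Fin.elim0, ?_⟩
  rw [hd.1 0 f Fin.elim0]
  apply (exteriorPower.oneEquiv (LaurentPolynomial k) (Ω[LaurentPolynomial k⁄k])).injective
  rw [exteriorPower.oneEquiv_ιMulti, Fin.cons_zero, D_eq, hf]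
  exact (omega_eq k _).symm

end Groth.Agent.H16.LP
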