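import Mathlib

/-! Leibniz rule for Hasse derivatives of Laurent series. -/

namespace Groth.Agent.Helper16.Leibniz

set_option linter.deprecated false

variable {R : Type*} [CommRing R]

/-- Coefficient of a product of Laurent series as a sum over any large enough finset. -/
theorem coeff_mul_finset (f g : LaurentSeries R) (c : ℤ) (S : Finset ℤ)
    (hS : ∀ a : ℤ, f.coeff a ≠ 0 → g.coeff (c - a) ≠ 0 → a ∈ S) :
    (f * g).coeff c = ∑ a ∈ S, f.coeff a * g.coeff (c - a) := by
  classical
  rw [HahnSeries.coeff_mul]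
  have h1 : ∀ ij ∈ Finset.antidiagonal f.isPWO_support g.isPWO_support c,
      f.coeff ij.1 * g.coeff ij.2 = f.coeff ij.1 * g.coeff (c - ij.1) := by
    intro ij hij
    rw [Finset.mem_antidiagonal] at hij
    have : ij.2 = c - ij.1 := by rw [← hij.2.2]; ring
    rw [this]
  rw [Finset.sum_congr rfl h1]
  have hinj : Set.InjOn (fun ij : ℤ × ℤ => ij.1)
      (Finset.antidiagonal f.isPWO_support g.isPWO_support c : Set (ℤ × ℤ)) := by
    intro p hp q hq hpq
    rw [Finset.mem_coe, Finset.mem_antidiagonal] at hp hq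
    have h2 : p.2 = q.2 := by
      have e1 := hp.2.2
      have e2 := hq.2.2
      simp only at hpq
      rw [hpq] at e1
      linarith
    exact Prod.ext hpq h2
  rw [← Finset.sum_image (f := fun a => f.coeff a * g.coeff (c - a)) hinj]
  apply Finset.sum_subset_zero_on_sdiff
  · intro a ha
    rw [Finset.mem_image] at ha
    obtain ⟨ij, hij, rfl⟩ := ha
    rw [Finset.mem_antidiagonal] at hij
    apply hS
    · exact hij.1
    · have : c - ij.1 = ij.2 := by rw [← hij.2.2]; ring
      rw [this]; exact hij.2.1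
  · intro a ha
    rw [Finset.mem_sdiff, Finset.mem_image] at ha
    by_contra hne
    apply ha.2
    have hf : f.coeff a ≠ 0 := left_ne_zero_of_mul hne
    have hg : g.coeff (c - a) ≠ 0 := right_ne_zero_of_mul hne
    refine ⟨(a, c - a), ?_, rfl⟩
    rw [Finset.mem_antidiagonal]
    exact ⟨hf, hg, by ring⟩
  · intro a _
    rfl

theorem exists_bound (f : LaurentSeries R) : ∃ N : ℤ, ∀ a : ℤ, a < N → f.coeff a = 0 := by
  by_cases hf : f = 0
  · exact ⟨0, fun a _ => by rw [hf]; rfl⟩
  · refine ⟨f.order, fun a ha => ?_⟩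
    exact HahnSeries.coeff_eq_zero_of_lt_order ha

/-- Leibniz rule for Hasse derivatives of Laurent series. -/
theorem hasseDeriv_mul (n : ℕ) (f g : LaurentSeries R) :
    LaurentSeries.hasseDeriv R n (f * g) =
      ∑ ij ∈ Finset.HasAntidiagonal.antidiagonal n, LaurentSeries.hasseDeriv R ij.1 f * LaurentSeries.hasseDeriv R ij.2 g := by
  classical
  obtain ⟨N₁, hN₁⟩ := exists_bound f
  obtain ⟨N₂, hN₂⟩ := exists_bound g
  ext m
  rw [LaurentSeries.hasseDeriv_coeff, HahnSeries.coeff_sum]
  -- the common index set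
  set S : Finset ℤ := Finset.Icc N₁ (m + n - N₂) with hSdef
  have hS : ∀ a : ℤ, f.coeff a ≠ 0 → g.coeff (m + n - a) ≠ 0 → a ∈ S := by
    intro a ha hb
    rw [hSdef, Finset.mem_Icc]
    constructor
    · by_contra h
      exact ha (hN₁ a (not_le.mp h))
    · by_contra h
      apply hb
      apply hN₂
      linarith [not_le.mp h]
  rw [coeff_mul_finset f g (m + n) S hS, Finset.smul_sum]
  have hterm : ∀ ij ∈ Finset.HasAntidiagonal.antidiagonal n,
      (LaurentSeries.hasseDeriv R ij.1 f * LaurentSeries.hasseDeriv R ij.2 g).coeff m =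
        ∑ a ∈ S, (Ring.choose a ij.1 • f.coeff a) * (Ring.choose (m + n - a) ij.2 • g.coeff (m + n - a)) := by
    intro ij hij
    rw [Finset.HasAntidiagonal.mem_antidiagonal] at hij
    have hn : (n : ℤ) = (ij.1 : ℤ) + (ij.2 : ℤ) := by rw [← hij]; push_cast; ring
    rw [coeff_mul_finset _ _ m (S.image (fun a => a - (ij.1 : ℤ)))]
    · rw [Finset.sum_image]
      · apply Finset.sum_congr rfl
        intro a _
        rw [LaurentSeries.hasseDeriv_coeff, LaurentSeries.hasseDeriv_coeff]
        have e1 : a - (ij.1 : ℤ) + (ij.1 : ℤ) = a := by ring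
        have e2 : m - (a - (ij.1 : ℤ)) + (ij.2 : ℤ) = m + n - a := by rw [hn]; ring
        rw [e1, e2]
      · intro a _ b _ hab
        simpa using hab
    · intro a ha hb
      rw [LaurentSeries.hasseDeriv_coeff] at ha hb
      rw [Finset.mem_image]
      refine ⟨a + ij.1, ?_, by ring⟩
      apply hS
      · intro h0
        apply ha
        rw [h0, smul_zero]
      · intro h0
        apply hb
        have e2 : m - a + (ij.2 : ℤ) = m + n - (a + ij.1) := by rw [hn]; ring
        rw [e2, h0, smul_zero]
  rw [Finset.sum_congr rfl hterm, Finset.sum_comm]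
  apply Finset.sum_congr rfl
  intro a _
  have hvd : Ring.choose (m + n : ℤ) n =
      ∑ ij ∈ Finset.HasAntidiagonal.antidiagonal n, Ring.choose a ij.1 * Ring.choose (m + n - a) ij.2 := by
    have := Ring.add_choose_eq (r := a) (s := m + n - a) n (Commute.all _ _)
    rw [← this]
    congr 1
    ring
  rw [hvd, Finset.sum_smul]
  apply Finset.sum_congr rfl
  intro ij _
  rw [smul_mul_smul_comm]

end Groth.Agent.Helper16.Leibniz
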