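import Groth.Agent.H16.Embed3
set_option autoImplicit false
set_option linter.unusedSimpArgs false

namespace Groth.Agent.Helper16.Emb

open FunFld Module Groth.Agent.Helper17.FF

variable {k K : Type*} [Field k] [Field K] [Algebra k K] {n : ℕ}

theorem div_mem_A' (φ : Fin (n + 1) → K) (j : Fin (n + 1)) {f : K}
    (hf : f ∈ Submodule.span k (Set.range φ)) :
    f / φ j ∈ Algebra.adjoin k (Set.range fun i => φ i / φ j) := by
  rw [Submodule.mem_span_range_iff_exists_fun] at hf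
  obtain ⟨c, rfl⟩ := hf
  rw [Finset.sum_div]
  apply Subalgebra.sum_mem
  intro i _
  rw [smul_div_assoc]
  exact Subalgebra.smul_mem _ (Algebra.subset_adjoin (Set.mem_range_self i)) _

/-- valuation of an element of the span is bounded by the top valuation -/
theorem val_span_le (P : Place k K) (φ : Fin (n + 1) → K) {j : Fin (n + 1)}
    (hj : ∀ i, P.1 (φ i) ≤ P.1 (φ j)) {f : K} (hf : f ∈ Submodule.span k (Set.range φ)) :
    P.1 f ≤ P.1 (φ j) := by
  rw [Submodule.mem_span_range_iff_exists_fun] at hf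
  obtain ⟨c, rfl⟩ := hf
  apply Valuation.map_sum_le
  intro i _
  rw [Algebra.smul_def, map_mul]
  calc P.1 (algebraMap k K (c i)) * P.1 (φ i) ≤ 1 * P.1 (φ j) := mul_le_mul' (P.2.1 _) (hj i)
    _ = P.1 (φ j) := one_mul _

/-- every element of `k[x_i]` is a constant plus a combination of the `x_i - c_i` -/
theorem A_decomp (φ : Fin (n + 1) → K) (j : Fin (n + 1)) (c : Fin (n + 1) → k) {u : K}
    (hu : u ∈ Algebra.adjoin k (Set.range fun i => φ i / φ j)) :
    ∃ (c₀ : k) (a : Fin (n + 1) → K),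
      (∀ i, a i ∈ Algebra.adjoin k (Set.range fun i => φ i / φ j)) ∧
      u = algebraMap k K c₀ + ∑ i, a i * (φ i / φ j - algebraMap k K (c i)) := by
  classical
  set A := Algebra.adjoin k (Set.range fun i => φ i / φ j) with hA
  induction hu using Algebra.adjoin_induction with
  | mem x hx =>
    obtain ⟨i, rfl⟩ := hx
    refine ⟨c i, fun l => if l = i then 1 else 0, fun l => ?_, ?_⟩
    · show (if l = i then (1 : K) else 0) ∈ A
      split_ifs
      · exact A.one_mem
      · exact A.zero_mem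
    · simp
  | algebraMap r =>
    exact ⟨r, fun _ => 0, fun _ => A.zero_mem, by simp⟩
  | add x y _ _ hx hy =>
    obtain ⟨c₁, a₁, ha₁, rfl⟩ := hx
    obtain ⟨c₂, a₂, ha₂, rfl⟩ := hy
    refine ⟨c₁ + c₂, fun i => a₁ i + a₂ i, fun i => A.add_mem (ha₁ i) (ha₂ i), ?_⟩
    rw [map_add]
    simp only [add_mul, Finset.sum_add_distrib]
    ring
  | mul x y _ hy' hx hy =>
    obtain ⟨c₁, a₁, ha₁, rfl⟩ := hx
    obtain ⟨c₂, a₂, ha₂, hy2⟩ := hy
    refine ⟨c₁ * c₂, fun i => algebraMap k K c₁ * a₂ i + a₁ i * y, fun i =>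
      A.add_mem (A.mul_mem (A.algebraMap_mem _) (ha₂ i)) (A.mul_mem (ha₁ i) hy'), ?_⟩
    rw [map_mul]
    have e2 : ∑ i, (algebraMap k K c₁ * a₂ i + a₁ i * y) * (φ i / φ j - algebraMap k K (c i)) =
        algebraMap k K c₁ * ∑ i, a₂ i * (φ i / φ j - algebraMap k K (c i)) +
          (∑ i, a₁ i * (φ i / φ j - algebraMap k K (c i))) * y := by
      rw [Finset.mul_sum, Finset.sum_mul, ← Finset.sum_add_distrib]
      exact Finset.sum_congr rfl (fun i _ => by ring)
    rw [e2]
    linear_combination (algebraMap k K c₁) * hy2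

/-- change of the reference index in the affine coordinate ring -/
theorem change_index (φ : Fin (n + 1) → K) {j j' : Fin (n + 1)} (hj : φ j ≠ 0) (hj' : φ j' ≠ 0)
    {u : K} (hu : u ∈ Algebra.adjoin k (Set.range fun i => φ i / φ j')) :
    ∃ m : ℕ, ∀ m', m ≤ m' →
      u * (φ j' / φ j) ^ m' ∈ Algebra.adjoin k (Set.range fun i => φ i / φ j) := by
  set A := Algebra.adjoin k (Set.range fun i => φ i / φ j) with hA
  have hx : φ j' / φ j ∈ A := Algebra.subset_adjoin (Set.mem_range_self j')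
  induction hu using Algebra.adjoin_induction with
  | mem x hx' =>
    obtain ⟨i, rfl⟩ := hx'
    refine ⟨1, fun m' hm' => ?_⟩
    obtain ⟨l, rfl⟩ : ∃ l, m' = l + 1 := ⟨m' - 1, by omega⟩
    have e : φ i / φ j' * (φ j' / φ j) ^ (l + 1) = (φ i / φ j) * (φ j' / φ j) ^ l := by
      rw [pow_succ]; field_simp
    rw [e]
    exact A.mul_mem (Algebra.subset_adjoin (Set.mem_range_self i)) (A.pow_mem hx l)
  | algebraMap r =>
    exact ⟨0, fun m' _ => A.mul_mem (A.algebraMap_mem r) (A.pow_mem hx m')⟩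
  | add x y _ _ hx' hy' =>
    obtain ⟨m₁, h₁⟩ := hx'
    obtain ⟨m₂, h₂⟩ := hy'
    refine ⟨max m₁ m₂, fun m' hm' => ?_⟩
    rw [add_mul]
    exact A.add_mem (h₁ m' (le_trans (le_max_left _ _) hm'))
      (h₂ m' (le_trans (le_max_right _ _) hm'))
  | mul x y _ _ hx' hy' =>
    obtain ⟨m₁, h₁⟩ := hx'
    obtain ⟨m₂, h₂⟩ := hy'
    refine ⟨m₁ + m₂, fun m' hm' => ?_⟩
    obtain ⟨l, rfl⟩ : ∃ l, m' = m₁ + l := ⟨m' - m₁, by omega⟩
    have e : x * y * (φ j' / φ j) ^ (m₁ + l) = (x * (φ j' / φ j) ^ m₁) * (y * (φ j' / φ j) ^ l) := by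
      rw [pow_add]; ring
    rw [e]
    exact A.mul_mem (h₁ m₁ le_rfl) (h₂ l (by omega))

/-- valuation of an element of `k[x_i]` in terms of its constant term, at a place where the
`x_i - c_i` are in the maximal ideal -/
theorem val_decomp (R : Place k K) (φ : Fin (n + 1) → K) {j : Fin (n + 1)}
    (hj : ∀ i, R.1 (φ i) ≤ R.1 (φ j)) (c : Fin (n + 1) → k)
    (hc : ∀ i, R.1 (φ i / φ j - algebraMap k K (c i)) < 1) {c₀ : k} {a : Fin (n + 1) → K}
    (ha : ∀ i, a i ∈ Algebra.adjoin k (Set.range fun i => φ i / φ j)) :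
    (c₀ = 0 → R.1 (algebraMap k K c₀ + ∑ i, a i * (φ i / φ j - algebraMap k K (c i))) < 1) ∧
    (c₀ ≠ 0 → R.1 (algebraMap k K c₀ + ∑ i, a i * (φ i / φ j - algebraMap k K (c i))) = 1) := by
  have hsum : R.1 (∑ i, a i * (φ i / φ j - algebraMap k K (c i))) < 1 := by
    apply Valuation.map_sum_lt _ one_ne_zero
    intro i _
    rw [map_mul]
    calc R.1 (a i) * R.1 (φ i / φ j - algebraMap k K (c i))
        ≤ 1 * R.1 (φ i / φ j - algebraMap k K (c i)) :=
          mul_le_mul' (A_le_O R φ hj (ha i)) le_rfl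
      _ < 1 := by rw [one_mul]; exact hc i
  constructor
  · rintro rfl
    rw [map_zero, zero_add]
    exact hsum
  · intro hne
    have h1 : R.1 (algebraMap k K c₀) = 1 := val_const R hne
    rw [Valuation.map_add_eq_of_lt_left _ (by rw [h1]; exact hsum), h1]

end Groth.Agent.Helper16.Emb
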