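import Mathlib
import Groth.Prelude.Def_W4bk4grassmannianPl
import Groth.Agent.H16.PQ3

set_option autoImplicit false

/-! Construction of a matrix with prescribed Plücker coordinates. -/

namespace Groth.Agent.H16.PQ

open MvPolynomial W4bk4grassmannian

universe u

variable {K : Type u} [Field K] {n : ℕ}

theorem det_one_updateRow {m : ℕ} (c : Fin m) (v : Fin m → K) :
    ((1 : Matrix (Fin m) (Fin m) K).updateRow c v).det = v c := by
  rw [← Matrix.cramer_transpose_apply, Matrix.transpose_one, Matrix.cramer_one]
  rfl

theorem exists_matrix_of_normalized {e : ℕ} (q : Idx (e + 1) n → K) (S₀ : Idx (e + 1) n)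
    (hq1 : q S₀ = 1)
    (hq : ∀ (i' : Idx e n) (j' : Idx (e + 2) n), MvPolynomial.eval q (quadric K i' j') = 0) :
    ∃ A : Matrix (Fin n) (Fin (e + 1)) K, ∀ θ : Idx (e + 1) n, q θ = (A.submatrix θ.1 id).det := by
  classical
  have hinj : Function.Injective S₀.1 := S₀.2.injective
  let A : Matrix (Fin n) (Fin (e + 1)) K := Matrix.of fun r c => br q (Function.update S₀.1 c r)
  have hA : ∀ r c, A r c = br q (Function.update S₀.1 c r) := fun r c => rfl
  have hA1 : ∀ c' c, A (S₀.1 c') c = (1 : Matrix (Fin (e + 1)) (Fin (e + 1)) K) c' c := by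
    intro c' c
    rw [hA]
    by_cases hcc : c' = c
    · rw [hcc, Function.update_eq_self, br_idx, hq1, Matrix.one_apply_eq]
    · rw [Matrix.one_apply_ne hcc]
      apply br_of_not_injective
      intro hi
      apply hcc
      apply hi
      rw [Function.update_of_ne hcc, Function.update_self]
  set F : Idx (e + 1) n → K := fun θ => (A.submatrix θ.1 id).det with hF
  have h2 : ∀ (c : Fin (e + 1)) (x : Fin n),
      br F (Function.update S₀.1 c x) = br q (Function.update S₀.1 c x) := by
    intro c x
    rw [hF, br_minors]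
    have hsub : A.submatrix (Function.update S₀.1 c x) id =
        (1 : Matrix (Fin (e + 1)) (Fin (e + 1)) K).updateRow c (A x) := by
      ext r s
      by_cases hr : r = c
      · rw [hr, Matrix.updateRow_self, Matrix.submatrix_apply, Function.update_self]; rfl
      · rw [Matrix.updateRow_ne hr, Matrix.submatrix_apply, Function.update_of_ne hr]
        exact hA1 r s
    rw [hsub, det_one_updateRow, hA]
  have hFS₀ : F S₀ = q S₀ := by
    have := h2 0 (S₀.1 0)
    rw [Function.update_eq_self, br_idx, br_idx] at this
    exact this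
  have hFq : F = q := by
    apply uniqueness F q S₀ (fun i' j' => quadric_minors A i' j') hq hFS₀
    · rw [hFS₀, hq1]; exact one_ne_zero
    · intro c x T hx hT
      have himg : Finset.univ.image T.1 = Finset.univ.image (Function.update S₀.1 c x) := by
        rw [hT, image_update S₀.1 hinj c x]
      have := h2 c x
      rw [br_of_image F _ T himg, br_of_image q _ T himg] at this
      exact mul_left_cancel₀ (pow_ne_zero _ (neg_ne_zero.mpr one_ne_zero)) this
  exact ⟨A, fun θ => (congrFun hFq θ).symm⟩

theorem eval_quadric_smul {e : ℕ} (c : K) (q : Idx (e + 1) n → K) (i' : Idx e n)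
    (j' : Idx (e + 2) n) :
    MvPolynomial.eval (fun θ => c * q θ) (quadric K i' j') =
      c * c * MvPolynomial.eval q (quadric K i' j') := by
  rw [eval_quadric, eval_quadric, Finset.mul_sum]
  refine Finset.sum_congr rfl (fun h _ => ?_)
  rw [br_smul, br_smul]
  ring

theorem main {e : ℕ} (q : Idx (e + 1) n → K) (hq : q ≠ 0) :
    (∀ (i' : Idx e n) (j' : Idx (e + 2) n), MvPolynomial.eval q (quadric K i' j') = 0) ↔
      ∃ A : Matrix (Fin n) (Fin (e + 1)) K, ∀ θ : Idx (e + 1) n, q θ = (A.submatrix θ.1 id).det := by
  classical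
  constructor
  · intro h
    have hex : ∃ S₀, q S₀ ≠ 0 := by
      by_contra hcon
      push Not at hcon
      exact hq (funext hcon)
    obtain ⟨S₀, hS₀⟩ := hex
    set lam := q S₀ with hlam
    obtain ⟨A', hA'⟩ := exists_matrix_of_normalized (fun θ => lam⁻¹ * q θ) S₀
      (inv_mul_cancel₀ hS₀) (fun i' j' => by rw [eval_quadric_smul, h i' j', mul_zero])
    let v : Fin (e + 1) → K := fun c => if c = 0 then lam else 1
    refine ⟨A' * Matrix.diagonal v, fun θ => ?_⟩
    have hsub : (A' * Matrix.diagonal v).submatrix θ.1 id =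
        A'.submatrix θ.1 id * Matrix.diagonal v := by
      rw [Matrix.submatrix_mul A' (Matrix.diagonal v) θ.1 id id Function.bijective_id,
        Matrix.submatrix_id_id]
    rw [hsub, Matrix.det_mul, Matrix.det_diagonal, ← hA' θ]
    have hprod : ∏ c, v c = lam := by
      show ∏ c : Fin (e + 1), (if c = 0 then lam else 1) = lam
      rw [Finset.prod_ite_eq' Finset.univ (0 : Fin (e + 1)) (fun _ => lam), if_pos (Finset.mem_univ _)]
    rw [hprod]
    field_simp
  · rintro ⟨A, hA⟩ i' j'
    have : q = fun θ : Idx (e + 1) n => (A.submatrix θ.1 id).det := funext hA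
    rw [this]
    exact quadric_minors A i' j'

end Groth.Agent.H16.PQ
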