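import Mathlib
import Groth.Prelude.Def_W4bk4grassmannianPl
import Groth.Agent.H16.PQ4

set_option autoImplicit false

/-! Base change of brackets and quadrics; the explicit matrix of a normalized Plücker vector. -/

namespace Groth.Agent.H16.PQ

open MvPolynomial W4bk4grassmannian

universe u v

theorem coord_map {K : Type u} {L : Type v} [CommRing K] [CommRing L] (f : K →+* L) {d n : ℕ}
    (a : Fin d → Fin n) : MvPolynomial.map f (coord K d n a) = coord L d n a := by
  unfold coord
  split_ifs with h
  · rw [map_mul, map_pow, map_neg, map_one, MvPolynomial.map_X]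
  · rw [map_zero]

theorem quadric_map {K : Type u} {L : Type v} [CommRing K] [CommRing L] (f : K →+* L) {e n : ℕ}
    (i' : Idx e n) (j' : Idx (e + 2) n) :
    MvPolynomial.map f (quadric K i' j') = quadric L i' j' := by
  unfold quadric
  rw [map_sum]
  refine Finset.sum_congr rfl (fun h _ => ?_)
  rw [map_mul, map_mul, map_pow, map_neg, map_one, coord_map, coord_map]

variable {K : Type u} [Field K] {n : ℕ}

/-- the explicit matrix of a normalized solution of the Plücker quadrics. -/
theorem eq_det_normalized {e : ℕ} (q : Idx (e + 1) n → K) (S₀ : Idx (e + 1) n)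
    (hq1 : q S₀ = 1)
    (hq : ∀ (i' : Idx e n) (j' : Idx (e + 2) n), MvPolynomial.eval q (quadric K i' j') = 0) :
    ∀ θ : Idx (e + 1) n, q θ =
      ((Matrix.of fun r c => br q (Function.update S₀.1 c r) :
        Matrix (Fin n) (Fin (e + 1)) K).submatrix θ.1 id).det := by
  classical
  have hinj : Function.Injective S₀.1 := S₀.2.injective
  set A : Matrix (Fin n) (Fin (e + 1)) K :=
    Matrix.of fun r c => br q (Function.update S₀.1 c r) with hAdef
  have hA : ∀ r c, A r c = br q (Function.update S₀.1 c r) := fun r c => rfl
  have hA1 : ∀ c' c, A (S₀.1 c') c = (1 : Matrix (Fin (e + 1)) (Fin (e + 1)) K) c' c := by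
    intro c' c
    rw [hA]
    by_cases hcc : c' = c
    · rw [hcc, Function.update_eq_self, br_idx, hq1, Matrix.one_apply_eq]
    · rw [Matrix.one_apply_ne hcc]
      apply br_of_not_injective
      intro hi
      apply hcc
      apply hi
      rw [Function.update_of_ne hcc, Function.update_self]
  set F : Idx (e + 1) n → K := fun θ => (A.submatrix θ.1 id).det with hF
  have h2 : ∀ (c : Fin (e + 1)) (x : Fin n),
      br F (Function.update S₀.1 c x) = br q (Function.update S₀.1 c x) := by
    intro c x
    rw [hF, br_minors]
    have hsub : A.submatrix (Function.update S₀.1 c x) id =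
        (1 : Matrix (Fin (e + 1)) (Fin (e + 1)) K).updateRow c (A x) := by
      ext r s
      by_cases hr : r = c
      · rw [hr, Matrix.updateRow_self, Matrix.submatrix_apply, Function.update_self]; rfl
      · rw [Matrix.updateRow_ne hr, Matrix.submatrix_apply, Function.update_of_ne hr]
        exact hA1 r s
    rw [hsub, det_one_updateRow, hA]
  have hFS₀ : F S₀ = q S₀ := by
    have := h2 0 (S₀.1 0)
    rw [Function.update_eq_self, br_idx, br_idx] at this
    exact this
  have hFq : F = q := by
    apply uniqueness F q S₀ (fun i' j' => quadric_minors A i' j') hq hFS₀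
    · rw [hFS₀, hq1]; exact one_ne_zero
    · intro c x T hx hT
      have himg : Finset.univ.image T.1 = Finset.univ.image (Function.update S₀.1 c x) := by
        rw [hT, image_update S₀.1 hinj c x]
      have := h2 c x
      rw [br_of_image F _ T himg, br_of_image q _ T himg] at this
      exact mul_left_cancel₀ (pow_ne_zero _ (neg_ne_zero.mpr one_ne_zero)) this
  intro θ
  exact (congrFun hFq θ).symm

/-- the rows of the explicit matrix at the normalizing index form the identity. -/
theorem normalized_rows {e : ℕ} (q : Idx (e + 1) n → K) (S₀ : Idx (e + 1) n)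
    (hq1 : q S₀ = 1) (c' c : Fin (e + 1)) :
    br q (Function.update S₀.1 c (S₀.1 c')) = (1 : Matrix (Fin (e + 1)) (Fin (e + 1)) K) c' c := by
  by_cases hcc : c' = c
  · rw [hcc, Function.update_eq_self, br_idx, hq1, Matrix.one_apply_eq]
  · rw [Matrix.one_apply_ne hcc]
    apply br_of_not_injective
    intro hi
    apply hcc
    apply hi
    rw [Function.update_of_ne hcc, Function.update_self]

end Groth.Agent.H16.PQ
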