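import Mathlib
import Groth.Prelude.Def_W4bk4grassmannianPl
import Groth.Agent.H16.SM8
import Groth.Agent.S11268

set_option autoImplicit false
set_option linter.unusedSectionVars false

/-! Consequences of the standard monomial basis: intersections and hyperplane sections of
Schubert varieties. -/

namespace Groth.Agent.H16.SM

open W4bk4grassmannian MvPolynomial

universe u

variable (K : Type u) [Field K] {d n : ℕ}

theorem schubertVanishing_anti {τ φ : Idx d n} (h : φ ≤ τ) :
    schubertVanishing K d n τ ≤ schubertVanishing K d n φ := by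
  intro f hf
  rw [mem_schubertVanishing_iff] at hf ⊢
  intro A hA
  apply hf A
  intro ψ hψ
  apply hA ψ
  intro h'
  exact hψ (le_trans h' h)

theorem isRadical_schubertVanishing (τ : Idx d n) : (schubertVanishing K d n τ).IsRadical := by
  intro f hf
  obtain ⟨k, hk⟩ := hf
  rw [mem_schubertVanishing_iff] at hk ⊢
  intro A hA
  have := hk A hA
  rw [map_pow] at this
  exact (pow_eq_zero_iff (by
    rintro rfl
    rw [pow_zero] at this
    exact one_ne_zero this)).mp this

theorem inf_le_left' (w₁ w₂ : Idx d n) : W4bk4grassmannian.inf w₁ w₂ ≤ w₁ :=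
  fun _ => min_le_left _ _

theorem inf_le_right' (w₁ w₂ : Idx d n) : W4bk4grassmannian.inf w₁ w₂ ≤ w₂ :=
  fun _ => min_le_right _ _

theorem le_inf' {φ w₁ w₂ : Idx d n} (h1 : φ ≤ w₁) (h2 : φ ≤ w₂) :
    φ ≤ W4bk4grassmannian.inf w₁ w₂ :=
  fun t => le_min (h1 t) (h2 t)

/-- `J(w₁) + J(w₂) = J(w₁ ∧ w₂)`. -/
theorem sup_schubertVanishing [Infinite K] (hd : 0 < d) (w₁ w₂ : Idx d n) :
    schubertVanishing K d n w₁ ⊔ schubertVanishing K d n w₂ =
      schubertVanishing K d n (W4bk4grassmannian.inf w₁ w₂) := by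
  apply le_antisymm
  · exact sup_le (schubertVanishing_anti K (inf_le_left' w₁ w₂))
      (schubertVanishing_anti K (inf_le_right' w₁ w₂))
  · rw [← plIdeal_eq K hd (W4bk4grassmannian.inf w₁ w₂)]
    unfold plIdeal
    rw [Ideal.span_le]
    rintro f (⟨i, j, r, -, rfl⟩ | ⟨φ, hφ, rfl⟩)
    · exact Ideal.mem_sup_left (shuffleRel_mem_schubertVanishing K w₁ i j r)
    · by_cases h1 : φ ≤ w₁
      · have h2 : ¬ φ ≤ w₂ := fun h2 => hφ (le_inf' h1 h2)
        exact Ideal.mem_sup_right (X_mem_schubertVanishing K w₂ φ h2)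
      · exact Ideal.mem_sup_left (X_mem_schubertVanishing K w₁ φ h1)

theorem isRadical_sup [Infinite K] (hd : 0 < d) (w₁ w₂ : Idx d n) :
    (schubertVanishing K d n w₁ ⊔ schubertVanishing K d n w₂).IsRadical := by
  rw [sup_schubertVanishing K hd]
  exact isRadical_schubertVanishing K _

/-- an ideal between the shuffle relations and the ideal of a union, modulo which the standard
monomials of the union span, is the ideal of the union. -/
theorem iInf_le_of_span [Infinite K] (hd : 0 < d) {ι : Type*} (τs : ι → Idx d n)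
    (I' : Ideal (PlRing K d n)) (hI' : I' ≤ ⨅ i, schubertVanishing K d n (τs i))
    (hspan : Submodule.span K (Set.range fun c : (Σ m : ℕ, {c : Fin m → Idx d n //
        Antitone c ∧ ∃ i, ∀ k, c k ≤ τs i}) =>
      Ideal.Quotient.mk I' (chainMon K c.2.1)) = ⊤) :
    (⨅ i, schubertVanishing K d n (τs i)) ≤ I' := by
  classical
  intro f hf
  have hli := li_union K hd τs
  have hfspan : Ideal.Quotient.mk I' f ∈ Submodule.span K
      (Set.range fun c : (Σ m : ℕ, {c : Fin m → Idx d n //
        Antitone c ∧ ∃ i, ∀ k, c k ≤ τs i}) =>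
      Ideal.Quotient.mk I' (chainMon K c.2.1)) := by
    rw [hspan]; exact Submodule.mem_top
  obtain ⟨l, hl⟩ := (Finsupp.mem_span_range_iff_exists_finsupp).mp hfspan
  set P : PlRing K d n := l.sum fun c a => a • chainMon K c.2.1 with hP
  have hPf : Ideal.Quotient.mk I' P = Ideal.Quotient.mk I' f := by
    rw [← hl, hP, Finsupp.sum, Finsupp.sum, map_sum]
    refine Finset.sum_congr rfl (fun c _ => ?_)
    rfl
  have hdiff : P - f ∈ I' := Ideal.Quotient.eq.mp hPf
  have hPJ : P ∈ ⨅ i, schubertVanishing K d n (τs i) := by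
    have := Ideal.add_mem _ (hI' hdiff) hf
    rwa [sub_add_cancel] at this
  have hl0 : l = 0 := by
    apply (linearIndependent_iff.mp hli) l
    rw [Finsupp.linearCombination_apply]
    have : (l.sum fun c a => a • Ideal.Quotient.mk (⨅ i, schubertVanishing K d n (τs i))
        (chainMon K c.2.1)) = Ideal.Quotient.mk (⨅ i, schubertVanishing K d n (τs i)) P := by
      rw [hP, Finsupp.sum, Finsupp.sum, map_sum]
      refine Finset.sum_congr rfl (fun c _ => ?_)
      rfl
    rw [this, Ideal.Quotient.eq_zero_iff_mem]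
    exact hPJ
  have hP0 : P = 0 := by rw [hP, hl0, Finsupp.sum_zero_index]
  rw [hP0, zero_sub] at hdiff
  exact (Ideal.neg_mem_iff _).mp hdiff

/-- `J(τ) + (X_τ) = ⋂ J(φ)` over the Schubert divisors `φ` of `τ`. -/
theorem sup_span_eq_iInf_divisors [Infinite K] (hd : 0 < d) (τ : Idx d n)
    (hτ : ∃ φ : Idx d n, φ < τ) :
    schubertVanishing K d n τ ⊔ Ideal.span {(X τ : PlRing K d n)} =
      ⨅ φ ∈ divisors τ, schubertVanishing K d n φ := by
  classical
  have hle : schubertVanishing K d n τ ⊔ Ideal.span {(X τ : PlRing K d n)} ≤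
      ⨅ φ ∈ divisors τ, schubertVanishing K d n φ := by
    apply sup_le
    · exact le_iInf₂ (fun φ hφ => schubertVanishing_anti K (le_of_lt hφ.1))
    · rw [Ideal.span_le]
      intro f hf
      rw [Set.mem_singleton_iff] at hf
      rw [hf]
      simp only [SetLike.mem_coe, Ideal.mem_iInf]
      intro φ hφ
      exact X_mem_schubertVanishing K φ τ (not_le_of_gt hφ.1)
  apply le_antisymm hle
  -- reindex by the subtype of divisors
  set τs : {φ : Idx d n // φ ∈ divisors τ} → Idx d n := Subtype.val with hτs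
  have hre : (⨅ φ ∈ divisors τ, schubertVanishing K d n φ) =
      ⨅ i, schubertVanishing K d n (τs i) := by
    rw [iInf_subtype']
  rw [hre] at hle ⊢
  apply iInf_le_of_span K hd τs _ hle
  apply span_of_le K τs _ (le_trans (plIdealTop_le K τ) le_sup_left)
  intro m c hanti hc
  by_cases h1 : ∀ k, c k ≤ τ
  · by_cases h2 : ∃ k, c k = τ
    · obtain ⟨k, hk⟩ := h2
      apply Ideal.mem_sup_right
      unfold chainMon
      apply Ideal.mem_of_dvd _ (Finset.dvd_prod_of_mem _ (Finset.mem_univ k))
      rw [hk]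
      exact Ideal.subset_span rfl
    · exfalso
      push Not at h2
      apply hc
      rcases Nat.eq_zero_or_pos m with hm | hm
      · subst hm
        obtain ⟨φ₀, hφ₀⟩ := hτ
        obtain ⟨φ, hφ, -⟩ := Groth.Agent.S11268.result d n φ₀ τ hφ₀
        exact ⟨⟨φ, hφ⟩, fun k => k.elim0⟩
      · have hlt : c ⟨0, hm⟩ < τ := lt_of_le_of_ne (h1 _) (h2 _)
        obtain ⟨φ, hφ, hle'⟩ := Groth.Agent.S11268.result d n (c ⟨0, hm⟩) τ hlt
        refine ⟨⟨φ, hφ⟩, fun k => le_trans (hanti ?_) hle'⟩
        exact Fin.mk_le_of_le_val (Nat.zero_le _)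
  · exact Ideal.mem_sup_left (chainMon_mem_of_not_le K τ c h1)

end Groth.Agent.H16.SM
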