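import Mathlib
import Groth.Prelude.Def_W4bk4grassmannianPl
import Groth.Agent.H16.SM9
import Groth.Agent.H16.SN2
import Groth.Agent.S2680

set_option autoImplicit false
set_option linter.unusedSectionVars false
set_option linter.style.haveILetI false

/-! The Krull dimension of the cone over a Schubert variety. -/

namespace Groth.Agent.H16.SM

open W4bk4grassmannian MvPolynomial
open scoped MonomialOrder

universe u

variable (K : Type u) [Field K] {d n : ℕ}

/-- polynomial-level linear independence of the restricted standard monomials below `w`. -/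
theorem chains_li (hd : 0 < d) {ι : Type*} (τs : ι → Idx d n) (w : Idx d n)
    (s : Finset (Σ m : ℕ, {c : Fin m → Idx d n // Antitone c ∧ ∃ i, ∀ k, c k ≤ τs i}))
    (g : (Σ m : ℕ, {c : Fin m → Idx d n // Antitone c ∧ ∃ i, ∀ k, c k ≤ τs i}) → K)
    (h : ∑ c ∈ s, g c • Phi K w (chainMon K c.2.1) = 0) :
    ∀ c ∈ s, (∀ k, c.2.1 k ≤ w) → g c = 0 := by
  classical
  intro c₀ hc₀ hle₀
  have h2 : ∑ c ∈ s.filter (fun c => ∀ k, c.2.1 k ≤ w),
      g c • Phi K w (chainMon K c.2.1) = 0 := by
    rw [Finset.sum_filter_of_ne, h]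
    intro c _ hne
    by_contra hcon
    apply hne
    have : Phi K w (chainMon K c.2.1) = 0 := by
      rw [Phi_chainMon]
      push Not at hcon
      obtain ⟨k, hk⟩ := hcon
      exact Finset.prod_eq_zero (Finset.mem_univ k) (gminor_eq_zero K w _ hk)
    rw [this, smul_zero]
  refine eq_zero_of_degree_injOn MonomialOrder.lex
    (fun c : (Σ m : ℕ, {c : Fin m → Idx d n // Antitone c ∧ ∃ i, ∀ k, c k ≤ τs i}) =>
      Phi K w (chainMon K c.2.1))
    (s.filter (fun c => ∀ k, c.2.1 k ≤ w)) g h2 ?_ ?_ c₀
    (Finset.mem_filter.mpr ⟨hc₀, hle₀⟩)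
  · intro c hc
    exact Phi_chainMon_ne_zero K w c.2.1 (Finset.mem_filter.mp hc).2
  · intro c hc c' hc' hdeg
    rw [degree_Phi_chainMon K w c.2.1 (Finset.mem_filter.mp hc).2,
      degree_Phi_chainMon K w c'.2.1 (Finset.mem_filter.mp hc').2] at hdeg
    exact sigma_ext c c' (DD_injective hd c.2.1 c'.2.1 c.2.2.1 c'.2.2.1 hdeg)

theorem ker_Phi_eq [Infinite K] (hd : 0 < d) (w : Idx d n) :
    RingHom.ker (Phi K w).toRingHom = schubertVanishing K d n w := by
  classical
  apply le_antisymm
  · intro f hf
    have hf0 : Phi K w f = 0 := RingHom.mem_ker.mp hf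
    set τs : Unit → Idx d n := fun _ => w with hτs
    have hJ' : (⨅ i, schubertVanishing K d n (τs i)) = schubertVanishing K d n w := by
      show (⨅ _ : Unit, schubertVanishing K d n w) = schubertVanishing K d n w
      exact iInf_const
    have hspan := span_union K τs
    rw [hJ'] at hspan
    have hfspan : Ideal.Quotient.mk (schubertVanishing K d n w) f ∈ Submodule.span K
        (Set.range fun c : (Σ m : ℕ, {c : Fin m → Idx d n //
          Antitone c ∧ ∃ i, ∀ k, c k ≤ τs i}) =>
        Ideal.Quotient.mk (schubertVanishing K d n w) (chainMon K c.2.1)) := by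
      rw [hspan]; exact Submodule.mem_top
    obtain ⟨l, hl⟩ := (Finsupp.mem_span_range_iff_exists_finsupp).mp hfspan
    set P : PlRing K d n := ∑ c ∈ l.support, l c • chainMon K c.2.1 with hP
    have hPf : Ideal.Quotient.mk (schubertVanishing K d n w) P =
        Ideal.Quotient.mk (schubertVanishing K d n w) f := by
      rw [← hl, hP, Finsupp.sum, map_sum]
      refine Finset.sum_congr rfl (fun c _ => ?_)
      rfl
    have hdiff : P - f ∈ schubertVanishing K d n w := Ideal.Quotient.eq.mp hPf
    have hΦP : Phi K w P = 0 := by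
      have := Phi_eq_zero_of_mem K w _ hdiff
      rw [map_sub, hf0, sub_zero] at this
      exact this
    have hsum : ∑ c ∈ l.support, l c • Phi K w (chainMon K c.2.1) = 0 := by
      rw [← hΦP, hP, map_sum]
      refine Finset.sum_congr rfl (fun c _ => ?_)
      rw [map_smul]
    have hzero := chains_li K hd τs w l.support l hsum
    have hP0 : P = 0 := by
      rw [hP]
      apply Finset.sum_eq_zero
      intro c hc
      obtain ⟨_, hcw⟩ := c.2.2.2
      rw [hzero c hc hcw, zero_smul]
    rw [hP0, zero_sub] at hdiff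
    exact (Ideal.neg_mem_iff _).mp hdiff
  · intro f hf
    exact RingHom.mem_ker.mpr (Phi_eq_zero_of_mem K w f hf)

theorem isPrime_schubertVanishing [Infinite K] (hd : 0 < d) (w : Idx d n) :
    (schubertVanishing K d n w).IsPrime := by
  rw [← ker_Phi_eq K hd w]
  exact RingHom.ker_isPrime _

/-- evaluation at the origin kills `J(w)`. -/
theorem eval_zero_of_mem (hd : 0 < d) (w : Idx d n) (f : PlRing K d n)
    (hf : f ∈ schubertVanishing K d n w) : eval (fun _ : Idx d n => (0 : K)) f = 0 := by
  have := (mem_schubertVanishing_iff K w f).mp hf 0 (by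
    intro φ _
    haveI : Nonempty (Fin d) := ⟨⟨0, hd⟩⟩
    have : (0 : Matrix (Fin n) (Fin d) K).submatrix φ.1 id = 0 := by
      ext; simp
    rw [this, Matrix.det_zero])
  have h2 : (fun θ : Idx d n => ((0 : Matrix (Fin n) (Fin d) K).submatrix θ.1 id).det) =
      fun _ => (0 : K) := by
    funext θ
    haveI : Nonempty (Fin d) := ⟨⟨0, hd⟩⟩
    have : (0 : Matrix (Fin n) (Fin d) K).submatrix θ.1 id = 0 := by
      ext; simp
    rw [this, Matrix.det_zero]
  rw [h2] at this
  exact this

theorem sup_span_ne_top (hd : 0 < d) (w θ : Idx d n) :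
    schubertVanishing K d n w ⊔ Ideal.span {(X θ : PlRing K d n)} ≠ ⊤ := by
  intro h
  have h1 : (1 : PlRing K d n) ∈ schubertVanishing K d n w ⊔ Ideal.span {(X θ : PlRing K d n)} := by
    rw [h]; exact Submodule.mem_top
  obtain ⟨j, hj, y, hy, hjy⟩ := Submodule.mem_sup.mp h1
  obtain ⟨e, rfl⟩ := Ideal.mem_span_singleton'.mp hy
  have h2 := congrArg (eval (fun _ : Idx d n => (0 : K))) hjy
  rw [map_add, eval_zero_of_mem K hd w j hj, map_mul, eval_X, mul_zero, add_zero, map_one] at h2
  exact zero_ne_one h2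

/-- the dimension of a quotient by a finite intersection. -/
theorem ringKrullDim_quotient_iInf_le {R : Type*} [CommRing R] {ι : Type*} [Finite ι]
    (I : ι → Ideal R) (N : WithBot ℕ∞) (h : ∀ i, ringKrullDim (R ⧸ I i) ≤ N) :
    ringKrullDim (R ⧸ ⨅ i, I i) ≤ N := by
  classical
  haveI := Fintype.ofFinite ι
  rw [ringKrullDim_quotient]
  apply iSup_le
  intro l
  have hhead : (⨅ i, I i) ≤ (l.head.1).asIdeal := by
    have := l.head.2
    rw [PrimeSpectrum.mem_zeroLocus] at this
    exact this
  have hinf : (Finset.univ.inf I) ≤ (l.head.1).asIdeal := by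
    rw [Finset.inf_univ_eq_iInf]; exact hhead
  obtain ⟨i, -, hi⟩ := (Ideal.IsPrime.inf_le' (l.head.1).isPrime).mp hinf
  -- the chain lies over `I i`
  have hall : ∀ k, (l k).1 ∈ PrimeSpectrum.zeroLocus (R := R) (I i) := by
    intro k
    rw [PrimeSpectrum.mem_zeroLocus]
    have hle : l.head ≤ l k := LTSeries.head_le l k
    exact le_trans hi hle
  let l' : LTSeries (PrimeSpectrum.zeroLocus (R := R) (I i)) :=
    { length := l.length
      toFun := fun k => ⟨(l k).1, hall k⟩
      step := fun k => l.step k }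
  have h1 : (l.length : WithBot ℕ∞) ≤ Order.krullDim (PrimeSpectrum.zeroLocus (R := R) (I i)) :=
    Order.LTSeries.length_le_krullDim l'
  rw [← ringKrullDim_quotient] at h1
  exact le_trans h1 (h i)

end Groth.Agent.H16.SM
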