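import Mathlib
import Groth.Prelude.Def_W4bk4grassmannianPl
import Groth.Agent.H16.SchubDim1

set_option autoImplicit false
set_option linter.unusedSectionVars false
set_option linter.style.haveILetI false

/-! The Krull dimension of the cone over a Schubert variety: the induction. -/

namespace Groth.Agent.H16.SM

open W4bk4grassmannian MvPolynomial

universe u

variable (K : Type u) [Field K] {d n : ℕ}

theorem X_not_mem [Infinite K] (w θ : Idx d n) (hθ : θ ≤ w) :
    (X θ : PlRing K d n) ∉ schubertVanishing K d n w := by
  intro h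
  have h1 := Phi_eq_zero_of_mem K w _ h
  rw [Phi_X] at h1
  exact (monic_gminor K w θ hθ).ne_zero h1

/-- cutting by the top coordinate drops the dimension by exactly one. -/
theorem dim_eq_dim_quotient_add_one [Infinite K] (hd : 0 < d) (w : Idx d n) :
    ringKrullDim (PlRing K d n ⧸ schubertVanishing K d n w) =
      ringKrullDim (PlRing K d n ⧸
        (schubertVanishing K d n w ⊔ Ideal.span {(X w : PlRing K d n)})) + 1 := by
  set J := schubertVanishing K d n w with hJ
  haveI : J.IsPrime := isPrime_schubertVanishing K hd w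
  haveI : Finite (Idx d n) := Subtype.finite
  haveI : IsNoetherianRing (PlRing K d n ⧸ J) :=
    Algebra.FiniteType.isNoetherianRing K (PlRing K d n ⧸ J)
  set x : PlRing K d n ⧸ J := Ideal.Quotient.mk J (X w) with hx
  have hx0 : x ≠ 0 := by
    intro h
    exact X_not_mem K w w le_rfl (Ideal.Quotient.eq_zero_iff_mem.mp h)
  have hxreg : x ∈ nonZeroDivisors (PlRing K d n ⧸ J) := mem_nonZeroDivisors_of_ne_zero hx0
  have hmap : (Ideal.span {(X w : PlRing K d n)}).map (Ideal.Quotient.mk J) = Ideal.span {x} := by
    rw [Ideal.map_span, Set.image_singleton]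
  have hequiv : ringKrullDim ((PlRing K d n ⧸ J) ⧸ Ideal.span {x}) =
      ringKrullDim (PlRing K d n ⧸ (J ⊔ Ideal.span {(X w : PlRing K d n)})) := by
    rw [← hmap]
    exact ringKrullDim_eq_of_ringEquiv
      (DoubleQuot.quotQuotEquivQuotSup J (Ideal.span {(X w : PlRing K d n)}))
  have hne_top : Ideal.span {x} ≠ ⊤ := by
    intro h
    have h1 : (Ideal.span {(X w : PlRing K d n)}).map (Ideal.Quotient.mk J) = ⊤ := by
      rw [hmap, h]
    haveI : Subsingleton ((PlRing K d n ⧸ J) ⧸
        (Ideal.span {(X w : PlRing K d n)}).map (Ideal.Quotient.mk J)) :=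
      Ideal.Quotient.subsingleton_iff.mpr h1
    haveI : Subsingleton (PlRing K d n ⧸ (J ⊔ Ideal.span {(X w : PlRing K d n)})) :=
      (DoubleQuot.quotQuotEquivQuotSup J
        (Ideal.span {(X w : PlRing K d n)})).symm.toEquiv.subsingleton
    exact sup_span_ne_top K hd w w (Ideal.Quotient.subsingleton_iff.mp inferInstance)
  rw [← hequiv]
  apply le_antisymm
  · obtain ⟨m, hm, hle⟩ := Ideal.exists_le_maximal _ hne_top
    haveI := hm
    have h1 := Groth.Agent.S2680.height_eq_of_isMaximal K (PlRing K d n ⧸ J) m
    have hxm : x ∈ m := hle (Ideal.subset_span rfl)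
    have h2 := Ideal.height_le_ringKrullDim_quotient_add_one (p := m) hxm
    rw [← h1]
    exact h2
  · exact ringKrullDim_quotient_succ_le_of_nonZeroDivisor hxreg

theorem codeg_iota (hdn : d < n) : codeg (iota hdn) = 0 := by
  unfold codeg
  apply Finset.sum_eq_zero
  intro t _
  show t.val - t.val = 0
  exact Nat.sub_self _

/-- the dimension at the bottom. -/
theorem dim_quotient_iota [Infinite K] (hd : 0 < d) (hdn : d < n) :
    ringKrullDim (PlRing K d n ⧸
      (schubertVanishing K d n (iota hdn) ⊔ Ideal.span {(X (iota hdn) : PlRing K d n)})) = 0 := by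
  set P' := schubertVanishing K d n (iota hdn) ⊔ Ideal.span {(X (iota hdn) : PlRing K d n)}
    with hP'
  have hX : ∀ θ : Idx d n, (X θ : PlRing K d n) ∈ P' := by
    intro θ
    by_cases h : θ = iota hdn
    · rw [h]; exact Ideal.mem_sup_right (Ideal.subset_span rfl)
    · apply Ideal.mem_sup_left
      apply X_mem_schubertVanishing
      intro hle
      exact h (le_antisymm hle (iota_le hdn θ))
  have hne : P' ≠ ⊤ := sup_span_ne_top K hd _ _
  haveI : Nontrivial (PlRing K d n ⧸ P') := Ideal.Quotient.nontrivial_iff.mpr hne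
  have hsurj : Function.Surjective (algebraMap K (PlRing K d n ⧸ P')) := by
    intro z
    obtain ⟨p, rfl⟩ := Ideal.Quotient.mk_surjective z
    induction p using MvPolynomial.induction_on with
    | C c => exact ⟨c, rfl⟩
    | add p q hp hq =>
      obtain ⟨a, ha⟩ := hp
      obtain ⟨b, hb⟩ := hq
      exact ⟨a + b, by rw [map_add, map_add, ha, hb]⟩
    | mul_X p θ _ =>
      refine ⟨0, ?_⟩
      rw [map_zero]
      symm
      apply Ideal.Quotient.eq_zero_iff_mem.mpr
      exact Ideal.mul_mem_left _ _ (hX θ)
  apply le_antisymm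
  · have := ringKrullDim_le_of_surjective _ hsurj
    rwa [ringKrullDim_eq_zero_of_field] at this
  · exact ringKrullDim_nonneg_of_nontrivial

theorem dim_schubert [Infinite K] (hd : 0 < d) (hdn : d < n) :
    ∀ (N : ℕ) (w : Idx d n), codeg w = N →
      ringKrullDim (PlRing K d n ⧸ schubertVanishing K d n w) = ((N + 1 : ℕ) : WithBot ℕ∞) := by
  intro N
  induction N using Nat.strong_induction_on with
  | _ N ih =>
    intro w hw
    haveI : Finite (Idx d n) := Subtype.finite
    rw [dim_eq_dim_quotient_add_one K hd w]
    by_cases hex : ∃ φ : Idx d n, φ < w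
    · -- use the divisors
      rw [sup_span_eq_iInf_divisors K hd w hex]
      obtain ⟨φ₀, hφ₀⟩ := hex
      obtain ⟨φ₁, hφ₁, -⟩ := Groth.Agent.S11268.result d n φ₀ w hφ₀
      have hNpos : 0 < N := by
        have := hφ₁.2
        omega
      have hdiv : ∀ φ ∈ divisors w,
          ringKrullDim (PlRing K d n ⧸ schubertVanishing K d n φ) = ((N : ℕ) : WithBot ℕ∞) := by
        intro φ hφ
        have h1 : codeg φ = N - 1 := by have := hφ.2; omega
        have := ih (N - 1) (by omega) φ h1
        rw [this]
        congr 2
        omega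
      have hre : (⨅ φ ∈ divisors w, schubertVanishing K d n φ) =
          ⨅ i : {φ : Idx d n // φ ∈ divisors w}, schubertVanishing K d n i.1 := by
        rw [iInf_subtype']
      rw [hre]
      have hdim : ringKrullDim (PlRing K d n ⧸
          ⨅ i : {φ : Idx d n // φ ∈ divisors w}, schubertVanishing K d n i.1) =
          ((N : ℕ) : WithBot ℕ∞) := by
        apply le_antisymm
        · apply ringKrullDim_quotient_iInf_le
          intro i
          exact le_of_eq (hdiv i.1 i.2)
        · rw [← hdiv φ₁ hφ₁]
          exact ringKrullDim_le_of_surjective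
            (Ideal.Quotient.factor (iInf_le (fun i : {φ : Idx d n // φ ∈ divisors w} =>
              schubertVanishing K d n i.1) ⟨φ₁, hφ₁⟩))
            (Ideal.Quotient.factor_surjective _)
      rw [hdim]
      rfl
    · -- the bottom element
      have hw' : w = iota hdn := by
        by_contra hne
        exact hex ⟨iota hdn, lt_of_le_of_ne (iota_le hdn w) (Ne.symm hne)⟩
      subst hw'
      rw [dim_quotient_iota K hd hdn, ← hw, codeg_iota hdn]
      rfl

end Groth.Agent.H16.SM
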