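import Mathlib
import Groth.Prelude.Def_W4bk4grassmannianPl
import Groth.Agent.H16.NR1
import Groth.Agent.H16.SchubDim2
import Groth.Agent.H16.SO1

set_option autoImplicit false
set_option linter.unusedSectionVars false
set_option linter.style.haveILetI false

/-! The fraction field of the cone over a Schubert variety: coordinates on the cell. -/

namespace Groth.Agent.H16.SM

open W4bk4grassmannian MvPolynomial

universe u v

variable (K : Type u) [Field K] {e n : ℕ} (w : Idx (e + 1) n)

/-- the coordinate ring of the cone over `X(w)`. -/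
abbrev BB : Type u := PlRing K (e + 1) n ⧸ schubertVanishing K (e + 1) n w

variable (F : Type v) [Field F] [Algebra (BB K w) F] [IsFractionRing (BB K w) F]
  [Algebra K F] [IsScalarTower K (BB K w) F]

/-- the Plücker coordinates in the fraction field. -/
noncomputable def xF (θ : Idx (e + 1) n) : F :=
  algebraMap (BB K w) F (Ideal.Quotient.mk (schubertVanishing K (e + 1) n w) (X θ))

theorem xF_eq_zero (θ : Idx (e + 1) n) (hθ : ¬ θ ≤ w) : xF K w F θ = 0 := by
  unfold xF
  rw [Ideal.Quotient.eq_zero_iff_mem.mpr (X_mem_schubertVanishing K w θ hθ), map_zero]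

theorem xF_w_ne_zero [Infinite K] : xF K w F w ≠ 0 := by
  unfold xF
  intro h
  have h1 := (IsFractionRing.injective (BB K w) F) (h.trans (map_zero _).symm)
  exact X_not_mem K w w le_rfl (Ideal.Quotient.eq_zero_iff_mem.mp h1)

/-- the evaluation of Plücker polynomials in the fraction field. -/
theorem eval_xF (p : PlRing K (e + 1) n) :
    MvPolynomial.eval₂ (algebraMap K F) (xF K w F) p =
      algebraMap (BB K w) F (Ideal.Quotient.mk (schubertVanishing K (e + 1) n w) p) := by
  induction p using MvPolynomial.induction_on with
  | C c =>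
    rw [eval₂_C]
    rw [IsScalarTower.algebraMap_apply K (BB K w) F]
    rfl
  | add p q hp hq => rw [eval₂_add, hp, hq, map_add, map_add]
  | mul_X p θ hp => rw [eval₂_mul, eval₂_X, hp, map_mul, map_mul]; rfl

theorem quadric_mem_vanishing (i' : Idx e n) (j' : Idx (e + 2) n) :
    quadric K i' j' ∈ vanishing K (e + 1) n := by
  rw [mem_vanishing_iff]
  intro A
  exact PQ.quadric_minors A i' j'

theorem eval_xF_quadric (i' : Idx e n) (j' : Idx (e + 2) n) :
    MvPolynomial.eval (xF K w F) (quadric F i' j') = 0 := by
  rw [← PQ.quadric_map (algebraMap K F) i' j', MvPolynomial.eval_map, eval_xF,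
    Ideal.Quotient.eq_zero_iff_mem.mpr (vanishing_le K w (quadric_mem_vanishing K i' j')),
    map_zero]

/-- the normalized Plücker vector. -/
noncomputable def qF (θ : Idx (e + 1) n) : F := (xF K w F w)⁻¹ * xF K w F θ

theorem qF_w [Infinite K] : qF K w F w = 1 := by
  unfold qF
  exact inv_mul_cancel₀ (xF_w_ne_zero K w F)

theorem eval_qF_quadric (i' : Idx e n) (j' : Idx (e + 2) n) :
    MvPolynomial.eval (qF K w F) (quadric F i' j') = 0 := by
  unfold qF
  rw [PQ.eval_quadric_smul, eval_xF_quadric, mul_zero]

/-- the normalized matrix. -/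
noncomputable def AF : Matrix (Fin n) (Fin (e + 1)) F :=
  Matrix.of fun r c => PQ.br (qF K w F) (Function.update w.1 c r)

theorem xF_eq [Infinite K] (θ : Idx (e + 1) n) :
    xF K w F θ = xF K w F w * ((AF K w F).submatrix θ.1 id).det := by
  have h := PQ.eq_det_normalized (qF K w F) w (qF_w K w F) (eval_qF_quadric K w F) θ
  unfold AF
  rw [← h]
  unfold qF
  rw [← mul_assoc, mul_inv_cancel₀ (xF_w_ne_zero K w F), one_mul]

theorem AF_row [Infinite K] (c' c : Fin (e + 1)) :
    AF K w F (w.1 c') c = (1 : Matrix (Fin (e + 1)) (Fin (e + 1)) F) c' c :=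
  PQ.normalized_rows (qF K w F) w (qF_w K w F) c' c

theorem AF_eq_zero (r : Fin n) (c : Fin (e + 1)) (hr : w.1 c < r) : AF K w F r c = 0 := by
  classical
  show PQ.br (qF K w F) (Function.update w.1 c r) = 0
  by_cases hcard : (Finset.univ.image (Function.update w.1 c r)).card = e + 1
  · rw [PQ.br_of_card _ _ hcard]
    set θ' := sortIdx (e + 1) n (Function.update w.1 c r) hcard with hθ'
    have himg : Finset.univ.image θ'.1 = Finset.univ.image (Function.update w.1 c r) :=
      PQ.image_sortIdx _ hcard
    have hnot : ¬ θ' ≤ w := by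
      intro hle
      -- the elements of θ' below w c
      have h1 : (Finset.Iic c).image θ'.1 ⊆ (Finset.Iio c).image w.1 := by
        intro y hy
        obtain ⟨t, ht, rfl⟩ := Finset.mem_image.mp hy
        have htc : t ≤ c := Finset.mem_Iic.mp ht
        have hyle : θ'.1 t ≤ w.1 c := le_trans (hle t) (w.2.monotone htc)
        have hmem : θ'.1 t ∈ Finset.univ.image (Function.update w.1 c r) := by
          rw [← himg]; exact Finset.mem_image_of_mem _ (Finset.mem_univ t)
        obtain ⟨s, -, hs⟩ := Finset.mem_image.mp hmem
        by_cases hsc : s = c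
        · rw [hsc, Function.update_self] at hs
          rw [← hs] at hyle
          exact absurd hr (not_lt.mpr hyle)
        · rw [Function.update_of_ne hsc] at hs
          have hslt : s < c := by
            by_contra hge
            have hcs : c < s := lt_of_le_of_ne (not_lt.mp hge) (Ne.symm hsc)
            have := w.2 hcs
            rw [hs] at this
            exact absurd this (not_lt.mpr hyle)
          exact Finset.mem_image.mpr ⟨s, Finset.mem_Iio.mpr hslt, hs⟩
      have h2 := Finset.card_le_card h1
      rw [Finset.card_image_of_injective _ θ'.2.injective,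
        Finset.card_image_of_injective _ w.2.injective, Fin.card_Iic, Fin.card_Iio] at h2
      omega
    unfold qF
    rw [xF_eq_zero K w F θ' hnot, mul_zero, mul_zero]
  · exact PQ.br_of_not_injective _ _ (fun hi => hcard ((PQ.card_image_iff _).mpr hi))

end Groth.Agent.H16.SM
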