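import Mathlib
import Groth.Prelude.Def_W4bk4grassmannianPl
import Groth.Agent.H16.NR2

set_option autoImplicit false
set_option linter.unusedSectionVars false
set_option linter.style.haveILetI false

/-! The subalgebra generated by the cell coordinates. -/

namespace Groth.Agent.H16.SM

open W4bk4grassmannian MvPolynomial

universe u v

variable {e n : ℕ} (w : Idx (e + 1) n)

/-- the index set of the cell coordinates. -/
abbrev Gam : Type :=
  {p : Fin n × Fin (e + 1) // p.1 ∉ Finset.univ.image w.1 ∧ p.1 < w.1 p.2}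

theorem card_col (c : Fin (e + 1)) :
    (Finset.univ.filter fun r : Fin n => r ∉ Finset.univ.image w.1 ∧ r < w.1 c).card =
      (w.1 c).val - c.val := by
  classical
  have h1 : (Finset.univ.filter fun r : Fin n => r ∉ Finset.univ.image w.1 ∧ r < w.1 c) =
      Finset.Iio (w.1 c) \ (Finset.Iio c).image w.1 := by
    ext r
    simp only [Finset.mem_filter, Finset.mem_univ, true_and, Finset.mem_sdiff, Finset.mem_Iio,
      Finset.mem_image, not_exists, not_and]
    constructor
    · rintro ⟨h1, h2⟩
      exact ⟨h2, fun t _ ht => h1 t ht⟩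
    · rintro ⟨h1, h2⟩
      refine ⟨fun t ht => ?_, h1⟩
      apply h2 t _ ht
      rw [← ht] at h1
      exact w.2.lt_iff_lt.mp h1
  have h2 : (Finset.Iio c).image w.1 ⊆ Finset.Iio (w.1 c) := by
    intro y hy
    obtain ⟨t, ht, rfl⟩ := Finset.mem_image.mp hy
    exact Finset.mem_Iio.mpr (w.2 (Finset.mem_Iio.mp ht))
  rw [h1, Finset.card_sdiff_of_subset h2, Fin.card_Iio,
    Finset.card_image_of_injective _ w.2.injective, Fin.card_Iio]

theorem card_Gam : Nat.card (Gam w) = codeg w := by
  classical
  rw [Nat.card_eq_fintype_card, Fintype.card_subtype]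
  unfold codeg
  rw [Finset.card_eq_sum_card_fiberwise (f := fun p : Fin n × Fin (e + 1) => p.2)
    (t := Finset.univ) (fun _ _ => Finset.mem_coe.mpr (Finset.mem_univ _))]
  refine Finset.sum_congr rfl (fun c _ => ?_)
  rw [← card_col w c]
  apply Finset.card_bij (fun p _ => p.1)
  · intro p hp
    simp only [Finset.mem_filter, Finset.mem_univ, true_and] at hp ⊢
    obtain ⟨⟨h1, h2⟩, h3⟩ := hp
    rw [h3] at h2
    exact ⟨h1, h2⟩
  · intro p hp p' hp' h
    simp only [Finset.mem_filter, Finset.mem_univ, true_and] at hp hp'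
    exact Prod.ext h (hp.2.trans hp'.2.symm)
  · intro r hr
    simp only [Finset.mem_filter, Finset.mem_univ, true_and] at hr
    refine ⟨(r, c), ?_, rfl⟩
    simp only [Finset.mem_filter, Finset.mem_univ, true_and, and_true]
    exact hr

variable (K : Type u) [Field K]
variable (F : Type v) [Field F] [Algebra (BB K w) F] [IsFractionRing (BB K w) F]
  [Algebra K F] [IsScalarTower K (BB K w) F]

/-- the generators: the top coordinate and the cell coordinates. -/
noncomputable def gen : Option (Gam w) → F
  | none => xF K w F w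
  | some p => AF K w F p.1.1 p.1.2

/-- the subalgebra generated by the cell coordinates and the top coordinate. -/
noncomputable def CC : Subalgebra K F := (MvPolynomial.aeval (gen w K F)).range

theorem gen_mem (o : Option (Gam w)) : gen w K F o ∈ CC w K F :=
  (AlgHom.mem_range _).mpr ⟨X o, aeval_X _ _⟩

theorem AF_mem [Infinite K] (r : Fin n) (c : Fin (e + 1)) : AF K w F r c ∈ CC w K F := by
  classical
  by_cases hr : r ∈ Finset.univ.image w.1
  · obtain ⟨c', -, rfl⟩ := Finset.mem_image.mp hr
    rw [AF_row, Matrix.one_apply]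
    split_ifs
    · exact Subalgebra.one_mem _
    · exact Subalgebra.zero_mem _
  · rcases lt_trichotomy r (w.1 c) with h | h | h
    · exact gen_mem w K F (some ⟨(r, c), hr, h⟩)
    · exfalso
      apply hr
      rw [h]
      exact Finset.mem_image_of_mem _ (Finset.mem_univ c)
    · rw [AF_eq_zero K w F r c h]
      exact Subalgebra.zero_mem _

theorem xF_mem [Infinite K] (θ : Idx (e + 1) n) : xF K w F θ ∈ CC w K F := by
  rw [xF_eq K w F θ]
  apply Subalgebra.mul_mem _ (gen_mem w K F none)
  set M' : Matrix (Fin (e + 1)) (Fin (e + 1)) (CC w K F) :=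
    fun s t => ⟨AF K w F (θ.1 s) t, AF_mem w K F (θ.1 s) t⟩ with hM'
  have h : (AF K w F).submatrix θ.1 id = (CC w K F).val.toRingHom.mapMatrix M' := by
    ext s t
    rfl
  rw [h, ← RingHom.map_det]
  exact (M'.det).2

theorem algebraMap_mem [Infinite K] (b : BB K w) : algebraMap (BB K w) F b ∈ CC w K F := by
  obtain ⟨p, rfl⟩ := Ideal.Quotient.mk_surjective b
  rw [← eval_xF]
  induction p using MvPolynomial.induction_on with
  | C c =>
    rw [eval₂_C]
    exact Subalgebra.algebraMap_mem _ c
  | add p q hp hq => rw [eval₂_add]; exact Subalgebra.add_mem _ hp hq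
  | mul_X p θ hp =>
    rw [eval₂_mul, eval₂_X]
    exact Subalgebra.mul_mem _ hp (xF_mem w K F θ)

/-- the elements that become integral after multiplication by a power of the top coordinate. -/
noncomputable def DD' : Subalgebra K F where
  carrier := {z | ∃ (b : BB K w) (k : ℕ), z * (xF K w F w) ^ k = algebraMap (BB K w) F b}
  mul_mem' := by
    rintro z z' ⟨b, k, h⟩ ⟨b', k', h'⟩
    refine ⟨b * b', k + k', ?_⟩
    rw [map_mul, ← h, ← h', pow_add]
    ring
  add_mem' := by
    rintro z z' ⟨b, k, h⟩ ⟨b', k', h'⟩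
    refine ⟨b * (Ideal.Quotient.mk _ (X w)) ^ k' + b' * (Ideal.Quotient.mk _ (X w)) ^ k, k + k', ?_⟩
    rw [map_add, map_mul, map_mul, map_pow, map_pow, ← h, ← h', pow_add]
    unfold xF
    ring
  algebraMap_mem' := by
    intro c
    refine ⟨algebraMap K (BB K w) c, 0, ?_⟩
    rw [pow_zero, mul_one, ← IsScalarTower.algebraMap_apply]

theorem CC_le_DD' [Infinite K] : CC w K F ≤ DD' w K F := by
  classical
  unfold CC
  rw [← Algebra.adjoin_range_eq_range_aeval, Algebra.adjoin_le_iff]
  rintro z ⟨o, rfl⟩
  cases o with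
  | none =>
    exact ⟨Ideal.Quotient.mk _ (X w), 0, by rw [pow_zero, mul_one]; rfl⟩
  | some p =>
    show AF K w F p.1.1 p.1.2 ∈ DD' w K F
    show PQ.br (qF K w F) (Function.update w.1 p.1.2 p.1.1) ∈ DD' w K F
    by_cases hcard : (Finset.univ.image (Function.update w.1 p.1.2 p.1.1)).card = e + 1
    · rw [PQ.br_of_card _ _ hcard]
      refine ⟨(-1) ^ invCount (e + 1) n (Function.update w.1 p.1.2 p.1.1) *
        Ideal.Quotient.mk _ (X (sortIdx (e + 1) n (Function.update w.1 p.1.2 p.1.1) hcard)), 1, ?_⟩
      rw [map_mul, map_pow, map_neg, map_one, pow_one]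
      unfold qF
      have hx : xF K w F w ≠ 0 := xF_w_ne_zero K w F
      rw [mul_assoc, mul_assoc, mul_comm _ (xF K w F w), ← mul_assoc (xF K w F w)⁻¹,
        inv_mul_cancel₀ hx, one_mul]
      rfl
    · rw [PQ.br_of_not_injective _ _ (fun hi => hcard ((PQ.card_image_iff _).mpr hi))]
      exact Subalgebra.zero_mem _

end Groth.Agent.H16.SM
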