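import Mathlib
import Groth.Prelude.Def_W4bk4grassmannianPl
import Groth.Agent.H16.NR3

set_option autoImplicit false
set_option linter.unusedSectionVars false
set_option linter.style.haveILetI false

/-! Normality of the cone over a Schubert variety. -/

namespace Groth.Agent.H16.SM

open W4bk4grassmannian MvPolynomial

universe u

variable (K : Type u) [Field K] [Infinite K] {e n : ℕ} (w : Idx (e + 1) n)

theorem isDomain_BB : IsDomain (BB K w) := by
  haveI : (schubertVanishing K (e + 1) n w).IsPrime :=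
    isPrime_schubertVanishing K (Nat.succ_pos e) w
  exact Ideal.Quotient.isDomain _

theorem dvd_iff (g : PlRing K (e + 1) n) :
    Ideal.Quotient.mk (schubertVanishing K (e + 1) n w) (X w) ∣
      Ideal.Quotient.mk (schubertVanishing K (e + 1) n w) g ↔
    g ∈ schubertVanishing K (e + 1) n w ⊔ Ideal.span {(X w : PlRing K (e + 1) n)} := by
  constructor
  · rintro ⟨c, hc⟩
    obtain ⟨c', rfl⟩ := Ideal.Quotient.mk_surjective c
    rw [← map_mul, Ideal.Quotient.eq] at hc
    have h2 : X w * c' ∈ schubertVanishing K (e + 1) n w ⊔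
        Ideal.span {(X w : PlRing K (e + 1) n)} :=
      Ideal.mul_mem_right _ _ (Ideal.mem_sup_right (Ideal.subset_span rfl))
    have := Ideal.add_mem _ (Ideal.mem_sup_left hc) h2
    rwa [sub_add_cancel] at this
  · intro hx
    obtain ⟨j, hj, y, hy, rfl⟩ := Submodule.mem_sup.mp hx
    obtain ⟨c, rfl⟩ := Ideal.mem_span_singleton'.mp hy
    refine ⟨Ideal.Quotient.mk _ c, ?_⟩
    rw [map_add, Ideal.Quotient.eq_zero_iff_mem.mpr hj, zero_add, map_mul, mul_comm]

theorem isRadical_sup_span (hdn : e + 1 < n) :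
    (schubertVanishing K (e + 1) n w ⊔ Ideal.span {(X w : PlRing K (e + 1) n)}).IsRadical := by
  by_cases hex : ∃ φ : Idx (e + 1) n, φ < w
  · rw [sup_span_eq_iInf_divisors K (Nat.succ_pos e) w hex]
    intro f hf
    obtain ⟨k, hk⟩ := hf
    simp only [Ideal.mem_iInf] at hk ⊢
    intro φ hφ
    exact isRadical_schubertVanishing K φ ⟨k, hk φ hφ⟩
  · have hw' : w = iota hdn := by
      by_contra hne
      exact hex ⟨iota hdn, lt_of_le_of_ne (iota_le hdn w) (Ne.symm hne)⟩
    rw [hw', sup_eq_ker K (Nat.succ_pos e) hdn (iota hdn)]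
    exact (RingHom.ker_isPrime _).isRadical

theorem dvd_of_dvd_pow (hdn : e + 1 < n) (b : BB K w) (N : ℕ)
    (h : Ideal.Quotient.mk (schubertVanishing K (e + 1) n w) (X w) ∣ b ^ N) :
    Ideal.Quotient.mk (schubertVanishing K (e + 1) n w) (X w) ∣ b := by
  obtain ⟨f, rfl⟩ := Ideal.Quotient.mk_surjective b
  rw [← map_pow, dvd_iff] at h
  rw [dvd_iff]
  exact isRadical_sup_span K w hdn ⟨N, h⟩

section

variable [IsDomain (BB K w)]

theorem isFractionRing_CC :
    IsFractionRing (CC w K (FractionRing (BB K w))) (FractionRing (BB K w)) := by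
  apply IsFractionRing.of_field
  intro z
  obtain ⟨a, b, -, rfl⟩ := IsFractionRing.div_surjective (A := BB K w) z
  exact ⟨⟨_, algebraMap_mem w K _ a⟩, ⟨_, algebraMap_mem w K _ b⟩, rfl⟩

theorem finiteType_CC : Algebra.FiniteType K (CC w K (FractionRing (BB K w))) := by
  haveI : Finite (Gam w) := Subtype.finite
  exact Algebra.FiniteType.of_surjective
    (MvPolynomial.aeval (gen w K (FractionRing (BB K w)))).rangeRestrict
    (AlgHom.rangeRestrict_surjective _)

theorem dim_CC (hdn : e + 1 < n) :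
    ringKrullDim (CC w K (FractionRing (BB K w))) = ((codeg w + 1 : ℕ) : WithBot ℕ∞) := by
  haveI := isFractionRing_CC K w
  haveI := finiteType_CC K w
  haveI : Finite (Idx (e + 1) n) := Subtype.finite
  obtain ⟨n₁, h1, h1', -⟩ := Groth.Agent.S2680.result K (CC w K (FractionRing (BB K w)))
  obtain ⟨n₂, h2, h2', -⟩ := Groth.Agent.S2680.result K (BB K w)
  have e₁ : FractionRing (CC w K (FractionRing (BB K w))) ≃ₐ[K] FractionRing (BB K w) :=
    (FractionRing.algEquiv (CC w K (FractionRing (BB K w)))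
      (FractionRing (BB K w))).restrictScalars K
  have h3 := e₁.trdeg_eq
  rw [h1, h2] at h3
  have h4 : n₁ = n₂ := by exact_mod_cast h3
  rw [h1', h4, ← h2']
  exact dim_schubert K (Nat.succ_pos e) hdn (codeg w) w rfl

theorem aeval_gen_injective (hdn : e + 1 < n) :
    Function.Injective (MvPolynomial.aeval (R := K) (gen w K (FractionRing (BB K w)))) := by
  haveI : Finite (Gam w) := Subtype.finite
  rw [injective_iff_map_eq_zero]
  by_contra hcon
  push Not at hcon
  obtain ⟨r, hr0, hrne⟩ := hcon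
  have hr : r ∈ nonZeroDivisors (MvPolynomial (Option (Gam w)) K) :=
    mem_nonZeroDivisors_of_ne_zero hrne
  have hsurj : Function.Surjective
      (MvPolynomial.aeval (R := K) (gen w K (FractionRing (BB K w)))).rangeRestrict.toRingHom :=
    AlgHom.rangeRestrict_surjective _
  have hr0' : (MvPolynomial.aeval (R := K)
      (gen w K (FractionRing (BB K w)))).rangeRestrict.toRingHom r = 0 := Subtype.ext hr0
  have h1 := ringKrullDim_succ_le_of_surjective _ hsurj hr hr0'
  have h2 : ringKrullDim (MvPolynomial (Option (Gam w)) K) = ((codeg w + 1 : ℕ) : WithBot ℕ∞) := by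
    rw [MvPolynomial.ringKrullDim_of_isNoetherianRing, ringKrullDim_eq_zero_of_field, zero_add,
      Finite.card_option, card_Gam]
  have h3 : ringKrullDim ((MvPolynomial.aeval (R := K)
      (gen w K (FractionRing (BB K w)))).range) = ((codeg w + 1 : ℕ) : WithBot ℕ∞) :=
    dim_CC K w hdn
  rw [h2, h3] at h1
  have h4 : ((codeg w + 1 : ℕ) : WithBot ℕ∞) + 1 = ((codeg w + 1 + 1 : ℕ) : WithBot ℕ∞) := by
    push_cast; rfl
  rw [h4] at h1
  have h5 : codeg w + 1 + 1 ≤ codeg w + 1 := by exact_mod_cast h1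
  omega

theorem isIntegrallyClosed_CC (hdn : e + 1 < n) :
    IsIntegrallyClosed (CC w K (FractionRing (BB K w))) := by
  haveI : Finite (Gam w) := Subtype.finite
  exact IsIntegrallyClosed.of_equiv
    (AlgEquiv.ofInjective _ (aeval_gen_injective K w hdn)).toRingEquiv

theorem isIntegrallyClosed_BB (hdn : e + 1 < n) : IsIntegrallyClosed (BB K w) := by
  classical
  set F := FractionRing (BB K w) with hF
  haveI := isFractionRing_CC K w
  have hC := isIntegrallyClosed_CC K w hdn
  have hxne : xF K w F w ≠ 0 := xF_w_ne_zero K w F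
  rw [isIntegrallyClosed_iff F]
  intro z hz
  obtain ⟨p, hpm, hp0⟩ := hz
  -- z is integral over C, hence lies in C
  let ι : BB K w →+* CC w K F :=
    (algebraMap (BB K w) F).codRestrict (CC w K F) (fun b => algebraMap_mem w K F b)
  have hzC : IsIntegral (CC w K F) z := by
    refine ⟨p.map ι, hpm.map ι, ?_⟩
    rw [Polynomial.eval₂_map]
    exact hp0
  obtain ⟨c, hc⟩ := (isIntegrallyClosed_iff F).mp hC hzC
  have hzD : z ∈ DD' w K F := by
    rw [← hc]
    exact CC_le_DD' w K F c.2
  -- minimal exponent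
  have hex : ∃ k : ℕ, ∃ b : BB K w, z * (xF K w F w) ^ k = algebraMap (BB K w) F b := by
    obtain ⟨b, k, h⟩ := hzD
    exact ⟨k, b, h⟩
  obtain ⟨b, hb⟩ := Nat.find_spec hex
  rcases Nat.eq_zero_or_pos (Nat.find hex) with h0 | hpos
  · rw [h0, pow_zero, mul_one] at hb
    exact ⟨b, hb.symm⟩
  · exfalso
    obtain ⟨k, hk⟩ : ∃ k, Nat.find hex = k + 1 := ⟨Nat.find hex - 1, by omega⟩
    rw [hk] at hb
    have hdvd := Polynomial.dvd_pow_natDegree_of_eval₂_eq_zero
      (IsFractionRing.injective (BB K w) F) hpm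
      ((Ideal.Quotient.mk (schubertVanishing K (e + 1) n w) (X w)) ^ (k + 1)) b z hp0
      (by rw [map_pow, mul_comm]; exact hb)
    have hdvd2 : Ideal.Quotient.mk (schubertVanishing K (e + 1) n w) (X w) ∣
        b ^ p.natDegree := dvd_trans (dvd_pow_self _ (Nat.succ_ne_zero k)) hdvd
    obtain ⟨b', hb'⟩ := dvd_of_dvd_pow K w hdn b _ hdvd2
    apply Nat.find_min hex (m := k) (by omega)
    refine ⟨b', ?_⟩
    have h6 : z * xF K w F w ^ k * xF K w F w = algebraMap (BB K w) F b' * xF K w F w := by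
      rw [mul_assoc, ← pow_succ, hb, hb', map_mul, mul_comm]
      rfl
    exact mul_right_cancel₀ hxne h6

end

theorem normal_schubert (hdn : e + 1 < n) :
    IsDomain (BB K w) ∧ IsIntegrallyClosed (BB K w) := by
  haveI := isDomain_BB K w
  exact ⟨inferInstance, isIntegrallyClosed_BB K w hdn⟩

end Groth.Agent.H16.SM
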