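import Mathlib
import Groth.Agent.H16.NS2
import Groth.Agent.Lib.Helper17.FFWk2
import Groth.Agent.Lib.Helper17.FF6

set_option autoImplicit false
set_option linter.style.haveILetI false

/-! Nonsingular places with respect to constant field extensions: helper lemmas. -/

namespace Groth.Agent.H16.NS

open FunFld Module
open scoped TensorProduct
open Groth.Agent.Helper17.FF

universe u v w u₁

section L1

variable {k : Type u} {K : Type v} {L : Type w} [Field k] [Field K] [Field L] [Algebra k K]
  [Algebra K L] [Algebra k L] [IsScalarTower k K L]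
  {k₁ : Type u₁} [Field k₁] [Algebra k k₁] [Algebra k₁ L] [IsScalarTower k k₁ L]
  [Algebra.IsIntegral k k₁]

theorem val_le_one_of_mem_adjoin (P : Place k K) {z : L}
    (hz : z ∈ Algebra.adjoin (P.O.toSubring.map (algebraMap K L)) (Set.range (algebraMap k₁ L)))
    (Q : Place k L) (hQ : IsOver Q P) : Q.1 z ≤ 1 := by
  obtain ⟨e, he⟩ := hQ
  induction hz using Algebra.adjoin_induction with
  | mem w hw =>
    obtain ⟨x, rfl⟩ := hw
    have hx : IsIntegral k x := Algebra.IsIntegral.isIntegral x
    have hx' : IsIntegral k (algebraMap k₁ L x) := hx.map (IsScalarTower.toAlgHom k k₁ L)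
    exact val_le_one_of_isIntegral Q.1 Q.2.1 hx'
  | algebraMap a =>
    obtain ⟨r, hr, hra⟩ := a.2
    show Q.1 (a : L) ≤ 1
    rw [← hra]
    exact (isOverWith_le_one_iff he r).2 hr
  | add a b _ _ ha hb => exact (Q.1.map_add a b).trans (max_le ha hb)
  | mul a b _ _ ha hb => rw [map_mul]; exact mul_le_one' ha hb

end L1

section L2

variable {k : Type u} {K : Type v} {K' : Type w} {K'' : Type u₁} [Field k] [Field K] [Field K']
  [Field K''] [Algebra k K] [Algebra K K'] [Algebra k K'] [IsScalarTower k K K']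
  [Algebra K' K''] [Algebra k K''] [Algebra K K''] [IsScalarTower K K' K'']
  [IsScalarTower k K K''] [IsScalarTower k K' K'']

theorem isOver_of_isOver [FiniteDimensional K K'] (hK : IsWeakFF k K) {Q'' : Place k K''}
    {Q : Place k K'} {P : Place k K} (h₂ : IsOver Q'' Q) (h : IsOver Q'' P) : IsOver Q P := by
  haveI : Algebra.IsAlgebraic K K' := Algebra.IsAlgebraic.of_finite K K'
  obtain ⟨P₀, e₀, he₀⟩ := wk_exists_isOverWith (M := K) (L := K') hK Q
  obtain ⟨e₂, he₂⟩ := h₂
  have h3 : IsOver Q'' P₀ := ⟨_, isOverWith_trans he₂ he₀⟩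
  have h4 : P₀ = P := isOver_unique h3 h
  rw [← h4]
  exact ⟨e₀, he₀⟩

end L2

end Groth.Agent.H16.NS
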