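import Mathlib
import Groth.Agent.H16.NS3

set_option autoImplicit false
set_option linter.style.haveILetI false

/-! Nonsingular places with respect to constant field extensions: the tower statement. -/

namespace Groth.Agent.H16.NS

open FunFld Module
open scoped TensorProduct
open Groth.Agent.Helper17.FF

universe u v w w'

section Tower

variable {k k' k'' : Type u} {K : Type v} {K' : Type w} {K'' : Type w'} [Field k] [Field k'] [Field k''] [Field K]
    [Field K'] [Field K'']
    [Algebra k k'] [Algebra k' k''] [Algebra k k''] [IsScalarTower k k' k'']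
    [FiniteDimensional k k'] [FiniteDimensional k' k'']
    [Algebra k K] [Algebra K K'] [Algebra k' K'] [Algebra k K'] [IsScalarTower k k' K']
    [IsScalarTower k K K']
    [Algebra K' K''] [Algebra k'' K''] [Algebra k' K''] [Algebra k K''] [Algebra K K'']
    [IsScalarTower k' k'' K''] [IsScalarTower k' K' K''] [IsScalarTower K K' K'']
    [IsScalarTower k K K''] [IsScalarTower k k'' K''] [IsScalarTower k K' K'']

theorem tower_iff
    (h1 : Function.Bijective (Algebra.TensorProduct.productMap
      (IsScalarTower.toAlgHom k k' K') (IsScalarTower.toAlgHom k K K')))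
    (h2 : Function.Bijective (Algebra.TensorProduct.productMap
      (IsScalarTower.toAlgHom k' k'' K'') (IsScalarTower.toAlgHom k' K' K'')))
    (hK : IsFunctionField k K) (P : Place k K) :
    (∀ z : K'', (∀ Q'' : Place k K'', IsOver Q'' P → Q''.1 z ≤ 1) →
      z ∈ Algebra.adjoin (P.O.toSubring.map (algebraMap K K'')) (Set.range (algebraMap k'' K''))) ↔
    ((∀ y : K', (∀ Q : Place k K', IsOver Q P → Q.1 y ≤ 1) →
      y ∈ Algebra.adjoin (P.O.toSubring.map (algebraMap K K')) (Set.range (algebraMap k' K'))) ∧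
     ∀ Q : Place k K', IsOver Q P → ∀ z : K'',
      (∀ Q'' : Place k K'', IsOver Q'' Q → Q''.1 z ≤ 1) →
      z ∈ Algebra.adjoin (Q.O.toSubring.map (algebraMap K' K''))
        (Set.range (algebraMap k'' K''))) := by
  classical
  haveI : FiniteDimensional K K' := CU.finite_const h1
  haveI : FiniteDimensional K' K'' := CU.finite_const h2
  haveI : FiniteDimensional K K'' := FiniteDimensional.trans K K' K''
  haveI : FiniteDimensional k k'' := FiniteDimensional.trans k k' k''
  have hKw : IsWeakFF k K := IsWeakFF.of_isFunctionField hK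
  have hK'w : IsWeakFF k K' := isWeakFF_of_finite (K := K) hK
  haveI : Algebra.IsAlgebraic K' K'' := Algebra.IsAlgebraic.of_finite K' K''
  let b := Module.finBasis k k'
  let c := Module.finBasis k' k''
  let B' := constBasis h1 b
  let C'' := constBasis h2 c
  have hB' : ∀ i, B' i = algebraMap k' K' (b i) := constBasis_apply h1 b
  have hC'' : ∀ j, C'' j = algebraMap k'' K'' (c j) := constBasis_apply h2 c
  have M1 : ∀ y : K', y ∈ Algebra.adjoin (P.O.toSubring.map (algebraMap K K'))
      (Set.range (algebraMap k' K')) ↔ ∀ i, P.1 (B'.repr y i) ≤ 1 := fun y =>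
    mem_adjoin_iff P.O.toSubring (fun x => P.2.1 x) b B' hB' y
  have hk'Q : ∀ (Q : Place k K') (x : k'), Q.1 (algebraMap k' K' x) ≤ 1 := by
    intro Q x
    have hx : IsIntegral k x := Algebra.IsIntegral.isIntegral x
    exact val_le_one_of_isIntegral Q.1 Q.2.1 (hx.map (IsScalarTower.toAlgHom k k' K'))
  have M2 : ∀ (Q : Place k K') (z : K''), z ∈ Algebra.adjoin (Q.O.toSubring.map (algebraMap K' K''))
      (Set.range (algebraMap k'' K'')) ↔ ∀ j, Q.1 (C''.repr z j) ≤ 1 := fun Q z =>
    mem_adjoin_iff (k := k') Q.O.toSubring (fun x => hk'Q Q x) c C'' hC'' z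
  have M3 : ∀ z : K'', z ∈ Algebra.adjoin (P.O.toSubring.map (algebraMap K K''))
      (Set.range (algebraMap k'' K'')) ↔ ∀ i j, P.1 (B'.repr (C''.repr z j) i) ≤ 1 := by
    intro z
    have h𝔅 : ∀ ij, (B'.smulTower C'') ij = algebraMap k'' K'' ((b.smulTower c) ij) := by
      intro ij
      rw [Module.Basis.smulTower_apply, Module.Basis.smulTower_apply, hB', hC'', Algebra.smul_def,
        Algebra.smul_def, map_mul, ← IsScalarTower.algebraMap_apply k' K' K'',
        ← IsScalarTower.algebraMap_apply k' k'' K'']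
    rw [mem_adjoin_iff P.O.toSubring (fun x => P.2.1 x) (b.smulTower c) (B'.smulTower C'') h𝔅 z]
    constructor
    · intro h i j
      have := h (i, j)
      rwa [Module.Basis.smulTower_repr_mk] at this
    · intro h ij
      rw [Module.Basis.smulTower_repr]
      exact h ij.1 ij.2
  constructor
  · intro H
    refine ⟨?_, ?_⟩
    · intro y hy
      have hz : ∀ Q'' : Place k K'', IsOver Q'' P → Q''.1 (algebraMap K' K'' y) ≤ 1 := by
        intro Q'' hQ''
        obtain ⟨Q, e₂, he₂⟩ := wk_exists_isOverWith (M := K') (L := K'') hK'w Q''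
        have hQP : IsOver Q P := isOver_of_isOver hKw ⟨e₂, he₂⟩ hQ''
        rw [he₂ y]
        exact pow_le_one' (hy Q hQP) e₂
      have h3 := (M3 _).1 (H _ hz)
      have h4 : ∀ j, C''.repr (algebraMap K' K'' y) j = y * algebraMap k' K' (c.repr 1 j) := by
        intro j
        have e1 : algebraMap K' K'' y = y • algebraMap k'' K'' (1 : k'') := by
          rw [map_one, Algebra.smul_def, mul_one]
        rw [e1, map_smul, Finsupp.smul_apply, repr_algebraMap c C'' hC'', smul_eq_mul]
      obtain ⟨j₀, hj₀⟩ : ∃ j₀, c.repr 1 j₀ ≠ 0 := by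
        by_contra hcon
        push Not at hcon
        have : c.repr (1 : k'') = 0 := Finsupp.ext hcon
        exact one_ne_zero ((LinearEquiv.map_eq_zero_iff _).1 this)
      have h5 : y * algebraMap k' K' (c.repr 1 j₀) ∈ Algebra.adjoin
          (P.O.toSubring.map (algebraMap K K')) (Set.range (algebraMap k' K')) := by
        rw [M1]
        intro i
        rw [← h4]
        exact h3 i j₀
      have h6 : algebraMap k' K' (c.repr 1 j₀)⁻¹ ∈ Algebra.adjoin
          (P.O.toSubring.map (algebraMap K K')) (Set.range (algebraMap k' K')) :=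
        Algebra.subset_adjoin ⟨_, rfl⟩
      have h7 := Subalgebra.mul_mem _ h5 h6
      have h8 : y * algebraMap k' K' (c.repr 1 j₀) * algebraMap k' K' (c.repr 1 j₀)⁻¹ = y := by
        rw [mul_assoc, ← map_mul, mul_inv_cancel₀ hj₀, map_one, mul_one]
      rwa [h8] at h7
    · intro Q hQP z hz
      rcases eq_or_ne z 0 with rfl | hz0
      · exact Subalgebra.zero_mem _
      -- finite sets of places
      have hfin' := (wk_sum_ramIdx_mul_deg (L := K') hKw P).1
      have hfin'' := (wk_sum_ramIdx_mul_deg (L := K'') hKw P).1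
      set T'' := hfin''.toFinset with hT''
      set M : ℤ := ∑ R ∈ T'', |WithZero.log (R.1 z)| with hM
      have hM0 : 0 ≤ M := Finset.sum_nonneg (fun _ _ => abs_nonneg _)
      have hzM : ∀ Q'' : Place k K'', IsOver Q'' P → Q''.1 z ≤ WithZero.exp M := by
        intro Q'' hQ''
        have hne : Q''.1 z ≠ 0 := (map_ne_zero Q''.1).2 hz0
        rw [← WithZero.exp_log hne, WithZero.exp_le_exp]
        have hmem : Q'' ∈ T'' := by rw [hT'', Set.Finite.mem_toFinset]; exact hQ''
        exact (le_abs_self _).trans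
          (Finset.single_le_sum (f := fun R : Place k K'' => |WithZero.log (R.1 z)|)
            (fun R _ => abs_nonneg _) hmem)
      haveI : Fintype {Q₂ : Place k K' | IsOver Q₂ P} := hfin'.fintype
      obtain ⟨s, hs⟩ := weak_approx (ι := {Q₂ : Place k K' | IsOver Q₂ P})
        (fun Q₂ => (Q₂ : Place k K')) Subtype.val_injective
        (fun Q₂ => if (Q₂ : Place k K') = Q then 1 else 0) (fun _ => M)
      have hsQ : Q.1 s = 1 := by
        have h1' := hs ⟨Q, hQP⟩
        simp only [if_true] at h1'
        have h2' : Q.1 (s - 1) < 1 :=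
          lt_of_lt_of_le h1' (by
            rw [← WithZero.exp_zero, WithZero.exp_le_exp]; omega)
        have h3' : s = 1 + (s - 1) := by ring
        rw [h3', Valuation.map_add_eq_of_lt_left _ (by rw [map_one]; exact h2'), map_one]
      have hsO : ∀ Q₂ : Place k K', IsOver Q₂ P → Q₂ ≠ Q → Q₂.1 s < WithZero.exp (-M) := by
        intro Q₂ hQ₂ hne
        have h1' := hs ⟨Q₂, hQ₂⟩
        simp only [if_neg hne, sub_zero] at h1'
        exact h1'
      have hsz : ∀ Q'' : Place k K'', IsOver Q'' P → Q''.1 (algebraMap K' K'' s * z) ≤ 1 := by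
        intro Q'' hQ''
        obtain ⟨Q₂, e₂, he₂⟩ := wk_exists_isOverWith (M := K') (L := K'') hK'w Q''
        have hQ₂P : IsOver Q₂ P := isOver_of_isOver hKw ⟨e₂, he₂⟩ hQ''
        have he₂pos := isOverWith_pos he₂
        rw [map_mul, he₂ s]
        by_cases hQ₂ : Q₂ = Q
        · rw [hQ₂, hsQ, one_pow, one_mul]
          exact hz Q'' ⟨e₂, hQ₂ ▸ he₂⟩
        · have h1' := hsO Q₂ hQ₂P hQ₂
          have h2' : Q₂.1 s ^ e₂ ≤ WithZero.exp (-M) := by
            have h3' : Q₂.1 s ≤ 1 := h1'.le.trans (by
              rw [← WithZero.exp_zero, WithZero.exp_le_exp]; omega)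
            calc Q₂.1 s ^ e₂ ≤ Q₂.1 s ^ 1 := pow_le_pow_right_of_le_one' h3' he₂pos
              _ = Q₂.1 s := pow_one _
              _ ≤ WithZero.exp (-M) := h1'.le
          calc Q₂.1 s ^ e₂ * Q''.1 z ≤ WithZero.exp (-M) * WithZero.exp M :=
                mul_le_mul' h2' (hzM Q'' hQ'')
            _ = 1 := by rw [← WithZero.exp_add, neg_add_cancel, WithZero.exp_zero]
      have h3 := (M3 _).1 (H _ hsz)
      rw [M2]
      intro j
      have h4 : C''.repr (algebraMap K' K'' s * z) j = s * C''.repr z j := by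
        rw [← Algebra.smul_def, map_smul, Finsupp.smul_apply, smul_eq_mul]
      have h5 : s * C''.repr z j ∈ Algebra.adjoin
          (P.O.toSubring.map (algebraMap K K')) (Set.range (algebraMap k' K')) := by
        rw [M1]
        intro i
        rw [← h4]
        exact h3 i j
      have h6 := val_le_one_of_mem_adjoin P h5 Q hQP
      rwa [map_mul, hsQ, one_mul] at h6
  · rintro ⟨H1, H2⟩ z hz
    rw [M3]
    intro i j
    have h1' : ∀ Q : Place k K', IsOver Q P → Q.1 (C''.repr z j) ≤ 1 := by
      intro Q hQP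
      obtain ⟨e₁, he₁⟩ := hQP
      have h2' := H2 Q ⟨e₁, he₁⟩ z (fun Q'' hQ'' => by
        obtain ⟨e₂, he₂⟩ := hQ''
        exact hz Q'' ⟨_, isOverWith_trans he₂ he₁⟩)
      exact (M2 Q z).1 h2' j
    exact (M1 _).1 (H1 _ h1') i

end Tower

end Groth.Agent.H16.NS
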