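import Groth.Agent.H16.PL1
import Groth.Prelude.Def_DeRham
import Groth.Agent.H16.DeRhamGen

/-!
# The Lie derivative `d c + c d` on the de Rham complex (helper16)
-/

set_option autoImplicit false

namespace Groth.Agent.H16.PG

universe u v

open Groth.Agent.H16.PL

variable {R : Type v} {B M : Type u} [CommRing R] [CommRing B] [Algebra R B]
  [AddCommGroup M] [Module B M] [Module R M] [IsScalarTower R B M]
  (δ : Derivation R B M) (E : Derivation R B B) (lam : M →ₗ[B] B)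
  (hlam : ∀ b : B, lam (δ b) = E b)
  (d' : ∀ p : ℕ, ↥(⋀[B]^p M) →ₗ[R] ↥(⋀[B]^(p + 1) M))

variable (R) in
/-- contraction, `R`-linear -/
noncomputable def cR (p : ℕ) : ↥(⋀[B]^(p + 1) (M)) →ₗ[R] ↥(⋀[B]^p (M)) :=
  (c (lam) p).restrictScalars R

lemma cR_apply (p : ℕ) (x : ↥(⋀[B]^(p + 1) (M))) : cR R lam p x = c (lam) p x := rfl

/-- The Lie derivative `d c + c d`. -/
noncomputable def L : ∀ p : ℕ, ↥(⋀[B]^p (M)) →ₗ[R] ↥(⋀[B]^p (M))
  | 0 => cR R lam 0 ∘ₗ d' 0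
  | p + 1 => d' p ∘ₗ cR R lam p + cR R lam (p + 1) ∘ₗ d' (p + 1)

lemma L_zero (x : ↥(⋀[B]^0 (M))) : L lam d' 0 x = cR R lam 0 (d' 0 x) := rfl

lemma L_succ (p : ℕ) (x : ↥(⋀[B]^(p + 1) (M))) :
    L lam d' (p + 1) x = d' p (cR R lam p x) + cR R lam (p + 1) (d' (p + 1) x) := rfl

variable (hd' : DeRham.IsDiff δ d')

include hd' in
lemma d'_L (p : ℕ) (x : ↥(⋀[B]^p (M))) :
    d' p (L lam d' p x) = L lam d' (p + 1) (d' p x) := by
  have h2 : ∀ (q : ℕ) (y : ↥(⋀[B]^q (M))), d' (q + 1) (d' q y) = 0 := fun q y => by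
    have := hd'.2 q
    exact LinearMap.congr_fun this y
  cases p with
  | zero => rw [L_zero, L_succ, h2, map_zero, add_zero]
  | succ p => rw [L_succ, L_succ, map_add, h2, zero_add, h2, map_zero, add_zero]

include hlam in
/-- piece A -/
lemma cR_gen (p : ℕ) (b₀ : B) (b : Fin (p + 1) → B) (m : Fin (p + 1) → ℕ)
    (h : ∀ i, E (b i) = m i • b i) :
    cR R lam p (DeRham.gen (δ) (p + 1) b₀ b) =
      ∑ i : Fin (p + 1), (((-1 : ℤ) ^ (i : ℕ)) * (m i : ℤ)) •
        DeRham.gen (δ) p (b₀ * b i) (b ∘ i.succAbove) := by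
  unfold DeRham.gen
  rw [cR_apply, map_smul, c_ιMulti, Finset.smul_sum]
  apply Finset.sum_congr rfl
  intro i _
  rw [hlam, h i, ← Int.cast_smul_eq_zsmul B, smul_smul, smul_smul]
  congr 1
  push_cast
  rw [nsmul_eq_mul]
  ring

include hd' in
/-- piece B -/
lemma d'_gen_mul (p : ℕ) (b₀ : B) (b : Fin (p + 1) → B) (i : Fin (p + 1)) :
    d' p (DeRham.gen (δ) p (b₀ * b i) (b ∘ i.succAbove)) =
      b₀ • (((-1 : B) ^ (i : ℕ)) • exteriorPower.ιMulti B (p + 1)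
        (fun j => δ (b j))) +
      b i • exteriorPower.ιMulti B (p + 1) (Fin.cons (δ b₀)
        ((fun j => δ (b j)) ∘ i.succAbove)) := by
  rw [hd'.1 p]
  have e : (Fin.cons (δ (b₀ * b i))
      (fun j => δ ((b ∘ i.succAbove) j)) : Fin (p + 1) → M) =
      Matrix.vecCons (b₀ • δ (b i) + b i • δ b₀)
        ((fun j => δ (b j)) ∘ i.succAbove) := by
    rw [Derivation.leibniz]
    rfl
  rw [e, AlternatingMap.map_vecCons_add, AlternatingMap.map_vecCons_smul,
    AlternatingMap.map_vecCons_smul]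
  have h3 := ιMulti_cons_removeNth (B := B) p (fun j => δ (b j)) i
  have h4 : (Matrix.vecCons (δ (b i))
      ((fun j => δ (b j)) ∘ i.succAbove) : Fin (p + 1) → M) =
      Fin.cons ((fun j => δ (b j)) i)
        ((fun j => δ (b j)) ∘ i.succAbove) := rfl
  rw [h4, h3]
  rfl

include hd' hlam in
/-- piece C -/
lemma cR_d'_gen (p : ℕ) (b₀ : B) (b : Fin (p + 1) → B) (m : Fin (p + 1) → ℕ)
    (h : ∀ i, E (b i) = m i • b i) :
    cR R lam (p + 1) (d' (p + 1) (DeRham.gen δ (p + 1) b₀ b)) =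
      DeRham.gen δ (p + 1) (E b₀) b +
      ∑ i : Fin (p + 1), (-(((-1 : ℤ) ^ (i : ℕ)) * (m i : ℤ))) •
        (b i • exteriorPower.ιMulti B (p + 1) (Fin.cons (δ b₀)
          ((fun j => δ (b j)) ∘ i.succAbove))) := by
  rw [hd'.1 (p + 1), cR_apply, c_ιMulti, Fin.sum_univ_succ]
  congr 1
  · rw [Fin.cons_zero, hlam]
    unfold DeRham.gen
    have e0 : ((Fin.cons (δ b₀)
        (fun i => δ (b i)) : Fin (p + 2) → M) ∘
        (0 : Fin (p + 2)).succAbove) = fun j => δ (b j) := by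
      funext l
      simp [Fin.succAbove_zero]
    rw [e0]
    simp only [Fin.val_zero, pow_zero, one_mul]
  · apply Finset.sum_congr rfl
    intro j _
    have e1 : ((Fin.cons (δ b₀)
        (fun i => δ (b i)) : Fin (p + 2) → M) ∘
        j.succ.succAbove) = Fin.cons (δ b₀)
          ((fun j => δ (b j)) ∘ j.succAbove) := by
      funext l
      cases l using Fin.cases with
      | zero => simp
      | succ l => simp [Fin.succ_succAbove_succ]
    rw [e1, Fin.cons_succ, hlam, h j, ← Int.cast_smul_eq_zsmul B, smul_smul]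
    congr 1
    push_cast
    rw [nsmul_eq_mul, Fin.val_succ, pow_succ]
    ring

include hd' hlam in
theorem L_gen_succ (p : ℕ) (b₀ : B) (b : Fin (p + 1) → B) (m : Fin (p + 1) → ℕ)
    (h : ∀ i, E (b i) = m i • b i) :
    L lam d' (p + 1) (DeRham.gen δ (p + 1) b₀ b) =
      DeRham.gen δ (p + 1) (E b₀) b + (∑ i, m i) • DeRham.gen δ (p + 1) b₀ b := by
  rw [L_succ, cR_gen δ E lam hlam p b₀ b m h, cR_d'_gen δ E lam hlam d' hd' p b₀ b m h, map_sum]
  have hA : ∀ i : Fin (p + 1), d' p ((((-1 : ℤ) ^ (i : ℕ)) * (m i : ℤ)) •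
        DeRham.gen δ p (b₀ * b i) (b ∘ i.succAbove)) =
      m i • DeRham.gen δ (p + 1) b₀ b +
      (((-1 : ℤ) ^ (i : ℕ)) * (m i : ℤ)) •
        (b i • exteriorPower.ιMulti B (p + 1) (Fin.cons (δ b₀)
          ((fun j => δ (b j)) ∘ i.succAbove))) := by
    intro i
    rw [map_zsmul, d'_gen_mul δ d' hd' p b₀ b i, smul_add]
    congr 1
    unfold DeRham.gen
    rw [← Int.cast_smul_eq_zsmul B, ← Nat.cast_smul_eq_nsmul B, smul_smul, smul_smul, smul_smul]
    congr 1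
    push_cast
    have hs : ((-1 : B) ^ (i : ℕ)) * ((-1 : B) ^ (i : ℕ)) = 1 := by
      rw [← pow_add, ← two_mul, pow_mul]
      simp
    calc (-1 : B) ^ (i : ℕ) * (m i : B) * b₀ * (-1) ^ (i : ℕ)
        = ((-1 : B) ^ (i : ℕ) * (-1 : B) ^ (i : ℕ)) * ((m i : B) * b₀) := by ring
      _ = (m i : B) * b₀ := by rw [hs, one_mul]
  rw [Finset.sum_congr rfl (fun i _ => hA i), Finset.sum_add_distrib, Finset.sum_smul]
  have hsum : (∑ i : Fin (p + 1), (((-1 : ℤ) ^ (i : ℕ)) * (m i : ℤ)) •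
        (b i • exteriorPower.ιMulti B (p + 1) (Fin.cons (δ b₀)
          ((fun j => δ (b j)) ∘ i.succAbove)))) +
      ∑ i : Fin (p + 1), (-(((-1 : ℤ) ^ (i : ℕ)) * (m i : ℤ))) •
        (b i • exteriorPower.ιMulti B (p + 1) (Fin.cons (δ b₀)
          ((fun j => δ (b j)) ∘ i.succAbove))) = 0 := by
    rw [← Finset.sum_add_distrib]
    apply Finset.sum_eq_zero
    intro i _
    rw [neg_smul, add_neg_cancel]
  set S1 := ∑ i : Fin (p + 1), m i • DeRham.gen δ (p + 1) b₀ b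
  set S2 := ∑ i : Fin (p + 1), (((-1 : ℤ) ^ (i : ℕ)) * (m i : ℤ)) •
        (b i • exteriorPower.ιMulti B (p + 1) (Fin.cons (δ b₀)
          ((fun j => δ (b j)) ∘ i.succAbove)))
  set S3 := ∑ i : Fin (p + 1), (-(((-1 : ℤ) ^ (i : ℕ)) * (m i : ℤ))) •
        (b i • exteriorPower.ιMulti B (p + 1) (Fin.cons (δ b₀)
          ((fun j => δ (b j)) ∘ i.succAbove)))
  have : S2 + S3 = 0 := hsum
  calc S1 + S2 + (DeRham.gen δ (p + 1) (E b₀) b + S3)
      = DeRham.gen δ (p + 1) (E b₀) b + S1 + (S2 + S3) := by abel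
    _ = DeRham.gen δ (p + 1) (E b₀) b + S1 := by rw [this, add_zero]

end Groth.Agent.H16.PG
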