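import Groth.Agent.H16.PG1

/-!
# The Euler operator on power series (helper16)
-/

set_option autoImplicit false

namespace Groth.Agent.H16.PG

open MvPowerSeries

universe u

variable (k : Type u) [Field k] (σ : Type u) [Fintype σ]

/-- The linear form `m ↦ Σ X_i m_i`. -/
noncomputable def lamX : (σ → MvPowerSeries σ k) →ₗ[MvPowerSeries σ k] MvPowerSeries σ k :=
  ∑ i, (X i : MvPowerSeries σ k) •
    (LinearMap.proj i : (σ → MvPowerSeries σ k) →ₗ[MvPowerSeries σ k] MvPowerSeries σ k)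

lemma lamX_apply (m : σ → MvPowerSeries σ k) : lamX k σ m = ∑ i, X i * m i := by
  simp [lamX, LinearMap.sum_apply]

variable {σ}

/-- The weight of a multi-index. -/
def wt (α : σ →₀ ℕ) : ℕ := ∑ i, α i

variable {k}

/-- The Euler operator. -/
noncomputable def Eu (f : MvPowerSeries σ k) : MvPowerSeries σ k := ∑ i, X i * pderiv k i f

lemma coeff_Eu (f : MvPowerSeries σ k) (α : σ →₀ ℕ) :
    coeff α (Eu f) = (wt α : k) * coeff α f := by
  classical
  unfold Eu
  rw [map_sum, wt, Nat.cast_sum, Finset.sum_mul]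
  apply Finset.sum_congr rfl
  intro i _
  rw [X_def, coeff_monomial_mul]
  by_cases h : 1 ≤ α i
  · have hle : Finsupp.single i 1 ≤ α := Finsupp.single_le_iff.mpr h
    rw [if_pos hle, one_mul, coeff_pderiv, tsub_add_cancel_of_le hle, Finsupp.tsub_apply,
      Finsupp.single_eq_same, mul_comm]
    congr 1
    have : ((α i - 1 : ℕ) : k) + 1 = ((α i - 1 + 1 : ℕ) : k) := by push_cast; ring
    rw [this, Nat.sub_add_cancel h]
  · have h0 : α i = 0 := by omega
    have hle : ¬ Finsupp.single i 1 ≤ α := fun hle => h (Finsupp.single_le_iff.mp hle)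
    rw [if_neg hle, h0]
    simp

/-- `T s = Eu + s`. -/
noncomputable def T (s : ℕ) (f : MvPowerSeries σ k) : MvPowerSeries σ k := Eu f + s • f

lemma coeff_T (s : ℕ) (f : MvPowerSeries σ k) (α : σ →₀ ℕ) :
    coeff α (T s f) = ((wt α + s : ℕ) : k) * coeff α f := by
  unfold T
  rw [map_add, coeff_Eu, map_nsmul, nsmul_eq_mul]
  push_cast
  ring

/-- The inverse of `T s`. -/
noncomputable def I (s : ℕ) (f : MvPowerSeries σ k) : MvPowerSeries σ k :=
  fun α => coeff α f / ((wt α + s : ℕ) : k)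

lemma coeff_I (s : ℕ) (f : MvPowerSeries σ k) (α : σ →₀ ℕ) :
    coeff α (I s f) = coeff α f / ((wt α + s : ℕ) : k) := rfl

lemma T_zero (s : ℕ) : T s (0 : MvPowerSeries σ k) = 0 := by
  ext α
  rw [coeff_T, map_zero, mul_zero]

lemma T_add (s : ℕ) (f g : MvPowerSeries σ k) : T s (f + g) = T s f + T s g := by
  ext α
  rw [map_add, coeff_T, coeff_T, coeff_T, map_add, mul_add]

variable [CharZero k]

lemma T_I (s : ℕ) (hs : 1 ≤ s) (f : MvPowerSeries σ k) : T s (I s f) = f := by
  ext α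
  rw [coeff_T, coeff_I]
  have hne : ((wt α + s : ℕ) : k) ≠ 0 := Nat.cast_ne_zero.mpr (by omega)
  field_simp

lemma I_T (s : ℕ) (hs : 1 ≤ s) (f : MvPowerSeries σ k) : I s (T s f) = f := by
  ext α
  rw [coeff_I, coeff_T]
  have hne : ((wt α + s : ℕ) : k) ≠ 0 := Nat.cast_ne_zero.mpr (by omega)
  field_simp

lemma Eu_X (j : σ) : Eu (X j : MvPowerSeries σ k) = X j := by
  classical
  unfold Eu
  rw [Finset.sum_eq_single j]
  · rw [pderiv_X_self, mul_one]
  · intro i _ hij
    rw [pderiv_X_of_ne (Ne.symm hij), mul_zero]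
  · intro h
    exact absurd (Finset.mem_univ j) h

end Groth.Agent.H16.PG
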