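import Groth.Agent.H16.PG2

/-!
# The formal Poincaré lemma (helper16)
-/

set_option autoImplicit false

namespace Groth.Agent.H16.PG

open MvPowerSeries

universe u

variable {k : Type u} [Field k] [CharZero k] {σ : Type u} [Fintype σ] [DecidableEq σ]
  (δ : Derivation k (MvPowerSeries σ k) (σ → MvPowerSeries σ k))
  (hδ : ∀ (f : MvPowerSeries σ k) (i : σ), δ f i = MvPowerSeries.pderiv k i f)
  (d : ∀ p : ℕ, ↥(⋀[MvPowerSeries σ k]^p (σ → MvPowerSeries σ k)) →ₗ[k]
    ↥(⋀[MvPowerSeries σ k]^(p + 1) (σ → MvPowerSeries σ k)))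
  (hd : DeRham.IsDiff δ d)

/-- The Euler derivation. -/
noncomputable def EE : Derivation k (MvPowerSeries σ k) (MvPowerSeries σ k) :=
  (lamX k σ).compDer δ

include hδ in
lemma EE_apply (f : MvPowerSeries σ k) : EE δ f = Eu f := by
  show lamX k σ (δ f) = _
  rw [lamX_apply]
  unfold Eu
  apply Finset.sum_congr rfl
  intro i _
  rw [hδ]

lemma hlam (b : MvPowerSeries σ k) : lamX k σ (δ b) = EE δ b := rfl

/-- The standard basis, indexed by `Fin n`. -/
noncomputable def bb : Module.Basis (Fin (Fintype.card σ)) (MvPowerSeries σ k)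
    (σ → MvPowerSeries σ k) :=
  (Pi.basisFun (MvPowerSeries σ k) σ).reindex (Fintype.equivFin σ)

include hδ in
lemma bb_apply (j : Fin (Fintype.card σ)) :
    (bb (k := k) (σ := σ)) j = δ (X ((Fintype.equivFin σ).symm j)) := by
  funext i
  rw [hδ, pderiv_X]
  simp [bb, Pi.single_apply, eq_comm]

include hδ in
lemma smul_bas (q : ℕ) (g : MvPowerSeries σ k)
    (S : Set.powersetCard (Fin (Fintype.card σ)) q) :
    g • ((bb (k := k) (σ := σ)).exteriorPower q) S =
      DeRham.gen δ q g (fun i => X ((Fintype.equivFin σ).symm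
        (Set.powersetCard.ofFinEmbEquiv.symm S i))) := by
  rw [exteriorPower.basis_apply]
  unfold exteriorPower.ιMulti_family DeRham.gen
  congr 2
  funext i
  exact bb_apply δ hδ _

include hδ hd in
lemma L_bas (q : ℕ) (g : MvPowerSeries σ k)
    (S : Set.powersetCard (Fin (Fintype.card σ)) (q + 1)) :
    L (lamX k σ) d (q + 1) (g • ((bb (k := k) (σ := σ)).exteriorPower (q + 1)) S) =
      T (q + 1) g • ((bb (k := k) (σ := σ)).exteriorPower (q + 1)) S := by
  rw [smul_bas δ hδ, L_gen_succ δ (EE δ) (lamX k σ) (hlam δ) d hd q g _ (fun _ => 1)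
    (fun i => by rw [EE_apply δ hδ, Eu_X, one_smul]), smul_bas δ hδ]
  unfold DeRham.gen T
  rw [EE_apply δ hδ]
  simp only [Finset.sum_const, Finset.card_univ, Fintype.card_fin, smul_eq_mul, mul_one]
  rw [add_smul (Eu g) ((q + 1) • g), smul_assoc]

include hδ hd in
lemma L_surj (q : ℕ) (x : ↥(⋀[MvPowerSeries σ k]^(q + 1) (σ → MvPowerSeries σ k))) :
    ∃ η, L (lamX k σ) d (q + 1) η = x := by
  have hx : x ∈ Submodule.span (MvPowerSeries σ k)
      (Set.range ((bb (k := k) (σ := σ)).exteriorPower (q + 1))) := by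
    rw [Module.Basis.span_eq]
    trivial
  have key : ∀ g : MvPowerSeries σ k, ∃ η, L (lamX k σ) d (q + 1) η = g • x := by
    induction hx using Submodule.span_induction with
    | mem y hy =>
      obtain ⟨S, rfl⟩ := hy
      intro g
      refine ⟨I (q + 1) g • ((bb (k := k) (σ := σ)).exteriorPower (q + 1)) S, ?_⟩
      rw [L_bas δ hδ d hd, T_I (q + 1) (by omega)]
    | zero =>
      intro g
      exact ⟨0, by rw [map_zero, smul_zero]⟩
    | add y z _ _ hy hz =>
      intro g
      obtain ⟨η₁, h₁⟩ := hy g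
      obtain ⟨η₂, h₂⟩ := hz g
      exact ⟨η₁ + η₂, by rw [map_add, h₁, h₂, smul_add]⟩
    | smul a y _ hy =>
      intro g
      obtain ⟨η, h⟩ := hy (g * a)
      exact ⟨η, by rw [h, mul_smul]⟩
  obtain ⟨η, h⟩ := key 1
  exact ⟨η, by rw [h, one_smul]⟩

include hδ hd in
lemma L_repr (q : ℕ) (x : ↥(⋀[MvPowerSeries σ k]^(q + 1) (σ → MvPowerSeries σ k)))
    (S : Set.powersetCard (Fin (Fintype.card σ)) (q + 1)) :
    ((bb (k := k) (σ := σ)).exteriorPower (q + 1)).repr (L (lamX k σ) d (q + 1) x) S =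
      T (q + 1) (((bb (k := k) (σ := σ)).exteriorPower (q + 1)).repr x S) := by
  classical
  have hx : x ∈ Submodule.span (MvPowerSeries σ k)
      (Set.range ((bb (k := k) (σ := σ)).exteriorPower (q + 1))) := by
    rw [Module.Basis.span_eq]
    trivial
  have key : ∀ g : MvPowerSeries σ k,
      ((bb (k := k) (σ := σ)).exteriorPower (q + 1)).repr (L (lamX k σ) d (q + 1) (g • x)) S =
      T (q + 1) (((bb (k := k) (σ := σ)).exteriorPower (q + 1)).repr (g • x) S) := by
    induction hx using Submodule.span_induction with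
    | mem y hy =>
      obtain ⟨S', rfl⟩ := hy
      intro g
      rw [L_bas δ hδ d hd, map_smul, map_smul, Module.Basis.repr_self, Finsupp.smul_apply,
        Finsupp.smul_apply, Finsupp.single_apply]
      by_cases hS : S' = S
      · rw [if_pos hS, smul_eq_mul, smul_eq_mul, mul_one, mul_one]
      · rw [if_neg hS, smul_zero, smul_zero, T_zero]
    | zero =>
      intro g
      rw [smul_zero, map_zero, map_zero, Finsupp.zero_apply, T_zero]
    | add y z _ _ hy hz =>
      intro g
      rw [smul_add, map_add, map_add, map_add, Finsupp.add_apply, Finsupp.add_apply, hy g, hz g,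
        T_add]
    | smul a y _ hy =>
      intro g
      rw [← mul_smul]
      exact hy (g * a)
  have h := key 1
  rw [one_smul] at h
  exact h

include hδ hd in
lemma L_inj (q : ℕ) (x : ↥(⋀[MvPowerSeries σ k]^(q + 1) (σ → MvPowerSeries σ k)))
    (hx : L (lamX k σ) d (q + 1) x = 0) : x = 0 := by
  apply ((bb (k := k) (σ := σ)).exteriorPower (q + 1)).repr.injective
  rw [map_zero]
  apply Finsupp.ext
  intro S
  have h := L_repr δ hδ d hd q x S
  rw [hx, map_zero, Finsupp.zero_apply] at h
  have h2 := I_T (q + 1) (by omega)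
    (((bb (k := k) (σ := σ)).exteriorPower (q + 1)).repr x S)
  rw [← h] at h2
  rw [Finsupp.zero_apply, ← h2]
  ext α
  rw [coeff_I, map_zero, zero_div]

include hδ hd in
theorem poincare (p : ℕ) : DeRham.cocycles d (p + 1) ≤ DeRham.coboundaries d (p + 1) := by
  intro ω hω
  have hcl : d (p + 1) ω = 0 := hω
  obtain ⟨η, hη⟩ := L_surj δ hδ d hd p ω
  have h1 : L (lamX k σ) d (p + 2) (d (p + 1) η) = 0 := by
    rw [← d'_L δ (lamX k σ) d hd (p + 1) η, hη, hcl]
  have h2 : d (p + 1) η = 0 := L_inj δ hδ d hd (p + 1) _ h1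
  rw [L_succ, h2, map_zero, add_zero] at hη
  show ω ∈ LinearMap.range (d p)
  exact ⟨_, hη⟩

end Groth.Agent.H16.PG
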