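import Mathlib
import Groth.Agent.Lib.Helper17.FFSub
import Groth.Agent.Lib.Helper17.FFFrob
import Groth.Agent.Lib.Helper17.FF3

/-! `k[x,y]` as an intersection of `O_P[y]`. -/

namespace Groth.Agent.Helper16.PI

open FunFld Polynomial Module
open Groth.Agent.Helper17.FF

variable {k F : Type*} [Field k] [Field F] [Algebra k F]

theorem val_aeval_le_one (P : Place k F) {t : F} (ht : P.1 t ≤ 1) (p : k[X]) :
    P.1 (aeval t p) ≤ 1 := by
  rw [Polynomial.aeval_eq_sum_range]
  apply Valuation.map_sum_le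
  intro i _
  rw [Algebra.smul_def, map_mul, map_pow]
  exact mul_le_one' (P.2.1 _) (pow_le_one' ht i)

theorem val_aeval_eq_one (P : Place k F) {t : F} {c : k} (ht : P.1 (t - algebraMap k F c) < 1)
    (p : k[X]) (hp : p.eval c ≠ 0) : P.1 (aeval t p) = 1 := by
  have ht1 : P.1 t ≤ 1 := by
    have : t = (t - algebraMap k F c) + algebraMap k F c := by ring
    rw [this]
    exact (P.1.map_add _ _).trans (max_le ht.le (P.2.1 c))
  have hdvd : (X - C c) ∣ p - C (p.eval c) := by
    rw [Polynomial.dvd_iff_isRoot]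
    simp
  obtain ⟨q, hq⟩ := hdvd
  have hp' : p = C (p.eval c) + (X - C c) * q := by rw [← hq]; ring
  have h1 : aeval t p = algebraMap k F (p.eval c) + (t - algebraMap k F c) * aeval t q := by
    conv_lhs => rw [hp']
    simp
  rw [h1]
  have h2 : P.1 (algebraMap k F (p.eval c)) = 1 := val_const_eq_one' P hp
  have h3 : P.1 ((t - algebraMap k F c) * aeval t q) < 1 := by
    rw [map_mul]
    exact lt_of_le_of_lt (mul_le_of_le_one_right' (val_aeval_le_one P ht1 q)) ht
  rw [Valuation.map_add_eq_of_lt_left _ (by rw [h2]; exact h3), h2]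

/-- an element of `k(t)` integral at the place centred at `c` has a denominator not vanishing at `c` -/
theorem exists_denominator (P : Place k F) {t : F} {c : k} (ht : P.1 (t - algebraMap k F c) < 1)
    (htc : t - algebraMap k F c ≠ 0)
    (u : F) (hu : P.1 u ≤ 1) (r s : k[X]) (hs : aeval t s ≠ 0) (hurs : u * aeval t s = aeval t r) :
    ∃ a d : k[X], d.eval c ≠ 0 ∧ u * aeval t d = aeval t a := by
  classical
  have hs0 : s ≠ 0 := by rintro rfl; simp at hs
  by_cases hr0 : r = 0
  · refine ⟨0, 1, by simp, ?_⟩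
    rw [hr0, map_zero] at hurs
    rcases mul_eq_zero.1 hurs with h | h
    · rw [h]; simp
    · exact absurd h hs
  obtain ⟨r', hr', hr'd⟩ := Polynomial.exists_eq_pow_rootMultiplicity_mul_and_not_dvd r hr0 c
  obtain ⟨s', hs', hs'd⟩ := Polynomial.exists_eq_pow_rootMultiplicity_mul_and_not_dvd s hs0 c
  set i := r.rootMultiplicity c
  set j := s.rootMultiplicity c
  have hr'c : r'.eval c ≠ 0 := fun h => hr'd ((Polynomial.dvd_iff_isRoot).2 h)
  have hs'c : s'.eval c ≠ 0 := fun h => hs'd ((Polynomial.dvd_iff_isRoot).2 h)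
  set π := t - algebraMap k F c with hπ
  have e1 : aeval t r = π ^ i * aeval t r' := by
    conv_lhs => rw [hr']
    simp [hπ]
  have e2 : aeval t s = π ^ j * aeval t s' := by
    conv_lhs => rw [hs']
    simp [hπ]
  have hv1 := val_aeval_eq_one P ht r' hr'c
  have hv2 := val_aeval_eq_one P ht s' hs'c
  have hπ0 : P.1 π ≠ 0 := (_root_.map_ne_zero P.1).2 htc
  have hij : j ≤ i := by
    have h1 := congrArg P.1 hurs
    rw [e1, e2, map_mul, map_mul, map_mul, map_pow, map_pow, hv1, hv2, mul_one, mul_one] at h1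
    by_contra hcon
    push Not at hcon
    have h2 : P.1 π ^ i ≤ P.1 π ^ j := by
      rw [← h1]
      exact mul_le_of_le_one_left' hu
    have h3 : P.1 π ^ j < P.1 π ^ i := by
      obtain ⟨d, hd⟩ : ∃ d, j = i + d + 1 := ⟨j - i - 1, by omega⟩
      rw [hd, pow_succ, pow_add]
      calc P.1 π ^ i * P.1 π ^ d * P.1 π ≤ P.1 π ^ i * 1 * P.1 π := by
            exact mul_le_mul' (mul_le_mul' le_rfl (pow_le_one' ht.le d)) le_rfl
        _ = P.1 π ^ i * P.1 π := by rw [mul_one]
        _ < P.1 π ^ i * 1 := by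
            exact mul_lt_mul_of_pos_left ht (zero_lt_iff.2 (pow_ne_zero _ hπ0))
        _ = P.1 π ^ i := mul_one _
    exact absurd h2 (not_le.2 h3)
  refine ⟨(X - C c) ^ (i - j) * r', s', hs'c, ?_⟩
  have e3 : aeval t ((X - C c) ^ (i - j) * r') = π ^ (i - j) * aeval t r' := by simp [hπ]
  rw [e3]
  have hπj : π ^ j ≠ 0 := pow_ne_zero _ htc
  apply mul_left_cancel₀ hπj
  calc π ^ j * (u * aeval t s') = u * (π ^ j * aeval t s') := by ring
    _ = aeval t r := by rw [← e2, hurs]
    _ = π ^ j * (π ^ (i - j) * aeval t r') := by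
        rw [e1, ← mul_assoc, ← pow_add, Nat.add_sub_cancel' hij]

end Groth.Agent.Helper16.PI
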