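import Mathlib
import Groth.Agent.H16.PI1

/-! `k[x,y]` as an intersection of `O_P[y]`: main argument. -/

namespace Groth.Agent.Helper16.PI

open FunFld Polynomial Module
open Groth.Agent.Helper17.FF

variable {k K : Type*} [Field k] [Field K] [Algebra k K]

theorem aeval_mem_B (x y : K) (p : k[X]) : aeval x p ∈ Algebra.adjoin k ({x, y} : Set K) := by
  have h1 : aeval x p ∈ Algebra.adjoin k ({x} : Set K) := Polynomial.aeval_mem_adjoin_singleton k x
  exact Algebra.adjoin_mono (by simp) h1

theorem main' [IsAlgClosed k] {F : Type*} [Field F] [Algebra k F] [Algebra F K]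
    [IsScalarTower k F K] (hF : IsFunctionField k F) (xF : F) (hxFt : Transcendental k xF)
    (x y : K) (hxx : algebraMap F K xF = x)
    (hfrac : ∀ u : F, ∃ r s : k[X], aeval xF s ≠ 0 ∧ u * aeval xF s = aeval xF r) :
    (Algebra.adjoin k ({x, y} : Set K) : Set K) =
      ⋂ (P : FunFld.Place k F) (_ : P.1 xF ≤ 1),
        (Subring.closure ((algebraMap F K '' (P.O : Set _)) ∪ {y}) : Set K) := by
  classical
  have hcoe : ∀ p : k[X], algebraMap F K (aeval xF p) = aeval x p := by
    intro p
    have h1 := Polynomial.aeval_algebraMap_apply K xF p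
    rw [hxx] at h1
    exact h1.symm
  apply Set.Subset.antisymm
  · intro z hz
    rw [Set.mem_iInter₂]
    intro P hP
    have hz' : z ∈ Algebra.adjoin k ({x, y} : Set K) := hz
    rw [SetLike.mem_coe]
    clear hz
    induction hz' using Algebra.adjoin_induction with
    | mem w hw =>
      apply Subring.subset_closure
      rcases hw with rfl | hw
      · exact Or.inl ⟨xF, hP, hxx⟩
      · exact Or.inr hw
    | algebraMap c =>
      apply Subring.subset_closure
      exact Or.inl ⟨algebraMap k F c, P.2.1 c, (IsScalarTower.algebraMap_apply k F K c).symm⟩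
    | add a b _ _ ha hb => exact Subring.add_mem _ (ha) (hb)
    | mul a b _ _ ha hb => exact Subring.mul_mem _ (ha) (hb)
  · intro z hz
    rw [Set.mem_iInter₂] at hz
    show z ∈ Algebra.adjoin k ({x, y} : Set K)
    -- local denominators
    have hloc : ∀ c : k, ∃ s : k[X], s.eval c ≠ 0 ∧
        aeval x s * z ∈ Algebra.adjoin k ({x, y} : Set K) := by
      intro c
      have hnot : xF - algebraMap k F c ∉ Set.range (algebraMap k F) := by
        rintro ⟨d, hd⟩
        apply hxFt
        have : xF = algebraMap k F (d + c) := by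
          rw [map_add, hd]; ring
        rw [this]
        exact isAlgebraic_algebraMap _
      obtain ⟨P, hP⟩ := exists_zero hF hnot
      have htc : xF - algebraMap k F c ≠ 0 := by
        intro h0
        apply hnot
        exact ⟨0, by rw [map_zero, h0]⟩
      have hPx : P.1 xF ≤ 1 := by
        have : xF = (xF - algebraMap k F c) + algebraMap k F c := by ring
        rw [this]
        exact (P.1.map_add _ _).trans (max_le hP.le (P.2.1 c))
      have hzc' := hz P hPx
      rw [SetLike.mem_coe] at hzc'
      clear hz
      induction hzc' using Subring.closure_induction with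
      | mem w hw =>
        rcases hw with ⟨u, hu, rfl⟩ | hw
        · have hu1 : P.1 u ≤ 1 := hu
          obtain ⟨r, s, hsF, hurs⟩ := hfrac u
          obtain ⟨a, d, hd, had⟩ := exists_denominator P hP htc u hu1 r s hsF hurs
          refine ⟨d, hd, ?_⟩
          have h2 : aeval x d * algebraMap F K u = aeval x a := by
            rw [← hcoe, ← hcoe, mul_comm, ← map_mul, had]
          rw [h2]
          exact aeval_mem_B x y a
        · rw [Set.mem_singleton_iff] at hw
          refine ⟨1, by simp, ?_⟩
          rw [hw, map_one, one_mul]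
          exact Algebra.subset_adjoin (by simp)
      | zero => exact ⟨1, by simp, by simp⟩
      | one => exact ⟨1, by simp, by simp⟩
      | add a b _ _ ha hb =>
        obtain ⟨s₁, hs₁, h₁⟩ := ha
        obtain ⟨s₂, hs₂, h₂⟩ := hb
        refine ⟨s₁ * s₂, by rw [eval_mul]; exact mul_ne_zero hs₁ hs₂, ?_⟩
        have : aeval x (s₁ * s₂) * (a + b) =
            aeval x s₂ * (aeval x s₁ * a) + aeval x s₁ * (aeval x s₂ * b) := by
          rw [map_mul]; ring
        rw [this]
        exact Subalgebra.add_mem _ (Subalgebra.mul_mem _ (aeval_mem_B x y s₂) h₁)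
          (Subalgebra.mul_mem _ (aeval_mem_B x y s₁) h₂)
      | neg a _ ha =>
        obtain ⟨s₁, hs₁, h₁⟩ := ha
        refine ⟨s₁, hs₁, ?_⟩
        rw [mul_neg]
        exact Subalgebra.neg_mem _ h₁
      | mul a b _ _ ha hb =>
        obtain ⟨s₁, hs₁, h₁⟩ := ha
        obtain ⟨s₂, hs₂, h₂⟩ := hb
        refine ⟨s₁ * s₂, by rw [eval_mul]; exact mul_ne_zero hs₁ hs₂, ?_⟩
        have : aeval x (s₁ * s₂) * (a * b) = (aeval x s₁ * a) * (aeval x s₂ * b) := by
          rw [map_mul]; ring
        rw [this]
        exact Subalgebra.mul_mem _ h₁ h₂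
    -- the ideal of denominators
    let I : Ideal k[X] :=
      { carrier := {a | aeval x a * z ∈ Algebra.adjoin k ({x, y} : Set K)}
        add_mem' := by
          intro a b ha hb
          show aeval x (a + b) * z ∈ Algebra.adjoin k ({x, y} : Set K)
          rw [map_add, add_mul]
          exact Subalgebra.add_mem _ ha hb
        zero_mem' := by
          show aeval x (0 : k[X]) * z ∈ Algebra.adjoin k ({x, y} : Set K)
          rw [map_zero, zero_mul]
          exact Subalgebra.zero_mem _
        smul_mem' := by
          intro p a ha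
          show aeval x (p • a) * z ∈ Algebra.adjoin k ({x, y} : Set K)
          rw [smul_eq_mul, map_mul, mul_assoc]
          exact Subalgebra.mul_mem _ (aeval_mem_B x y p) ha }
    obtain ⟨d, hd⟩ := (IsPrincipalIdealRing.principal I).principal
    have hI : ∀ a : k[X], a ∈ I ↔ d ∣ a := by
      intro a
      rw [hd]
      exact Ideal.mem_span_singleton
    by_cases hdeg : d.degree = 0
    · have hdC := Polynomial.eq_C_of_degree_eq_zero hdeg
      have hd0 : d.coeff 0 ≠ 0 := by
        intro h0
        rw [h0, map_zero] at hdC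
        rw [hdC, degree_zero] at hdeg
        exact absurd hdeg (by simp)
      have h1 : (1 : k[X]) ∈ I := by
        rw [hI]
        refine ⟨C (d.coeff 0)⁻¹, ?_⟩
        rw [hdC]
        simp only [coeff_C_zero]
        rw [← C_mul, mul_inv_cancel₀ hd0, C_1]
      have h2 : aeval x (1 : k[X]) * z ∈ Algebra.adjoin k ({x, y} : Set K) := h1
      rwa [map_one, one_mul] at h2
    · obtain ⟨c, hc⟩ := IsAlgClosed.exists_root d hdeg
      obtain ⟨s, hs, hsz⟩ := hloc c
      have h1 : s ∈ I := hsz
      rw [hI] at h1
      obtain ⟨q, hq⟩ := h1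
      exfalso
      apply hs
      rw [hq, eval_mul, hc, zero_mul]

end Groth.Agent.Helper16.PI
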