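import Mathlib

set_option autoImplicit false
set_option linter.style.haveILetI false

/-! The graded evaluation `X_i ↦ φ_i T` and homogeneous components. -/

namespace Groth.Agent.H16.PK

open Polynomial

variable {k K : Type*} [Field k] [Field K] [Algebra k K] {σ : Type*}

/-- the graded evaluation `X_i ↦ φ_i T`. -/
noncomputable abbrev evT (φ : σ → K) : MvPolynomial σ k →ₐ[k] K[X] :=
  MvPolynomial.aeval fun i => Polynomial.C (φ i) * Polynomial.X

theorem evT_monomial (φ : σ → K) (m : σ →₀ ℕ) (c : k) :
    evT φ (MvPolynomial.monomial m c) =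
      Polynomial.C (MvPolynomial.aeval φ (MvPolynomial.monomial m c)) * Polynomial.X ^ m.degree := by
  rw [MvPolynomial.aeval_monomial, MvPolynomial.aeval_monomial]
  simp only [Finsupp.prod, mul_pow, Finset.prod_mul_distrib, Finset.prod_pow_eq_pow_sum, map_mul,
    map_prod, map_pow]
  rw [Finsupp.degree, mul_assoc]
  rfl

theorem coeff_evT (φ : σ → K) (p : MvPolynomial σ k) (d : ℕ) :
    (evT φ p).coeff d = MvPolynomial.aeval φ (MvPolynomial.homogeneousComponent d p) := by
  classical
  conv_lhs => rw [p.as_sum]
  rw [map_sum, Polynomial.finsetSum_coeff, MvPolynomial.homogeneousComponent_apply, map_sum,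
    Finset.sum_filter]
  refine Finset.sum_congr rfl (fun m _ => ?_)
  rw [evT_monomial, Polynomial.coeff_C_mul_X_pow]
  by_cases h : m.degree = d
  · rw [if_pos h.symm, if_pos h]
  · rw [if_neg (fun h' => h h'.symm), if_neg h]

theorem evT_eq_zero_iff (φ : σ → K) (p : MvPolynomial σ k) :
    evT φ p = 0 ↔ ∀ d, MvPolynomial.aeval φ (MvPolynomial.homogeneousComponent d p) = 0 := by
  constructor
  · intro h d
    rw [← coeff_evT, h, Polynomial.coeff_zero]
  · intro h
    ext d
    rw [coeff_evT, h d, Polynomial.coeff_zero]

theorem evT_homogeneous (φ : σ → K) {h : MvPolynomial σ k} {d : ℕ} (hh : h.IsHomogeneous d) :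
    evT φ h = Polynomial.C (MvPolynomial.aeval φ h) * Polynomial.X ^ d := by
  ext e
  rw [coeff_evT, Polynomial.coeff_C_mul_X_pow,
    MvPolynomial.homogeneousComponent_of_mem ((MvPolynomial.mem_homogeneousSubmodule _ _).mpr hh)]
  by_cases he : e = d
  · rw [if_pos he, if_pos he]
  · rw [if_neg he, if_neg he, map_zero]

/-- the kernel of the graded evaluation is a homogeneous ideal. -/
theorem homogeneousComponent_mem_ker (φ : σ → K) {p : MvPolynomial σ k}
    (hp : evT φ p = 0) (d : ℕ) : evT φ (MvPolynomial.homogeneousComponent d p) = 0 := by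
  rw [evT_homogeneous φ (MvPolynomial.homogeneousComponent_isHomogeneous d p),
    (evT_eq_zero_iff φ p).mp hp d, map_zero, zero_mul]

/-- a generator of a homogeneous principal ideal is homogeneous. -/
theorem isHomogeneous_of_span_eq (φ : σ → K) {f : MvPolynomial σ k} (hf : f ≠ 0)
    (hker : RingHom.ker (evT (k := k) φ) = Ideal.span {f}) : f.IsHomogeneous f.totalDegree := by
  have hmem : f ∈ RingHom.ker (evT (k := k) φ) := by
    rw [hker]; exact Ideal.subset_span rfl
  have hcomp : ∀ d, d ≠ f.totalDegree → MvPolynomial.homogeneousComponent d f = 0 := by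
    intro d hd
    by_contra hne
    have h1 : MvPolynomial.homogeneousComponent d f ∈ Ideal.span {f} := by
      rw [← hker, RingHom.mem_ker]
      exact homogeneousComponent_mem_ker φ hmem d
    rw [Ideal.mem_span_singleton] at h1
    obtain ⟨q, hq⟩ := h1
    have hq0 : q ≠ 0 := by
      rintro rfl
      exact hne (by rw [hq, mul_zero])
    have h2 : (MvPolynomial.homogeneousComponent d f).totalDegree = d :=
      (MvPolynomial.homogeneousComponent_isHomogeneous d f).totalDegree hne
    have h3 : (MvPolynomial.homogeneousComponent d f).totalDegree =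
        f.totalDegree + q.totalDegree := by
      rw [hq, MvPolynomial.totalDegree_mul_of_isDomain hf hq0]
    have h4 : d ≤ f.totalDegree := by
      by_contra hlt
      exact hne (MvPolynomial.homogeneousComponent_eq_zero d f (not_le.mp hlt))
    omega
  have hsum := MvPolynomial.sum_homogeneousComponent f
  rw [Finset.sum_eq_single f.totalDegree (fun d _ hd => hcomp d hd)
    (fun h => absurd (Finset.mem_range.mpr (Nat.lt_succ_self _)) h)] at hsum
  rw [← hsum]
  convert MvPolynomial.homogeneousComponent_isHomogeneous f.totalDegree f using 1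
  rw [hsum]

end Groth.Agent.H16.PK
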