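import Mathlib
import Groth.Agent.H16.PK1
import Groth.Agent.H16.PM2

set_option autoImplicit false
set_option linter.style.haveILetI false

/-! Principal kernels of evaluations of `n + 1` variables; the projective relation ideal. -/

namespace Groth.Agent.H16.PK

open Polynomial

variable {k K : Type*} [Field k] [Field K] [Algebra k K]

/-- evaluation through `finSuccEquiv`. -/
theorem eval₂_finSuccEquiv' {n : ℕ} {B : Type*} [CommRing B] [Algebra k B] (v : Fin (n + 1) → B)
    (p : MvPolynomial (Fin (n + 1)) k) :
    Polynomial.eval₂ (MvPolynomial.aeval (Fin.tail v) : MvPolynomial (Fin n) k →ₐ[k] B).toRingHom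
      (v 0) (MvPolynomial.finSuccEquiv k n p) = MvPolynomial.aeval v p := by
  have h : (Polynomial.aevalTower (MvPolynomial.aeval (Fin.tail v) :
      MvPolynomial (Fin n) k →ₐ[k] B) (v 0)).comp (MvPolynomial.finSuccEquiv k n).toAlgHom =
      (MvPolynomial.aeval v : MvPolynomial (Fin (n + 1)) k →ₐ[k] B) := by
    apply MvPolynomial.algHom_ext
    intro i
    refine Fin.cases ?_ (fun j => ?_) i
    · simp [MvPolynomial.finSuccEquiv_X_zero]
    · simp [MvPolynomial.finSuccEquiv_X_succ, Fin.tail]
  exact DFunLike.congr_fun h p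

theorem ker_aeval_succ_principal {n : ℕ} {B : Type*} [Field B] [Algebra k B]
    (v : Fin (n + 1) → B)
    (hinj : Function.Injective (MvPolynomial.aeval (Fin.tail v) : MvPolynomial (Fin n) k →ₐ[k] B))
    (p : MvPolynomial (Fin (n + 1)) k) (hp : p ≠ 0) (hpv : MvPolynomial.aeval v p = 0) :
    ∃ f : MvPolynomial (Fin (n + 1)) k, Irreducible f ∧
      RingHom.ker (MvPolynomial.aeval v : MvPolynomial (Fin (n + 1)) k →ₐ[k] B) =
        Ideal.span {f} := by
  classical
  set e := MvPolynomial.finSuccEquiv k n with he
  set ι : MvPolynomial (Fin n) k →+* B :=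
    (MvPolynomial.aeval (Fin.tail v) : MvPolynomial (Fin n) k →ₐ[k] B).toRingHom with hι
  have hg0 : e p ≠ 0 := by
    intro h; exact hp (e.injective (by rw [h, map_zero]))
  have hgs : Polynomial.eval₂ ι (v 0) (e p) = 0 := by
    rw [hι, he, eval₂_finSuccEquiv']; exact hpv
  obtain ⟨f₀, hirr, hker⟩ := Groth.Agent.H16.PM.ker_eval₂_principal ι hinj (v 0) (e p) hg0 hgs
  refine ⟨e.symm f₀, ?_, ?_⟩
  · exact (MulEquiv.irreducible_iff e.symm.toMulEquiv).2 hirr
  · ext q
    rw [RingHom.mem_ker, Ideal.mem_span_singleton]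
    have h1 : MvPolynomial.aeval v q = Polynomial.eval₂ ι (v 0) (e q) := by
      rw [hι, he, eval₂_finSuccEquiv']
    have h2 : Polynomial.eval₂ ι (v 0) (e q) = 0 ↔ f₀ ∣ e q := by
      rw [← Ideal.mem_span_singleton, ← hker, RingHom.mem_ker, Polynomial.coe_eval₂RingHom]
    rw [h1, h2]
    constructor
    · rintro ⟨c, hc⟩
      refine ⟨e.symm c, ?_⟩
      apply e.injective
      rw [map_mul, AlgEquiv.apply_symm_apply, AlgEquiv.apply_symm_apply, hc]
    · rintro ⟨c, hc⟩
      refine ⟨e c, ?_⟩
      rw [hc, map_mul, AlgEquiv.apply_symm_apply]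

/-- two-variable injectivity of the graded evaluation at `(t, 1)`, `t` transcendental. -/
theorem evT_pair_injective {t : K} (ht : Transcendental k t) :
    Function.Injective (evT (k := k) ![t, 1]) := by
  rw [injective_iff_map_eq_zero]
  intro p hp
  have h := (evT_eq_zero_iff _ p).mp hp
  have h0 : ∀ d, MvPolynomial.homogeneousComponent d p = 0 := by
    intro d
    have hh : (MvPolynomial.homogeneousComponent d p).IsHomogeneous d :=
      MvPolynomial.homogeneousComponent_isHomogeneous d p
    have h1 : Polynomial.aeval t (MvPolynomial.aeval ![(Polynomial.X : k[X]), 1]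
        (MvPolynomial.homogeneousComponent d p)) =
        MvPolynomial.aeval ![t, 1] (MvPolynomial.homogeneousComponent d p) := by
      rw [MvPolynomial.comp_aeval_apply]
      congr 2
      funext i
      fin_cases i <;> simp
    have h2 : MvPolynomial.aeval ![(Polynomial.X : k[X]), 1]
        (MvPolynomial.homogeneousComponent d p) = 0 := by
      by_contra hne
      exact ht ⟨_, hne, by rw [h1]; exact h d⟩
    have h3 := Polynomial.homogenize_eq_of_isHomogeneous hh h2
    rw [Polynomial.homogenize_zero] at h3
    exact h3.symm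
  rw [← MvPolynomial.sum_homogeneousComponent p]
  exact Finset.sum_eq_zero (fun d _ => h0 d)

end Groth.Agent.H16.PK
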