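import Mathlib

set_option autoImplicit false
set_option linter.style.haveILetI false

open TensorProduct

namespace Groth.Agent.H16.PM

section

variable {k k' K σ : Type*} [Field k] [Field k'] [Algebra k k'] [CommRing K] [Algebra k K]

theorem aeval_tmul_map (v : σ → K) (a : MvPolynomial σ k) :
    (MvPolynomial.aeval (fun i => (1 : k') ⊗ₜ[k] v i) : MvPolynomial σ k' →ₐ[k'] k' ⊗[k] K)
      (MvPolynomial.map (algebraMap k k') a) = (1 : k') ⊗ₜ[k] (MvPolynomial.aeval v a) := by
  rw [MvPolynomial.aeval_map_algebraMap, MvPolynomial.aeval_one_tmul]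

/-- Every polynomial over `k'` is a `k'`-combination (along a `k`-basis) of polynomials over `k`. -/
theorem exists_repr {ι : Type*} (b : Module.Basis ι k k') (p : MvPolynomial σ k') :
    ∃ c : ι →₀ MvPolynomial σ k,
      p = c.sum (fun i n => b i • MvPolynomial.map (algebraMap k k') n) := by
  classical
  obtain ⟨c, hc⟩ := TensorProduct.eq_repr_basis_left b
    ((MvPolynomial.algebraTensorAlgEquiv k k').symm p)
  refine ⟨c, ?_⟩
  have h1 : p = MvPolynomial.algebraTensorAlgEquiv k k'
      ((MvPolynomial.algebraTensorAlgEquiv k k').symm p) := by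
    rw [AlgEquiv.apply_symm_apply]
  rw [h1, ← hc, map_finsuppSum]
  simp only [MvPolynomial.algebraTensorAlgEquiv_tmul]

theorem ker_baseChange (v : σ → K) :
    RingHom.ker (MvPolynomial.aeval (fun i => (1 : k') ⊗ₜ[k] v i) :
      MvPolynomial σ k' →ₐ[k'] k' ⊗[k] K) =
    Ideal.map (MvPolynomial.map (algebraMap k k'))
      (RingHom.ker (MvPolynomial.aeval v : MvPolynomial σ k →ₐ[k] K)) := by
  classical
  set b := Module.Basis.ofVectorSpace k k' with hb
  apply le_antisymm
  · intro p hp
    rw [RingHom.mem_ker] at hp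
    obtain ⟨c, hc⟩ := exists_repr b p
    have h1 : (MvPolynomial.aeval (fun i => (1 : k') ⊗ₜ[k] v i) : MvPolynomial σ k' →ₐ[k'] k' ⊗[k] K) p
        = (c.mapRange (MvPolynomial.aeval v : MvPolynomial σ k →ₐ[k] K) (map_zero _)).sum
          (fun i n => b i ⊗ₜ[k] n) := by
      rw [hc, map_finsuppSum, Finsupp.sum_mapRange_index (by intro i; simp)]
      refine Finsupp.sum_congr (fun i _ => ?_)
      rw [map_smul, aeval_tmul_map, TensorProduct.smul_tmul', smul_eq_mul, mul_one]
    rw [h1] at hp
    have h2 := TensorProduct.sum_tmul_basis_left_eq_zero b _ hp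
    have h3 : ∀ i, c i ∈ RingHom.ker (MvPolynomial.aeval v : MvPolynomial σ k →ₐ[k] K) := by
      intro i
      rw [RingHom.mem_ker]
      have := DFunLike.congr_fun h2 i
      simpa using this
    rw [hc]
    refine Ideal.sum_mem _ (fun i _ => ?_)
    show b i • (MvPolynomial.map (algebraMap k k')) (c i) ∈ _
    rw [Algebra.smul_def]
    exact Ideal.mul_mem_left _ _ (Ideal.mem_map_of_mem _ (h3 i))
  · rw [Ideal.map_le_iff_le_comap]
    intro a ha
    rw [RingHom.mem_ker] at ha
    rw [Ideal.mem_comap, RingHom.mem_ker, aeval_tmul_map, ha, TensorProduct.tmul_zero]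

theorem ker_baseChange_span (v : σ → K) (f : MvPolynomial σ k)
    (hf : RingHom.ker (MvPolynomial.aeval v : MvPolynomial σ k →ₐ[k] K) = Ideal.span {f}) :
    RingHom.ker (MvPolynomial.aeval (fun i => (1 : k') ⊗ₜ[k] v i) :
      MvPolynomial σ k' →ₐ[k'] k' ⊗[k] K) =
    Ideal.span {MvPolynomial.map (algebraMap k k') f} := by
  rw [ker_baseChange, hf, Ideal.map_span, Set.image_singleton]

end

end Groth.Agent.H16.PM
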