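import Mathlib
import Groth.Prelude.Def_W4bk4goldsch23FF
import Groth.Agent.H16.PM2
import Groth.Agent.H16.PM3
import Groth.Agent.Lib.Helper17.FFSep
import Groth.Agent.Lib.Helper17.FFSub

set_option autoImplicit false
set_option linter.style.haveILetI false

open TensorProduct FunFld IntermediateField
open Groth.Agent.Helper17.FF

namespace Groth.Agent.H16.PM

universe u v

section

variable {k : Type u} {K : Type v} [Field k] [Field K] [Algebra k K]

/-- In a function field any two elements satisfy a nonzero polynomial relation. -/
theorem exists_rel (hK : IsFunctionField k K) (s t : K) :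
    ∃ p : MvPolynomial (Fin 2) k, p ≠ 0 ∧ MvPolynomial.aeval ![s, t] p = 0 := by
  by_contra hcon
  push Not at hcon
  have hai : AlgebraicIndependent k ![s, t] := by
    rw [algebraicIndependent_iff_injective_aeval, injective_iff_map_eq_zero]
    intro p hp
    by_contra hp0
    exact hcon p hp0 hp
  have h1 := hai.lift_cardinalMk_le_trdeg
  have h2 := trdeg_le_one_of_isFunctionField hK
  have h3 : Cardinal.lift.{v} (Cardinal.mk (Fin 2)) ≤ Cardinal.lift.{0} (1 : Cardinal.{v}) :=
    h1.trans (Cardinal.lift_le.2 h2)
  simp at h3

/-- Absolute irreducibility of a generator of the relation ideal over a geometric field. -/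
theorem irreducible_map_of_isGeometric (hg : IsGeometric k K) (v : Fin 2 → K)
    (f : MvPolynomial (Fin 2) k) (hf0 : f ≠ 0)
    (hf : RingHom.ker (MvPolynomial.aeval v : MvPolynomial (Fin 2) k →ₐ[k] K) = Ideal.span {f})
    (k' : Type u) [Field k'] [Algebra k k'] (hfin : FiniteDimensional k k') :
    Irreducible (MvPolynomial.map (algebraMap k k') f) := by
  have hfld := hg k' hfin
  letI : Field (k' ⊗[k] K) := hfld.toField
  have hker := ker_baseChange_span (k' := k') v f hf
  have hprime : (RingHom.ker (MvPolynomial.aeval (fun i => (1 : k') ⊗ₜ[k] v i) :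
      MvPolynomial (Fin 2) k' →ₐ[k'] k' ⊗[k] K)).IsPrime := RingHom.ker_isPrime _
  rw [hker] at hprime
  have hne : MvPolynomial.map (algebraMap k k') f ≠ 0 := by
    intro h
    apply hf0
    apply MvPolynomial.map_injective _ (algebraMap k k').injective
    rw [h, map_zero]
  exact ((Ideal.span_singleton_prime hne).1 hprime).irreducible

theorem forward (hK : IsFunctionField k K) (hg : IsGeometric k K) :
    ∃ (x y : K) (f : MvPolynomial (Fin 2) k),
      IntermediateField.adjoin k ({x, y} : Set K) = ⊤ ∧
      (∀ (k' : Type u) [Field k'] [Algebra k k'], FiniteDimensional k k' →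
        Irreducible (MvPolynomial.map (algebraMap k k') f)) ∧
      RingHom.ker (MvPolynomial.aeval ![x, y] : MvPolynomial (Fin 2) k →ₐ[k] K) = Ideal.span {f} := by
  classical
  obtain ⟨t, ht, hsep⟩ := exists_separating hK hg
  haveI := essFiniteType_of_isFunctionField hK
  have htr := trdeg_le_one_of_isFunctionField hK
  haveI hfin : FiniteDimensional (IntermediateField.adjoin k ({t} : Set K)) K :=
    finite_adjoin_of_trdeg_le_one htr ht
  obtain ⟨θ, hθ⟩ := Field.exists_primitive_element (IntermediateField.adjoin k ({t} : Set K)) K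
  have htop : IntermediateField.adjoin k ({θ, t} : Set K) = ⊤ := by
    have h := IntermediateField.adjoin_adjoin_left k ({t} : Set K) ({θ} : Set K)
    rw [hθ, IntermediateField.restrictScalars_top] at h
    rw [h, Set.singleton_union, Set.pair_comm]
  obtain ⟨p, hp0, hp⟩ := exists_rel hK θ t
  obtain ⟨f, hirr, hker⟩ := ker_aeval_pair_principal θ t ht p hp0 hp
  refine ⟨θ, t, f, htop, ?_, hker⟩
  intro k' _ _ hfin'
  exact irreducible_map_of_isGeometric hg _ f hirr.ne_zero hker k' hfin'

end

end Groth.Agent.H16.PM
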