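import Mathlib
import Groth.Agent.H16.PK2
import Groth.Agent.H16.PM4
import Groth.Agent.H16.IM4

set_option autoImplicit false
set_option linter.style.haveILetI false

/-! The projective relation ideal of a plane curve is principal. -/

namespace Groth.Agent.H16.PK

open Polynomial FunFld

variable {k K : Type*} [Field k] [Field K] [Algebra k K]

/-- a homogeneous relation from an affine one. -/
theorem exists_homog_rel (s t : K) (q : MvPolynomial (Fin 2) k) (hq : q ≠ 0)
    (hqs : MvPolynomial.aeval ![s, t] q = 0) :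
    ∃ G : MvPolynomial (Fin 3) k, G ≠ 0 ∧ evT (k := k) ![s, t, 1] G = 0 := by
  classical
  set D := q.totalDegree with hD
  set G : MvPolynomial (Fin 3) k := ∑ m ∈ q.support,
    MvPolynomial.C (MvPolynomial.coeff m q) * MvPolynomial.X 0 ^ (m 0) * MvPolynomial.X 1 ^ (m 1) *
      MvPolynomial.X 2 ^ (D - m 0 - m 1) with hG
  have hle : ∀ m ∈ q.support, m 0 + m 1 ≤ D := by
    intro m hm
    have := MvPolynomial.le_totalDegree hm
    rw [Finsupp.sum_fintype _ _ (fun _ => rfl), Fin.sum_univ_two] at this
    exact this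
  refine ⟨G, ?_, ?_⟩
  · intro hG0
    apply hq
    have h1 : MvPolynomial.aeval (![MvPolynomial.X 0, MvPolynomial.X 1, 1] :
        Fin 3 → MvPolynomial (Fin 2) k) G = q := by
      rw [hG, map_sum]
      conv_rhs => rw [q.as_sum]
      refine Finset.sum_congr rfl (fun m _ => ?_)
      rw [MvPolynomial.monomial_eq, Finsupp.prod_fintype _ _ (fun _ => pow_zero _),
        Fin.prod_univ_two]
      simp [mul_assoc]
    rw [← h1, hG0, map_zero]
  · rw [hG, map_sum]
    have hterm : ∀ m ∈ q.support,
        evT (k := k) ![s, t, 1] (MvPolynomial.C (MvPolynomial.coeff m q) * MvPolynomial.X 0 ^ (m 0) *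
          MvPolynomial.X 1 ^ (m 1) * MvPolynomial.X 2 ^ (D - m 0 - m 1)) =
        Polynomial.C (algebraMap k K (MvPolynomial.coeff m q) * s ^ (m 0) * t ^ (m 1)) *
          Polynomial.X ^ D := by
      intro m hm
      have h1 := hle m hm
      have h2 : D = m 0 + m 1 + (D - m 0 - m 1) := by omega
      conv_rhs => rw [h2]
      simp only [map_mul, map_pow, MvPolynomial.aeval_X, MvPolynomial.aeval_C,
        Matrix.cons_val_zero, Matrix.cons_val_one, Matrix.cons_val_two, Matrix.head_cons,
        Matrix.tail_cons, mul_pow, map_one, one_mul, pow_add]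
      generalize (Polynomial.C ((algebraMap k K) (MvPolynomial.coeff m q)) : K[X]) = A
      generalize (Polynomial.C s : K[X]) = S
      generalize (Polynomial.C t : K[X]) = T
      ring
    rw [Finset.sum_congr rfl hterm, ← Finset.sum_mul, ← map_sum]
    have h3 : ∑ m ∈ q.support, algebraMap k K (MvPolynomial.coeff m q) * s ^ (m 0) * t ^ (m 1) =
        MvPolynomial.aeval ![s, t] q := by
      rw [MvPolynomial.aeval_def, MvPolynomial.eval₂_eq']
      refine Finset.sum_congr rfl (fun m _ => ?_)
      rw [Fin.prod_univ_two]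
      simp [mul_assoc]
    rw [h3, hqs, map_zero, zero_mul]

/-- the projective relation ideal for `(s : t : 1)` with `t` transcendental is principal. -/
theorem ker_evT_principal_aux (s t : K) (ht : Transcendental k t)
    (q : MvPolynomial (Fin 2) k) (hq : q ≠ 0) (hqs : MvPolynomial.aeval ![s, t] q = 0) :
    ∃ f : MvPolynomial (Fin 3) k, Irreducible f ∧
      RingHom.ker (evT (k := k) ![s, t, 1]) = Ideal.span {f} := by
  classical
  set a : K[X] →ₐ[k] FractionRing K[X] := IsScalarTower.toAlgHom k K[X] (FractionRing K[X]) with ha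
  have hainj : Function.Injective a := IsFractionRing.injective K[X] (FractionRing K[X])
  set v : Fin 3 → FractionRing K[X] :=
    fun i => a (Polynomial.C (![s, t, 1] i) * Polynomial.X) with hv
  have haev : ∀ p : MvPolynomial (Fin 3) k,
      MvPolynomial.aeval v p = a (evT (k := k) ![s, t, 1] p) := by
    intro p
    rw [MvPolynomial.comp_aeval_apply]
  have htail : ∀ p : MvPolynomial (Fin 2) k,
      MvPolynomial.aeval (Fin.tail v) p = a (evT (k := k) ![t, 1] p) := by
    intro p
    rw [MvPolynomial.comp_aeval_apply]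
    congr 2
  have hinj : Function.Injective
      (MvPolynomial.aeval (Fin.tail v) : MvPolynomial (Fin 2) k →ₐ[k] FractionRing K[X]) := by
    intro p₁ p₂ h
    rw [htail, htail] at h
    exact evT_pair_injective ht (hainj h)
  obtain ⟨G, hG0, hG⟩ := exists_homog_rel s t q hq hqs
  have hGv : MvPolynomial.aeval v G = 0 := by rw [haev, hG, map_zero]
  obtain ⟨f, hirr, hker⟩ := ker_aeval_succ_principal v hinj G hG0 hGv
  refine ⟨f, hirr, ?_⟩
  rw [← hker]
  ext p
  rw [RingHom.mem_ker, RingHom.mem_ker, haev, map_eq_zero_iff a hainj]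

/-- permuting the coordinates does not affect principality. -/
theorem ker_evT_of_perm (φ : Fin 3 → K) (σ : Fin 3 ≃ Fin 3) {f' : MvPolynomial (Fin 3) k}
    (hirr : Irreducible f') (hker : RingHom.ker (evT (k := k) (φ ∘ σ)) = Ideal.span {f'}) :
    ∃ f : MvPolynomial (Fin 3) k, Irreducible f ∧
      RingHom.ker (evT (k := k) φ) = Ideal.span {f} := by
  set ρ : MvPolynomial (Fin 3) k ≃ₐ[k] MvPolynomial (Fin 3) k :=
    MvPolynomial.renameEquiv k σ with hρ
  have hev : ∀ p : MvPolynomial (Fin 3) k, evT (k := k) φ (ρ p) = evT (k := k) (φ ∘ σ) p := by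
    intro p
    rw [hρ, MvPolynomial.renameEquiv_apply, MvPolynomial.aeval_rename]
    rfl
  refine ⟨ρ f', (MulEquiv.irreducible_iff ρ).mpr hirr, ?_⟩
  ext p
  rw [RingHom.mem_ker, Ideal.mem_span_singleton]
  have h1 : evT (k := k) φ p = evT (k := k) (φ ∘ σ) (ρ.symm p) := by
    rw [← hev, AlgEquiv.apply_symm_apply]
  rw [h1, ← RingHom.mem_ker, hker, Ideal.mem_span_singleton]
  constructor
  · rintro ⟨c, hc⟩
    refine ⟨ρ c, ?_⟩
    rw [← map_mul, ← hc, AlgEquiv.apply_symm_apply]
  · rintro ⟨c, hc⟩
    refine ⟨ρ.symm c, ?_⟩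
    rw [hc, map_mul, AlgEquiv.symm_apply_apply]

theorem main (hK : IsFunctionField k K) (x y : K)
    (hxy : IntermediateField.adjoin k ({x, y} : Set K) = ⊤) :
    ∃ f : MvPolynomial (Fin 3) k, Irreducible f ∧ f.IsHomogeneous f.totalDegree ∧
      RingHom.ker (MvPolynomial.aeval fun i => Polynomial.C (![(1 : K), x, y] i) * Polynomial.X :
        MvPolynomial (Fin 3) k →ₐ[k] K[X]) = Ideal.span {f} := by
  have key : ∃ f : MvPolynomial (Fin 3) k, Irreducible f ∧
      RingHom.ker (evT (k := k) ![(1 : K), x, y]) = Ideal.span {f} := by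
    by_cases hy : Transcendental k y
    · obtain ⟨q, hq, hqs⟩ := Groth.Agent.H16.PM.exists_rel hK x y
      obtain ⟨f', hirr, hker⟩ := ker_evT_principal_aux x y hy q hq hqs
      refine ker_evT_of_perm ![(1 : K), x, y] (finRotate 3) hirr ?_
      rw [← hker]
      congr 2
      funext i
      fin_cases i <;> rfl
    · have hx : Transcendental k x := by
        intro hx
        rw [Transcendental, not_not] at hy
        exact Groth.Agent.H16.IM.not_both_const hK hxy (hK.2 x hx) (hK.2 y hy)
      obtain ⟨q, hq, hqs⟩ := Groth.Agent.H16.PM.exists_rel hK y x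
      obtain ⟨f', hirr, hker⟩ := ker_evT_principal_aux y x hx q hq hqs
      refine ker_evT_of_perm ![(1 : K), x, y] (Equiv.swap 0 2) hirr ?_
      rw [← hker]
      congr 2
      funext i
      fin_cases i <;> rfl
  obtain ⟨f, hirr, hker⟩ := key
  exact ⟨f, hirr, isHomogeneous_of_span_eq _ hirr.ne_zero hker, hker⟩

end Groth.Agent.H16.PK
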