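import Mathlib

/-!
# Contraction on exterior powers (helper16)
-/

set_option autoImplicit false

namespace Groth.Agent.H16.PL

universe u

variable {B M : Type u} [CommRing B] [AddCommGroup M] [Module B M] (lam : M →ₗ[B] B)

/-- Contraction with a linear form on the exterior algebra. -/
noncomputable def cEA : ExteriorAlgebra B M →ₗ[B] ExteriorAlgebra B M :=
  CliffordAlgebra.contractLeft (Q := (0 : QuadraticForm B M)) lam

lemma cEA_ι_mul (w : M) (x : ExteriorAlgebra B M) :
    cEA lam (ExteriorAlgebra.ι B w * x) = lam w • x - ExteriorAlgebra.ι B w * cEA lam x :=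
  CliffordAlgebra.contractLeft_ι_mul (Q := (0 : QuadraticForm B M)) lam w x

lemma cEA_one : cEA lam (1 : ExteriorAlgebra B M) = 0 :=
  CliffordAlgebra.contractLeft_one (Q := (0 : QuadraticForm B M)) lam

theorem cEA_ιMulti : ∀ (p : ℕ) (v : Fin (p + 1) → M),
    cEA lam (ExteriorAlgebra.ιMulti B (p + 1) v) =
      ∑ i : Fin (p + 1), ((-1 : B) ^ (i : ℕ) * lam (v i)) •
        ExteriorAlgebra.ιMulti B p (v ∘ i.succAbove) := by
  intro p
  induction p with
  | zero =>
    intro v
    rw [ExteriorAlgebra.ιMulti_succ_apply, cEA_ι_mul, ExteriorAlgebra.ιMulti_zero_apply, cEA_one,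
      mul_zero, sub_zero, Fin.sum_univ_one, ExteriorAlgebra.ιMulti_zero_apply]
    simp
  | succ p ih =>
    intro v
    rw [ExteriorAlgebra.ιMulti_succ_apply, cEA_ι_mul, ih (Matrix.vecTail v), sub_eq_add_neg]
    conv_rhs => rw [Fin.sum_univ_succ]
    congr 1
    · have h0 : v ∘ (0 : Fin (p + 2)).succAbove = Matrix.vecTail v := by
        funext l
        simp [Matrix.vecTail, Fin.succAbove_zero]
      rw [h0]
      simp
    · rw [Finset.mul_sum, ← Finset.sum_neg_distrib]
      apply Finset.sum_congr rfl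
      intro j _
      have h1 : ExteriorAlgebra.ιMulti B (p + 1) (v ∘ j.succ.succAbove) =
          ExteriorAlgebra.ι B (v 0) * ExteriorAlgebra.ιMulti B p (Matrix.vecTail v ∘ j.succAbove) := by
        rw [ExteriorAlgebra.ιMulti_succ_apply]
        have e1 : (v ∘ j.succ.succAbove) 0 = v 0 := by simp
        have e2 : Matrix.vecTail (v ∘ j.succ.succAbove) = Matrix.vecTail v ∘ j.succAbove := by
          funext l
          simp [Matrix.vecTail, Fin.succ_succAbove_succ]
        rw [e1, e2]
      rw [h1, mul_smul_comm, ← neg_smul]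
      congr 1
      have h2 : Matrix.vecTail v j = v j.succ := rfl
      rw [h2, Fin.val_succ, pow_succ]
      ring

theorem cEA_mem (p : ℕ) (x : ExteriorAlgebra B M) (hx : x ∈ ⋀[B]^(p + 1) M) :
    cEA lam x ∈ ⋀[B]^p M := by
  rw [← ExteriorAlgebra.ιMulti_span_fixedDegree] at hx
  induction hx using Submodule.span_induction with
  | mem y hy =>
    obtain ⟨v, rfl⟩ := hy
    rw [cEA_ιMulti]
    apply Submodule.sum_mem
    intro i _
    apply Submodule.smul_mem
    exact (exteriorPower.ιMulti B p (v ∘ i.succAbove)).2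
  | zero => rw [map_zero]; exact Submodule.zero_mem _
  | add y z _ _ hy hz => rw [map_add]; exact Submodule.add_mem _ hy hz
  | smul a y _ hy => rw [map_smul]; exact Submodule.smul_mem _ _ hy

/-- Contraction `⋀^(p+1) M → ⋀^p M`. -/
noncomputable def c (p : ℕ) : ↥(⋀[B]^(p + 1) M) →ₗ[B] ↥(⋀[B]^p M) :=
  (cEA lam).restrict (fun x hx => cEA_mem lam p x hx)

theorem c_ιMulti (p : ℕ) (v : Fin (p + 1) → M) :
    c lam p (exteriorPower.ιMulti B (p + 1) v) =
      ∑ i : Fin (p + 1), ((-1 : B) ^ (i : ℕ) * lam (v i)) •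
        exteriorPower.ιMulti B p (v ∘ i.succAbove) := by
  apply Subtype.ext
  rw [Submodule.coe_sum]
  have h := cEA_ιMulti lam p v
  simp only [Submodule.coe_smul, exteriorPower.ιMulti_apply_coe]
  exact h

/-- Moving the `i`-th vector to the front costs the sign `(-1)^i`. -/
theorem ιMulti_cons_removeNth (p : ℕ) (v : Fin (p + 1) → M) (i : Fin (p + 1)) :
    exteriorPower.ιMulti B (p + 1) (Fin.cons (v i) (v ∘ i.succAbove)) =
      ((-1 : B) ^ (i : ℕ)) • exteriorPower.ιMulti B (p + 1) v := by
  have h1 : (Fin.cons (v i) (v ∘ i.succAbove) : Fin (p + 1) → M) = v ∘ i.cycleRange.symm :=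
    Fin.cons_removeNth_eq_comp_cycleRange_symm v i
  rw [h1, AlternatingMap.map_perm, Equiv.Perm.sign_symm, Fin.sign_cycleRange, Units.smul_def,
    ← Int.cast_smul_eq_zsmul B]
  congr 1
  simp

end Groth.Agent.H16.PL
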