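import Groth.Agent.H16.PL2

/-!
# Weights on the de Rham complex of `A[X]` (helper16)
-/

set_option autoImplicit false

namespace Groth.Agent.H16.PL

open Polynomial

universe u

variable (R A : Type u) [CommRing R] [CommRing A] [Algebra R A]

/-- The Euler derivation `X d/dX` of `A[X]` over `R`. -/
noncomputable def Eul : Derivation R A[X] A[X] :=
  (X : A[X]) • ((Polynomial.derivative' : Derivation A A[X] A[X]).restrictScalars R)

lemma Eul_apply (f : A[X]) : Eul R A f = X * Polynomial.derivative f := rfl

lemma Eul_monomial (n : ℕ) (a : A) : Eul R A (monomial n a) = n • monomial n a := by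
  rw [Eul_apply]
  cases n with
  | zero => simp
  | succ n =>
    rw [Polynomial.derivative_monomial_succ, Polynomial.X_mul_monomial, Polynomial.smul_monomial]
    congr 1
    rw [nsmul_eq_mul]
    push_cast
    ring

lemma Eul_C (a : A) : Eul R A (C a) = (0 : ℕ) • C a := by
  rw [Eul_apply]
  simp

variable {R A}

/-- Additive induction on monomial generators. -/
theorem mono_induction (p : ℕ) (P : ↥(⋀[A[X]]^p (Ω[A[X]⁄R])) → Prop) (h0 : P 0)
    (hadd : ∀ x y, P x → P y → P (x + y))
    (hmono : ∀ (n₀ : ℕ) (a₀ : A) (n : Fin p → ℕ) (a : Fin p → A),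
      P (DeRham.gen (KaehlerDifferential.D R A[X]) p (monomial n₀ a₀)
        (fun j => monomial (n j) (a j))))
    (x : ↥(⋀[A[X]]^p (Ω[A[X]⁄R]))) : P x := by
  have hS : Submodule.span A[X] {ω : Ω[A[X]⁄R] | ∃ (n : ℕ) (a : A),
      ω = KaehlerDifferential.D R A[X] (monomial n a)} = ⊤ := by
    rw [eq_top_iff, ← KaehlerDifferential.span_range_derivation R A[X], Submodule.span_le]
    rintro _ ⟨f, rfl⟩
    induction f using Polynomial.induction_on' with
    | add f g hf hg =>
      rw [map_add]
      exact Submodule.add_mem _ hf hg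
    | monomial n a => exact Submodule.subset_span ⟨n, a, rfl⟩
  have hx : x ∈ Submodule.span A[X] (exteriorPower.ιMulti A[X] p ''
      {v : Fin p → Ω[A[X]⁄R] | Set.range v ⊆ {ω : Ω[A[X]⁄R] | ∃ (n : ℕ) (a : A),
      ω = KaehlerDifferential.D R A[X] (monomial n a)}}) := by
    rw [exteriorPower.ιMulti_span_of_span (R := A[X]) (n := p) (hs := hS)]
    trivial
  induction hx using Submodule.closure_induction with
  | zero => exact h0
  | add x y _ _ hx hy => exact hadd x y hx hy
  | smul_mem r x h =>
    obtain ⟨v, hv, rfl⟩ := h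
    choose n a hna using fun i => hv (Set.mem_range_self i)
    have hvn : v = fun i => KaehlerDifferential.D R A[X] (monomial (n i) (a i)) :=
      funext fun i => hna i
    subst hvn
    induction r using Polynomial.induction_on' with
    | add r₁ r₂ h₁ h₂ =>
      rw [add_smul]
      exact hadd _ _ h₁ h₂
    | monomial n₀ a₀ => exact hmono n₀ a₀ n a

end Groth.Agent.H16.PL
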