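import Groth.Agent.H16.PL3

/-!
# Weight decomposition and the homotopy argument (helper16)
-/

set_option autoImplicit false

namespace Groth.Agent.H16.PL

open Polynomial

universe u

variable {R A : Type u} [CommRing R] [CommRing A] [Algebra R A]
  (d' : ∀ p : ℕ, ↥(⋀[A[X]]^p (Ω[A[X]⁄R])) →ₗ[R] ↥(⋀[A[X]]^(p + 1) (Ω[A[X]⁄R])))
  (hd' : DeRham.IsDiff (KaehlerDifferential.D R A[X]) d')
  (ψ : ∀ p : ℕ, ↥(⋀[A]^p (Ω[A⁄R])) →+ ↥(⋀[A[X]]^p (Ω[A[X]⁄R])))
  (hψ : DeRham.IsCxMap (KaehlerDifferential.D R A) (KaehlerDifferential.D R A[X])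
    (algebraMap A A[X]) ψ)

lemma Eul_algebraMap (a : A) : Eul R A (algebraMap A A[X] a) = (0 : ℕ) • algebraMap A A[X] a := by
  rw [Polynomial.algebraMap_eq]
  exact Eul_C R A a

lemma L_mem_cob (p : ℕ) (y : ↥(⋀[A[X]]^p (Ω[A[X]⁄R]))) (hcl : d' p y = 0) :
    L (Eul R A) d' p y ∈ DeRham.coboundaries d' p := by
  cases p with
  | zero =>
    rw [L_zero, hcl, map_zero]
    exact Submodule.zero_mem _
  | succ p =>
    rw [L_succ, hcl, map_zero, add_zero]
    show _ ∈ LinearMap.range (d' p)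
    exact ⟨_, rfl⟩

include hd' hψ in
lemma L_psi (p : ℕ) (x : ↥(⋀[A]^p (Ω[A⁄R]))) : L (Eul R A) d' p (ψ p x) = 0 := by
  induction x using Groth.Agent.Helper16.gen_induction (R := R) with
  | h0 => rw [map_zero, map_zero]
  | hadd x y hx hy => rw [map_add, map_add, hx, hy, add_zero]
  | hgen b₀ b =>
    rw [hψ p b₀ b]
    have h := L_gen_eigen (Eul R A) d' hd' p (algebraMap A A[X] b₀)
      (fun i => algebraMap A A[X] (b i)) 0 (fun _ => 0) (Eul_algebraMap b₀)
      (fun i => Eul_algebraMap (b i))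
    rw [h]
    simp

/-- weight decomposition -/
def Dec (p : ℕ) (y : ↥(⋀[A[X]]^p (Ω[A[X]⁄R]))) : Prop :=
  ∃ (x₀ : ↥(⋀[A]^p (Ω[A⁄R]))) (F : Finset ℕ) (yn : ℕ → ↥(⋀[A[X]]^p (Ω[A[X]⁄R]))),
    0 ∉ F ∧ (∀ n ∈ F, L (Eul R A) d' p (yn n) = n • yn n) ∧ y = ψ p x₀ + ∑ n ∈ F, yn n

include hd' hψ in
theorem Dec_all (p : ℕ) (y : ↥(⋀[A[X]]^p (Ω[A[X]⁄R]))) : Dec d' ψ p y := by
  classical
  induction y using mono_induction with
  | h0 => exact ⟨0, ∅, fun _ => 0, by simp, by simp, by simp⟩
  | hadd x y hx hy =>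
    obtain ⟨x₀, F, yn, hF, hL, rfl⟩ := hx
    obtain ⟨x₀', F', yn', hF', hL', rfl⟩ := hy
    refine ⟨x₀ + x₀', F ∪ F', fun n => (if n ∈ F then yn n else 0) +
      (if n ∈ F' then yn' n else 0), ?_, ?_, ?_⟩
    · rw [Finset.mem_union]
      tauto
    · intro n _
      rw [map_add, smul_add]
      congr 1
      · by_cases h : n ∈ F
        · rw [if_pos h, hL n h]
        · rw [if_neg h, map_zero, smul_zero]
      · by_cases h : n ∈ F'
        · rw [if_pos h, hL' n h]
        · rw [if_neg h, map_zero, smul_zero]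
    · rw [map_add, Finset.sum_add_distrib, Finset.sum_ite_mem, Finset.sum_ite_mem,
        Finset.union_inter_cancel_left, Finset.union_inter_cancel_right]
      abel
  | hmono n₀ a₀ n a =>
    by_cases hN : n₀ + ∑ j, n j = 0
    · have h1 : n₀ = 0 := by omega
      have h2 : ∀ j, n j = 0 := by
        have : ∑ j, n j = 0 := by omega
        intro j
        exact (Finset.sum_eq_zero_iff.mp this) j (Finset.mem_univ j)
      refine ⟨DeRham.gen (KaehlerDifferential.D R A) p a₀ a, ∅, fun _ => 0, by simp, by simp, ?_⟩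
      rw [Finset.sum_empty, add_zero, hψ p a₀ a]
      simp only [h1, h2, Polynomial.monomial_zero_left, Polynomial.algebraMap_eq]
    · refine ⟨0, {n₀ + ∑ j, n j}, fun _ => DeRham.gen (KaehlerDifferential.D R A[X]) p
        (monomial n₀ a₀) (fun j => monomial (n j) (a j)), ?_, ?_, ?_⟩
      · rw [Finset.mem_singleton]
        exact fun h => hN h.symm
      · intro m hm
        rw [Finset.mem_singleton] at hm
        subst hm
        exact L_gen_eigen (Eul R A) d' hd' p _ _ n₀ n (Eul_monomial R A n₀ a₀)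
          (fun j => Eul_monomial R A (n j) (a j))
      · rw [map_zero, zero_add, Finset.sum_singleton]

variable [Algebra ℚ R]

include hd' in
theorem reduce (p : ℕ) : ∀ (F : Finset ℕ), 0 ∉ F →
    ∀ (y y₀ : ↥(⋀[A[X]]^p (Ω[A[X]⁄R]))) (yn : ℕ → ↥(⋀[A[X]]^p (Ω[A[X]⁄R]))),
    (∀ n ∈ F, L (Eul R A) d' p (yn n) = n • yn n) → L (Eul R A) d' p y₀ = 0 →
    y = y₀ + ∑ n ∈ F, yn n → d' p y = 0 → y - y₀ ∈ DeRham.coboundaries d' p := by
  classical
  intro F
  induction F using Finset.induction_on with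
  | empty =>
    intro _ y y₀ yn _ _ hy _
    rw [hy, Finset.sum_empty, add_zero, sub_self]
    exact Submodule.zero_mem _
  | insert N F' hN ih =>
    intro h0 y y₀ yn hL hL0 hy hcl
    have hN0 : N ≠ 0 := by
      rintro rfl
      exact h0 (Finset.mem_insert_self _ _)
    have h0' : 0 ∉ F' := fun h => h0 (Finset.mem_insert_of_mem h)
    obtain ⟨r, hrN⟩ : ∃ r : R, (N : R) * r = 1 := by
      refine ⟨algebraMap ℚ R ((N : ℚ)⁻¹), ?_⟩
      rw [← map_natCast (algebraMap ℚ R) N, ← map_mul,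
        mul_inv_cancel₀ (Nat.cast_ne_zero.mpr hN0), map_one]
    have hLy : L (Eul R A) d' p y = (N : R) • yn N + ∑ n ∈ F', (n : R) • yn n := by
      rw [hy, map_add, hL0, zero_add, map_sum, Finset.sum_insert hN,
        hL N (Finset.mem_insert_self _ _), Nat.cast_smul_eq_nsmul]
      congr 1
      apply Finset.sum_congr rfl
      intro n hn
      rw [hL n (Finset.mem_insert_of_mem hn), Nat.cast_smul_eq_nsmul]
    have hcob : L (Eul R A) d' p y ∈ DeRham.coboundaries d' p := L_mem_cob d' p y hcl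
    have key := ih h0' (y - r • L (Eul R A) d' p y) y₀ (fun n => (1 - (n : R) * r) • yn n)
      (by
        intro n hn
        rw [map_smul, hL n (Finset.mem_insert_of_mem hn), smul_comm])
      hL0
      (by
        rw [hLy, hy, Finset.sum_insert hN, smul_add, Finset.smul_sum]
        have e1 : r • ((N : R) • yn N) = yn N := by rw [smul_smul, mul_comm, hrN, one_smul]
        rw [e1]
        have e2 : ∑ n ∈ F', (1 - (n : R) * r) • yn n =
            ∑ n ∈ F', yn n - ∑ n ∈ F', r • ((n : R) • yn n) := by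
          rw [← Finset.sum_sub_distrib]
          apply Finset.sum_congr rfl
          intro n _
          have h1 : (1 - (n : R) * r) • yn n = (1 : R) • yn n - ((n : R) * r) • yn n :=
            sub_smul (1 : R) ((n : R) * r) (yn n)
          have h2 : (1 : R) • yn n = yn n := one_smul R (yn n)
          have h3 : ((n : R) * r) • yn n = r • ((n : R) • yn n) := by
            rw [mul_comm]
            exact mul_smul r (n : R) (yn n)
          rw [h1, h2, h3]
        rw [e2]
        abel)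
      (by
        rw [map_sub, map_smul, hcl, d'_L (Eul R A) d' hd' p y, hcl, map_zero, smul_zero,
          sub_zero])
    have e3 : y - y₀ = (y - r • L (Eul R A) d' p y - y₀) + r • L (Eul R A) d' p y := by abel
    rw [e3]
    exact Submodule.add_mem _ key (Submodule.smul_mem _ _ hcob)

end Groth.Agent.H16.PL
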