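import Groth.Agent.H16.PL4
import Groth.Agent.S15293
import Groth.Agent.S15294

/-!
# The retraction induced by evaluation at `0` (helper16)
-/

set_option autoImplicit false

namespace Groth.Agent.H16.PL

open Polynomial

universe u

variable (R A : Type u) [CommRing R] [CommRing A] [Algebra R A]

theorem exists_phi : ∃ φ : ∀ p : ℕ, ↥(⋀[A[X]]^p (Ω[A[X]⁄R])) →+ ↥(⋀[A]^p (Ω[A⁄R])),
    ∀ (p : ℕ) (b₀ : A[X]) (b : Fin p → A[X]),
      φ p (DeRham.gen (KaehlerDifferential.D R A[X]) p b₀ b) =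
        DeRham.gen (KaehlerDifferential.D R A) p (b₀.eval 0) (fun i => (b i).eval 0) := by
  letI : Algebra A[X] A := (Polynomial.evalRingHom (0 : A)).toAlgebra
  haveI : IsScalarTower R A[X] A := IsScalarTower.of_algebraMap_eq (fun r => by
    show algebraMap R A r = Polynomial.evalRingHom 0 (algebraMap R A[X] r)
    rw [Polynomial.algebraMap_apply]
    simp)
  obtain ⟨φ, hφ⟩ := Groth.Agent.S15293.result R R A[X] A
  exact ⟨φ, fun p b₀ b => hφ p b₀ b⟩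

variable {R A}

theorem phi_comm
    (d : ∀ p : ℕ, ↥(⋀[A]^p (Ω[A⁄R])) →ₗ[R] ↥(⋀[A]^(p + 1) (Ω[A⁄R])))
    (hd : DeRham.IsDiff (KaehlerDifferential.D R A) d)
    (d' : ∀ p : ℕ, ↥(⋀[A[X]]^p (Ω[A[X]⁄R])) →ₗ[R] ↥(⋀[A[X]]^(p + 1) (Ω[A[X]⁄R])))
    (hd' : DeRham.IsDiff (KaehlerDifferential.D R A[X]) d')
    (φ : ∀ p : ℕ, ↥(⋀[A[X]]^p (Ω[A[X]⁄R])) →+ ↥(⋀[A]^p (Ω[A⁄R])))
    (hφ : ∀ (p : ℕ) (b₀ : A[X]) (b : Fin p → A[X]),
      φ p (DeRham.gen (KaehlerDifferential.D R A[X]) p b₀ b) =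
        DeRham.gen (KaehlerDifferential.D R A) p (b₀.eval 0) (fun i => (b i).eval 0))
    (p : ℕ) (y : ↥(⋀[A[X]]^p (Ω[A[X]⁄R]))) :
    φ (p + 1) (d' p y) = d p (φ p y) := by
  letI : Algebra A[X] A := (Polynomial.evalRingHom (0 : A)).toAlgebra
  haveI : IsScalarTower R A[X] A := IsScalarTower.of_algebraMap_eq (fun r => by
    show algebraMap R A r = Polynomial.evalRingHom 0 (algebraMap R A[X] r)
    rw [Polynomial.algebraMap_apply]
    simp)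
  exact Groth.Agent.S15294.result R R A[X] A d' hd' d hd φ (fun p b₀ b => hφ p b₀ b) p y

theorem phi_psi
    (φ : ∀ p : ℕ, ↥(⋀[A[X]]^p (Ω[A[X]⁄R])) →+ ↥(⋀[A]^p (Ω[A⁄R])))
    (hφ : ∀ (p : ℕ) (b₀ : A[X]) (b : Fin p → A[X]),
      φ p (DeRham.gen (KaehlerDifferential.D R A[X]) p b₀ b) =
        DeRham.gen (KaehlerDifferential.D R A) p (b₀.eval 0) (fun i => (b i).eval 0))
    (ψ : ∀ p : ℕ, ↥(⋀[A]^p (Ω[A⁄R])) →+ ↥(⋀[A[X]]^p (Ω[A[X]⁄R])))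
    (hψ : DeRham.IsCxMap (KaehlerDifferential.D R A) (KaehlerDifferential.D R A[X])
      (algebraMap A A[X]) ψ)
    (p : ℕ) (x : ↥(⋀[A]^p (Ω[A⁄R]))) : φ p (ψ p x) = x := by
  induction x using Groth.Agent.Helper16.gen_induction (R := R) with
  | h0 => rw [map_zero, map_zero]
  | hadd x y hx hy => rw [map_add, map_add, hx, hy]
  | hgen b₀ b =>
    rw [hψ p b₀ b, hφ]
    simp only [Polynomial.algebraMap_eq, Polynomial.eval_C]

theorem cob_closed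
    (d' : ∀ p : ℕ, ↥(⋀[A[X]]^p (Ω[A[X]⁄R])) →ₗ[R] ↥(⋀[A[X]]^(p + 1) (Ω[A[X]⁄R])))
    (hd' : DeRham.IsDiff (KaehlerDifferential.D R A[X]) d')
    (i : ℕ) (w : ↥(⋀[A[X]]^i (Ω[A[X]⁄R]))) (hw : w ∈ DeRham.coboundaries d' i) :
    d' i w = 0 := by
  cases i with
  | zero =>
    have : w = 0 := (Submodule.mem_bot R).mp hw
    rw [this, map_zero]
  | succ p =>
    obtain ⟨z, rfl⟩ := hw
    exact LinearMap.congr_fun (hd'.2 p) z

end Groth.Agent.H16.PL
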