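import Mathlib
import Groth.Prelude.Def_W4bk4goldsch23FF
import Groth.Agent.H16.PM3

set_option autoImplicit false
set_option linter.style.haveILetI false

open TensorProduct FunFld IntermediateField

namespace Groth.Agent.H16.PM

universe u v

section Frac

variable {k K σ : Type*} [Field k] [Field K] [Algebra k K]

/-- every element of `k(v)` is a quotient of polynomial expressions in `v`. -/
theorem exists_frac (v : σ → K) (htop : IntermediateField.adjoin k (Set.range v) = ⊤) (κ : K) :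
    ∃ n d : MvPolynomial σ k, MvPolynomial.aeval v d ≠ 0 ∧
      κ * MvPolynomial.aeval v d = MvPolynomial.aeval v n := by
  have hmem : κ ∈ IntermediateField.adjoin k (Set.range v) := by rw [htop]; trivial
  induction hmem using IntermediateField.adjoin_induction with
  | mem z hz =>
    obtain ⟨i, rfl⟩ := hz
    exact ⟨MvPolynomial.X i, 1, by simp, by simp⟩
  | algebraMap c => exact ⟨MvPolynomial.C c, 1, by simp, by simp⟩
  | add a b _ _ ha hb =>
    obtain ⟨n₁, d₁, h₁, e₁⟩ := ha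
    obtain ⟨n₂, d₂, h₂, e₂⟩ := hb
    refine ⟨n₁ * d₂ + n₂ * d₁, d₁ * d₂, by simp [h₁, h₂], ?_⟩
    simp only [map_add, map_mul]
    rw [← e₁, ← e₂]; ring
  | inv a _ ha =>
    obtain ⟨n, d, h, e⟩ := ha
    by_cases hn : MvPolynomial.aeval v n = 0
    · have ha0 : a = 0 := by
        rw [hn] at e
        rcases mul_eq_zero.1 e with h' | h'
        · exact h'
        · exact absurd h' h
      exact ⟨0, 1, by simp, by simp [ha0]⟩
    · have ha0 : a ≠ 0 := by
        rintro rfl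
        rw [zero_mul] at e
        exact hn e.symm
      refine ⟨d, n, hn, ?_⟩
      rw [← e]
      field_simp
  | mul a b _ _ ha hb =>
    obtain ⟨n₁, d₁, h₁, e₁⟩ := ha
    obtain ⟨n₂, d₂, h₂, e₂⟩ := hb
    refine ⟨n₁ * n₂, d₁ * d₂, by simp [h₁, h₂], ?_⟩
    simp only [map_mul]
    rw [← e₁, ← e₂]; ring

end Frac

section Dom

variable {k k' K σ : Type*} [Field k] [Field k'] [Algebra k k'] [Field K] [Algebra k K]

/-- clearing denominators in `k' ⊗ K`. -/
theorem exists_lift (v : σ → K) (htop : IntermediateField.adjoin k (Set.range v) = ⊤)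
    (z : k' ⊗[k] K) :
    ∃ a : MvPolynomial σ k, MvPolynomial.aeval v a ≠ 0 ∧ ∃ P : MvPolynomial σ k',
      (MvPolynomial.aeval (fun i => (1 : k') ⊗ₜ[k] v i) : MvPolynomial σ k' →ₐ[k'] k' ⊗[k] K) P =
        ((1 : k') ⊗ₜ[k] MvPolynomial.aeval v a) * z := by
  induction z using TensorProduct.induction_on with
  | zero => exact ⟨1, by simp, 0, by simp⟩
  | tmul c κ =>
    obtain ⟨n, d, hd, e⟩ := exists_frac v htop κ
    refine ⟨d, hd, c • MvPolynomial.map (algebraMap k k') n, ?_⟩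
    rw [map_smul, aeval_tmul_map, Algebra.TensorProduct.tmul_mul_tmul, one_mul, mul_comm, e,
      TensorProduct.smul_tmul', smul_eq_mul, mul_one]
  | add z₁ z₂ h₁ h₂ =>
    obtain ⟨a₁, ha₁, P₁, hP₁⟩ := h₁
    obtain ⟨a₂, ha₂, P₂, hP₂⟩ := h₂
    refine ⟨a₁ * a₂, by simp [ha₁, ha₂],
      MvPolynomial.map (algebraMap k k') a₂ * P₁ + MvPolynomial.map (algebraMap k k') a₁ * P₂, ?_⟩
    rw [map_add, map_mul, map_mul, aeval_tmul_map, aeval_tmul_map, hP₁, hP₂, map_mul]
    have h3 : ((1 : k') ⊗ₜ[k] (MvPolynomial.aeval v a₁ * MvPolynomial.aeval v a₂) : k' ⊗[k] K) =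
        ((1 : k') ⊗ₜ[k] MvPolynomial.aeval v a₁) * ((1 : k') ⊗ₜ[k] MvPolynomial.aeval v a₂) := by
      rw [Algebra.TensorProduct.tmul_mul_tmul, one_mul]
    rw [h3]
    ring

/-- `k' ⊗ K` has no zero divisors when the base-changed relation ideal is prime. -/
theorem noZeroDivisors_tensor (v : σ → K) (htop : IntermediateField.adjoin k (Set.range v) = ⊤)
    (hprime : (RingHom.ker (MvPolynomial.aeval (fun i => (1 : k') ⊗ₜ[k] v i) :
      MvPolynomial σ k' →ₐ[k'] k' ⊗[k] K)).IsPrime) :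
    NoZeroDivisors (k' ⊗[k] K) := by
  refine ⟨?_⟩
  intro z w hzw
  obtain ⟨a₁, ha₁, P₁, hP₁⟩ := exists_lift (k' := k') v htop z
  obtain ⟨a₂, ha₂, P₂, hP₂⟩ := exists_lift (k' := k') v htop w
  have hunit : ∀ (a : MvPolynomial σ k), MvPolynomial.aeval v a ≠ 0 → ∀ z : k' ⊗[k] K,
      ((1 : k') ⊗ₜ[k] MvPolynomial.aeval v a) * z = 0 → z = 0 := by
    intro a ha z hz
    have h1 : ((1 : k') ⊗ₜ[k] (MvPolynomial.aeval v a)⁻¹ : k' ⊗[k] K) *
        (((1 : k') ⊗ₜ[k] MvPolynomial.aeval v a) * z) = z := by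
      rw [← mul_assoc, Algebra.TensorProduct.tmul_mul_tmul, one_mul, inv_mul_cancel₀ ha]
      exact one_mul z
    rw [← h1, hz, mul_zero]
  have hmem : P₁ * P₂ ∈ RingHom.ker (MvPolynomial.aeval (fun i => (1 : k') ⊗ₜ[k] v i) :
      MvPolynomial σ k' →ₐ[k'] k' ⊗[k] K) := by
    rw [RingHom.mem_ker, map_mul, hP₁, hP₂]
    calc ((1 : k') ⊗ₜ[k] MvPolynomial.aeval v a₁) * z * (((1 : k') ⊗ₜ[k] MvPolynomial.aeval v a₂) * w)
        = ((1 : k') ⊗ₜ[k] MvPolynomial.aeval v a₁) * ((1 : k') ⊗ₜ[k] MvPolynomial.aeval v a₂) *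
          (z * w) := by ring
      _ = 0 := by rw [hzw, mul_zero]
  rcases hprime.mem_or_mem hmem with h | h
  · left
    rw [RingHom.mem_ker, hP₁] at h
    exact hunit a₁ ha₁ z h
  · right
    rw [RingHom.mem_ker, hP₂] at h
    exact hunit a₂ ha₂ w h

end Dom

end Groth.Agent.H16.PM
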