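import Mathlib
import Groth.Prelude.Def_W4bk4goldsch23FF
import Groth.Agent.H16.PM2
import Groth.Agent.H16.PM5

set_option autoImplicit false
set_option linter.style.haveILetI false

open TensorProduct FunFld IntermediateField

namespace Groth.Agent.H16.PM

universe u v

section Fld

variable {k k' K : Type*} [Field k] [Field k'] [Algebra k k'] [Field K] [Algebra k K]

theorem isField_of_noZeroDivisors [FiniteDimensional k k'] (h : NoZeroDivisors (k' ⊗[k] K)) :
    IsField (k' ⊗[k] K) := by
  have e := Algebra.TensorProduct.comm k k' K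
  haveI : NoZeroDivisors (K ⊗[k] k') := e.symm.toMulEquiv.noZeroDivisors
  haveI : Nontrivial (K ⊗[k] k') := inferInstance
  haveI : IsDomain (K ⊗[k] k') := NoZeroDivisors.to_isDomain _
  haveI : Module.Finite K (K ⊗[k] k') := inferInstance
  haveI : Algebra.IsIntegral K (K ⊗[k] k') := Algebra.IsIntegral.of_finite _ _
  have hf : IsField (K ⊗[k] k') := isField_of_isIntegral_of_isField' (Field.toIsField K)
  exact e.toMulEquiv.isField hf

end Fld

section Const

variable {k : Type u} {K : Type v} [Field k] [Field K] [Algebra k K]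

open Polynomial in
/-- the constant field of a geometric extension is algebraically closed in it. -/
theorem mem_range_of_isAlgebraic (hg : IsGeometric k K) (α : K) (hα : IsAlgebraic k α) :
    α ∈ Set.range (algebraMap k K) := by
  classical
  have hint : IsIntegral k α := hα.isIntegral
  set m : k[X] := minpoly k α with hm
  haveI : Fact (Irreducible m) := ⟨minpoly.irreducible hint⟩
  have hm0 : m ≠ 0 := minpoly.ne_zero hint
  haveI : FiniteDimensional k (AdjoinRoot m) := (AdjoinRoot.powerBasis hm0).finite
  have hdim : Module.finrank k (AdjoinRoot m) = m.natDegree := by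
    rw [(AdjoinRoot.powerBasis hm0).finrank, AdjoinRoot.powerBasis_dim]
  have hfield := hg (AdjoinRoot m) inferInstance
  let g₁ : AdjoinRoot m →ₐ[k] K :=
    AdjoinRoot.liftAlgHom m (Algebra.ofId k K) α (by
      have := minpoly.aeval k α
      rw [Polynomial.aeval_def] at this
      exact this)
  let Ψ : K ⊗[k] AdjoinRoot m →ₐ[K] K :=
    Algebra.TensorProduct.productLeftAlgHom (AlgHom.id K K) g₁
  have hfield' : IsField (K ⊗[k] AdjoinRoot m) :=
    (Algebra.TensorProduct.comm k K (AdjoinRoot m)).toMulEquiv.isField hfield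
  letI := hfield'.toField
  have hΨinj : Function.Injective Ψ := (Ψ : K ⊗[k] AdjoinRoot m →+* K).injective
  have h1 : Module.finrank K (K ⊗[k] AdjoinRoot m) ≤ Module.finrank K K :=
    LinearMap.finrank_le_finrank_of_injective (f := Ψ.toLinearMap) hΨinj
  rw [Module.finrank_baseChange, Module.finrank_self, hdim] at h1
  have h2 : 0 < m.natDegree := minpoly.natDegree_pos hint
  have hdeg : m.natDegree = 1 := by omega
  exact (minpoly.natDegree_eq_one_iff).1 hdeg

end Const

section NotBoth

variable {k : Type*} [Field k]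

open Polynomial in
/-- `(X - c₁, Y - c₂)` is not contained in a principal ideal generated by a non-unit. -/
theorem isUnit_of_dvd_pair (f : MvPolynomial (Fin 2) k) (c₁ c₂ : k)
    (h₁ : f ∣ MvPolynomial.X 0 - MvPolynomial.C c₁) (h₂ : f ∣ MvPolynomial.X 1 - MvPolynomial.C c₂) :
    IsUnit f := by
  classical
  set e := MvPolynomial.finSuccEquiv k 1 with he
  have eC : ∀ c : k, e (MvPolynomial.C c) =
      (Polynomial.C (MvPolynomial.C c) : Polynomial (MvPolynomial (Fin 1) k)) := by
    intro c
    have h := AlgEquiv.commutes e c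
    rw [MvPolynomial.algebraMap_eq] at h
    rw [h, Polynomial.algebraMap_apply, MvPolynomial.algebraMap_eq]
  have e1 : e (MvPolynomial.X 0 - MvPolynomial.C c₁) =
      (Polynomial.X - Polynomial.C (MvPolynomial.C c₁) : Polynomial (MvPolynomial (Fin 1) k)) := by
    rw [map_sub, eC, he, MvPolynomial.finSuccEquiv_X_zero]
  have e2 : e (MvPolynomial.X 1 - MvPolynomial.C c₂) =
      (Polynomial.C (MvPolynomial.X 0 - MvPolynomial.C c₂) :
        Polynomial (MvPolynomial (Fin 1) k)) := by
    have h1 : (MvPolynomial.X (1 : Fin 2) : MvPolynomial (Fin 2) k) =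
        MvPolynomial.X (Fin.succ (0 : Fin 1)) := rfl
    rw [map_sub, eC, he, h1, MvPolynomial.finSuccEquiv_X_succ, map_sub]
  have d1 : e f ∣ (Polynomial.X - Polynomial.C (MvPolynomial.C c₁) :
      Polynomial (MvPolynomial (Fin 1) k)) := by
    rw [← e1]
    obtain ⟨q, hq⟩ := h₁
    exact ⟨e q, by rw [hq, map_mul]⟩
  have d2 : e f ∣ (Polynomial.C (MvPolynomial.X 0 - MvPolynomial.C c₂) :
      Polynomial (MvPolynomial (Fin 1) k)) := by
    rw [← e2]
    obtain ⟨q, hq⟩ := h₂
    exact ⟨e q, by rw [hq, map_mul]⟩
  have hr0 : (MvPolynomial.X 0 - MvPolynomial.C c₂ : MvPolynomial (Fin 1) k) ≠ 0 := by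
    intro h
    have := congrArg (MvPolynomial.eval (fun _ => c₂ + 1)) h
    simp at this
  have hdeg : (e f).natDegree = 0 := by
    have := Polynomial.natDegree_le_of_dvd d2 (by rwa [Ne, Polynomial.C_eq_zero])
    rw [Polynomial.natDegree_C] at this
    omega
  have hC := Polynomial.eq_C_of_natDegree_eq_zero hdeg
  rw [hC, Polynomial.C_dvd_iff_dvd_coeff] at d1
  have h4 := d1 1
  rw [Polynomial.coeff_sub, Polynomial.coeff_X_one, Polynomial.coeff_C] at h4
  simp only [one_ne_zero, if_false, sub_zero] at h4
  have hu : IsUnit (e f) := by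
    rw [hC]
    exact Polynomial.isUnit_C.2 (isUnit_of_dvd_one h4)
  have := hu.map e.symm
  rwa [AlgEquiv.symm_apply_apply] at this

end NotBoth

end Groth.Agent.H16.PM
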