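import Mathlib
import Groth.Prelude.Def_W4bk4goldsch23FF
import Groth.Agent.H16.PM4
import Groth.Agent.H16.PM6

set_option autoImplicit false
set_option linter.style.haveILetI false

open TensorProduct FunFld IntermediateField

namespace Groth.Agent.H16.PM

universe u v

section

variable {k : Type u} {K : Type v} [Field k] [Field K] [Algebra k K]

theorem finite_of_isAlgebraic (s t : K) (htop : IntermediateField.adjoin k ({s, t} : Set K) = ⊤)
    (hs : IsAlgebraic (IntermediateField.adjoin k ({t} : Set K)) s) :
    FiniteDimensional (IntermediateField.adjoin k ({t} : Set K)) K := by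
  have h := IntermediateField.adjoin_adjoin_left k ({t} : Set K) ({s} : Set K)
  have h2 : IntermediateField.adjoin (IntermediateField.adjoin k ({t} : Set K)) ({s} : Set K) = ⊤ := by
    apply (IntermediateField.restrictScalars_eq_top_iff (K := k)).1
    rw [h, Set.singleton_union, Set.pair_comm, htop]
  haveI hfd : FiniteDimensional (IntermediateField.adjoin k ({t} : Set K))
      (IntermediateField.adjoin (IntermediateField.adjoin k ({t} : Set K)) ({s} : Set K)) :=
    IntermediateField.adjoin.finiteDimensional hs.isIntegral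
  rw [h2] at hfd
  exact Module.Finite.equiv (IntermediateField.topEquiv (F := IntermediateField.adjoin k ({t} : Set K))
    (E := K)).toLinearEquiv

theorem backward (x y : K) (f : MvPolynomial (Fin 2) k)
    (htop : IntermediateField.adjoin k ({x, y} : Set K) = ⊤)
    (habs : ∀ (k' : Type u) [Field k'] [Algebra k k'], FiniteDimensional k k' →
      Irreducible (MvPolynomial.map (algebraMap k k') f))
    (hker : RingHom.ker (MvPolynomial.aeval ![x, y] : MvPolynomial (Fin 2) k →ₐ[k] K) =
      Ideal.span {f}) :
    IsFunctionField k K ∧ IsGeometric k K := by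
  classical
  have hfirr : Irreducible f := by
    have h := habs k inferInstance
    rwa [Algebra.algebraMap_self, MvPolynomial.map_id] at h
  have hf0 : f ≠ 0 := hfirr.ne_zero
  have hrange : Set.range ![x, y] = ({x, y} : Set K) := by
    ext z
    simp only [Set.mem_range, Set.mem_insert_iff, Set.mem_singleton_iff]
    constructor
    · rintro ⟨i, rfl⟩
      fin_cases i
      · left; rfl
      · right; rfl
    · rintro (rfl | rfl)
      · exact ⟨0, rfl⟩
      · exact ⟨1, rfl⟩
  have htop' : IntermediateField.adjoin k (Set.range ![x, y]) = ⊤ := by rw [hrange, htop]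
  have hgeo : IsGeometric k K := by
    intro k' _ _ hfin
    haveI := hfin
    have hker' := ker_baseChange_span (k' := k') ![x, y] f hker
    have hpr : Prime (MvPolynomial.map (algebraMap k k') f) := (habs k' hfin).prime
    have hprime : (RingHom.ker (MvPolynomial.aeval (fun i => (1 : k') ⊗ₜ[k] ![x, y] i) :
        MvPolynomial (Fin 2) k' →ₐ[k'] k' ⊗[k] K)).IsPrime := by
      rw [hker']
      exact (Ideal.span_singleton_prime hpr.ne_zero).2 hpr
    exact isField_of_noZeroDivisors (noZeroDivisors_tensor ![x, y] htop' hprime)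
  refine ⟨⟨?_, fun α hα => mem_range_of_isAlgebraic hgeo α hα⟩, hgeo⟩
  have hfx : MvPolynomial.aeval ![x, y] f = 0 := by
    have : f ∈ RingHom.ker (MvPolynomial.aeval ![x, y] : MvPolynomial (Fin 2) k →ₐ[k] K) := by
      rw [hker]; exact Ideal.mem_span_singleton_self f
    exact this
  by_cases hy : Transcendental k y
  · exact ⟨y, hy, finite_of_isAlgebraic x y htop (isAlgebraic_of_rel x y hy f hf0 hfx)⟩
  by_cases hx : Transcendental k x
  · refine ⟨x, hx, finite_of_isAlgebraic y x (by rw [Set.pair_comm]; exact htop) ?_⟩
    refine isAlgebraic_of_rel y x hx (MvPolynomial.rename (Equiv.swap (0 : Fin 2) 1) f) ?_ ?_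
    · intro h
      apply hf0
      apply MvPolynomial.rename_injective _ (Equiv.injective (Equiv.swap (0 : Fin 2) 1))
      rw [h, map_zero]
    · rw [MvPolynomial.aeval_rename]
      have : (![y, x] ∘ (Equiv.swap (0 : Fin 2) 1)) = ![x, y] := by
        funext i
        fin_cases i <;> simp
      rw [this, hfx]
  exfalso
  rw [Transcendental, not_not] at hy hx
  obtain ⟨c₁, hc₁⟩ := mem_range_of_isAlgebraic hgeo x hx
  obtain ⟨c₂, hc₂⟩ := mem_range_of_isAlgebraic hgeo y hy
  have h₁ : f ∣ MvPolynomial.X 0 - MvPolynomial.C c₁ := by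
    rw [← Ideal.mem_span_singleton, ← hker, RingHom.mem_ker]
    simp [hc₁]
  have h₂ : f ∣ MvPolynomial.X 1 - MvPolynomial.C c₂ := by
    rw [← Ideal.mem_span_singleton, ← hker, RingHom.mem_ker]
    simp [hc₂]
  exact hfirr.not_isUnit (isUnit_of_dvd_pair f c₁ c₂ h₁ h₂)

end

end Groth.Agent.H16.PM
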