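import Groth.Agent.H16.PN1

/-!
# The Poincaré lemma for `k[x_1, …, x_n]` (helper16)
-/

set_option autoImplicit false

namespace Groth.Agent.H16.PM

open Groth.Agent.H16.PG MvPolynomial

universe u

variable {k : Type u} [Field k] {n : ℕ}

/-- The linear form `Σ x_i ∂_i`. -/
noncomputable def lamM : Ω[MvPolynomial (Fin n) k⁄k] →ₗ[MvPolynomial (Fin n) k]
    MvPolynomial (Fin n) k :=
  ∑ i, (X i : MvPolynomial (Fin n) k) •
    (pderiv i : Derivation k (MvPolynomial (Fin n) k) (MvPolynomial (Fin n) k)).liftKaehlerDifferential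

/-- The Euler derivation. -/
noncomputable def EM : Derivation k (MvPolynomial (Fin n) k) (MvPolynomial (Fin n) k) :=
  (lamM (k := k) (n := n)).compDer (KaehlerDifferential.D k (MvPolynomial (Fin n) k))

lemma hlamM (b : MvPolynomial (Fin n) k) :
    lamM (KaehlerDifferential.D k (MvPolynomial (Fin n) k) b) = EM b := rfl

lemma EM_apply (f : MvPolynomial (Fin n) k) : EM f = ∑ i, X i * pderiv i f := by
  show lamM (KaehlerDifferential.D k (MvPolynomial (Fin n) k) f) = _
  unfold lamM
  rw [LinearMap.sum_apply]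
  apply Finset.sum_congr rfl
  intro i _
  rw [LinearMap.smul_apply, Derivation.liftKaehlerDifferential_comp_D, smul_eq_mul]

lemma EM_monomial (α : Fin n →₀ ℕ) (c : k) :
    EM (monomial α c) = α.degree • monomial α c := by
  rw [EM_apply]
  exact (isHomogeneous_monomial c rfl).sum_X_mul_pderiv

variable (d' : ∀ p : ℕ, ↥(⋀[MvPolynomial (Fin n) k]^p (Ω[MvPolynomial (Fin n) k⁄k])) →ₗ[k]
    ↥(⋀[MvPolynomial (Fin n) k]^(p + 1) (Ω[MvPolynomial (Fin n) k⁄k])))
  (hd' : DeRham.IsDiff (KaehlerDifferential.D k (MvPolynomial (Fin n) k)) d')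

/-- Additive induction on monomial generators. -/
theorem mono_induction (p : ℕ)
    (P : ↥(⋀[MvPolynomial (Fin n) k]^p (Ω[MvPolynomial (Fin n) k⁄k])) → Prop) (h0 : P 0)
    (hadd : ∀ x y, P x → P y → P (x + y))
    (hmono : ∀ (α₀ : Fin n →₀ ℕ) (a₀ : k) (α : Fin p → (Fin n →₀ ℕ)) (a : Fin p → k),
      P (DeRham.gen (KaehlerDifferential.D k (MvPolynomial (Fin n) k)) p (monomial α₀ a₀)
        (fun j => monomial (α j) (a j))))
    (x : ↥(⋀[MvPolynomial (Fin n) k]^p (Ω[MvPolynomial (Fin n) k⁄k]))) : P x := by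
  have hS : Submodule.span (MvPolynomial (Fin n) k)
      {ω : Ω[MvPolynomial (Fin n) k⁄k] | ∃ (β : Fin n →₀ ℕ) (c : k),
      ω = KaehlerDifferential.D k (MvPolynomial (Fin n) k) (monomial β c)} = ⊤ := by
    rw [eq_top_iff, ← KaehlerDifferential.span_range_derivation k (MvPolynomial (Fin n) k),
      Submodule.span_le]
    rintro _ ⟨f, rfl⟩
    induction f using MvPolynomial.induction_on' with
    | add f g hf hg =>
      rw [map_add]
      exact Submodule.add_mem _ hf hg
    | monomial β c => exact Submodule.subset_span ⟨β, c, rfl⟩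
  have hx : x ∈ Submodule.span (MvPolynomial (Fin n) k)
      (exteriorPower.ιMulti (MvPolynomial (Fin n) k) p ''
      {v : Fin p → Ω[MvPolynomial (Fin n) k⁄k] | Set.range v ⊆
        {ω : Ω[MvPolynomial (Fin n) k⁄k] | ∃ (β : Fin n →₀ ℕ) (c : k),
      ω = KaehlerDifferential.D k (MvPolynomial (Fin n) k) (monomial β c)}}) := by
    rw [exteriorPower.ιMulti_span_of_span (R := MvPolynomial (Fin n) k) (n := p) (hs := hS)]
    trivial
  induction hx using Submodule.closure_induction with
  | zero => exact h0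
  | add x y _ _ hx hy => exact hadd x y hx hy
  | smul_mem r x h =>
    obtain ⟨v, hv, rfl⟩ := h
    choose β c hβc using fun i => hv (Set.mem_range_self i)
    have hvn : v = fun i => KaehlerDifferential.D k (MvPolynomial (Fin n) k)
        (monomial (β i) (c i)) := funext fun i => hβc i
    subst hvn
    induction r using MvPolynomial.induction_on' with
    | add r₁ r₂ h₁ h₂ =>
      rw [add_smul]
      exact hadd _ _ h₁ h₂
    | monomial α₀ a₀ => exact hmono α₀ a₀ β c

include hd' in
lemma L_mono (q : ℕ) (α₀ : Fin n →₀ ℕ) (a₀ : k) (α : Fin (q + 1) → (Fin n →₀ ℕ))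
    (a : Fin (q + 1) → k) :
    L lamM d' (q + 1) (DeRham.gen (KaehlerDifferential.D k (MvPolynomial (Fin n) k)) (q + 1)
      (monomial α₀ a₀) (fun j => monomial (α j) (a j))) =
    (α₀.degree + ∑ j, (α j).degree) •
      DeRham.gen (KaehlerDifferential.D k (MvPolynomial (Fin n) k)) (q + 1)
      (monomial α₀ a₀) (fun j => monomial (α j) (a j)) := by
  rw [L_gen_succ (KaehlerDifferential.D k (MvPolynomial (Fin n) k)) EM lamM hlamM d' hd' q
    (monomial α₀ a₀) (fun j => monomial (α j) (a j)) (fun j => (α j).degree)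
    (fun j => EM_monomial (α j) (a j)), EM_monomial, add_smul]
  congr 1
  unfold DeRham.gen
  rw [smul_assoc]

include hd' in
theorem Dec_all (q : ℕ)
    (y : ↥(⋀[MvPolynomial (Fin n) k]^(q + 1) (Ω[MvPolynomial (Fin n) k⁄k]))) :
    ∃ (F : Finset ℕ)
      (yn : ℕ → ↥(⋀[MvPolynomial (Fin n) k]^(q + 1) (Ω[MvPolynomial (Fin n) k⁄k]))),
      0 ∉ F ∧ (∀ m ∈ F, L lamM d' (q + 1) (yn m) = m • yn m) ∧ y = ∑ m ∈ F, yn m := by
  classical
  induction y using mono_induction with
  | h0 => exact ⟨∅, fun _ => 0, by simp, by simp, by simp⟩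
  | hadd x y hx hy =>
    obtain ⟨F, yn, hF, hL, rfl⟩ := hx
    obtain ⟨F', yn', hF', hL', rfl⟩ := hy
    refine ⟨F ∪ F', fun m => (if m ∈ F then yn m else 0) +
      (if m ∈ F' then yn' m else 0), ?_, ?_, ?_⟩
    · rw [Finset.mem_union]
      tauto
    · intro m _
      rw [map_add, smul_add]
      congr 1
      · by_cases h : m ∈ F
        · rw [if_pos h, hL m h]
        · rw [if_neg h, map_zero, smul_zero]
      · by_cases h : m ∈ F'
        · rw [if_pos h, hL' m h]
        · rw [if_neg h, map_zero, smul_zero]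
    · rw [Finset.sum_add_distrib, Finset.sum_ite_mem, Finset.sum_ite_mem,
        Finset.union_inter_cancel_left, Finset.union_inter_cancel_right]
  | hmono α₀ a₀ α a =>
    by_cases hN : α₀.degree + ∑ j, (α j).degree = 0
    · have h2 : (α 0).degree = 0 := by
        have : ∑ j, (α j).degree = 0 := by omega
        exact (Finset.sum_eq_zero_iff.mp this) 0 (Finset.mem_univ 0)
      have h3 : α 0 = 0 := (Finsupp.degree_eq_zero_iff _).mp h2
      refine ⟨∅, fun _ => 0, by simp, by simp, ?_⟩
      rw [Finset.sum_empty]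
      unfold DeRham.gen
      rw [(exteriorPower.ιMulti (MvPolynomial (Fin n) k) (q + 1)).map_coord_zero 0 (by
        show KaehlerDifferential.D k (MvPolynomial (Fin n) k) (monomial (α 0) (a 0)) = 0
        rw [h3]
        have : (monomial (0 : Fin n →₀ ℕ) (a 0) : MvPolynomial (Fin n) k) =
            algebraMap k (MvPolynomial (Fin n) k) (a 0) := rfl
        rw [this, Derivation.map_algebraMap]), smul_zero]
    · refine ⟨{α₀.degree + ∑ j, (α j).degree}, fun _ =>
        DeRham.gen (KaehlerDifferential.D k (MvPolynomial (Fin n) k)) (q + 1)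
          (monomial α₀ a₀) (fun j => monomial (α j) (a j)), ?_, ?_, ?_⟩
      · rw [Finset.mem_singleton]
        exact fun h => hN h.symm
      · intro m hm
        rw [Finset.mem_singleton] at hm
        subst hm
        exact L_mono d' hd' q α₀ a₀ α a
      · rw [Finset.sum_singleton]

variable [CharZero k]

include hd' in
theorem poincare (q : ℕ) : DeRham.cocycles d' (q + 1) ≤ DeRham.coboundaries d' (q + 1) := by
  intro y hy
  have hcl : d' (q + 1) y = 0 := hy
  obtain ⟨F, yn, hF, hL, hyd⟩ := Dec_all d' hd' q y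
  have h := reduce (KaehlerDifferential.D k (MvPolynomial (Fin n) k)) lamM d' hd' (q + 1) F hF
    y 0 yn hL (map_zero _) (by rw [zero_add]; exact hyd) hcl
  rw [sub_zero] at h
  exact h

end Groth.Agent.H16.PM
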