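import Groth.Agent.H16.PN2

/-!
# The Poincaré lemma, exterior-algebra form (helper16)
-/

set_option autoImplicit false

namespace Groth.Agent.H16.PM

open Groth.Agent.H16.PG MvPolynomial

universe u

variable {k : Type u} [Field k] {n : ℕ}
  (d : ExteriorAlgebra (MvPolynomial (Fin n) k) (Ω[MvPolynomial (Fin n) k⁄k]) →ₗ[k]
    ExteriorAlgebra (MvPolynomial (Fin n) k) (Ω[MvPolynomial (Fin n) k⁄k]))
  (h0 : ∀ a : MvPolynomial (Fin n) k,
    d (algebraMap (MvPolynomial (Fin n) k) _ a) =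
      ExteriorAlgebra.ι (MvPolynomial (Fin n) k)
        (KaehlerDifferential.D k (MvPolynomial (Fin n) k) a))
  (hdeg : ∀ (p : ℕ) (ω : ExteriorAlgebra (MvPolynomial (Fin n) k) (Ω[MvPolynomial (Fin n) k⁄k])),
    ω ∈ ⋀[MvPolynomial (Fin n) k]^p (Ω[MvPolynomial (Fin n) k⁄k]) →
      d ω ∈ ⋀[MvPolynomial (Fin n) k]^(p + 1) (Ω[MvPolynomial (Fin n) k⁄k]))
  (hder : ∀ (p : ℕ) (ω η : ExteriorAlgebra (MvPolynomial (Fin n) k) (Ω[MvPolynomial (Fin n) k⁄k])),
    ω ∈ ⋀[MvPolynomial (Fin n) k]^p (Ω[MvPolynomial (Fin n) k⁄k]) →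
      d (ω * η) = d ω * η + (-1) ^ p * ω * d η)
  (hdd : ∀ ω, d (d ω) = 0)

include h0 hdd in
lemma d_ι_D (b : MvPolynomial (Fin n) k) :
    d (ExteriorAlgebra.ι (MvPolynomial (Fin n) k)
      (KaehlerDifferential.D k (MvPolynomial (Fin n) k) b)) = 0 := by
  rw [← h0, hdd]

include h0 hder hdd in
lemma d_prod : ∀ (p : ℕ) (v : Fin p → MvPolynomial (Fin n) k),
    d (ExteriorAlgebra.ιMulti (MvPolynomial (Fin n) k) p
      (fun i => KaehlerDifferential.D k (MvPolynomial (Fin n) k) (v i))) = 0 := by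
  intro p
  induction p with
  | zero =>
    intro v
    rw [ExteriorAlgebra.ιMulti_zero_apply]
    have h1 := h0 1
    rw [map_one, Derivation.map_one_eq_zero, map_zero] at h1
    exact h1
  | succ p ih =>
    intro v
    rw [ExteriorAlgebra.ιMulti_succ_apply]
    have hmem : ExteriorAlgebra.ι (MvPolynomial (Fin n) k)
        (KaehlerDifferential.D k (MvPolynomial (Fin n) k) (v 0)) ∈
        ⋀[MvPolynomial (Fin n) k]^1 (Ω[MvPolynomial (Fin n) k⁄k]) := by
      unfold ExteriorAlgebra.exteriorPower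
      rw [pow_one]
      exact ⟨_, rfl⟩
    rw [hder 1 _ _ hmem, d_ι_D d h0 hdd]
    have h2 : Matrix.vecTail (fun i => KaehlerDifferential.D k (MvPolynomial (Fin n) k) (v i)) =
        fun i => KaehlerDifferential.D k (MvPolynomial (Fin n) k) ((v ∘ Fin.succ) i) := rfl
    rw [h2, ih (v ∘ Fin.succ), zero_mul, mul_zero, add_zero]

include h0 hder hdd in
lemma d_gen (p : ℕ) (b₀ : MvPolynomial (Fin n) k) (b : Fin p → MvPolynomial (Fin n) k) :
    d (b₀ • ExteriorAlgebra.ιMulti (MvPolynomial (Fin n) k) p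
      (fun i => KaehlerDifferential.D k (MvPolynomial (Fin n) k) (b i))) =
    ExteriorAlgebra.ιMulti (MvPolynomial (Fin n) k) (p + 1)
      (Fin.cons (KaehlerDifferential.D k (MvPolynomial (Fin n) k) b₀)
        (fun i => KaehlerDifferential.D k (MvPolynomial (Fin n) k) (b i))) := by
  have hmem : algebraMap (MvPolynomial (Fin n) k)
      (ExteriorAlgebra (MvPolynomial (Fin n) k) (Ω[MvPolynomial (Fin n) k⁄k])) b₀ ∈
      ⋀[MvPolynomial (Fin n) k]^0 (Ω[MvPolynomial (Fin n) k⁄k]) := by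
    unfold ExteriorAlgebra.exteriorPower
    rw [pow_zero]
    exact Submodule.algebraMap_mem b₀
  rw [Algebra.smul_def, hder 0 _ _ hmem, h0, d_prod d h0 hder hdd, mul_zero, add_zero,
    ExteriorAlgebra.ιMulti_succ_apply, Fin.cons_zero]
  congr 2

/-- The degreewise differentials. -/
noncomputable def dP (p : ℕ) :
    ↥(⋀[MvPolynomial (Fin n) k]^p (Ω[MvPolynomial (Fin n) k⁄k])) →ₗ[k]
    ↥(⋀[MvPolynomial (Fin n) k]^(p + 1) (Ω[MvPolynomial (Fin n) k⁄k])) where
  toFun x := ⟨d x.1, hdeg p x.1 x.2⟩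
  map_add' x y := Subtype.ext (by
    show d ((x + y : ↥(⋀[MvPolynomial (Fin n) k]^p (Ω[MvPolynomial (Fin n) k⁄k]))) :
      ExteriorAlgebra (MvPolynomial (Fin n) k) (Ω[MvPolynomial (Fin n) k⁄k])) = d x.1 + d y.1
    rw [Submodule.coe_add, map_add])
  map_smul' c x := Subtype.ext (by
    show d ((c • x : ↥(⋀[MvPolynomial (Fin n) k]^p (Ω[MvPolynomial (Fin n) k⁄k]))) :
      ExteriorAlgebra (MvPolynomial (Fin n) k) (Ω[MvPolynomial (Fin n) k⁄k])) = c • d x.1
    rw [Submodule.coe_smul_of_tower, map_smul])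

lemma dP_coe (p : ℕ) (x : ↥(⋀[MvPolynomial (Fin n) k]^p (Ω[MvPolynomial (Fin n) k⁄k]))) :
    ((dP d hdeg p x : ↥(⋀[MvPolynomial (Fin n) k]^(p + 1) (Ω[MvPolynomial (Fin n) k⁄k]))) :
      ExteriorAlgebra (MvPolynomial (Fin n) k) (Ω[MvPolynomial (Fin n) k⁄k])) = d x.1 := rfl

include h0 hder hdd in
lemma dP_isDiff : DeRham.IsDiff (KaehlerDifferential.D k (MvPolynomial (Fin n) k))
    (dP d hdeg) := by
  constructor
  · intro p b₀ b
    apply Subtype.ext
    rw [dP_coe]
    unfold DeRham.gen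
    rw [Submodule.coe_smul, exteriorPower.ιMulti_apply_coe, exteriorPower.ιMulti_apply_coe]
    exact d_gen d h0 hder hdd p b₀ b
  · intro p
    apply LinearMap.ext
    intro x
    apply Subtype.ext
    show d (d x.1) = 0
    exact hdd _

omit d in
lemma coeff_EM (a : MvPolynomial (Fin n) k) (β : Fin n →₀ ℕ) :
    coeff β (EM a) = (β.degree : k) * coeff β a := by
  classical
  induction a using MvPolynomial.induction_on' with
  | monomial α c =>
    rw [EM_monomial, ← Nat.cast_smul_eq_nsmul k, coeff_smul, coeff_monomial, smul_eq_mul]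
    by_cases h : α = β
    · subst h
      rw [if_pos rfl]
    · rw [if_neg h, mul_zero, mul_zero]
  | add p q hp hq => rw [map_add, coeff_add, coeff_add, hp, hq, mul_add]

omit d in
lemma const_of_D_eq_zero [CharZero k] (a : MvPolynomial (Fin n) k)
    (ha : KaehlerDifferential.D k (MvPolynomial (Fin n) k) a = 0) :
    ∃ c : k, a = MvPolynomial.C c := by
  classical
  have hE : EM a = 0 := by
    rw [← hlamM, ha, map_zero]
  refine ⟨coeff 0 a, ?_⟩
  ext β
  rw [coeff_C]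
  by_cases hβ : 0 = β
  · rw [if_pos hβ, hβ]
  · rw [if_neg hβ]
    have h1 := coeff_EM a β
    rw [hE, coeff_zero] at h1
    have hdeg : (β.degree : k) ≠ 0 := by
      rw [Nat.cast_ne_zero]
      intro h
      exact hβ ((Finsupp.degree_eq_zero_iff β).mp h).symm
    exact (mul_eq_zero.mp h1.symm).resolve_left hdeg

end Groth.Agent.H16.PM
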