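import Groth.Agent.H16.Cond8
set_option autoImplicit false
set_option linter.unusedSimpArgs false

namespace Groth.Agent.Helper16.Plane

open FunFld Module Groth.Agent.Helper17.FF

variable {k K : Type*} [Field k] [Field K] [Algebra k K]

theorem mapDiv_one_xy (hK : IsFunctionField k K) (x y : K) (P : Place k K) :
    mapDiv k ![(1 : K), x, y] P = -min 0 (min (P.ord x) (P.ord y)) := by
  classical
  have hfin : (Function.support fun P : Place k K =>
      -Finset.univ.inf' Finset.univ_nonempty (fun i => P.ord (![(1 : K), x, y] i))).Finite := by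
    refine ((finite_support_ord hK x).union (finite_support_ord hK y)).subset ?_
    intro Q hQ
    by_contra hnot
    simp only [Set.mem_union, Function.mem_support, not_or, not_not] at hnot
    apply hQ
    have h1 : ∀ i, Q.ord (![(1 : K), x, y] i) = 0 := by
      intro i
      fin_cases i
      · have := ord_const Q (1 : k)
        simpa using this
      · simpa using hnot.1
      · simpa using hnot.2
    simp [h1]
  unfold mapDiv
  rw [dif_pos hfin]
  show -Finset.univ.inf' Finset.univ_nonempty (fun i => P.ord (![(1 : K), x, y] i)) = _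
  have h1 : P.ord (1 : K) = 0 := by
    have := ord_const P (1 : k)
    simpa using this
  have hiff : ∀ z : ℤ, z ≤ Finset.univ.inf' Finset.univ_nonempty
      (fun i => P.ord (![(1 : K), x, y] i)) ↔ z ≤ 0 ∧ z ≤ P.ord x ∧ z ≤ P.ord y := by
    intro z
    rw [Finset.le_inf'_iff]
    constructor
    · intro h
      have h0 := h 0 (Finset.mem_univ _)
      have h1' := h 1 (Finset.mem_univ _)
      have h2 := h 2 (Finset.mem_univ _)
      simp only [Matrix.cons_val_zero, Matrix.cons_val_one, Matrix.cons_val_two,
        Matrix.head_cons, Matrix.tail_cons] at h0 h1' h2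
      rw [h1] at h0
      exact ⟨h0, h1', h2⟩
    · rintro ⟨h0, h1', h2⟩ i _
      fin_cases i
      · simpa [h1] using h0
      · simpa using h1'
      · simpa using h2
  have ha := (hiff _).mp le_rfl
  have hb := (hiff (min 0 (min (P.ord x) (P.ord y)))).mpr
    ⟨min_le_left _ _, (min_le_right _ _).trans (min_le_left _ _),
      (min_le_right _ _).trans (min_le_right _ _)⟩
  omega

theorem exp_mapDiv_one_xy (hK : IsFunctionField k K) (x y : K) (P : Place k K) :
    WithZero.exp (mapDiv k ![(1 : K), x, y] P) = max 1 (max (P.1 x) (P.1 y)) := by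
  rw [mapDiv_one_xy hK]
  have hx : P.1 x ≤ WithZero.exp (-P.ord x) := by
    by_cases h : x = 0
    · rw [h, map_zero]; exact zero_le
    · rw [val_eq_exp_neg_ord P h]
  have hy : P.1 y ≤ WithZero.exp (-P.ord y) := by
    by_cases h : y = 0
    · rw [h, map_zero]; exact zero_le
    · rw [val_eq_exp_neg_ord P h]
  apply le_antisymm
  · have hc : min 0 (min (P.ord x) (P.ord y)) = 0 ∨
        (min 0 (min (P.ord x) (P.ord y)) = P.ord x ∧ P.ord x < 0) ∨
        (min 0 (min (P.ord x) (P.ord y)) = P.ord y ∧ P.ord y < 0) := by omega
    rcases hc with h | ⟨h, hlt⟩ | ⟨h, hlt⟩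
    · rw [h, neg_zero, WithZero.exp_zero]; exact le_max_left _ _
    · rw [h]
      have hx0 : x ≠ 0 := by
        rintro rfl
        rw [ord_zero] at hlt
        exact lt_irrefl _ hlt
      rw [← val_eq_exp_neg_ord P hx0]
      exact (le_max_left _ _).trans (le_max_right _ _)
    · rw [h]
      have hy0 : y ≠ 0 := by
        rintro rfl
        rw [ord_zero] at hlt
        exact lt_irrefl _ hlt
      rw [← val_eq_exp_neg_ord P hy0]
      exact (le_max_right _ _).trans (le_max_right _ _)
  · refine max_le ?_ (max_le ?_ ?_)
    · rw [← WithZero.exp_zero, WithZero.exp_le_exp]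
      omega
    · refine hx.trans ?_
      rw [WithZero.exp_le_exp]
      omega
    · refine hy.trans ?_
      rw [WithZero.exp_le_exp]
      omega

/-- a generic linear change of the first coordinate makes its pole divisor the divisor of the
plane map -/
theorem exists_good_coord [IsAlgClosed k] (hK : IsFunctionField k K) (x y : K) :
    ∃ c : k, ∀ P : Place k K, P.1 y ≤ max 1 (P.1 (x + algebraMap k K c * y)) := by
  classical
  by_cases hy0 : y = 0
  · exact ⟨0, fun P => by rw [hy0, map_zero]; exact zero_le⟩
  have hS : {P : Place k K | 1 < P.1 y}.Finite := by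
    refine (finite_support_ord hK y).subset ?_
    intro P hP
    rw [Function.mem_support]
    have := (ord_neg_iff P hy0).mpr hP
    omega
  have hB : ∀ P : Place k K, {c : k | P.1 (x + algebraMap k K c * y) < P.1 y}.Subsingleton := by
    intro P c₁ h₁ c₂ h₂
    by_contra hne
    have e : algebraMap k K (c₁ - c₂) * y =
        (x + algebraMap k K c₁ * y) - (x + algebraMap k K c₂ * y) := by
      rw [map_sub]; ring
    have h3 : P.1 (algebraMap k K (c₁ - c₂) * y) < P.1 y := by
      rw [e]
      exact lt_of_le_of_lt (Valuation.map_sub _ _ _) (max_lt h₁ h₂)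
    rw [map_mul, val_const P (sub_ne_zero.mpr hne), one_mul] at h3
    exact lt_irrefl _ h3
  have hBfin : (⋃ P ∈ {P : Place k K | 1 < P.1 y},
      {c : k | P.1 (x + algebraMap k K c * y) < P.1 y}).Finite :=
    hS.biUnion (fun P _ => (hB P).finite)
  haveI : Infinite k := IsAlgClosed.instInfinite
  obtain ⟨c, hc⟩ := hBfin.exists_notMem
  refine ⟨c, fun P => ?_⟩
  by_cases hP : P.1 y ≤ 1
  · exact hP.trans (le_max_left _ _)
  · push Not at hP
    have h1 : ¬ P.1 (x + algebraMap k K c * y) < P.1 y := by
      intro h
      apply hc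
      simp only [Set.mem_iUnion, Set.mem_setOf_eq]
      exact ⟨P, hP, h⟩
    exact (not_lt.mp h1).trans (le_max_right _ _)

end Groth.Agent.Helper16.Plane
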