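import Groth.Agent.H16.Plane
set_option autoImplicit false
set_option linter.unusedSimpArgs false

namespace Groth.Agent.Helper16.Plane

open FunFld Module Groth.Agent.Helper17.FF

variable {k K : Type*} [Field k] [Field K] [Algebra k K]

theorem pow_indep {x : K} (hx : Transcendental k x) :
    LinearIndependent k (fun a : ℕ => x ^ a) := by
  have hinj := transcendental_iff_injective.mp hx
  have h1 := (Polynomial.basisMonomials k).linearIndependent.map'
    (Polynomial.aeval x).toLinearMap (by
      rw [LinearMap.ker_eq_bot]
      exact hinj)
  have e : (fun a : ℕ => x ^ a) =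
      ⇑(Polynomial.aeval x).toLinearMap ∘ ⇑(Polynomial.basisMonomials k) := by
    funext a
    simp [Polynomial.coe_basisMonomials]
  rw [e]
  exact h1

theorem natDegree_minpoly_eq (hK : IsFunctionField k K) {x y : K} (hx : Transcendental k x)
    (hxy : IntermediateField.adjoin k ({x, y} : Set K) = ⊤) :
    (minpoly (IntermediateField.adjoin k ({x} : Set K)) y).natDegree =
      finrank (IntermediateField.adjoin k ({x} : Set K)) K := by
  haveI := finite_of_transcendental hK hx
  have htop : IntermediateField.adjoin (IntermediateField.adjoin k ({x} : Set K))
      ({y} : Set K) = ⊤ := by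
    apply IntermediateField.restrictScalars_injective k
    rw [IntermediateField.adjoin_adjoin_left, IntermediateField.restrictScalars_top]
    have : ({x} ∪ {y} : Set K) = {x, y} := by
      ext z; simp only [Set.mem_union, Set.mem_singleton_iff, Set.mem_insert_iff]
    rw [this, hxy]
  have hint : IsIntegral (IntermediateField.adjoin k ({x} : Set K)) y :=
    Algebra.IsIntegral.isIntegral y
  have h1 := IntermediateField.adjoin.finrank hint
  rw [htop, IntermediateField.finrank_top'] at h1
  exact h1.symm

/-- the monomials `x^a y^b`, `b < [K : k(x)]`, are linearly independent over `k` -/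
theorem monomials_indep {x : K} (hx : Transcendental k x) (y : K) :
    LinearIndependent k
      (fun p : ℕ × Fin (minpoly (IntermediateField.adjoin k ({x} : Set K)) y).natDegree =>
        x ^ p.1 * y ^ (p.2 : ℕ)) := by
  have hb : LinearIndependent k
      (fun a : ℕ => (IntermediateField.AdjoinSimple.gen k x) ^ a) := by
    apply LinearIndependent.of_comp (IntermediateField.val _).toLinearMap
    have e : ⇑(IntermediateField.val (IntermediateField.adjoin k ({x} : Set K))).toLinearMap ∘
        (fun a : ℕ => (IntermediateField.AdjoinSimple.gen k x) ^ a) = fun a : ℕ => x ^ a := by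
      funext a
      simp
    rw [e]
    exact pow_indep hx
  have hc := linearIndependent_pow (K := IntermediateField.adjoin k ({x} : Set K)) y
  have h1 := linearIndependent_smul hb hc
  have e : (fun p : ℕ × Fin (minpoly (IntermediateField.adjoin k ({x} : Set K)) y).natDegree =>
      x ^ p.1 * y ^ (p.2 : ℕ)) = fun p => (IntermediateField.AdjoinSimple.gen k x) ^ p.1 •
        y ^ (p.2 : ℕ) := by
    funext p
    rw [Algebra.smul_def]
    simp
  rw [e]
  exact h1

end Groth.Agent.Helper16.Plane
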