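import Groth.Agent.H16.Plane2
set_option autoImplicit false
set_option linter.unusedSimpArgs false

namespace Groth.Agent.Helper16.Plane

open FunFld Module Groth.Agent.Helper17.FF

variable {k K : Type*} [Field k] [Field K] [Algebra k K]

theorem transcendental_of_good (hK : IsFunctionField k K) (x y : K)
    (hxy : IntermediateField.adjoin k ({x, y} : Set K) = ⊤)
    (hgood : ∀ P : Place k K, P.1 y ≤ max 1 (P.1 x)) : Transcendental k x := by
  by_contra hx
  have hxk : x ∈ Set.range (algebraMap k K) := hK.2 x (by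
    unfold Transcendental at hx
    exact not_not.mp hx)
  obtain ⟨a, rfl⟩ := hxk
  have hyk : y ∈ Set.range (algebraMap k K) := by
    apply mem_range_of_forall_val_le_one hK
    intro P
    exact (hgood P).trans (max_le le_rfl (P.2.1 a))
  obtain ⟨b, rfl⟩ := hyk
  obtain ⟨⟨x₀, hx₀, -⟩, -⟩ := id hK
  have h1 : x₀ ∈ IntermediateField.adjoin k ({algebraMap k K a, algebraMap k K b} : Set K) := by
    rw [hxy]; trivial
  have h2 : IntermediateField.adjoin k ({algebraMap k K a, algebraMap k K b} : Set K) ≤ ⊥ := by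
    rw [IntermediateField.adjoin_le_iff]
    rintro z (rfl | rfl)
    · exact IntermediateField.algebraMap_mem _ _
    · exact IntermediateField.algebraMap_mem _ _
  have h3 := h2 h1
  rw [IntermediateField.mem_bot] at h3
  obtain ⟨c, rfl⟩ := h3
  exact hx₀ (isAlgebraic_algebraMap c)

theorem mapDiv_eq_poles (hK : IsFunctionField k K) (x y : K) (hx0 : x ≠ 0)
    (hgood : ∀ P : Place k K, P.1 y ≤ max 1 (P.1 x)) :
    mapDiv k ![(1 : K), x, y] = (-FunFld.div k x) ⊔ 0 := by
  ext P
  rw [mapDiv_one_xy hK, Finsupp.sup_apply, Finsupp.neg_apply, div_apply hK, Finsupp.zero_apply]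
  have h1 : min 0 (P.ord x) ≤ P.ord y := by
    by_cases hy0 : y = 0
    · rw [hy0, ord_zero]; exact min_le_left _ _
    · have h2 := hgood P
      rw [val_eq_exp_neg_ord P hy0, val_eq_exp_neg_ord P hx0, ← WithZero.exp_zero,
        le_max_iff, WithZero.exp_le_exp, WithZero.exp_le_exp] at h2
      rcases h2 with h | h
      · exact (min_le_left _ _).trans (by omega)
      · exact (min_le_right _ _).trans (by omega)
  rw [max_def, min_def, min_def]
  split_ifs <;> omega

/-- the genus bound for a plane model whose first coordinate carries the whole pole divisor -/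
theorem genus_bound_aux [IsAlgClosed k] (hK : IsFunctionField k K) (x y : K)
    (hxy : IntermediateField.adjoin k ({x, y} : Set K) = ⊤)
    (hgood : ∀ P : Place k K, P.1 y ≤ max 1 (P.1 x)) :
    2 * (genus k K : ℤ) ≤ ((mapDiv k ![(1 : K), x, y]).deg - 1) *
      ((mapDiv k ![(1 : K), x, y]).deg - 2) := by
  classical
  have hx := transcendental_of_good hK x y hxy hgood
  have hx0 : x ≠ 0 := by
    rintro rfl
    exact hx (isAlgebraic_zero)
  haveI := finite_of_transcendental hK hx
  obtain ⟨D, hDdef⟩ : ∃ D : Divisor k K, D = mapDiv k ![(1 : K), x, y] := ⟨_, rfl⟩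
  rw [← hDdef]
  obtain ⟨r, hr⟩ : ∃ r : ℕ, r = finrank (IntermediateField.adjoin k ({x} : Set K)) K := ⟨_, rfl⟩
  have hdr : D.deg = (r : ℤ) := by
    rw [hDdef, mapDiv_eq_poles hK x y hx0 hgood, deg_poles hK hx, hr]
  have hrpos : 1 ≤ r := by rw [hr]; exact Module.finrank_pos
  have hn' := natDegree_minpoly_eq hK hx hxy
  rw [← hr] at hn'
  obtain ⟨m, hm⟩ : ∃ m : ℕ, m = r + 2 * genus k K := ⟨_, rfl⟩
  -- the monomials
  have hli := monomials_indep hx y
  rw [hn'] at hli
  have hv : ∀ (b : Fin r) (a : Fin (m + 1 - b)), x ^ (a : ℕ) * y ^ (b : ℕ) ∈ L ((m : ℤ) • D) := by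
    intro b a P
    have hE1 : (1 : WithZero (Multiplicative ℤ)) ≤ WithZero.exp (D P) := by
      rw [hDdef, exp_mapDiv_one_xy hK]; exact le_max_left _ _
    have hEx : P.1 x ≤ WithZero.exp (D P) := by
      rw [hDdef, exp_mapDiv_one_xy hK]
      exact (le_max_left _ _).trans (le_max_right _ _)
    have hEy : P.1 y ≤ WithZero.exp (D P) := by
      rw [hDdef, exp_mapDiv_one_xy hK]
      exact (le_max_right _ _).trans (le_max_right _ _)
    have hab : (a : ℕ) + (b : ℕ) ≤ m := by
      have := a.isLt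
      have := b.isLt
      omega
    rw [map_mul, map_pow, map_pow, Finsupp.smul_apply, smul_eq_mul]
    calc P.1 x ^ (a : ℕ) * P.1 y ^ (b : ℕ)
        ≤ WithZero.exp (D P) ^ (a : ℕ) * WithZero.exp (D P) ^ (b : ℕ) :=
          mul_le_mul' (pow_le_pow_left' hEx _) (pow_le_pow_left' hEy _)
      _ = WithZero.exp (D P) ^ ((a : ℕ) + (b : ℕ)) := (pow_add _ _ _).symm
      _ ≤ WithZero.exp (D P) ^ m := pow_le_pow_right' hE1 hab
      _ = WithZero.exp ((m : ℤ) * D P) := by
          rw [← WithZero.exp_nsmul]; congr 1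
  haveI : FiniteDimensional k (L ((m : ℤ) • D)) := L_finite hK _
  have hli2 : LinearIndependent k (fun i : (Σ b : Fin r, Fin (m + 1 - b)) =>
      (⟨x ^ (i.2 : ℕ) * y ^ (i.1 : ℕ), hv i.1 i.2⟩ : L ((m : ℤ) • D))) := by
    apply LinearIndependent.of_comp (L ((m : ℤ) • D)).subtype
    have hinj : Function.Injective
        (fun i : (Σ b : Fin r, Fin (m + 1 - b)) => (((i.2 : ℕ), i.1) : ℕ × Fin r)) := by
      rintro ⟨b₁, a₁⟩ ⟨b₂, a₂⟩ h
      simp only [Prod.mk.injEq] at h
      obtain ⟨h1, h2⟩ := h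
      subst h2
      have : a₁ = a₂ := Fin.ext h1
      rw [this]
    exact hli.comp _ hinj
  have hcard := hli2.fintype_card_le_finrank
  rw [Fintype.card_sigma] at hcard
  simp only [Fintype.card_fin] at hcard
  -- Riemann–Roch
  have hell := ell_eq_of_deg_ge hK ((m : ℤ) • D) (by
    rw [deg_zsmul, hdr, hm]
    push_cast
    have : (1 : ℤ) ≤ r := by exact_mod_cast hrpos
    nlinarith [Int.natCast_nonneg (genus k K)])
  rw [deg_zsmul, hdr] at hell
  unfold ell at hell
  -- counting
  have hsum : (((∑ b : Fin r, (m + 1 - (b : ℕ)) : ℕ) : ℤ)) * 2 =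
      2 * (r : ℤ) * ((m : ℤ) + 1) - (r : ℤ) * ((r : ℤ) - 1) := by
    have h1 : ∀ b : Fin r, ((m + 1 - (b : ℕ) : ℕ) : ℤ) = (m : ℤ) + 1 - (b : ℕ) := by
      intro b
      have := b.isLt
      rw [Nat.cast_sub (by omega)]
      push_cast
      ring
    rw [Nat.cast_sum]
    simp_rw [h1]
    rw [Finset.sum_sub_distrib, Finset.sum_const, Finset.card_univ, Fintype.card_fin]
    have h2 : ((∑ b : Fin r, ((b : ℕ) : ℤ)) : ℤ) * 2 = (r : ℤ) * ((r : ℤ) - 1) := by
      have h3 := Finset.sum_range_id_mul_two r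
      rw [← Fin.sum_univ_eq_sum_range (fun i => i) r] at h3
      have h4 : ((∑ b : Fin r, (b : ℕ) : ℕ) : ℤ) * 2 = ((r * (r - 1) : ℕ) : ℤ) := by
        exact_mod_cast h3
      rw [Nat.cast_sum] at h4
      rw [h4, Nat.cast_mul, Nat.cast_sub hrpos]
      simp
    rw [sub_mul, h2]
    simp only [nsmul_eq_mul]
    ring
  have hcard' : ((∑ b : Fin r, (m + 1 - (b : ℕ)) : ℕ) : ℤ) ≤
      (finrank k (L ((m : ℤ) • D)) : ℤ) := by exact_mod_cast hcard
  rw [hdr]
  nlinarith
end Groth.Agent.Helper16.Plane
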