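import Groth.Agent.H16.Gauss5
set_option autoImplicit false
set_option linter.unusedSimpArgs false

namespace Groth.Agent.Helper16.Plane

open FunFld Module Groth.Agent.Helper17.FF

variable {k K : Type*} [Field k] [Field K] [Algebra k K]

/-- span of the monomials `y^a x^b`, `b < d`, `a + b ≤ m` -/
def Rm (x y : K) (d m : ℕ) : Submodule k K :=
  Submodule.span k {z | ∃ a b : ℕ, b < d ∧ a + b ≤ m ∧ z = y ^ a * x ^ b}

theorem Rm_mono (x y : K) (d : ℕ) {m m' : ℕ} (h : m ≤ m') :
    (Rm x y d m : Submodule k K) ≤ Rm x y d m' := by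
  apply Submodule.span_mono
  rintro z ⟨a, b, hb, hab, rfl⟩
  exact ⟨a, b, hb, hab.trans h, rfl⟩

theorem Rm_mul_y (x y : K) (d m : ℕ) {z : K} (hz : z ∈ (Rm x y d m : Submodule k K)) :
    y * z ∈ (Rm x y d (m + 1) : Submodule k K) := by
  unfold Rm at hz
  induction hz using Submodule.span_induction with
  | mem z hz =>
    obtain ⟨a, b, hb, hab, rfl⟩ := hz
    apply Submodule.subset_span
    refine ⟨a + 1, b, hb, by omega, ?_⟩
    rw [pow_succ]; ring
  | zero => rw [mul_zero]; exact Submodule.zero_mem _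
  | add u v _ _ hu hv => rw [mul_add]; exact Submodule.add_mem _ hu hv
  | smul c u _ hu => rw [mul_smul_comm]; exact Submodule.smul_mem _ c hu

theorem Rm_mul_y_pow (x y : K) (d m : ℕ) (a : ℕ) {z : K}
    (hz : z ∈ (Rm x y d m : Submodule k K)) :
    y ^ a * z ∈ (Rm x y d (m + a) : Submodule k K) := by
  induction a with
  | zero => rw [pow_zero, one_mul]; exact hz
  | succ a ih =>
    have := Rm_mul_y x y d (m + a) ih
    rw [pow_succ']
    rw [mul_assoc]
    exact this

theorem Rm_mul_x (x y : K) (d m : ℕ) (hrel : x ^ d ∈ (Rm x y d d : Submodule k K)) {z : K}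
    (hz : z ∈ (Rm x y d m : Submodule k K)) :
    x * z ∈ (Rm x y d (m + 1) : Submodule k K) := by
  unfold Rm at hz
  induction hz using Submodule.span_induction with
  | mem z hz =>
    obtain ⟨a, b, hb, hab, rfl⟩ := hz
    by_cases hb1 : b + 1 < d
    · apply Submodule.subset_span
      refine ⟨a, b + 1, hb1, by omega, ?_⟩
      rw [pow_succ]; ring
    · have hbd : b + 1 = d := by omega
      have e : x * (y ^ a * x ^ b) = y ^ a * x ^ d := by
        rw [← hbd, pow_succ]; ring
      rw [e]
      have := Rm_mul_y_pow x y d d a hrel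
      exact Rm_mono x y d (by omega) this
  | zero => rw [mul_zero]; exact Submodule.zero_mem _
  | add u v _ _ hu hv => rw [mul_add]; exact Submodule.add_mem _ hu hv
  | smul c u _ hu => rw [mul_smul_comm]; exact Submodule.smul_mem _ c hu

/-- powers of the span of `1, y, x` are spanned by the restricted monomials -/
theorem pow_le_Rm (x y : K) (d : ℕ) (hd : 1 ≤ d) (hrel : x ^ d ∈ (Rm x y d d : Submodule k K))
    (W : Submodule k K) (hW : W ≤ Submodule.span k ({1, y, x} : Set K)) (m : ℕ) :
    W ^ m ≤ Rm x y d m := by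
  induction m with
  | zero =>
    rw [pow_zero, Submodule.one_eq_span, Submodule.span_le]
    rintro z rfl
    apply Submodule.subset_span
    exact ⟨0, 0, by omega, by omega, by simp⟩
  | succ m ih =>
    rw [pow_succ', Submodule.mul_le]
    intro w hw z hz
    have hz' := ih hz
    have hw' := hW hw
    clear hw
    induction hw' using Submodule.span_induction with
    | mem w hw =>
      rcases hw with h | h | h
      · rw [h, one_mul]; exact Rm_mono x y d (by omega) hz'
      · rw [h]; exact Rm_mul_y x y d m hz'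
      · rw [h]; exact Rm_mul_x x y d m hrel hz'
    | zero => rw [zero_mul]; exact Submodule.zero_mem _
    | add u v _ _ hu hv => rw [add_mul]; exact Submodule.add_mem _ hu hv
    | smul c u _ hu => rw [smul_mul_assoc]; exact Submodule.smul_mem _ c hu

theorem finrank_Rm_le (x y : K) (d m : ℕ) :
    finrank k (Rm x y d m : Submodule k K) ≤ ∑ b : Fin d, (m + 1 - (b : ℕ)) := by
  classical
  have h1 : (Rm x y d m : Submodule k K) ≤ Submodule.span k (Set.range
      (fun i : (Σ b : Fin d, Fin (m + 1 - b)) => y ^ (i.2 : ℕ) * x ^ (i.1 : ℕ))) := by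
    apply Submodule.span_mono
    rintro z ⟨a, b, hb, hab, rfl⟩
    exact ⟨⟨⟨b, hb⟩, ⟨a, by simp only; omega⟩⟩, rfl⟩
  haveI : FiniteDimensional k (Submodule.span k (Set.range
      (fun i : (Σ b : Fin d, Fin (m + 1 - b)) => y ^ (i.2 : ℕ) * x ^ (i.1 : ℕ)))) :=
    FiniteDimensional.span_of_finite k (Set.finite_range _)
  refine (Submodule.finrank_mono h1).trans ?_
  refine (finrank_range_le_card _).trans ?_
  rw [Fintype.card_sigma]
  simp only [Fintype.card_fin]
  exact le_rfl

/-- monomials of degree at most `m` lie in the `m`-th power of the span -/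
theorem monomial_mem_pow (W : Submodule k K) (h1 : (1 : K) ∈ W) {u v : K} (hu : u ∈ W) (hv : v ∈ W)
    {a b m : ℕ} (hab : a + b ≤ m) : u ^ a * v ^ b ∈ W ^ m := by
  obtain ⟨r, rfl⟩ : ∃ r, m = a + b + r := ⟨m - (a + b), by omega⟩
  rw [pow_add, pow_add]
  have e : u ^ a * v ^ b = u ^ a * v ^ b * 1 ^ r := by rw [one_pow, mul_one]
  rw [e]
  exact Submodule.mul_mem_mul (Submodule.mul_mem_mul (Submodule.pow_mem_pow _ hu a)
    (Submodule.pow_mem_pow _ hv b)) (Submodule.pow_mem_pow _ h1 r)

/-- the relation given by a polynomial whose degree in the first variable equals its total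
degree -/
theorem rel_of_poly (x y : K) (f : MvPolynomial (Fin 2) k) (hf0 : f ≠ 0)
    (hdeg : f.degreeOf 0 = f.totalDegree) (hfxy : MvPolynomial.aeval ![x, y] f = 0) :
    x ^ f.totalDegree ∈ (Rm x y f.totalDegree f.totalDegree : Submodule k K) := by
  classical
  obtain ⟨d, hd⟩ : ∃ d : ℕ, d = f.totalDegree := ⟨_, rfl⟩
  rw [← hd] at hdeg ⊢
  have hsupp : f.support.Nonempty := by
    rw [Finset.nonempty_iff_ne_empty, Ne, MvPolynomial.support_eq_empty]
    exact hf0
  obtain ⟨s₀, hs₀, hs₀d⟩ := Finset.exists_mem_eq_sup f.support hsupp (fun s => s 0)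
  rw [← MvPolynomial.degreeOf_eq_sup, hdeg] at hs₀d
  have htot : ∀ s ∈ f.support, s 0 + s 1 ≤ d := by
    intro s hs
    have := MvPolynomial.le_totalDegree hs
    rw [sum_eq_two, ← hd] at this
    exact this
  have hs₀1 : s₀ 1 = 0 := by
    have := htot s₀ hs₀
    omega
  have hsum : ∑ s ∈ f.support, f.coeff s • (x ^ s 0 * y ^ s 1) = 0 := by
    rw [← hfxy, MvPolynomial.aeval_def, MvPolynomial.eval₂_eq']
    refine Finset.sum_congr rfl fun s _ => ?_
    rw [Fin.prod_univ_two, Algebra.smul_def]
    rfl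
  rw [← Finset.add_sum_erase _ _ hs₀, hs₀1, pow_zero, mul_one, ← hs₀d] at hsum
  have hc : f.coeff s₀ ≠ 0 := MvPolynomial.mem_support_iff.mp hs₀
  have hx : x ^ d = (f.coeff s₀)⁻¹ • (-(∑ s ∈ f.support.erase s₀, f.coeff s • (x ^ s 0 * y ^ s 1))) := by
    rw [← eq_neg_iff_add_eq_zero] at hsum
    rw [← hsum, smul_smul, inv_mul_cancel₀ hc, one_smul]
  rw [hx]
  apply Submodule.smul_mem
  apply Submodule.neg_mem
  apply Submodule.sum_mem
  intro s hs
  apply Submodule.smul_mem
  apply Submodule.subset_span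
  rw [Finset.mem_erase] at hs
  obtain ⟨hne, hs⟩ := hs
  have h1 := htot s hs
  have h2 : s 0 ≤ d := by
    rw [← hdeg]; exact MvPolynomial.monomial_le_degreeOf 0 hs
  have h3 : s 0 < d := by
    rcases Nat.lt_or_ge (s 0) d with h | h
    · exact h
    · exfalso
      apply hne
      ext i
      fin_cases i
      · show s 0 = s₀ 0
        omega
      · show s 1 = s₀ 1
        omega
  exact ⟨s 1, s 0, h3, by omega, by ring⟩

end Groth.Agent.Helper16.Plane
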