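import Groth.Agent.H16.Veronese2
set_option autoImplicit false
set_option linter.unusedSimpArgs false

namespace Groth.Agent.Helper16.Emb

open FunFld Module Groth.Agent.Helper17.FF

variable {k K : Type*} [Field k] [Field K] [Algebra k K] {n : ℕ}

/-- forms of degree `e` multiplying `T` into forms of degree `e + m₀` -/
def Cnd (W T : Submodule k K) (m₀ e : ℕ) : Submodule k K := W ^ e ⊓ (W ^ (e + m₀) / T)

theorem mem_Cnd {W T : Submodule k K} {m₀ e : ℕ} {v : K} :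
    v ∈ Cnd W T m₀ e ↔ v ∈ W ^ e ∧ ∀ t ∈ T, v * t ∈ W ^ (e + m₀) := by
  unfold Cnd
  rw [Submodule.mem_inf, Submodule.mem_div_iff_forall_mul_mem]

theorem Cnd_mul {W T : Submodule k K} {m₀ e r : ℕ} {v w : K} (hv : v ∈ Cnd W T m₀ e)
    (hw : w ∈ W ^ r) : v * w ∈ Cnd W T m₀ (e + r) := by
  rw [mem_Cnd] at hv ⊢
  refine ⟨by rw [pow_add]; exact Submodule.mul_mem_mul hv.1 hw, fun t ht => ?_⟩
  have e1 : v * w * t = w * (v * t) := by ring
  have e2 : e + r + m₀ = r + (e + m₀) := by omega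
  rw [e1, e2, pow_add]
  exact Submodule.mul_mem_mul hw (hv.2 t ht)

theorem Cnd_pow {W T : Submodule k K} {m₀ e : ℕ} {v : K} (hv : v ∈ Cnd W T m₀ e) (N : ℕ) :
    v ^ (N + 1) ∈ Cnd W T m₀ ((N + 1) * e) := by
  induction N with
  | zero => rw [zero_add, pow_one, one_mul]; exact hv
  | succ N ih =>
    have := Cnd_mul ih (mem_Cnd.mp hv).1
    rw [pow_succ]
    have e2 : (N + 1 + 1) * e = (N + 1) * e + e := by ring
    rw [e2]
    exact this

/-- a projective map nonsingular at every place has complete powers in arbitrarily large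
degrees -/
theorem pow_eq_of_nonsingular [IsAlgClosed k] (hK : IsFunctionField k K) (hn : 1 ≤ n)
    (φ : Fin (n + 1) → K) (hφ : LinearIndependent k φ)
    (hns : ∀ P : Place k K, IsNonsingularAt φ P) (M : ℕ) :
    ∃ m : ℕ, M ≤ m ∧ L (m • mapDiv k φ) ≤ (Submodule.span k (Set.range φ)) ^ m := by
  classical
  have hφ0 : ∀ i, φ i ≠ 0 := fun i => hφ.ne_zero i
  obtain ⟨D, hD⟩ : ∃ D : Divisor k K, D = mapDiv k φ := ⟨_, rfl⟩
  obtain ⟨W, hW⟩ : ∃ W : Submodule k K, W = Submodule.span k (Set.range φ) := ⟨_, rfl⟩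
  have hdegD : 1 ≤ D.deg := by rw [hD]; exact deg_mapDiv_pos hK hn φ hφ
  have hWL : W ≤ L D := by rw [hW, hD]; exact span_le_L_mapDiv hK φ hφ0
  have hex : ∀ Q : Place k K, ∃ x ∈ W, Q.1 x = WithZero.exp (D Q) := by
    intro Q
    obtain ⟨i, hi⟩ := exists_val_eq_mapDiv hK φ hφ0 Q
    exact ⟨φ i, by rw [hW]; exact Submodule.subset_span ⟨i, rfl⟩, by rw [hD]; exact hi⟩
  obtain ⟨m₀, hm₀⟩ : ∃ m₀ : ℕ, m₀ = 2 * genus k K + 1 := ⟨_, rfl⟩
  obtain ⟨T, hT⟩ : ∃ T : Submodule k K, T = L (m₀ • D) := ⟨_, rfl⟩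
  have hloc : ∀ (P : Place k K) (M' : ℕ), ∃ (e : ℕ) (v : K), M' ≤ e ∧ 1 ≤ e ∧
      v ∈ Cnd W T m₀ e ∧ P.1 v = WithZero.exp ((e • D) P) := by
    intro P M'
    obtain ⟨e, v, h1, h2, h3, h4, h5⟩ := exists_local_cond hK φ hφ0 P (hns P) m₀ M'
    rw [← hW] at h3 h5
    rw [← hD] at h4 h5
    rw [← hT] at h5
    exact ⟨e, v, h1, h2, mem_Cnd.mpr ⟨h3, h5⟩, h4⟩
  obtain ⟨P₀⟩ := exists_place hK
  obtain ⟨e₁, v₁, hMe₁, he₁, hv₁, hPv₁⟩ := hloc P₀ M
  have hv₁0 : v₁ ≠ 0 := by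
    rintro rfl
    rw [map_zero] at hPv₁
    exact WithZero.exp_ne_zero hPv₁.symm
  have hZ : {Q : Place k K | Q.1 v₁ ≠ WithZero.exp ((e₁ • D) Q)}.Finite := by
    refine ((finite_val_ne_one hK hv₁0).union D.support.finite_toSet).subset ?_
    intro Q hQ
    by_contra hnot
    rw [Set.mem_union, not_or] at hnot
    apply hQ
    have h1 : Q.1 v₁ = 1 := by
      have := hnot.1
      simp only [Set.mem_setOf_eq, not_not] at this
      exact this
    have h2 : D Q = 0 := by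
      have := hnot.2
      simpa using this
    rw [h1, Finsupp.smul_apply, h2, smul_zero, WithZero.exp_zero]
  choose eQ vQ hQ1 hQ2 hQ3 hQ4 using fun Q => hloc Q 0
  obtain ⟨N, hN⟩ : ∃ N : ℕ, N = ∏ Q ∈ hZ.toFinset, eQ Q := ⟨_, rfl⟩
  have hNpos : 1 ≤ N := by
    rw [hN]
    exact Nat.one_le_iff_ne_zero.mpr (Finset.prod_ne_zero_iff.mpr
      (fun Q _ => Nat.one_le_iff_ne_zero.mp (hQ2 Q)))
  obtain ⟨e, he⟩ : ∃ e : ℕ, e = N * e₁ := ⟨_, rfl⟩
  have hepos : 1 ≤ e := by rw [he]; exact Nat.one_le_iff_ne_zero.mpr (Nat.mul_ne_zero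
    (Nat.one_le_iff_ne_zero.mp hNpos) (Nat.one_le_iff_ne_zero.mp he₁))
  have hvalpow : ∀ (Q : Place k K) (v : K) (a N' : ℕ), Q.1 v = WithZero.exp ((a • D) Q) →
      Q.1 (v ^ N') = WithZero.exp (((N' * a) • D) Q) := by
    intro Q v a N' h
    rw [map_pow, h, ← WithZero.exp_nsmul, Finsupp.smul_apply, Finsupp.smul_apply, smul_smul]
  have hexC : ∀ Q : Place k K, ∃ x ∈ Cnd W T m₀ e, Q.1 x = WithZero.exp ((e • D) Q) := by
    intro Q
    by_cases hQZ : Q ∈ hZ.toFinset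
    · have hdvd : eQ Q ∣ e := by
        rw [he, hN]
        exact Dvd.dvd.mul_right (Finset.dvd_prod_of_mem _ hQZ) _
      obtain ⟨N', hN'⟩ := hdvd
      have hN'pos : 1 ≤ N' := by
        rcases Nat.eq_zero_or_pos N' with h | h
        · rw [h, mul_zero] at hN'; omega
        · exact h
      obtain ⟨N'', rfl⟩ : ∃ N'', N' = N'' + 1 := ⟨N' - 1, by omega⟩
      refine ⟨vQ Q ^ (N'' + 1), ?_, ?_⟩
      · have := Cnd_pow (hQ3 Q) N''
        rw [hN', mul_comm]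
        exact this
      · rw [hvalpow Q _ (eQ Q) (N'' + 1) (hQ4 Q), hN', mul_comm]
    · have hQv : Q.1 v₁ = WithZero.exp ((e₁ • D) Q) := by
        by_contra h
        apply hQZ
        rw [Set.Finite.mem_toFinset]
        exact h
      obtain ⟨N'', hN''⟩ : ∃ N'', N = N'' + 1 := ⟨N - 1, by omega⟩
      refine ⟨v₁ ^ (N'' + 1), ?_, ?_⟩
      · have := Cnd_pow hv₁ N''
        rw [he, hN'']
        exact this
      · rw [hvalpow Q v₁ e₁ (N'' + 1) hQv, he, hN'']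
  -- graded generation for the conductor subspace
  obtain ⟨E, hE⟩ : ∃ E : Divisor k K, E = e • D := ⟨_, rfl⟩
  have hEdeg : 1 ≤ E.deg := by
    rw [hE, deg_nsmul]
    have : (1 : ℤ) ≤ e := by exact_mod_cast hepos
    nlinarith
  have hCL : Cnd W T m₀ e ≤ L E := by
    intro v hv
    rw [hE]
    exact pow_le_L hWL e (mem_Cnd.mp hv).1
  have hexC' : ∀ Q : Place k K, ∃ x ∈ Cnd W T m₀ e, Q.1 x = WithZero.exp (E Q) := by
    intro Q; rw [hE]; exact hexC Q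
  have hg1 := graded_gen hK E hEdeg (Cnd W T m₀ e) hCL hexC' 1
  have hg2 := graded_gen hK D hdegD W hWL hex (m₀ * (e - 1))
  rw [← hm₀] at hg1 hg2
  have e3 : m₀ + m₀ * (e - 1) = m₀ * e := by
    obtain ⟨e', rfl⟩ : ∃ e', e = e' + 1 := ⟨e - 1, by omega⟩
    rw [Nat.add_sub_cancel]; ring
  rw [e3, ← hT] at hg2
  have e4 : m₀ • E = (m₀ * e) • D := by rw [hE, smul_smul]
  have e5 : (m₀ + 1) • E = ((m₀ + 1) * e) • D := by rw [hE, smul_smul]
  rw [e4, e5, pow_one] at hg1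
  refine ⟨(m₀ + 1) * e, ?_, ?_⟩
  · have h1 : e₁ ≤ e := by
      rw [he]; exact Nat.le_mul_of_pos_left _ (by omega)
    have h2 : e ≤ (m₀ + 1) * e := Nat.le_mul_of_pos_left _ (by omega)
    omega
  · rw [← hD, ← hW]
    refine hg1.trans ?_
    rw [Submodule.mul_le]
    intro v hv t ht
    have ht' := hg2 ht
    have hv' := mem_Cnd.mp hv
    refine Submodule.mul_induction_on ht' ?_ ?_
    · intro a ha t₀ ht₀
      have e1 : v * (a * t₀) = a * (v * t₀) := by ring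
      have e2 : (m₀ + 1) * e = m₀ * (e - 1) + (e + m₀) := by
        obtain ⟨e', rfl⟩ : ∃ e', e = e' + 1 := ⟨e - 1, by omega⟩
        rw [Nat.add_sub_cancel]; ring
      rw [e1, e2, pow_add]
      exact Submodule.mul_mem_mul ha (hv'.2 t₀ ht₀)
    · intro x y hx hy
      rw [mul_add]
      exact Submodule.add_mem _ hx hy

end Groth.Agent.Helper16.Emb
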