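import Groth.Agent.H16.Plane4
import Groth.Agent.H16.Veronese3
set_option autoImplicit false
set_option linter.unusedSimpArgs false

namespace Groth.Agent.Helper16.Plane

open FunFld Module Groth.Agent.Helper17.FF Groth.Agent.Helper16.Emb

variable {k K : Type*} [Field k] [Field K] [Algebra k K]

theorem sum_formula (r m : ℕ) (hr : 1 ≤ r) (h : r ≤ m + 1) :
    (((∑ b : Fin r, (m + 1 - (b : ℕ)) : ℕ) : ℤ)) * 2 =
      2 * (r : ℤ) * ((m : ℤ) + 1) - (r : ℤ) * ((r : ℤ) - 1) := by
  have h1 : ∀ b : Fin r, ((m + 1 - (b : ℕ) : ℕ) : ℤ) = (m : ℤ) + 1 - (b : ℕ) := by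
    intro b
    have := b.isLt
    rw [Nat.cast_sub (by omega)]
    push_cast
    ring
  rw [Nat.cast_sum]
  simp_rw [h1]
  rw [Finset.sum_sub_distrib, Finset.sum_const, Finset.card_univ, Fintype.card_fin]
  have h2 : ((∑ b : Fin r, ((b : ℕ) : ℤ)) : ℤ) * 2 = (r : ℤ) * ((r : ℤ) - 1) := by
    have h3 := Finset.sum_range_id_mul_two r
    rw [← Fin.sum_univ_eq_sum_range (fun i => i) r] at h3
    have h4 : ((∑ b : Fin r, (b : ℕ) : ℕ) : ℤ) * 2 = ((r * (r - 1) : ℕ) : ℤ) := by
      exact_mod_cast h3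
    rw [Nat.cast_sum] at h4
    rw [h4, Nat.cast_mul, Nat.cast_sub hr]
    simp
  rw [sub_mul, h2]
  simp only [nsmul_eq_mul]
  ring

theorem finrank_le_of_le_Rm (x y : K) (d m : ℕ) (V : Submodule k K)
    (hV : V ≤ (Rm x y d m : Submodule k K)) :
    finrank k V ≤ ∑ b : Fin d, (m + 1 - (b : ℕ)) := by
  classical
  have h1 : V ≤ Submodule.span k (Set.range
      (fun i : (Σ b : Fin d, Fin (m + 1 - b)) => y ^ (i.2 : ℕ) * x ^ (i.1 : ℕ))) := by
    refine hV.trans ?_
    apply Submodule.span_mono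
    rintro z ⟨a, b, hb, hab, rfl⟩
    exact ⟨⟨⟨b, hb⟩, ⟨a, by simp only; omega⟩⟩, rfl⟩
  haveI : FiniteDimensional k (Submodule.span k (Set.range
      (fun i : (Σ b : Fin d, Fin (m + 1 - b)) => y ^ (i.2 : ℕ) * x ^ (i.1 : ℕ)))) :=
    FiniteDimensional.span_of_finite k (Set.finite_range _)
  refine (Submodule.finrank_mono h1).trans ?_
  refine (finrank_range_le_card _).trans ?_
  rw [Fintype.card_sigma]
  simp only [Fintype.card_fin]
  exact le_rfl

/-- the Hilbert function of a plane model -/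
theorem finrank_pow_eq [IsAlgClosed k] (hK : IsFunctionField k K) (x y : K)
    (hxy : IntermediateField.adjoin k ({x, y} : Set K) = ⊤)
    (hφ : LinearIndependent k ![(1 : K), x, y]) :
    ∃ d : ℕ, 1 ≤ d ∧ (mapDiv k ![(1 : K), x, y]).deg = d ∧ ∀ m : ℕ,
      finrank k ((Submodule.span k (Set.range ![(1 : K), x, y])) ^ m : Submodule k K) =
        ∑ b : Fin d, (m + 1 - (b : ℕ)) := by
  classical
  obtain ⟨f, hf, hfxy⟩ := exists_irreducible_rel hK x y
  obtain ⟨c, hgood, hdegf⟩ := exists_good_shear hK x y f hf.ne_zero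
  obtain ⟨y', hy'⟩ : ∃ y' : K, y' = y + algebraMap k K c * x := ⟨_, rfl⟩
  rw [← hy'] at hgood
  have hxy' : IntermediateField.adjoin k ({y', x} : Set K) = ⊤ := by
    rw [hy']; exact adjoin_shear x y c hxy
  have hty' := transcendental_of_good hK y' x hxy' hgood
  have hrel' : MvPolynomial.aeval ![x, y'] (shear c f) = 0 := by
    rw [aeval_shear, hy']
    have e : y + algebraMap k K c * x - algebraMap k K c * x = y := by ring
    rw [e, hfxy]
  have hirr' := shear_irreducible c hf
  obtain ⟨d, hd⟩ : ∃ d : ℕ, d = f.totalDegree := ⟨_, rfl⟩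
  have hDd : (mapDiv k ![(1 : K), x, y]).deg = d := by
    rw [hd]; exact deg_mapDiv_eq_totalDegree hK x y hxy f hf hfxy
  have hφ0 : ∀ i, ![(1 : K), x, y] i ≠ 0 := fun i => hφ.ne_zero i
  have hd1 : 1 ≤ d := by
    have := deg_mapDiv_pos hK (n := 2) (by omega) ![(1 : K), x, y] hφ
    rw [hDd] at this
    exact_mod_cast this
  have htd' : (shear c f).totalDegree = d := by rw [totalDegree_shear, hd]
  have hdeg' : (shear c f).degreeOf 0 = (shear c f).totalDegree := by rw [hdegf, htd', hd]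
  have hrel := rel_of_poly x y' (shear c f) hirr'.ne_zero hdeg' hrel'
  rw [htd'] at hrel
  have hmin : (minpoly (IntermediateField.adjoin k ({y'} : Set K)) x).natDegree = d := by
    rw [natDegree_minpoly_of_irreducible hty' (shear c f) hirr' hrel', hdeg', htd']
  obtain ⟨W, hW⟩ : ∃ W : Submodule k K, W = Submodule.span k (Set.range ![(1 : K), x, y]) :=
    ⟨_, rfl⟩
  have h1W : (1 : K) ∈ W := by rw [hW]; exact Submodule.subset_span ⟨0, rfl⟩
  have hxW : x ∈ W := by rw [hW]; exact Submodule.subset_span ⟨1, rfl⟩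
  have hyW : y ∈ W := by rw [hW]; exact Submodule.subset_span ⟨2, rfl⟩
  have hy'W : y' ∈ W := by
    rw [hy', ← Algebra.smul_def]
    exact W.add_mem hyW (W.smul_mem c hxW)
  have hWle : W ≤ Submodule.span k ({1, y', x} : Set K) := by
    rw [hW, Submodule.span_le]
    have h1 : (1 : K) ∈ Submodule.span k ({1, y', x} : Set K) :=
      Submodule.subset_span (by simp)
    have h2 : y' ∈ Submodule.span k ({1, y', x} : Set K) := Submodule.subset_span (by simp)
    have h3 : x ∈ Submodule.span k ({1, y', x} : Set K) := Submodule.subset_span (by simp)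
    rintro _ ⟨i, rfl⟩
    fin_cases i
    · exact h1
    · exact h3
    · show y ∈ _
      have e : y = y' - c • x := by rw [hy', Algebra.smul_def]; ring
      rw [e]
      exact Submodule.sub_mem _ h2 (Submodule.smul_mem _ c h3)
  have hWL : W ≤ L (mapDiv k ![(1 : K), x, y]) := by
    rw [hW]; exact span_le_L_mapDiv hK _ hφ0
  refine ⟨d, hd1, hDd, fun m => ?_⟩
  rw [← hW]
  haveI := L_finite hK (m • mapDiv k ![(1 : K), x, y])
  haveI : FiniteDimensional k (W ^ m : Submodule k K) :=
    Submodule.finiteDimensional_of_le (pow_le_L hWL m)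
  apply le_antisymm
  · exact finrank_le_of_le_Rm x y' d m _ (pow_le_Rm x y' d hd1 hrel W hWle m)
  · have hli := monomials_indep hty' x
    rw [hmin] at hli
    have hmem : ∀ (b : Fin d) (a : Fin (m + 1 - b)), y' ^ (a : ℕ) * x ^ (b : ℕ) ∈ W ^ m := by
      intro b a
      apply monomial_mem_pow W h1W hy'W hxW
      have := a.isLt
      have := b.isLt
      omega
    have hli2 : LinearIndependent k (fun i : (Σ b : Fin d, Fin (m + 1 - b)) =>
        (⟨y' ^ (i.2 : ℕ) * x ^ (i.1 : ℕ), hmem i.1 i.2⟩ : (W ^ m : Submodule k K))) := by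
      apply LinearIndependent.of_comp (W ^ m).subtype
      have hinj : Function.Injective
          (fun i : (Σ b : Fin d, Fin (m + 1 - b)) => (((i.2 : ℕ), i.1) : ℕ × Fin d)) := by
        rintro ⟨b₁, a₁⟩ ⟨b₂, a₂⟩ h
        simp only [Prod.mk.injEq] at h
        obtain ⟨h1, h2⟩ := h
        subst h2
        have : a₁ = a₂ := Fin.ext h1
        rw [this]
      exact hli.comp _ hinj
    have hcard := hli2.fintype_card_le_finrank
    rw [Fintype.card_sigma] at hcard
    simp only [Fintype.card_fin] at hcard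
    exact hcard

end Groth.Agent.Helper16.Plane
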