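import Groth.Agent.H16.Plane5
set_option autoImplicit false
set_option linter.unusedSimpArgs false

namespace Groth.Agent.Helper16.Plane

open FunFld Module Groth.Agent.Helper17.FF Groth.Agent.Helper16.Emb

variable {k K : Type*} [Field k] [Field K] [Algebra k K]

/-- genus formula for plane curves, nondegenerate case -/
theorem nonsingular_iff_aux [IsAlgClosed k] (hK : IsFunctionField k K) (x y : K)
    (hxy : IntermediateField.adjoin k ({x, y} : Set K) = ⊤)
    (hφ : LinearIndependent k ![(1 : K), x, y]) :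
    2 * (genus k K : ℤ) = ((mapDiv k ![(1 : K), x, y]).deg - 1) *
        ((mapDiv k ![(1 : K), x, y]).deg - 2) ↔
      ∀ P : Place k K, IsNonsingularAt ![(1 : K), x, y] P := by
  classical
  obtain ⟨d, hd1, hDd, hfr⟩ := finrank_pow_eq hK x y hxy hφ
  have hφ0 : ∀ i, ![(1 : K), x, y] i ≠ 0 := fun i => hφ.ne_zero i
  obtain ⟨D, hD⟩ : ∃ D : Divisor k K, D = mapDiv k ![(1 : K), x, y] := ⟨_, rfl⟩
  obtain ⟨W, hW⟩ : ∃ W : Submodule k K, W = Submodule.span k (Set.range ![(1 : K), x, y]) :=
    ⟨_, rfl⟩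
  rw [← hD] at hDd ⊢
  rw [← hW] at hfr
  have hWL : W ≤ L D := by rw [hW, hD]; exact span_le_L_mapDiv hK _ hφ0
  have hγ : (0 : ℤ) ≤ (genus k K : ℤ) := Int.natCast_nonneg _
  have hd1' : (1 : ℤ) ≤ d := by exact_mod_cast hd1
  have key : ∀ m : ℕ, 2 * genus k K + 1 + d ≤ m →
      (L (m • D) ≤ W ^ m ↔ 2 * (genus k K : ℤ) = ((d : ℤ) - 1) * ((d : ℤ) - 2)) := by
    intro m hm
    have hm' : 2 * (genus k K : ℤ) + 1 + d ≤ m := by exact_mod_cast hm
    haveI := L_finite hK (m • D)
    have hdegm : (m • D).deg = (m : ℤ) * d := by rw [deg_nsmul, hDd]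
    have hell := ell_eq_of_deg_ge hK (m • D) (by rw [hdegm]; nlinarith)
    rw [hdegm] at hell
    unfold ell at hell
    have hsum := sum_formula d m hd1 (by omega)
    have hfrm := hfr m
    have hle : W ^ m ≤ L (m • D) := pow_le_L hWL m
    constructor
    · intro h
      have heq : W ^ m = L (m • D) := le_antisymm hle h
      rw [heq] at hfrm
      have h1 : ((finrank k (L (m • D)) : ℕ) : ℤ) = ((∑ b : Fin d, (m + 1 - (b : ℕ)) : ℕ) : ℤ) := by
        exact_mod_cast hfrm
      rw [hell] at h1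
      nlinarith
    · intro h
      have h1 : ((finrank k (L (m • D)) : ℕ) : ℤ) = ((∑ b : Fin d, (m + 1 - (b : ℕ)) : ℕ) : ℤ) := by
        rw [hell]
        nlinarith
      have h2 : finrank k (W ^ m : Submodule k K) = finrank k (L (m • D)) := by
        rw [hfrm]
        exact_mod_cast h1.symm
      exact (Submodule.eq_of_le_of_finrank_eq hle h2).ge
  rw [hDd]
  constructor
  · intro h P
    have h1 := (key (2 * genus k K + 1 + d) le_rfl).mpr h
    rw [hW, hD] at h1
    apply nonsingular_of_pow_eq hK _ hφ0 (2 * genus k K + 1 + d) _ h1 P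
    rw [← hD, deg_nsmul, hDd]
    push_cast
    nlinarith
  · intro hns
    obtain ⟨m, hm, hmL⟩ := pow_eq_of_nonsingular hK (n := 2) (by omega) _ hφ hns
      (2 * genus k K + 1 + d)
    rw [← hD, ← hW] at hmL
    exact (key m hm).mp hmL

end Groth.Agent.Helper16.Plane
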