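import Groth.Agent.H16.Plane6
set_option autoImplicit false
set_option linter.unusedSimpArgs false

namespace Groth.Agent.Helper16.Plane

open FunFld Module Groth.Agent.Helper17.FF Groth.Agent.Helper16.Emb

variable {k K : Type*} [Field k] [Field K] [Algebra k K]

theorem inLocRing_transfer {n n' : ℕ} (φ' : Fin (n' + 1) → K) (φ : Fin (n + 1) → K)
    (σ : Fin (n' + 1) → Fin (n + 1)) (hσ : ∀ i', φ (σ i') = φ' i') (P : Place k K)
    (hle : ∀ i, ∃ i', P.1 (φ i) ≤ P.1 (φ' i')) {z : K} (h : InLocRing φ' P z) :
    InLocRing φ P z := by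
  obtain ⟨j', hj'0, hj'P, u, hu, w, hw, hPw, hzw⟩ := h
  have hsub : Algebra.adjoin k (Set.range fun i => φ' i / φ' j') ≤
      Algebra.adjoin k (Set.range fun i => φ i / φ (σ j')) := by
    apply Algebra.adjoin_mono
    rintro _ ⟨i', rfl⟩
    exact ⟨σ i', by simp only [hσ]⟩
  refine ⟨σ j', by rw [hσ]; exact hj'0, fun i => ?_, u, hsub hu, w, hsub hw, hPw, hzw⟩
  obtain ⟨i', hi'⟩ := hle i
  rw [hσ]
  exact hi'.trans (hj'P i')

/-- the rational function field: genus zero, and the line is nonsingular -/
theorem rational_nonsingular [IsAlgClosed k] (hK : IsFunctionField k K) (t : K)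
    (htop : IntermediateField.adjoin k ({t} : Set K) = ⊤) :
    genus k K = 0 ∧ (mapDiv k ![(1 : K), t, t]).deg = 1 ∧
      ∀ P : Place k K, IsNonsingularAt ![(1 : K), t, t] P := by
  classical
  have hxy : IntermediateField.adjoin k ({t, t} : Set K) = ⊤ := by
    rw [Set.pair_eq_singleton]; exact htop
  have hgood : ∀ P : Place k K, P.1 t ≤ max 1 (P.1 t) := fun P => le_max_right _ _
  have hty := transcendental_of_good hK t t hxy hgood
  have ht0 : t ≠ 0 := by
    rintro rfl
    exact hty isAlgebraic_zero
  have hD := mapDiv_eq_poles hK t t ht0 hgood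
  have hdeg : (mapDiv k ![(1 : K), t, t]).deg = 1 := by
    rw [hD, deg_poles hK hty]
    have := IntermediateField.finrank_eq_one_iff_eq_top.mpr htop
    rw [this]; rfl
  have hg : genus k K = 0 := by
    have := genus_bound_aux hK t t hxy hgood
    rw [hdeg] at this
    have h2 : (genus k K : ℤ) ≤ 0 := by linarith
    have h3 : (0 : ℤ) ≤ (genus k K : ℤ) := Int.natCast_nonneg _
    have : (genus k K : ℤ) = 0 := le_antisymm h2 h3
    exact_mod_cast this
  refine ⟨hg, hdeg, fun P => ?_⟩
  have hφ0 : ∀ i, ![(1 : K), t, t] i ≠ 0 := by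
    intro i
    fin_cases i
    · exact one_ne_zero
    · exact ht0
    · exact ht0
  obtain ⟨D, hDdef⟩ : ∃ D : Divisor k K, D = mapDiv k ![(1 : K), t, t] := ⟨_, rfl⟩
  obtain ⟨W, hW⟩ : ∃ W : Submodule k K, W = Submodule.span k (Set.range ![(1 : K), t, t]) :=
    ⟨_, rfl⟩
  have hWL : W ≤ L D := by rw [hW, hDdef]; exact span_le_L_mapDiv hK _ hφ0
  haveI := L_finite hK D
  have hell := ell_eq_of_deg_ge hK D (by rw [hDdef, hdeg, hg]; norm_num)
  rw [hDdef, hdeg, hg, ← hDdef] at hell
  unfold ell at hell
  have hell' : finrank k (L D) = 2 := by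
    have : ((finrank k (L D) : ℕ) : ℤ) = 2 := by rw [hell]; norm_num
    exact_mod_cast this
  have h1W : (1 : K) ∈ W := by rw [hW]; exact Submodule.subset_span ⟨0, rfl⟩
  have htW : t ∈ W := by rw [hW]; exact Submodule.subset_span ⟨1, rfl⟩
  haveI : FiniteDimensional k W := Submodule.finiteDimensional_of_le hWL
  have hdimW : 2 ≤ finrank k W := by
    have hmem : ∀ i : Fin 2, t ^ (i : ℕ) ∈ W := by
      intro i
      fin_cases i
      · simpa using h1W
      · simpa using htW
    have hli : LinearIndependent k (fun i : Fin 2 => (⟨t ^ (i : ℕ), hmem i⟩ : W)) := by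
      apply LinearIndependent.of_comp W.subtype
      exact (pow_indep hty).comp (fun i : Fin 2 => (i : ℕ)) Fin.val_injective
    have := hli.fintype_card_le_finrank
    simpa using this
  have hWeq : W = L D := Submodule.eq_of_le_of_finrank_le hWL (by rw [hell']; exact hdimW)
  apply nonsingular_of_pow_eq hK _ hφ0 1
  · rw [one_smul, hdeg, hg]; norm_num
  · rw [one_smul, pow_one, ← hDdef, ← hW, hWeq]

/-- the degenerate case of the genus formula: a line -/
theorem degenerate_case [IsAlgClosed k] (hK : IsFunctionField k K) (x y : K)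
    (hxy : IntermediateField.adjoin k ({x, y} : Set K) = ⊤)
    (hφ : ¬ LinearIndependent k ![(1 : K), x, y]) :
    2 * (genus k K : ℤ) = ((mapDiv k ![(1 : K), x, y]).deg - 1) *
        ((mapDiv k ![(1 : K), x, y]).deg - 2) ∧
      ∀ P : Place k K, IsNonsingularAt ![(1 : K), x, y] P := by
  classical
  rw [Fintype.not_linearIndependent_iff] at hφ
  obtain ⟨g, hg, hne⟩ := hφ
  rw [Fin.sum_univ_three] at hg
  simp only [Matrix.cons_val_zero, Matrix.cons_val_one, Matrix.head_cons, Matrix.cons_val_two,
    Matrix.tail_cons] at hg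
  have hclaim : ∃ (t : K) (it : Fin 3), ![(1 : K), x, y] it = t ∧
      (∃ α β : k, x = algebraMap k K α + algebraMap k K β * t) ∧
      (∃ α β : k, y = algebraMap k K α + algebraMap k K β * t) := by
    by_cases h2 : g 2 = 0
    · by_cases h1 : g 1 = 0
      · exfalso
        rw [h1, h2, zero_smul, zero_smul, add_zero, add_zero] at hg
        have h0 : g 0 = 0 := by
          by_contra h0
          have := smul_eq_zero.mp hg
          rcases this with h | h
          · exact h0 h
          · exact one_ne_zero h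
        obtain ⟨i, hi⟩ := hne
        fin_cases i
        · exact hi h0
        · exact hi h1
        · exact hi h2
      · refine ⟨y, 2, rfl, ⟨-(g 0 / g 1), 0, ?_⟩, ⟨0, 1, by simp⟩⟩
        rw [h2, zero_smul, add_zero, Algebra.smul_def, Algebra.smul_def, mul_one] at hg
        have h1' : algebraMap k K (g 1) ≠ 0 := (map_ne_zero _).mpr h1
        rw [map_zero, zero_mul, add_zero, map_neg, map_div₀]
        field_simp
        linear_combination hg
    · refine ⟨x, 1, rfl, ⟨0, 1, by simp⟩, ⟨-(g 0 / g 2), -(g 1 / g 2), ?_⟩⟩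
      rw [Algebra.smul_def, Algebra.smul_def, Algebra.smul_def, mul_one] at hg
      have h2' : algebraMap k K (g 2) ≠ 0 := (map_ne_zero _).mpr h2
      rw [map_neg, map_neg, map_div₀, map_div₀]
      field_simp
      linear_combination hg
  obtain ⟨t, it, hit, ⟨α, β, hx⟩, ⟨α', β', hy⟩⟩ := hclaim
  have htop : IntermediateField.adjoin k ({t} : Set K) = ⊤ := by
    rw [eq_top_iff, ← hxy, IntermediateField.adjoin_le_iff]
    have ht : t ∈ IntermediateField.adjoin k ({t} : Set K) :=
      IntermediateField.mem_adjoin_simple_self k t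
    rintro z (rfl | rfl)
    · rw [hx]
      exact add_mem (IntermediateField.algebraMap_mem _ _)
        (mul_mem (IntermediateField.algebraMap_mem _ _) ht)
    · rw [hy]
      exact add_mem (IntermediateField.algebraMap_mem _ _)
        (mul_mem (IntermediateField.algebraMap_mem _ _) ht)
  obtain ⟨hgen, hdeg, hns⟩ := rational_nonsingular hK t htop
  have hbound : ∀ (P : Place k K) (a b : k),
      P.1 (algebraMap k K a + algebraMap k K b * t) ≤ max 1 (P.1 t) := by
    intro P a b
    refine (P.1.map_add _ _).trans (max_le ((P.2.1 a).trans (le_max_left _ _)) ?_)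
    rw [map_mul]
    calc P.1 (algebraMap k K b) * P.1 t ≤ 1 * P.1 t := mul_le_mul' (P.2.1 b) le_rfl
      _ = P.1 t := one_mul _
      _ ≤ _ := le_max_right _ _
  have htle : ∀ P : Place k K, P.1 t ≤ max 1 (max (P.1 x) (P.1 y)) := by
    intro P
    rw [← hit]
    fin_cases it
    · simp
    · exact (le_max_left _ _).trans (le_max_right _ _)
    · exact (le_max_right _ _).trans (le_max_right _ _)
  have hDeq : mapDiv k ![(1 : K), x, y] = mapDiv k ![(1 : K), t, t] := by
    ext P
    have h1 := exp_mapDiv_one_xy hK x y P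
    have h2 := exp_mapDiv_one_xy hK t t P
    have h3 : max 1 (max (P.1 x) (P.1 y)) = max 1 (max (P.1 t) (P.1 t)) := by
      rw [max_self]
      apply le_antisymm
      · refine max_le (le_max_left _ _) (max_le ?_ ?_)
        · rw [hx]; exact hbound P α β
        · rw [hy]; exact hbound P α' β'
      · exact max_le (le_max_left _ _) (htle P)
    rw [h3, ← h2] at h1
    exact WithZero.exp_injective h1
  refine ⟨by rw [hDeq, hdeg, hgen]; norm_num, fun P z hz => ?_⟩
  have hns' := hns P z hz
  refine inLocRing_transfer ![(1 : K), t, t] ![(1 : K), x, y] ![0, it, it] ?_ P ?_ hns'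
  · intro i'
    fin_cases i'
    · rfl
    · exact hit
    · exact hit
  · have hmax : ∀ v : K, P.1 v ≤ max 1 (P.1 t) → ∃ i' : Fin 3, P.1 v ≤ P.1 (![(1 : K), t, t] i') := by
      intro v hv
      by_cases h : P.1 t ≤ 1
      · refine ⟨0, ?_⟩
        rw [max_eq_left h] at hv
        simpa using hv
      · refine ⟨1, ?_⟩
        rw [max_eq_right (le_of_lt (not_le.mp h))] at hv
        simpa using hv
    intro i
    fin_cases i
    · exact ⟨0, le_rfl⟩
    · exact hmax x (by rw [hx]; exact hbound P α β)
    · exact hmax y (by rw [hy]; exact hbound P α' β')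

end Groth.Agent.Helper16.Plane
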