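import Groth.Agent.H16.Transfer
set_option autoImplicit false
set_option linter.unusedSimpArgs false

namespace Groth.Agent.Helper16.LLS

open FunFld Module Groth.Agent.Helper17.FF Polynomial Groth.Agent.Helper16.Wron

variable {k K : Type*} [Field k] [Field K] [Algebra k K]

/-- Plücker inequality on a rational function field: `A`, `B` and the places of `S` distinct. -/
theorem plucker [IsAlgClosed k] [CharZero k] (hK : IsFunctionField k K)
    (hg0 : genus k K = 0) {d r : ℕ} {D : Divisor k K} (hD : D.deg = d) {V : Submodule k K}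
    (hV : V ≤ L D) (hVr : finrank k V = r + 1) {A B : Place k K} (hAB : A ≠ B)
    (S : Finset (Place k K)) (hA : A ∉ S) (hB : B ∉ S) :
    wsum (fdim V D A) d + wsum (fdim V D B) d + ∑ P ∈ S, wsum (fdim V D P) d ≤
      (r + 1) * d + S.card * (r * (r + 1) / 2) := by
  classical
  obtain ⟨t, ht0, ht⟩ := exists_div_eq_single_sub_single hK hg0 A B
  -- the section z
  have hz : ∃ z : K, z ≠ 0 ∧ FunFld.div k z = Finsupp.single B (d : ℤ) - D := by
    have h1 := delta_le_genus hK (D - Finsupp.single B (d : ℤ) : Divisor k K)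
    unfold delta at h1
    rw [hg0, deg_sub, deg_single, deg_eq_one hK B, hD] at h1
    have h2 : 0 < ell (D - Finsupp.single B (d : ℤ) : Divisor k K) := by
      have : (0 : ℤ) < (ell (D - Finsupp.single B (d : ℤ) : Divisor k K) : ℤ) := by
        push_cast at h1; linarith
      exact_mod_cast this
    obtain ⟨z, hz, hz0⟩ := exists_ne_zero_of_ell_pos h2
    refine ⟨z, hz0, div_eq_of_mem hK hz0 hz ?_⟩
    rw [deg_single, deg_eq_one hK B, hD]
    simp
  obtain ⟨z, hz0, hz⟩ := hz
  obtain ⟨hordA, hordB, hordR⟩ := ord_of_div_eq hK hAB ht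
  -- the coordinate of a place
  have hc : ∀ P : Place k K, P ≠ B → ∃ c : k, (P = A → c = 0) ∧
      t - algebraMap k K c ≠ 0 ∧
      FunFld.div k (t - algebraMap k K c) = Finsupp.single P 1 - Finsupp.single B 1 := by
    intro P hPB
    by_cases hPA : P = A
    · subst hPA
      exact ⟨0, fun _ => rfl, by simpa using ht0, by simpa using ht⟩
    · have hv : P.1 t ≤ 1 := by
        rw [(ord_eq_zero_iff P ht0).mp (hordR P hPA hPB)]
      obtain ⟨c, hc⟩ := exists_const_sub_lt hK P hv
      obtain ⟨h1, h2⟩ := div_sub_const hK hAB hPB ht hc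
      exact ⟨c, fun h => absurd h hPA, h1, h2⟩
  choose! c hcA hc0 hcdiv using hc
  have hcinj : ∀ P Q : Place k K, P ≠ B → Q ≠ B → c P = c Q → P = Q := by
    intro P Q hP hQ hPQ
    have h1 := hcdiv P hP
    have h2 := hcdiv Q hQ
    rw [hPQ, h2] at h1
    have h3 := DFunLike.congr_fun h1 P
    simp only [Finsupp.sub_apply, Finsupp.single_apply, if_neg (Ne.symm hP)] at h3
    by_contra hne
    rw [if_neg (Ne.symm hne)] at h3
    simp at h3
  have hSB : ∀ P ∈ S, P ≠ B := fun P hP h => hB (h ▸ hP)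
  have hSA : ∀ P ∈ S, P ≠ A := fun P hP h => hA (h ▸ hP)
  set U := Submodule.comap (psi (k := k) t z) V with hUdef
  have hU : U ≤ degreeLT k (d + 1) := comap_V_le hK hD hAB ht hz0 hz hV
  have hUr : finrank k U = r + 1 := by
    rw [hUdef, finrank_comap_V hK hD hAB ht hz0 hz hV, hVr]
  have hfd : ∀ P : Place k K, P ≠ B → ∀ n : ℕ, n ≤ d + 1 →
      fdim V D P (n : ℤ) = finrank k ↥(U ⊓ Gc (c P) n) := fun P hP n hn =>
    fdim_eq_point hK hD hAB ht hz0 hz hV (hcdiv P hP) (hc0 P hP) n hn
  have hfdB : ∀ n : ℕ, n ≤ d + 1 → fdim V D B (n : ℤ) = finrank k ↥(U ⊓ Ginf d n) :=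
    fun n hn => fdim_eq_inf hK hD hAB ht hz0 hz hV n hn
  have hcA0 : c A = 0 := hcA A hAB rfl
  set S' : Finset k := S.image c with hS'
  have hinjOn : Set.InjOn c S := by
    intro P hP Q hQ hPQ
    exact hcinj P Q (hSB P hP) (hSB Q hQ) hPQ
  have h0S' : (0 : k) ∉ S' := by
    intro h
    rw [hS', Finset.mem_image] at h
    obtain ⟨P, hP, hP0⟩ := h
    have := hcinj P A (hSB P hP) hAB (by rw [hP0, hcA0])
    exact hSA P hP this
  have hstep : ∀ P : Place k K, P ≠ B → ∀ n ≤ d,
      finrank k ↥(U ⊓ Gc (c P) n) ≤ finrank k ↥(U ⊓ Gc (c P) (n + 1)) + 1 := by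
    intro P hP n hn
    rw [← hfd P hP n (by omega), ← hfd P hP (n + 1) (by omega)]
    have := fdim_step hK (V := V) (D := D) P (n : ℤ)
    push_cast
    exact this
  have hmain := poly_plucker d r U hU hUr S' h0S'
    (by
      intro c' hc' n hn
      rcases hc' with rfl | hc'
      · rw [← hcA0]
        exact hstep A hAB n hn
      · rw [hS', Finset.mem_image] at hc'
        obtain ⟨P, hP, rfl⟩ := hc'
        exact hstep P (hSB P hP) n hn)
    (by
      intro n hn
      rw [← hfdB n (by omega), ← hfdB (n + 1) (by omega)]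
      have := fdim_step hK (V := V) (D := D) B (n : ℤ)
      push_cast
      exact this)
  rw [hS', Finset.sum_image hinjOn, Finset.card_image_of_injOn hinjOn] at hmain
  have e1 : ∀ P : Place k K, P ≠ B →
      ∑ n ∈ Finset.range d, finrank k ↥(U ⊓ Gc (c P) (n + 1)) = wsum (fdim V D P) d := by
    intro P hP
    unfold wsum
    apply Finset.sum_congr rfl
    intro n hn
    rw [Finset.mem_range] at hn
    rw [← hfd P hP (n + 1) (by omega)]
    push_cast
    rfl
  have e2 : ∑ n ∈ Finset.range d, finrank k ↥(U ⊓ Ginf d (n + 1)) = wsum (fdim V D B) d := by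
    unfold wsum
    apply Finset.sum_congr rfl
    intro n hn
    rw [Finset.mem_range] at hn
    rw [← hfdB (n + 1) (by omega)]
    push_cast
    rfl
  rw [Finset.sum_congr rfl (fun P hP => e1 P (hSB P hP)), ← hcA0, e1 A hAB, e2] at hmain
  omega

end Groth.Agent.Helper16.LLS
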