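import Groth.Agent.H16.Wron
import Groth.Agent.H16.Filt
set_option autoImplicit false

namespace Groth.Agent.Helper16.Wron

open Polynomial Module

variable {k : Type*} [Field k]

/-- polynomials divisible by `(X - c)^n` -/
noncomputable def Gc (c : k) (n : ℕ) : Submodule k k[X] :=
  (Ideal.span {(X - C c) ^ n}).restrictScalars k

theorem mem_Gc {c : k} {n : ℕ} {p : k[X]} : p ∈ Gc c n ↔ (X - C c) ^ n ∣ p := by
  unfold Gc
  rw [Submodule.restrictScalars_mem, Ideal.mem_span_singleton]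

/-- polynomials of degree at most `d - n` (as `degree < d + 1 - n`) -/
noncomputable def Ginf (d n : ℕ) : Submodule k k[X] := degreeLT k (d + 1 - n)

theorem Gc_anti (c : k) (n : ℕ) : Gc c (n + 1) ≤ Gc c n := by
  intro p hp
  rw [mem_Gc] at hp ⊢
  exact (pow_dvd_pow _ (Nat.le_succ n)).trans hp

theorem Ginf_anti (d n : ℕ) : (Ginf d (n + 1) : Submodule k k[X]) ≤ Ginf d n :=
  degreeLT_mono (by omega)

theorem Gc_zero (c : k) : Gc c 0 = ⊤ := by
  ext p
  simp [mem_Gc]

theorem inf_Gc_top {d : ℕ} {U : Submodule k k[X]} (hU : U ≤ degreeLT k (d + 1)) (c : k) :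
    U ⊓ Gc c (d + 1) = ⊥ := by
  rw [eq_bot_iff]
  intro p hp
  rw [Submodule.mem_bot]
  have h1 := hU hp.1
  have h2 := mem_Gc.mp hp.2
  rw [mem_degreeLT] at h1
  apply eq_zero_of_dvd_of_degree_lt h2
  rw [degree_pow, degree_X_sub_C]
  simpa using h1

theorem inf_Ginf_top (d : ℕ) (U : Submodule k k[X]) : U ⊓ Ginf d (d + 1) = ⊥ := by
  rw [eq_bot_iff]
  intro p hp
  rw [Submodule.mem_bot]
  have h2 := (Submodule.mem_inf.mp hp).2
  unfold Ginf at h2
  rw [mem_degreeLT] at h2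
  have e : d + 1 - (d + 1) = 0 := by omega
  rw [e] at h2
  by_contra hne
  rw [degree_eq_natDegree hne] at h2
  simp at h2

theorem exists_matrix {r : ℕ} {U : Submodule k k[X]} (hr : finrank k U = r + 1)
    (b b' : Fin (r + 1) → k[X]) (hb' : LinearIndependent k b') (hb'U : ∀ i, b' i ∈ U)
    (hbU : ∀ i, b i ∈ U) :
    ∃ A : Matrix (Fin (r + 1)) (Fin (r + 1)) k, ∀ i, b i = ∑ j, A i j • b' j := by
  have : FiniteDimensional k U := Module.finite_of_finrank_pos (by omega)
  have hspan : Submodule.span k (Set.range b') = U := by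
    apply Submodule.eq_of_le_of_finrank_eq
    · rw [Submodule.span_le]
      rintro _ ⟨i, rfl⟩
      exact hb'U i
    · rw [finrank_span_eq_card hb', hr]
      simp
  have : ∀ i, ∃ g : Fin (r + 1) → k, ∑ j, g j • b' j = b i := by
    intro i
    rw [← Submodule.mem_span_range_iff_exists_fun, hspan]
    exact hbU i
  choose A hA using this
  exact ⟨Matrix.of A, fun i => (hA i).symm⟩

theorem sum_rootMultiplicity_le {w : k[X]} (hw : w ≠ 0) (T : Finset k) :
    ∑ c ∈ T, rootMultiplicity c w ≤ w.natDegree := by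
  classical
  calc ∑ c ∈ T, rootMultiplicity c w = ∑ c ∈ T, w.roots.count c := by
        apply Finset.sum_congr rfl
        intro c _
        rw [count_roots]
    _ ≤ ∑ c ∈ w.roots.toFinset, w.roots.count c := by
        apply Finset.sum_le_sum_of_ne_zero
        intro c _ hc
        rw [Multiset.mem_toFinset]
        exact Multiset.count_ne_zero.mp hc
    _ = Multiset.card w.roots := Multiset.toFinset_sum_count_eq _
    _ ≤ w.natDegree := card_roots' w

theorem poly_plucker [CharZero k] (d r : ℕ) (U : Submodule k k[X])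
    (hU : U ≤ degreeLT k (d + 1)) (hr : finrank k U = r + 1) (S : Finset k) (h0S : (0 : k) ∉ S)
    (hstepc : ∀ c, (c = 0 ∨ c ∈ S) → ∀ n ≤ d,
      finrank k ↥(U ⊓ Gc c n) ≤ finrank k ↥(U ⊓ Gc c (n + 1)) + 1)
    (hstepinf : ∀ n ≤ d, finrank k ↥(U ⊓ Ginf d n) ≤ finrank k ↥(U ⊓ Ginf d (n + 1)) + 1) :
    ∑ c ∈ S, ∑ n ∈ Finset.range d, finrank k ↥(U ⊓ Gc c (n + 1)) +
      ∑ n ∈ Finset.range d, finrank k ↥(U ⊓ Gc 0 (n + 1)) +
      ∑ n ∈ Finset.range d, finrank k ↥(U ⊓ Ginf d (n + 1)) ≤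
      (r + 1) * d + S.card * (r * (r + 1) / 2) := by
  classical
  have : FiniteDimensional k U := Module.finite_of_finrank_pos (by omega)
  -- adapted bases at finite points
  have hc : ∀ c : k, (c = 0 ∨ c ∈ S) → ∃ (m : Fin (r + 1) → ℕ) (b : Fin (r + 1) → k[X]),
      LinearIndependent k b ∧ (∀ i, b i ∈ U) ∧ (∀ i, (X - C c) ^ (m i) ∣ b i) ∧
      ∑ i, m i = ∑ n ∈ Finset.range d, finrank k ↥(U ⊓ Gc c (n + 1)) := by
    intro c hcS
    have hF0 : U ⊓ Gc c 0 = U := by rw [Gc_zero, inf_top_eq]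
    have : FiniteDimensional k ↥(U ⊓ Gc c 0) := by rw [hF0]; infer_instance
    obtain ⟨m, b, -, -, hli, hb1, -, hsum⟩ := exists_adapted r d (fun n => U ⊓ Gc c n)
      (fun n => inf_le_inf_left U (Gc_anti c n)) (by rw [hF0, hr]) (inf_Gc_top hU c)
      (hstepc c hcS)
    exact ⟨m, b, hli, fun i => (hb1 i).1, fun i => mem_Gc.mp (hb1 i).2, hsum⟩
  choose! mc bc hbc_li hbc_U hbc_dvd hbc_sum using hc
  -- adapted basis at infinity
  have hF0 : U ⊓ Ginf d 0 = U := by
    apply inf_eq_left.mpr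
    exact hU
  have : FiniteDimensional k ↥(U ⊓ Ginf d 0) := by rw [hF0]; infer_instance
  obtain ⟨mi, bi, hmi_mono, hmi_le, hbi_li, hbi1, hbi2, hbi_sum⟩ :=
    exists_adapted r d (fun n => U ⊓ Ginf d n)
      (fun n => inf_le_inf_left U (Ginf_anti d n)) (by rw [hF0, hr]) (inf_Ginf_top d U)
      hstepinf
  have hbiU : ∀ i, bi i ∈ U := fun i => (hbi1 i).1
  have hbi_ne : ∀ i, bi i ≠ 0 := fun i => hbi_li.ne_zero i
  have hbi_deg : ∀ i, (bi i).natDegree = d - mi i := by
    intro i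
    have h1 := (Submodule.mem_inf.mp (hbi1 i)).2
    have h2 : bi i ∉ Ginf d (mi i + 1) := fun h => hbi2 i (Submodule.mem_inf.mpr ⟨hbiU i, h⟩)
    unfold Ginf at h1 h2
    rw [mem_degreeLT, ← natDegree_lt_iff_degree_lt (hbi_ne i)] at h1 h2
    have := hmi_le i
    omega
  set e : Fin (r + 1) → ℕ := fun i => d - mi i with he
  have he_inj : Function.Injective e := by
    intro i j hij
    have h1 := hmi_le i
    have h2 := hmi_le j
    simp only [he] at hij
    exact hmi_mono.injective (by omega)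
  set w := W bi with hw
  have hw0 : w ≠ 0 := W_ne_zero bi e he_inj hbi_deg hbi_ne
  have hwdeg : w.natDegree ≤ ∑ i, e i := natDegree_W_le bi e (fun i => (hbi_deg i).le)
  -- divisibility at finite points
  have hdiv : ∀ c ∈ S, (X - C c) ^ (∑ i, mc c i - r * (r + 1) / 2) ∣ w := by
    intro c hcS
    obtain ⟨A, hA⟩ := exists_matrix hr bi (bc c) (hbc_li c (Or.inr hcS)) (hbc_U c (Or.inr hcS)) hbiU
    rw [hw, W_base_change (bc c) bi A hA]
    exact Dvd.dvd.mul_left (W_dvd (bc c) c (mc c) (hbc_dvd c (Or.inr hcS))) _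
  have hdiv0 : (X - C (0 : k)) ^ (∑ i, mc 0 i) ∣ w := by
    obtain ⟨A, hA⟩ := exists_matrix hr bi (bc 0) (hbc_li 0 (Or.inl rfl)) (hbc_U 0 (Or.inl rfl)) hbiU
    rw [hw, W_base_change (bc 0) bi A hA]
    apply Dvd.dvd.mul_left
    have := W_X_dvd (bc 0) (mc 0) (fun i => by simpa using hbc_dvd 0 (Or.inl rfl) i)
    simpa using this
  -- count roots
  have hcount := sum_rootMultiplicity_le hw0 (insert 0 S)
  rw [Finset.sum_insert h0S] at hcount
  have h1 : ∑ i, mc 0 i ≤ rootMultiplicity 0 w := (le_rootMultiplicity_iff hw0).mpr hdiv0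
  have h2 : ∑ c ∈ S, (∑ i, mc c i - r * (r + 1) / 2) ≤ ∑ c ∈ S, rootMultiplicity c w :=
    Finset.sum_le_sum (fun c hcS => (le_rootMultiplicity_iff hw0).mpr (hdiv c hcS))
  have h3 : ∑ c ∈ S, ∑ i, mc c i ≤
      ∑ c ∈ S, (∑ i, mc c i - r * (r + 1) / 2) + S.card * (r * (r + 1) / 2) := by
    have hconst : S.card * (r * (r + 1) / 2) = ∑ _c ∈ S, (r * (r + 1) / 2) := by
      rw [Finset.sum_const, smul_eq_mul]
    rw [hconst, ← Finset.sum_add_distrib]
    apply Finset.sum_le_sum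
    intro c _
    omega
  have h4 : ∑ i, e i + ∑ i, mi i = (r + 1) * d := by
    rw [← Finset.sum_add_distrib]
    have : ∀ i ∈ (Finset.univ : Finset (Fin (r + 1))), e i + mi i = d := by
      intro i _
      have := hmi_le i
      simp only [he]
      omega
    rw [Finset.sum_congr rfl this]
    simp
  have h5 : ∑ c ∈ S, ∑ n ∈ Finset.range d, finrank k ↥(U ⊓ Gc c (n + 1)) =
      ∑ c ∈ S, ∑ i, mc c i := Finset.sum_congr rfl (fun c hcS => (hbc_sum c (Or.inr hcS)).symm)
  rw [h5, ← hbc_sum 0 (Or.inl rfl), ← hbi_sum]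
  omega

end Groth.Agent.Helper16.Wron
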