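import Groth.Agent.H16.Tangent2
set_option autoImplicit false
set_option linter.unusedSimpArgs false

/-! Projective Gauss lemma: the ideal of homogeneous relations of a plane curve is generated by
any irreducible homogeneous relation. -/

namespace Groth.Agent.Helper16.Proj

open FunFld Module Groth.Agent.Helper17.FF

variable {k K : Type*} [Field k] [Field K] [Algebra k K]

/-- `b₀ T, b₁ T` are algebraically independent over `k` when `b₀ / b₁` is transcendental -/
theorem aeval_T_injective {b₀ b₁ : K} (hb₁ : b₁ ≠ 0) (hτ : Transcendental k (b₀ / b₁)) :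
    Function.Injective (MvPolynomial.aeval (R := k)
      (fun i : Fin 2 => Polynomial.C (![b₀, b₁] i) * (Polynomial.X : Polynomial K))) := by
  classical
  rw [injective_iff_map_eq_zero]
  intro p hp
  rw [MvPolynomial.aeval_def, MvPolynomial.eval₂_eq'] at hp
  have hterm : ∀ s : Fin 2 →₀ ℕ,
      algebraMap k (Polynomial K) (MvPolynomial.coeff s p) *
        ∏ i, (Polynomial.C (![b₀, b₁] i) * (Polynomial.X : Polynomial K)) ^ s i =
      Polynomial.C (algebraMap k K (MvPolynomial.coeff s p) * (b₀ ^ s 0 * b₁ ^ s 1)) *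
        Polynomial.X ^ (s 0 + s 1) := by
    intro s
    rw [Fin.prod_univ_two, Polynomial.algebraMap_apply]
    simp only [Matrix.cons_val_zero, Matrix.cons_val_one, mul_pow, ← Polynomial.C_pow, map_mul,
      Algebra.algebraMap_self, RingHom.id_apply]
    rw [pow_add]
    ring
  rw [Finset.sum_congr rfl (fun s _ => hterm s)] at hp
  ext s₀
  rw [MvPolynomial.coeff_zero]
  obtain ⟨e, he⟩ : ∃ e, e = s₀ 0 + s₀ 1 := ⟨_, rfl⟩
  have hc := congrArg (fun q => Polynomial.coeff q e) hp
  simp only [Polynomial.finsetSum_coeff, Polynomial.coeff_C_mul_X_pow, Polynomial.coeff_zero] at hc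
  obtain ⟨Q, hQ⟩ : ∃ Q : Polynomial k, Q = ∑ s ∈ p.support,
      (if e = s 0 + s 1 then Polynomial.monomial (s 0) (MvPolynomial.coeff s p) else 0) := ⟨_, rfl⟩
  have hQτ : b₁ ^ e * Polynomial.aeval (b₀ / b₁) Q = 0 := by
    rw [hQ, map_sum, Finset.mul_sum, ← hc]
    apply Finset.sum_congr rfl
    intro s _
    split_ifs with h
    · rw [Polynomial.aeval_monomial, h, div_pow, pow_add]
      field_simp
    · rw [map_zero, mul_zero]
  have hQ0 : Q = 0 := by
    have h1 : Polynomial.aeval (b₀ / b₁) Q = 0 := by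
      rcases mul_eq_zero.mp hQτ with h | h
      · exact absurd (eq_zero_of_pow_eq_zero h) hb₁
      · exact h
    exact (transcendental_iff.mp hτ) Q h1
  have hc2 := congrArg (fun q => Polynomial.coeff q (s₀ 0)) hQ0
  simp only [Polynomial.coeff_zero] at hc2
  rw [hQ, Polynomial.finsetSum_coeff] at hc2
  by_cases hs₀ : s₀ ∈ p.support
  · rw [Finset.sum_eq_single s₀] at hc2
    · rw [if_pos he, Polynomial.coeff_monomial, if_pos rfl] at hc2
      exact hc2
    · intro s _ hne
      split_ifs with h
      · rw [Polynomial.coeff_monomial, if_neg]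
        intro h0
        apply hne
        ext i
        fin_cases i
        · exact h0
        · show s 1 = s₀ 1
          have : s 0 = s₀ 0 := h0
          omega
      · rw [Polynomial.coeff_zero]
    · intro h; exact absurd hs₀ h
  · exact MvPolynomial.notMem_support_iff.mp hs₀


/-- Gauss lemma: if `a 1, a 2` are algebraically independent over `k`, an irreducible relation `f`
of `a 0, a 1, a 2` divides every relation -/
theorem dvd_of_gauss {L : Type*} [Field L] [Algebra k L] (a : Fin 3 → L)
    (hind : Function.Injective (MvPolynomial.aeval (R := k) (fun i : Fin 2 => a i.succ)))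
    (f G : MvPolynomial (Fin 3) k) (hf : Irreducible f)
    (hfa : MvPolynomial.aeval a f = 0) (hGa : MvPolynomial.aeval a G = 0) : f ∣ G := by
  classical
  obtain ⟨ρ, hρ⟩ : ∃ ρ : MvPolynomial (Fin 2) k →ₐ[k] L,
      ρ = MvPolynomial.aeval (fun i : Fin 2 => a i.succ) := ⟨_, rfl⟩
  have hρinj : Function.Injective ρ := by rw [hρ]; exact hind
  letI : Algebra (MvPolynomial (Fin 2) k) L := ρ.toRingHom.toAlgebra
  have halg : ∀ r, algebraMap (MvPolynomial (Fin 2) k) L r = ρ r := fun r => rfl
  have hinj' : Function.Injective (algebraMap (MvPolynomial (Fin 2) k) L) := hρinj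
  haveI : FaithfulSMul (MvPolynomial (Fin 2) k) L :=
    (faithfulSMul_iff_algebraMap_injective _ _).mpr hinj'
  letI : Algebra (FractionRing (MvPolynomial (Fin 2) k)) L :=
    (IsFractionRing.lift hinj').toAlgebra
  haveI : IsScalarTower (MvPolynomial (Fin 2) k) (FractionRing (MvPolynomial (Fin 2) k)) L := by
    apply IsScalarTower.of_algebraMap_eq
    intro r
    exact (IsFractionRing.lift_algebraMap hinj' r).symm
  have hΨ : (Polynomial.eval₂RingHom (algebraMap (MvPolynomial (Fin 2) k) L) (a 0)).comp
      ((MvPolynomial.finSuccEquiv k 2).toAlgHom.toRingHom) =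
      (MvPolynomial.aeval a : MvPolynomial (Fin 3) k →ₐ[k] L).toRingHom := by
    apply MvPolynomial.ringHom_ext
    · intro r
      show Polynomial.eval₂ _ (a 0) (MvPolynomial.finSuccEquiv k 2 (MvPolynomial.C r)) =
        MvPolynomial.aeval a (MvPolynomial.C r)
      have e1 : (MvPolynomial.C r : MvPolynomial (Fin 3) k) = algebraMap k _ r := rfl
      rw [e1, AlgEquiv.commutes, AlgHom.commutes, Polynomial.algebraMap_apply, Polynomial.eval₂_C,
        halg, AlgHom.commutes]
    · intro i
      show Polynomial.eval₂ _ (a 0) (MvPolynomial.finSuccEquiv k 2 (MvPolynomial.X i)) =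
        MvPolynomial.aeval a (MvPolynomial.X i)
      rw [MvPolynomial.aeval_X]
      refine Fin.cases ?_ (fun i' => ?_) i
      · rw [MvPolynomial.finSuccEquiv_X_zero, Polynomial.eval₂_X]
      · rw [MvPolynomial.finSuccEquiv_X_succ, Polynomial.eval₂_C, halg, hρ, MvPolynomial.aeval_X]
  have hev : ∀ g : MvPolynomial (Fin 3) k, MvPolynomial.aeval a g = 0 →
      Polynomial.aeval (a 0) ((MvPolynomial.finSuccEquiv k 2 g).map
        (algebraMap (MvPolynomial (Fin 2) k) (FractionRing (MvPolynomial (Fin 2) k)))) = 0 := by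
    intro g hg
    rw [Polynomial.aeval_def, Polynomial.eval₂_map, ← IsScalarTower.algebraMap_eq]
    have := RingHom.congr_fun hΨ g
    change Polynomial.eval₂ _ (a 0) (MvPolynomial.finSuccEquiv k 2 g) = MvPolynomial.aeval a g at this
    rw [this, hg]
  obtain ⟨p, hp⟩ : ∃ p, p = MvPolynomial.finSuccEquiv k 2 f := ⟨_, rfl⟩
  have hpirr : Irreducible p := by
    rw [hp]
    exact (MulEquiv.irreducible_iff (MvPolynomial.finSuccEquiv k 2).toMulEquiv).mpr hf
  have hpev := hev f hfa
  rw [← hp] at hpev
  have hpdeg : p.natDegree ≠ 0 := by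
    intro h0
    have hpC := Polynomial.eq_C_of_natDegree_eq_zero h0
    rw [hpC, Polynomial.map_C, Polynomial.aeval_C, ← IsScalarTower.algebraMap_apply] at hpev
    have h2 : p.coeff 0 = 0 := hinj' (by rw [hpev, map_zero])
    rw [h2, Polynomial.C_0] at hpC
    exact hpirr.ne_zero hpC
  have hprim := hpirr.isPrimitive hpdeg
  have hirrL : Irreducible (p.map (algebraMap (MvPolynomial (Fin 2) k)
      (FractionRing (MvPolynomial (Fin 2) k)))) :=
    hprim.irreducible_iff_irreducible_map_fraction_map.mp hpirr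
  have hmin := minpoly.eq_of_irreducible hirrL hpev
  have hdvd := minpoly.dvd (FractionRing (MvPolynomial (Fin 2) k)) (a 0) (hev G hGa)
  rw [← hmin] at hdvd
  have hdvd2 := dvd_of_mul_right_dvd hdvd
  have hdvd3 := hprim.dvd_of_fraction_map_dvd_fraction_map hdvd2
  rw [hp] at hdvd3
  obtain ⟨c, hc⟩ := hdvd3
  refine ⟨(MvPolynomial.finSuccEquiv k 2).symm c, ?_⟩
  apply (MvPolynomial.finSuccEquiv k 2).injective
  rw [hc, map_mul, AlgEquiv.apply_symm_apply]


/-- ratios of linearly independent elements are transcendental -/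
theorem transcendental_div (hK : IsFunctionField k K) {n : ℕ} (φ : Fin (n + 1) → K)
    (hφ : LinearIndependent k φ) {i l : Fin (n + 1)} (hil : i ≠ l) :
    Transcendental k (φ i / φ l) := by
  classical
  intro halg
  obtain ⟨c, hc⟩ := hK.2 _ halg
  have hl0 : φ l ≠ 0 := hφ.ne_zero l
  have h1 : φ i = algebraMap k K c * φ l := by
    rw [hc]; field_simp
  rw [Fintype.linearIndependent_iff] at hφ
  have h2 := hφ (fun m => if m = i then 1 else if m = l then -c else 0) (by
    rw [Finset.sum_eq_add_of_mem i l (Finset.mem_univ _) (Finset.mem_univ _) hil]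
    · simp only [if_true, if_neg hil.symm, one_smul]
      rw [h1, Algebra.smul_def, map_neg]; ring
    · intro m _ hm
      rw [if_neg hm.1, if_neg hm.2, zero_smul]) i
  simp at h2

/-- the Gauss lemma for homogeneous relations of a projective plane map -/
theorem lemmaK (hK : IsFunctionField k K) (φ : Fin 3 → K) (hφ : LinearIndependent k φ)
    (f : MvPolynomial (Fin 3) k) (hf : Irreducible f) {d : ℕ} (hhom : f.IsHomogeneous d)
    (hfφ : MvPolynomial.aeval φ f = 0) (G : MvPolynomial (Fin 3) k) {N : ℕ}
    (hG : G.IsHomogeneous N) (hGφ : MvPolynomial.aeval φ G = 0) : f ∣ G := by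
  classical
  obtain ⟨a, ha⟩ : ∃ a : Fin 3 → RatFunc K, a = fun i => RatFunc.X * algebraMap K (RatFunc K) (φ i) :=
    ⟨_, rfl⟩
  have hev : ∀ (g : MvPolynomial (Fin 3) k) (e : ℕ), g.IsHomogeneous e →
      MvPolynomial.aeval φ g = 0 → MvPolynomial.aeval a g = 0 := by
    intro g e hg hg0
    rw [ha, Groth.Agent.Helper16.Emb.aeval_smul_of_homogeneous g hg]
    have h1 : MvPolynomial.aeval (fun i => algebraMap K (RatFunc K) (φ i)) g =
        algebraMap K (RatFunc K) (MvPolynomial.aeval φ g) :=
      MvPolynomial.aeval_algebraMap_apply (RatFunc K) φ g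
    rw [h1, hg0, map_zero, mul_zero]
  apply dvd_of_gauss a ?_ f G hf (hev f d hhom hfφ) (hev G N hG hGφ)
  have h2 : Function.Injective (MvPolynomial.aeval (R := k)
      (fun i : Fin 2 => Polynomial.C (![φ 1, φ 2] i) * (Polynomial.X : Polynomial K))) :=
    aeval_T_injective (hφ.ne_zero 2) (transcendental_div hK φ hφ (by decide))
  have h3 : ∀ p : MvPolynomial (Fin 2) k, MvPolynomial.aeval (fun i : Fin 2 => a i.succ) p =
      algebraMap (Polynomial K) (RatFunc K) (MvPolynomial.aeval
        (fun i : Fin 2 => Polynomial.C (![φ 1, φ 2] i) * (Polynomial.X : Polynomial K)) p) := by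
    intro p
    rw [← MvPolynomial.aeval_algebraMap_apply]
    have e : (fun i : Fin 2 => a i.succ) = (algebraMap (Polynomial K) (RatFunc K)) ∘
        fun i : Fin 2 => Polynomial.C (![φ 1, φ 2] i) * (Polynomial.X : Polynomial K) := by
      funext i
      rw [ha]
      fin_cases i
      · show RatFunc.X * algebraMap K (RatFunc K) (φ 1) =
          algebraMap (Polynomial K) (RatFunc K) (Polynomial.C (φ 1) * Polynomial.X)
        rw [map_mul, RatFunc.algebraMap_C, RatFunc.algebraMap_X, mul_comm, RatFunc.algebraMap_eq_C]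
      · show RatFunc.X * algebraMap K (RatFunc K) (φ 2) =
          algebraMap (Polynomial K) (RatFunc K) (Polynomial.C (φ 2) * Polynomial.X)
        rw [map_mul, RatFunc.algebraMap_C, RatFunc.algebraMap_X, mul_comm, RatFunc.algebraMap_eq_C]
    rw [e]
  intro p q hpq
  rw [h3, h3] at hpq
  exact h2 (RatFunc.algebraMap_injective K hpq)

/-- the kernel of the affine evaluation is generated by `f` and `X j - 1` -/
theorem ker_affine (hK : IsFunctionField k K) (φ : Fin 3 → K) (hφ : LinearIndependent k φ)
    (f : MvPolynomial (Fin 3) k) (hf : Irreducible f) {d : ℕ} (hhom : f.IsHomogeneous d)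
    (hfφ : MvPolynomial.aeval φ f = 0) (j : Fin 3) (G : MvPolynomial (Fin 3) k)
    (hG : MvPolynomial.aeval (fun i => φ i / φ j) G = 0) :
    ∃ H H' : MvPolynomial (Fin 3) k, G = f * H + (MvPolynomial.X j - 1) * H' := by
  classical
  have hj0 : φ j ≠ 0 := hφ.ne_zero j
  obtain ⟨N, hN⟩ : ∃ N, N = G.totalDegree := ⟨_, rfl⟩
  obtain ⟨G', hG'⟩ : ∃ G' : MvPolynomial (Fin 3) k, G' = ∑ e ∈ Finset.range (N + 1),
      MvPolynomial.homogeneousComponent e G * MvPolynomial.X j ^ (N - e) := ⟨_, rfl⟩
  have hG'hom : G'.IsHomogeneous N := by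
    rw [hG']
    apply MvPolynomial.IsHomogeneous.sum
    intro e he
    rw [Finset.mem_range] at he
    have h1 := (MvPolynomial.homogeneousComponent_isHomogeneous e G).mul
      (MvPolynomial.isHomogeneous_X_pow (R := k) j (N - e))
    have h2 : e + (N - e) = N := by omega
    rwa [h2] at h1
  have hG'φ : MvPolynomial.aeval φ G' = 0 := by
    have hφe : φ = fun i => φ j * (φ i / φ j) := by
      funext i; field_simp
    have h1 : ∀ e ∈ Finset.range (N + 1),
        MvPolynomial.aeval φ (MvPolynomial.homogeneousComponent e G * MvPolynomial.X j ^ (N - e)) =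
        φ j ^ N * MvPolynomial.aeval (fun i => φ i / φ j) (MvPolynomial.homogeneousComponent e G) := by
      intro e he
      rw [Finset.mem_range] at he
      rw [map_mul, map_pow, MvPolynomial.aeval_X]
      have h3 : MvPolynomial.aeval φ (MvPolynomial.homogeneousComponent e G) =
          φ j ^ e * MvPolynomial.aeval (fun i => φ i / φ j) (MvPolynomial.homogeneousComponent e G) := by
        rw [← Groth.Agent.Helper16.Emb.aeval_smul_of_homogeneous _
          (MvPolynomial.homogeneousComponent_isHomogeneous e G)]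
        rw [← hφe]
      have h2 : φ j ^ N = φ j ^ e * φ j ^ (N - e) := by rw [← pow_add]; congr 1; omega
      rw [h2, h3]
      ring
    rw [hG', map_sum, Finset.sum_congr rfl h1, ← Finset.mul_sum, ← map_sum, hN,
      MvPolynomial.sum_homogeneousComponent, hG, mul_zero]
  obtain ⟨H, hH⟩ := lemmaK hK φ hφ f hf hhom hfφ G' hG'hom hG'φ
  have hdvd : (MvPolynomial.X j - 1 : MvPolynomial (Fin 3) k) ∣ G - G' := by
    have h1 : G - G' = ∑ e ∈ Finset.range (N + 1),
        MvPolynomial.homogeneousComponent e G * (1 - MvPolynomial.X j ^ (N - e)) := by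
      rw [hG']
      simp only [mul_sub, mul_one, Finset.sum_sub_distrib]
      rw [hN, MvPolynomial.sum_homogeneousComponent]
    rw [h1]
    apply Finset.dvd_sum
    intro e _
    apply Dvd.dvd.mul_left
    have h2 := sub_dvd_pow_sub_pow (MvPolynomial.X j : MvPolynomial (Fin 3) k) 1 (N - e)
    rw [one_pow] at h2
    have h3 : (1 : MvPolynomial (Fin 3) k) - MvPolynomial.X j ^ (N - e) =
        -(MvPolynomial.X j ^ (N - e) - 1) := by ring
    rw [h3]
    exact (dvd_neg).mpr h2
  obtain ⟨H', hH'⟩ := hdvd
  refine ⟨H, H', ?_⟩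
  rw [← hH, ← hH']
  ring

end Groth.Agent.Helper16.Proj
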