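import Groth.Agent.H16.Proj1
set_option autoImplicit false
set_option linter.unusedSimpArgs false

/-! Taylor expansion with remainder in the square of an ideal; reduction modulo a place. -/

namespace Groth.Agent.Helper16.Proj

open FunFld Module Groth.Agent.Helper17.FF

variable {k K : Type*} [Field k] [Field K] [Algebra k K]

/-- first order Taylor expansion with remainder in the square of the ideal of increments -/
theorem taylor_ideal {σ : Type*} [Fintype σ] [DecidableEq σ] {A : Type*} [CommRing A] [Algebra k A]
    (f : MvPolynomial σ k) (γ : σ → k) (ξ : σ → A) :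
    MvPolynomial.aeval (fun l => algebraMap k A (γ l) + ξ l) f -
        algebraMap k A (MvPolynomial.eval γ f) -
        ∑ l, algebraMap k A (MvPolynomial.eval γ (MvPolynomial.pderiv l f)) * ξ l ∈
      (Ideal.span (Set.range ξ)) ^ 2 := by
  have hξJ : ∀ l, ξ l ∈ Ideal.span (Set.range ξ) := fun l => Ideal.subset_span (Set.mem_range_self l)
  have hlin : ∀ p : MvPolynomial σ k,
      (∑ l, algebraMap k A (MvPolynomial.eval γ (MvPolynomial.pderiv l p)) * ξ l) ∈
        Ideal.span (Set.range ξ) := by
    intro p
    apply Ideal.sum_mem
    intro l _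
    exact Ideal.mul_mem_left _ _ (hξJ l)
  induction f using MvPolynomial.induction_on with
  | C c =>
    simp only [MvPolynomial.aeval_C, MvPolynomial.eval_C, sub_self, MvPolynomial.pderiv_C,
      map_zero, zero_mul, Finset.sum_const_zero]
    exact Ideal.zero_mem _
  | add p q hp hq =>
    have e : MvPolynomial.aeval (fun l => algebraMap k A (γ l) + ξ l) (p + q) -
        algebraMap k A (MvPolynomial.eval γ (p + q)) -
        ∑ l, algebraMap k A (MvPolynomial.eval γ (MvPolynomial.pderiv l (p + q))) * ξ l =
        (MvPolynomial.aeval (fun l => algebraMap k A (γ l) + ξ l) p -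
          algebraMap k A (MvPolynomial.eval γ p) -
          ∑ l, algebraMap k A (MvPolynomial.eval γ (MvPolynomial.pderiv l p)) * ξ l) +
        (MvPolynomial.aeval (fun l => algebraMap k A (γ l) + ξ l) q -
          algebraMap k A (MvPolynomial.eval γ q) -
          ∑ l, algebraMap k A (MvPolynomial.eval γ (MvPolynomial.pderiv l q)) * ξ l) := by
      simp only [map_add, add_mul, Finset.sum_add_distrib]
      ring
    rw [e]
    exact Ideal.add_mem _ hp hq
  | mul_X p i hp =>
    have e : MvPolynomial.aeval (fun l => algebraMap k A (γ l) + ξ l) (p * MvPolynomial.X i) -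
        algebraMap k A (MvPolynomial.eval γ (p * MvPolynomial.X i)) -
        ∑ l, algebraMap k A (MvPolynomial.eval γ
          (MvPolynomial.pderiv l (p * MvPolynomial.X i))) * ξ l =
        (MvPolynomial.aeval (fun l => algebraMap k A (γ l) + ξ l) p -
          algebraMap k A (MvPolynomial.eval γ p) -
          ∑ l, algebraMap k A (MvPolynomial.eval γ (MvPolynomial.pderiv l p)) * ξ l) *
          (algebraMap k A (γ i) + ξ i) +
        (∑ l, algebraMap k A (MvPolynomial.eval γ (MvPolynomial.pderiv l p)) * ξ l) * ξ i := by
      have hs : ∑ l, algebraMap k A (MvPolynomial.eval γ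
          (MvPolynomial.pderiv l (p * MvPolynomial.X i))) * ξ l =
          algebraMap k A (γ i) *
            (∑ l, algebraMap k A (MvPolynomial.eval γ (MvPolynomial.pderiv l p)) * ξ l) +
          algebraMap k A (MvPolynomial.eval γ p) * ξ i := by
        have h1 : ∀ l, algebraMap k A (MvPolynomial.eval γ
            (MvPolynomial.pderiv l (p * MvPolynomial.X i))) * ξ l =
            algebraMap k A (γ i) *
              (algebraMap k A (MvPolynomial.eval γ (MvPolynomial.pderiv l p)) * ξ l) +
            (if l = i then algebraMap k A (MvPolynomial.eval γ p) * ξ l else 0) := by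
          intro l
          rw [Derivation.leibniz, MvPolynomial.pderiv_X]
          by_cases hli : l = i
          · subst hli
            simp only [Pi.single_eq_same, if_true, smul_eq_mul, map_add, map_mul,
              MvPolynomial.eval_X, map_one, mul_one]
            ring
          · have : (Pi.single l 1 : σ → MvPolynomial σ k) i = 0 := Pi.single_eq_of_ne (Ne.symm hli) _
            simp only [this, if_neg hli, smul_eq_mul, map_add, map_mul, MvPolynomial.eval_X,
              map_zero, mul_zero, zero_mul, add_zero]
            ring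
        rw [Finset.sum_congr rfl (fun l _ => h1 l), Finset.sum_add_distrib, ← Finset.mul_sum,
          Finset.sum_ite_eq' Finset.univ i]
        simp
      rw [hs]
      simp only [map_mul, MvPolynomial.aeval_X, MvPolynomial.eval_X]
      ring
    rw [e]
    refine Ideal.add_mem _ (Ideal.mul_mem_right _ _ hp) ?_
    rw [pow_two]
    exact Ideal.mul_mem_mul (hlin p) (hξJ i)

/-- an element of the square of a finitely generated ideal is a combination of the generators with
coefficients in the ideal -/
theorem exists_of_mem_sq {σ : Type*} [Fintype σ] {A : Type*} [CommRing A] (ξ : σ → A) {y : A}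
    (hy : y ∈ (Ideal.span (Set.range ξ)) ^ 2) :
    ∃ s : σ → A, (∀ l, s l ∈ Ideal.span (Set.range ξ)) ∧ y = ∑ l, ξ l * s l := by
  classical
  rw [pow_two] at hy
  refine Submodule.smul_induction_on (p := fun y => ∃ s : σ → A,
    (∀ l, s l ∈ Ideal.span (Set.range ξ)) ∧ y = ∑ l, ξ l * s l) hy ?_ ?_
  · intro m hm n hn
    obtain ⟨c, rfl⟩ := (Ideal.mem_span_range_iff_exists_fun).mp hm
    refine ⟨fun l => c l * n, fun l => Ideal.mul_mem_left _ _ hn, ?_⟩
    rw [smul_eq_mul, Finset.sum_mul]
    apply Finset.sum_congr rfl
    intro l _
    ring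
  · rintro x y ⟨s₁, hs₁, rfl⟩ ⟨s₂, hs₂, rfl⟩
    refine ⟨fun l => s₁ l + s₂ l, fun l => Ideal.add_mem _ (hs₁ l) (hs₂ l), ?_⟩
    rw [← Finset.sum_add_distrib]
    apply Finset.sum_congr rfl
    intro l _
    ring

/-- evaluation of a polynomial in the ratios reduces to evaluation at the image point -/
theorem val_aeval_sub_lt {σ : Type*} (P : Place k K) (p : MvPolynomial σ k) (γ : σ → k) (x : σ → K)
    (hx : ∀ l, P.1 (x l - algebraMap k K (γ l)) < 1) :
    P.1 (MvPolynomial.aeval x p - algebraMap k K (MvPolynomial.eval γ p)) < 1 := by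
  have hx1 : ∀ l, P.1 (x l) ≤ 1 := by
    intro l
    have : x l = (x l - algebraMap k K (γ l)) + algebraMap k K (γ l) := by ring
    rw [this]
    exact (P.1.map_add _ _).trans (max_le (le_of_lt (hx l)) (P.2.1 _))
  induction p using MvPolynomial.induction_on with
  | C c =>
    rw [MvPolynomial.aeval_C, MvPolynomial.eval_C, sub_self, map_zero]
    exact zero_lt_one
  | add p q hp hq =>
    have e : MvPolynomial.aeval x (p + q) - algebraMap k K (MvPolynomial.eval γ (p + q)) =
        (MvPolynomial.aeval x p - algebraMap k K (MvPolynomial.eval γ p)) +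
        (MvPolynomial.aeval x q - algebraMap k K (MvPolynomial.eval γ q)) := by
      simp only [map_add]; ring
    rw [e]
    exact Valuation.map_add_lt _ hp hq
  | mul_X p i hp =>
    have e : MvPolynomial.aeval x (p * MvPolynomial.X i) -
        algebraMap k K (MvPolynomial.eval γ (p * MvPolynomial.X i)) =
        (MvPolynomial.aeval x p - algebraMap k K (MvPolynomial.eval γ p)) * x i +
        algebraMap k K (MvPolynomial.eval γ p) * (x i - algebraMap k K (γ i)) := by
      simp only [map_mul, MvPolynomial.aeval_X, MvPolynomial.eval_X]; ring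
    rw [e]
    apply Valuation.map_add_lt
    · rw [map_mul]
      calc _ ≤ P.1 (MvPolynomial.aeval x p - algebraMap k K (MvPolynomial.eval γ p)) * 1 :=
            mul_le_mul' le_rfl (hx1 i)
        _ = _ := mul_one _
        _ < 1 := hp
    · rw [map_mul]
      calc _ ≤ 1 * P.1 (x i - algebraMap k K (γ i)) := mul_le_mul' (P.2.1 _) le_rfl
        _ = _ := one_mul _
        _ < 1 := hx i

end Groth.Agent.Helper16.Proj
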