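import Groth.Agent.H16.Proj2
import Groth.Agent.S11078
set_option autoImplicit false
set_option linter.unusedSimpArgs false

/-! Jacobian criterion for plane curves: a point with a nonvanishing partial is nonsingular. -/

namespace Groth.Agent.Helper16.Proj

open FunFld Module Groth.Agent.Helper17.FF Groth.Agent.Helper16.Emb

variable {k K : Type*} [Field k] [Field K] [Algebra k K]

theorem fin3_third : ∀ j b : Fin 3, j ≠ b →
    ∃ a : Fin 3, a ≠ j ∧ a ≠ b ∧ ∀ l : Fin 3, l = j ∨ l = a ∨ l = b := by decide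

theorem sum_fin3 {M : Type*} [AddCommMonoid M] (F : Fin 3 → M) {j a b : Fin 3} (haj : a ≠ j)
    (hab : a ≠ b) (hjb : j ≠ b) (hcov : ∀ l : Fin 3, l = j ∨ l = a ∨ l = b) :
    ∑ l, F l = F j + F a + F b := by
  classical
  have h : (Finset.univ : Finset (Fin 3)) = {j, a, b} := by
    ext l
    simp only [Finset.mem_univ, Finset.mem_insert, Finset.mem_singleton, true_iff]
    exact hcov l
  rw [h, Finset.sum_insert, Finset.sum_insert, Finset.sum_singleton, add_assoc]
  · simpa using hab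
  · simp only [Finset.mem_insert, Finset.mem_singleton, not_or]
    exact ⟨Ne.symm haj, hjb⟩

/-- a point of a plane curve at which some partial derivative does not vanish is nonsingular -/
theorem nonsingular_of_pderiv_ne_zero [IsAlgClosed k] (hK : IsFunctionField k K) (φ : Fin 3 → K)
    (hφ : LinearIndependent k φ)
    (hbir : IntermediateField.adjoin k (Set.range fun i => φ i / φ 0) = ⊤)
    (f : MvPolynomial (Fin 3) k) {d : ℕ} (hhom : f.IsHomogeneous d)
    (hfφ : MvPolynomial.aeval φ f = 0) (P : Place k K) (j : Fin 3)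
    (hj : ∀ i, P.1 (φ i) ≤ P.1 (φ j)) (γ : Fin 3 → k)
    (hγ : ∀ i, P.1 (φ i / φ j - algebraMap k K (γ i)) < 1)
    (l₀ : Fin 3) (hl₀ : MvPolynomial.eval γ (MvPolynomial.pderiv l₀ f) ≠ 0) :
    IsNonsingularAt φ P := by
  classical
  have hφ0 : ∀ i, φ i ≠ 0 := fun i => hφ.ne_zero i
  have hj0 := hφ0 j
  have hn : 1 ≤ 2 := by norm_num
  have hγj : γ j = 1 := by
    by_contra hne
    have h1 := hγ j
    rw [div_self hj0] at h1
    have h2 : (1 : K) - algebraMap k K (γ j) = algebraMap k K (1 - γ j) := by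
      rw [map_sub, map_one]
    rw [h2, val_const P (sub_ne_zero.mpr (Ne.symm hne))] at h1
    exact lt_irrefl _ h1
  have hξj0 : φ j / φ j - algebraMap k K (γ j) = 0 := by
    rw [div_self hj0, hγj, map_one, sub_self]
  obtain ⟨hf0, -, heuler⟩ :=
    Groth.Agent.Helper16.Plane.taylor_at_point hK φ j hj0 P γ hγ f d hhom hfφ
  obtain ⟨g, hg⟩ : ∃ g : Fin 3 → k, g = fun l => MvPolynomial.eval γ (MvPolynomial.pderiv l f) :=
    ⟨_, rfl⟩
  have heuler' : ∑ l, γ l * g l = 0 := by rw [hg]; exact heuler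
  have hl₀' : g l₀ ≠ 0 := by rw [hg]; exact hl₀
  have hb : ∃ b, b ≠ j ∧ g b ≠ 0 := by
    by_contra hno
    push_neg at hno
    have h1 : ∑ l, γ l * g l = γ j * g j := by
      apply Finset.sum_eq_single j
      · intro l _ hl; rw [hno l hl, mul_zero]
      · intro h; exact absurd (Finset.mem_univ j) h
    rw [heuler', hγj, one_mul] at h1
    by_cases hl : l₀ = j
    · rw [hl] at hl₀'; exact hl₀' h1.symm
    · exact hl₀' (hno l₀ hl)
  obtain ⟨b, hbj, hgb⟩ := hb
  obtain ⟨a, haj, hab, hcov⟩ := fin3_third j b (Ne.symm hbj)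
  have hjb : j ≠ b := Ne.symm hbj
  -- the affine ring
  obtain ⟨S, hS⟩ : ∃ S : Subalgebra k K, S = Algebra.adjoin k (Set.range fun i => φ i / φ j) :=
    ⟨_, rfl⟩
  have hxS : ∀ l, φ l / φ j ∈ S := fun l => by
    rw [hS]; exact Algebra.subset_adjoin (Set.mem_range_self l)
  obtain ⟨ξ', hξ'⟩ : ∃ ξ' : Fin 3 → S,
      ξ' = fun l => (⟨φ l / φ j, hxS l⟩ : S) - algebraMap k S (γ l) := ⟨_, rfl⟩
  have hξ'c : ∀ l, ((ξ' l : S) : K) = φ l / φ j - algebraMap k K (γ l) := by
    intro l
    rw [hξ']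
    simp only [Subalgebra.coe_sub, Subalgebra.coe_algebraMap]
  have hsum0 : MvPolynomial.aeval (fun l => algebraMap k S (γ l) + ξ' l) f = 0 := by
    apply Subtype.ext
    rw [← Subalgebra.coe_val, MvPolynomial.comp_aeval_apply]
    have e1 : (fun i => S.val (algebraMap k S (γ i) + ξ' i)) = fun i => (φ j)⁻¹ * φ i := by
      funext i
      rw [map_add, Subalgebra.coe_val]
      rw [hξ'c, Subalgebra.coe_algebraMap]
      rw [div_eq_inv_mul]; ring
    rw [e1, aeval_smul_of_homogeneous f hhom φ, hfφ, mul_zero]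
    rfl
  have hT := taylor_ideal (A := S) f γ ξ'
  have hE : ∑ l, algebraMap k S (g l) * ξ' l ∈ (Ideal.span (Set.range ξ')) ^ 2 := by
    rw [hsum0, hf0, map_zero, sub_zero, zero_sub] at hT
    have := (Submodule.neg_mem_iff _).mp hT
    rw [hg]; exact this
  obtain ⟨s, hsJ, hEs⟩ := exists_of_mem_sq ξ' hE
  have hrel : ∑ l, ξ' l * (algebraMap k S (g l) - s l) = 0 := by
    simp only [mul_sub, Finset.sum_sub_distrib]
    rw [← hEs, sub_eq_zero]
    apply Finset.sum_congr rfl
    intro l _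
    ring
  have hξj : ξ' j = 0 := by
    apply Subtype.ext
    rw [hξ'c, hξj0]; rfl
  rw [sum_fin3 _ haj hab hjb hcov, hξj, zero_mul, zero_add] at hrel
  obtain ⟨w, hw⟩ : ∃ w : K, w = ((algebraMap k S (g b) - s b : S) : K) := ⟨_, rfl⟩
  obtain ⟨v, hv⟩ : ∃ v : K, v = ((algebraMap k S (g a) - s a : S) : K) := ⟨_, rfl⟩
  obtain ⟨ξ, hξ⟩ : ∃ ξ : Fin 3 → K, ξ = fun l => φ l / φ j - algebraMap k K (γ l) := ⟨_, rfl⟩
  have hξl : ∀ l, ξ l = φ l / φ j - algebraMap k K (γ l) := fun l => by rw [hξ]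
  have hwS : w ∈ Algebra.adjoin k (Set.range fun i => φ i / φ j) := by
    rw [hw, ← hS]; exact Subtype.property _
  have hvS : v ∈ Algebra.adjoin k (Set.range fun i => φ i / φ j) := by
    rw [hv, ← hS]; exact Subtype.property _
  have hrelK : ξ a * v + ξ b * w = 0 := by
    have := congrArg (fun y : S => (y : K)) hrel
    simp only [Subalgebra.coe_add, Subalgebra.coe_mul, Subalgebra.coe_zero] at this
    rw [hξ'c, hξ'c, ← hw, ← hv] at this
    rw [hξl, hξl]; exact this
  have hJP : ∀ y : S, y ∈ Ideal.span (Set.range ξ') → P.1 (y : K) < 1 := by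
    intro y hy
    obtain ⟨c, rfl⟩ := Ideal.mem_span_range_iff_exists_fun.mp hy
    rw [AddSubmonoidClass.coe_finset_sum]
    apply Valuation.map_sum_lt _ one_ne_zero
    intro l _
    rw [Subalgebra.coe_mul, map_mul, hξ'c]
    have hcl : ((c l : S) : K) ∈ Algebra.adjoin k (Set.range fun i => φ i / φ j) := by
      rw [← hS]; exact Subtype.property _
    calc P.1 ((c l : S) : K) * P.1 (φ l / φ j - algebraMap k K (γ l))
        ≤ 1 * P.1 (φ l / φ j - algebraMap k K (γ l)) := mul_le_mul' (A_le_O P φ hj hcl) le_rfl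
      _ = _ := one_mul _
      _ < 1 := hγ l
  have hwP : P.1 w = 1 := by
    rw [hw, Subalgebra.coe_sub, Subalgebra.coe_algebraMap]
    have h1 : P.1 (algebraMap k K (g b)) = 1 := val_const P hgb
    rw [Valuation.map_sub_eq_of_lt_left, h1]
    rw [h1]; exact hJP _ (hsJ b)
  have hξS : ∀ l, ξ l ∈ Algebra.adjoin k (Set.range fun i => φ i / φ j) := by
    intro l
    rw [hξl]
    exact Subalgebra.sub_mem _ (Algebra.subset_adjoin (Set.mem_range_self l))
      (Subalgebra.algebraMap_mem _ _)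
  have hξP : ∀ l, P.1 (ξ l) < 1 := fun l => by rw [hξl]; exact hγ l
  have hξa0 : ξ a ≠ 0 := by
    intro h0
    rw [hξl, sub_eq_zero] at h0
    have := transcendental_div hK φ hφ haj
    rw [h0] at this
    exact this (isAlgebraic_algebraMap _)
  have hfib : ∀ Q : Place k K, SameImage φ P Q →
      ∀ y ∈ Algebra.adjoin k (Set.range fun i => φ i / φ j),
        (Q.1 y ≤ 1 ∧ (Q.1 y < 1 ↔ P.1 y < 1)) := by
    intro Q hQ y hy
    exact (Groth.Agent.S11078.result k K hK hn φ hφ P Q).mp hQ y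
      ((LocJ.of_mem hy).inLocRing hj0 hj)
  obtain ⟨N, hN⟩ := locring_of_vanishing hK hn φ hφ hbir P hj
  have hmain : ∀ z : K, (∀ Q : Place k K, SameImage φ P Q → Q.1 z ≤ 1) → LocJ φ j P z := by
    intro z hz
    have hzP : P.1 z ≤ 1 := hz P (sameImage_refl hK φ hφ0 P)
    have hstep : ∀ m : ℕ, LocJ φ j P (ξ a ^ (m + 1) * z) → LocJ φ j P (ξ a ^ m * z) := by
      rintro m ⟨u, hu, h, hh, hhP, huh⟩
      obtain ⟨c₀, α, hα, eu⟩ := A_decomp φ j γ hu
      have hvd := val_decomp P φ hj γ hγ (c₀ := c₀) hα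
      have huP : P.1 u < 1 := by
        rw [← huh, map_mul, hhP, mul_one, map_mul, map_pow]
        calc P.1 (ξ a) ^ (m + 1) * P.1 z ≤ P.1 (ξ a) ^ (m + 1) * 1 := mul_le_mul' le_rfl hzP
          _ = P.1 (ξ a) ^ (m + 1) := mul_one _
          _ < 1 := pow_lt_one₀ zero_le (hξP a) (by omega)
      have hc₀ : c₀ = 0 := by
        by_contra hne
        have := hvd.2 hne
        rw [← eu] at this
        rw [this] at huP
        exact lt_irrefl _ huP
      rw [hc₀, map_zero, zero_add, sum_fin3 _ haj hab hjb hcov] at eu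
      refine ⟨α a * w - α b * v, Subalgebra.sub_mem _ (Subalgebra.mul_mem _ (hα a) hwS)
        (Subalgebra.mul_mem _ (hα b) hvS), h * w, Subalgebra.mul_mem _ hh hwS, ?_, ?_⟩
      · rw [map_mul, hhP, hwP, one_mul]
      · apply mul_left_cancel₀ hξa0
        have hξa := hξl a
        have hξb := hξl b
        rw [← hξa, ← hξb] at eu
        linear_combination w * huh + w * eu + (α b) * hrelK + (w * α j) * hξj0
    have hbase : LocJ φ j P (ξ a ^ N * z) := by
      obtain ⟨h, hh, hhP, hzh⟩ := hN (ξ a ^ N * z) (fun Q hQ => by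
        rw [map_mul, map_pow]
        have h1 : Q.1 (ξ a) ≤ WithZero.exp (-1 : ℤ) := by
          have h2 := ((hfib Q hQ _ (hξS a)).2).mpr (hξP a)
          have h3 : Q.1 (ξ a) < WithZero.exp (0 : ℤ) := by rw [WithZero.exp_zero]; exact h2
          rw [val_lt_exp_iff_le] at h3
          simpa using h3
        calc Q.1 (ξ a) ^ N * Q.1 z ≤ (WithZero.exp (-1 : ℤ)) ^ N * 1 :=
              mul_le_mul' (pow_le_pow_left₀ zero_le h1 N) (hz Q hQ)
          _ = WithZero.exp (-(N : ℤ)) := by
              rw [mul_one, ← WithZero.exp_nsmul]; simp)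
      exact ⟨ξ a ^ N * z * h, hzh, h, hh, hhP, rfl⟩
    have hall : ∀ m : ℕ, m ≤ N → LocJ φ j P (ξ a ^ (N - m) * z) := by
      intro m
      induction m with
      | zero => intro _; simpa using hbase
      | succ m ih =>
        intro hm
        have h1 := ih (by omega)
        have e : N - m = (N - (m + 1)) + 1 := by omega
        rw [e] at h1
        exact hstep _ h1
    have h2 := hall N le_rfl
    simpa using h2
  have hfibP : ∀ Q : Place k K, SameImage φ P Q → Q = P := by
    intro Q hQ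
    by_contra hne
    obtain ⟨Pinf, hPinf⟩ := exists_not_top hK hn φ hφ j
    have htop : ∀ Q' : Place k K, SameImage φ P Q' → ∀ i, Q'.1 (φ i) ≤ Q'.1 (φ j) := by
      intro Q' hQ'
      have hQ'' := hQ'
      obtain ⟨j', hj'0, hj'P, hj'Q, -⟩ := hQ''
      have h1 := (hfib Q' hQ' (φ j' / φ j) (Algebra.subset_adjoin (Set.mem_range_self j'))).1
      rw [map_div₀, div_le_one₀ (zero_lt_iff.mpr ((map_ne_zero Q'.1).mpr hj0))] at h1
      intro i
      exact (hj'Q i).trans h1
    have hPinfP : P ≠ Pinf := by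
      rintro rfl
      exact hPinf hj
    have hPinfQ : Q ≠ Pinf := by
      rintro rfl
      exact hPinf (htop Q hQ)
    obtain ⟨z, hzQ, hzS, hzall⟩ := exists_unit_vanishing hK Pinf Q hPinfQ {P}
      (by simpa using hne) (fun _ => 1)
    have hzP : P.1 z < 1 := by
      have h1 := hzS P (Finset.mem_singleton_self P) hPinfP
      refine lt_of_le_of_lt h1 ?_
      rw [← WithZero.exp_zero, WithZero.exp_lt_exp]
      norm_num
    have hzL : LocJ φ j P z := hmain z (fun Q' hQ' => hzall Q' (by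
      rintro rfl
      exact hPinf (htop Q' hQ')))
    have h3 := (Groth.Agent.S11078.result k K hK hn φ hφ P Q).mp hQ z (hzL.inLocRing hj0 hj)
    have h4 : Q.1 z < 1 := h3.2.mpr hzP
    rw [hzQ] at h4
    exact lt_irrefl _ h4
  intro z hz
  exact (hmain z (fun Q hQ => by rw [hfibP Q hQ]; exact hz)).inLocRing hj0 hj

end Groth.Agent.Helper16.Proj
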