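import Groth.Agent.H16.Proj3
set_option autoImplicit false
set_option linter.unusedSimpArgs false

/-! Jacobian criterion for plane curves: at a nonsingular point some partial does not vanish. -/

namespace Groth.Agent.Helper16.Proj

open FunFld Module Groth.Agent.Helper17.FF Groth.Agent.Helper16.Emb

variable {k K : Type*} [Field k] [Field K] [Algebra k K]

theorem pderiv_ne_zero_of_nonsingular [IsAlgClosed k] (hK : IsFunctionField k K) (φ : Fin 3 → K)
    (hφ : LinearIndependent k φ)
    (f : MvPolynomial (Fin 3) k) (hf : Irreducible f) {d : ℕ} (hhom : f.IsHomogeneous d)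
    (hfφ : MvPolynomial.aeval φ f = 0) (P : Place k K) (j : Fin 3)
    (hj : ∀ i, P.1 (φ i) ≤ P.1 (φ j)) (γ : Fin 3 → k)
    (hγ : ∀ i, P.1 (φ i / φ j - algebraMap k K (γ i)) < 1)
    (hns : IsNonsingularAt φ P) :
    ∃ l, MvPolynomial.eval γ (MvPolynomial.pderiv l f) ≠ 0 := by
  classical
  by_contra hall
  push_neg at hall
  have hφ0 : ∀ i, φ i ≠ 0 := fun i => hφ.ne_zero i
  have hj0 := hφ0 j
  have hγj : γ j = 1 := by
    by_contra hne
    have h1 := hγ j
    rw [div_self hj0] at h1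
    have h2 : (1 : K) - algebraMap k K (γ j) = algebraMap k K (1 - γ j) := by
      rw [map_sub, map_one]
    rw [h2, val_const P (sub_ne_zero.mpr (Ne.symm hne))] at h1
    exact lt_irrefl _ h1
  obtain ⟨hf0, -, -⟩ :=
    Groth.Agent.Helper16.Plane.taylor_at_point hK φ j hj0 P γ hγ f d hhom hfφ
  obtain ⟨ξ, hξ⟩ : ∃ ξ : Fin 3 → K, ξ = fun l => φ l / φ j - algebraMap k K (γ l) := ⟨_, rfl⟩
  have hξl : ∀ l, ξ l = φ l / φ j - algebraMap k K (γ l) := fun l => by rw [hξ]
  have hξP : ∀ l, P.1 (ξ l) < 1 := fun l => by rw [hξl]; exact hγ l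
  have hξP' : ∀ l, P.1 (ξ l) ≤ WithZero.exp (-1 : ℤ) := by
    intro l
    have h3 : P.1 (ξ l) < WithZero.exp (0 : ℤ) := by rw [WithZero.exp_zero]; exact hξP l
    rw [val_lt_exp_iff_le] at h3
    simpa using h3
  have hξj0 : ξ j = 0 := by rw [hξl, div_self hj0, hγj, map_one, sub_self]
  -- a coordinate which is a local parameter
  have ha : ∃ a, P.1 (ξ a) = WithZero.exp (-1 : ℤ) := by
    by_contra hno
    push_neg at hno
    have hξ2 : ∀ l, P.1 (ξ l) ≤ WithZero.exp (-2 : ℤ) := by
      intro l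
      have h1 : P.1 (ξ l) < WithZero.exp (-1 : ℤ) := lt_of_le_of_ne (hξP' l) (hno l)
      rw [val_lt_exp_iff_le] at h1
      have e : (-1 : ℤ) - 1 = -2 := by norm_num
      rwa [e] at h1
    obtain ⟨t, ht⟩ := P.2.2 (WithZero.exp (-1 : ℤ))
    have htL : LocJ φ j P t := locJ_of_inLocRing hj0 hj
      (hns t (by rw [ht]; exact Groth.Agent.Helper16.Plane.exp_neg_one_le_one))
    obtain ⟨u, hu, h, hh, hhP, hth⟩ := htL
    obtain ⟨c₀, α, hα, eu⟩ := A_decomp φ j γ hu
    have hvd := val_decomp P φ hj γ hγ (c₀ := c₀) hα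
    have huP : P.1 u = WithZero.exp (-1 : ℤ) := by rw [← hth, map_mul, hhP, mul_one, ht]
    have hc₀ : c₀ = 0 := by
      by_contra hne
      have := hvd.2 hne
      rw [← eu, huP] at this
      have h2 : (WithZero.exp (-1 : ℤ) : WithZero (Multiplicative ℤ)) < 1 := by
        rw [← WithZero.exp_zero, WithZero.exp_lt_exp]; norm_num
      rw [this] at h2
      exact lt_irrefl _ h2
    rw [hc₀, map_zero, zero_add] at eu
    have hu2 : P.1 u ≤ WithZero.exp (-2 : ℤ) := by
      rw [eu]
      apply Valuation.map_sum_le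
      intro i _
      rw [map_mul, ← hξl]
      calc P.1 (α i) * P.1 (ξ i) ≤ 1 * WithZero.exp (-2 : ℤ) :=
            mul_le_mul' (A_le_O P φ hj (hα i)) (hξ2 i)
        _ = _ := one_mul _
    rw [huP, WithZero.exp_le_exp] at hu2
    norm_num at hu2
  obtain ⟨a, haP⟩ := ha
  have haj : a ≠ j := by
    rintro rfl
    rw [hξj0, map_zero] at haP
    exact WithZero.exp_ne_zero haP.symm
  obtain ⟨b, hbj, hba, -⟩ := fin3_third j a (Ne.symm haj)
  have hξa0 : ξ a ≠ 0 := by
    intro h0
    rw [h0, map_zero] at haP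
    exact WithZero.exp_ne_zero haP.symm
  have hquot : P.1 (ξ b / ξ a) ≤ 1 := by
    rw [map_div₀, haP]
    exact div_le_one_of_le₀ (hξP' b) zero_le
  obtain ⟨u', hu', w, hw, hwP, e⟩ := locJ_of_inLocRing hj0 hj (hns _ hquot)
  have hrel : ξ b * w - ξ a * u' = 0 := by
    rw [← e]; field_simp; ring
  -- lift to polynomials
  have hrange := Algebra.adjoin_range_eq_range_aeval k (fun i => φ i / φ j)
  rw [hrange] at hw hu'
  obtain ⟨W, hW⟩ := hw
  obtain ⟨U, hU⟩ := hu'
  obtain ⟨G, hG⟩ : ∃ G : MvPolynomial (Fin 3) k,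
      G = (MvPolynomial.X b - MvPolynomial.C (γ b)) * W -
        (MvPolynomial.X a - MvPolynomial.C (γ a)) * U := ⟨_, rfl⟩
  have hGx : MvPolynomial.aeval (fun i => φ i / φ j) G = 0 := by
    rw [hG, map_sub, map_mul, map_mul, map_sub, map_sub, MvPolynomial.aeval_X,
      MvPolynomial.aeval_X, MvPolynomial.aeval_C, MvPolynomial.aeval_C]
    have hW' : MvPolynomial.aeval (fun i => φ i / φ j) W = w := hW
    have hU' : MvPolynomial.aeval (fun i => φ i / φ j) U = u' := hU
    rw [hW', hU', ← hξl, ← hξl]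
    exact hrel
  obtain ⟨H, H', hGH⟩ := ker_affine hK φ hφ f hf hhom hfφ j G hGx
  have hXb : MvPolynomial.pderiv b (MvPolynomial.X a : MvPolynomial (Fin 3) k) = 0 := by
    rw [MvPolynomial.pderiv_X]; exact Pi.single_eq_of_ne (Ne.symm hba).symm.symm _
  have hXj : MvPolynomial.pderiv b (MvPolynomial.X j : MvPolynomial (Fin 3) k) = 0 := by
    rw [MvPolynomial.pderiv_X]; exact Pi.single_eq_of_ne (Ne.symm hbj) _
  have hXbb : MvPolynomial.pderiv b (MvPolynomial.X b : MvPolynomial (Fin 3) k) = 1 := by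
    rw [MvPolynomial.pderiv_X]; exact Pi.single_eq_same _ _
  have hd1 : MvPolynomial.pderiv b ((MvPolynomial.X b - MvPolynomial.C (γ b)) * W) =
      (MvPolynomial.X b - MvPolynomial.C (γ b)) * MvPolynomial.pderiv b W + W := by
    rw [Derivation.leibniz, Derivation.map_sub, hXbb, MvPolynomial.pderiv_C, sub_zero, smul_eq_mul,
      smul_eq_mul, mul_one]
  have hd2 : MvPolynomial.pderiv b ((MvPolynomial.X a - MvPolynomial.C (γ a)) * U) =
      (MvPolynomial.X a - MvPolynomial.C (γ a)) * MvPolynomial.pderiv b U := by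
    rw [Derivation.leibniz, Derivation.map_sub, hXb, MvPolynomial.pderiv_C, sub_zero, smul_zero,
      add_zero, smul_eq_mul]
  have hd3 : MvPolynomial.pderiv b (f * H) =
      f * MvPolynomial.pderiv b H + H * MvPolynomial.pderiv b f := by
    rw [Derivation.leibniz, smul_eq_mul, smul_eq_mul]
  have hd4 : MvPolynomial.pderiv b ((MvPolynomial.X j - 1) * H') =
      (MvPolynomial.X j - 1) * MvPolynomial.pderiv b H' := by
    rw [Derivation.leibniz, Derivation.map_sub, hXj, Derivation.map_one_eq_zero, sub_zero, smul_zero,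
      add_zero, smul_eq_mul]
  have h1 : MvPolynomial.eval γ (MvPolynomial.pderiv b G) = MvPolynomial.eval γ W := by
    rw [hG, Derivation.map_sub, hd1, hd2]
    simp only [map_sub, map_add, map_mul, MvPolynomial.eval_X, MvPolynomial.eval_C,
      sub_self, zero_mul, zero_add, sub_zero]
  have h2 : MvPolynomial.eval γ (MvPolynomial.pderiv b G) = 0 := by
    rw [hGH, Derivation.map_add, hd3, hd4]
    simp only [map_sub, map_add, map_mul, MvPolynomial.eval_X, hf0, hall b, hγj,
      sub_self, zero_mul, mul_zero, map_one, add_zero]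
  have hW0 : MvPolynomial.eval γ W = 0 := by rw [← h1, h2]
  have h3 := val_aeval_sub_lt P W γ (fun i => φ i / φ j) hγ
  have hW' : MvPolynomial.aeval (fun i => φ i / φ j) W = w := hW
  rw [hW0, map_zero, sub_zero, hW', hwP] at h3
  exact lt_irrefl _ h3

end Groth.Agent.Helper16.Proj
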