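import Groth.Agent.H16.Proj4
set_option autoImplicit false
set_option linter.unusedSimpArgs false

/-! If the maximal ideal of the local ring of a projective map at a point is principal, the point is
nonsingular. -/

namespace Groth.Agent.Helper16.Proj

open FunFld Module Groth.Agent.Helper17.FF Groth.Agent.Helper16.Emb

variable {k K : Type*} [Field k] [Field K] [Algebra k K]

theorem nonsingular_of_principal [IsAlgClosed k] (hK : IsFunctionField k K) {n : ℕ} (hn : 1 ≤ n)
    (φ : Fin (n + 1) → K) (hφ : LinearIndependent k φ)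
    (hbir : IntermediateField.adjoin k (Set.range fun i => φ i / φ 0) = ⊤)
    (P : Place k K) (j : Fin (n + 1)) (hj : ∀ i, P.1 (φ i) ≤ P.1 (φ j)) (γ : Fin (n + 1) → k)
    (hγ : ∀ i, P.1 (φ i / φ j - algebraMap k K (γ i)) < 1)
    (a : Fin (n + 1)) (haj : a ≠ j) (w : K)
    (hwS : w ∈ Algebra.adjoin k (Set.range fun i => φ i / φ j)) (hwP : P.1 w = 1)
    (v : Fin (n + 1) → K) (hvS : ∀ l, v l ∈ Algebra.adjoin k (Set.range fun i => φ i / φ j))
    (hrel : ∀ l, (φ l / φ j - algebraMap k K (γ l)) * w =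
      (φ a / φ j - algebraMap k K (γ a)) * v l) :
    IsNonsingularAt φ P := by
  classical
  have hφ0 : ∀ i, φ i ≠ 0 := fun i => hφ.ne_zero i
  have hj0 := hφ0 j
  obtain ⟨ξ, hξ⟩ : ∃ ξ : Fin (n + 1) → K, ξ = fun l => φ l / φ j - algebraMap k K (γ l) := ⟨_, rfl⟩
  have hξl : ∀ l, ξ l = φ l / φ j - algebraMap k K (γ l) := fun l => by rw [hξ]
  have hrel' : ∀ l, ξ l * w = ξ a * v l := fun l => by rw [hξl, hξl]; exact hrel l
  have hξS : ∀ l, ξ l ∈ Algebra.adjoin k (Set.range fun i => φ i / φ j) := by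
    intro l
    rw [hξl]
    exact Subalgebra.sub_mem _ (Algebra.subset_adjoin (Set.mem_range_self l))
      (Subalgebra.algebraMap_mem _ _)
  have hξP : ∀ l, P.1 (ξ l) < 1 := fun l => by rw [hξl]; exact hγ l
  have hξa0 : ξ a ≠ 0 := by
    intro h0
    rw [hξl, sub_eq_zero] at h0
    have := transcendental_div hK φ hφ haj
    rw [h0] at this
    exact this (isAlgebraic_algebraMap _)
  have hfib : ∀ Q : Place k K, SameImage φ P Q →
      ∀ y ∈ Algebra.adjoin k (Set.range fun i => φ i / φ j),
        (Q.1 y ≤ 1 ∧ (Q.1 y < 1 ↔ P.1 y < 1)) := by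
    intro Q hQ y hy
    exact (Groth.Agent.S11078.result k K hK hn φ hφ P Q).mp hQ y
      ((LocJ.of_mem hy).inLocRing hj0 hj)
  obtain ⟨N, hN⟩ := locring_of_vanishing hK hn φ hφ hbir P hj
  have hmain : ∀ z : K, (∀ Q : Place k K, SameImage φ P Q → Q.1 z ≤ 1) → LocJ φ j P z := by
    intro z hz
    have hzP : P.1 z ≤ 1 := hz P (sameImage_refl hK φ hφ0 P)
    have hstep : ∀ m : ℕ, LocJ φ j P (ξ a ^ (m + 1) * z) → LocJ φ j P (ξ a ^ m * z) := by
      rintro m ⟨u, hu, h, hh, hhP, huh⟩
      obtain ⟨c₀, α, hα, eu⟩ := A_decomp φ j γ hu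
      have hvd := val_decomp P φ hj γ hγ (c₀ := c₀) hα
      have huP : P.1 u < 1 := by
        rw [← huh, map_mul, hhP, mul_one, map_mul, map_pow]
        calc P.1 (ξ a) ^ (m + 1) * P.1 z ≤ P.1 (ξ a) ^ (m + 1) * 1 := mul_le_mul' le_rfl hzP
          _ = P.1 (ξ a) ^ (m + 1) := mul_one _
          _ < 1 := pow_lt_one₀ zero_le (hξP a) (by omega)
      have hc₀ : c₀ = 0 := by
        by_contra hne
        have := hvd.2 hne
        rw [← eu] at this
        rw [this] at huP
        exact lt_irrefl _ huP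
      rw [hc₀, map_zero, zero_add] at eu
      refine ⟨∑ i, α i * v i, Subalgebra.sum_mem _ (fun i _ => Subalgebra.mul_mem _ (hα i) (hvS i)),
        h * w, Subalgebra.mul_mem _ hh hwS, ?_, ?_⟩
      · rw [map_mul, hhP, hwP, one_mul]
      · apply mul_left_cancel₀ hξa0
        calc ξ a * (ξ a ^ m * z * (h * w)) = (ξ a ^ (m + 1) * z * h) * w := by ring
          _ = u * w := by rw [huh]
          _ = ∑ i, α i * (ξ i * w) := by
              rw [eu, Finset.sum_mul]
              apply Finset.sum_congr rfl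
              intro i _
              rw [← hξl]; ring
          _ = ∑ i, α i * (ξ a * v i) := by
              apply Finset.sum_congr rfl
              intro i _
              rw [hrel']
          _ = ξ a * ∑ i, α i * v i := by
              rw [Finset.mul_sum]
              apply Finset.sum_congr rfl
              intro i _
              ring
    have hbase : LocJ φ j P (ξ a ^ N * z) := by
      obtain ⟨h, hh, hhP, hzh⟩ := hN (ξ a ^ N * z) (fun Q hQ => by
        rw [map_mul, map_pow]
        have h1 : Q.1 (ξ a) ≤ WithZero.exp (-1 : ℤ) := by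
          have h2 := ((hfib Q hQ _ (hξS a)).2).mpr (hξP a)
          have h3 : Q.1 (ξ a) < WithZero.exp (0 : ℤ) := by rw [WithZero.exp_zero]; exact h2
          rw [val_lt_exp_iff_le] at h3
          simpa using h3
        calc Q.1 (ξ a) ^ N * Q.1 z ≤ (WithZero.exp (-1 : ℤ)) ^ N * 1 :=
              mul_le_mul' (pow_le_pow_left₀ zero_le h1 N) (hz Q hQ)
          _ = WithZero.exp (-(N : ℤ)) := by
              rw [mul_one, ← WithZero.exp_nsmul]; simp)
      exact ⟨ξ a ^ N * z * h, hzh, h, hh, hhP, rfl⟩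
    have hall : ∀ m : ℕ, m ≤ N → LocJ φ j P (ξ a ^ (N - m) * z) := by
      intro m
      induction m with
      | zero => intro _; simpa using hbase
      | succ m ih =>
        intro hm
        have h1 := ih (by omega)
        have e : N - m = (N - (m + 1)) + 1 := by omega
        rw [e] at h1
        exact hstep _ h1
    have h2 := hall N le_rfl
    simpa using h2
  have hfibP : ∀ Q : Place k K, SameImage φ P Q → Q = P := by
    intro Q hQ
    by_contra hne
    obtain ⟨Pinf, hPinf⟩ := exists_not_top hK hn φ hφ j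
    have htop : ∀ Q' : Place k K, SameImage φ P Q' → ∀ i, Q'.1 (φ i) ≤ Q'.1 (φ j) := by
      intro Q' hQ'
      have hQ'' := hQ'
      obtain ⟨j', hj'0, hj'P, hj'Q, -⟩ := hQ''
      have h1 := (hfib Q' hQ' (φ j' / φ j) (Algebra.subset_adjoin (Set.mem_range_self j'))).1
      rw [map_div₀, div_le_one₀ (zero_lt_iff.mpr ((map_ne_zero Q'.1).mpr hj0))] at h1
      intro i
      exact (hj'Q i).trans h1
    have hPinfP : P ≠ Pinf := by
      rintro rfl
      exact hPinf hj
    have hPinfQ : Q ≠ Pinf := by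
      rintro rfl
      exact hPinf (htop Q hQ)
    obtain ⟨z, hzQ, hzS, hzall⟩ := exists_unit_vanishing hK Pinf Q hPinfQ {P}
      (by simpa using hne) (fun _ => 1)
    have hzP : P.1 z < 1 := by
      have h1 := hzS P (Finset.mem_singleton_self P) hPinfP
      refine lt_of_le_of_lt h1 ?_
      rw [← WithZero.exp_zero, WithZero.exp_lt_exp]
      norm_num
    have hzL : LocJ φ j P z := hmain z (fun Q' hQ' => hzall Q' (by
      rintro rfl
      exact hPinf (htop Q' hQ')))
    have h3 := (Groth.Agent.S11078.result k K hK hn φ hφ P Q).mp hQ z (hzL.inLocRing hj0 hj)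
    have h4 : Q.1 z < 1 := h3.2.mpr hzP
    rw [hzQ] at h4
    exact lt_irrefl _ h4
  intro z hz
  exact (hmain z (fun Q hQ => by rw [hfibP Q hQ]; exact hz)).inLocRing hj0 hj

end Groth.Agent.Helper16.Proj
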