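import Groth.Agent.H16.Proj5
set_option autoImplicit false
set_option linter.unusedSimpArgs false

/-! Affine kernel from generators of the homogeneous ideal; tangent functionals at a point. -/

namespace Groth.Agent.Helper16.Proj

open FunFld Module Groth.Agent.Helper17.FF Groth.Agent.Helper16.Emb

variable {k K : Type*} [Field k] [Field K] [Algebra k K]

/-- evaluating a homogeneous polynomial at a rescaled point, in a commutative algebra -/
theorem aeval_smul_of_homogeneous' {σ : Type*} [Fintype σ] {A : Type*} [CommRing A] [Algebra k A]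
    (g : MvPolynomial σ k) {d : ℕ} (hg : g.IsHomogeneous d) (x : σ → A) (c : A) :
    MvPolynomial.aeval (fun i => c * x i) g = c ^ d * MvPolynomial.aeval x g := by
  rw [MvPolynomial.aeval_def, MvPolynomial.aeval_def, MvPolynomial.eval₂_eq', MvPolynomial.eval₂_eq',
    Finset.mul_sum]
  refine Finset.sum_congr rfl (fun m hm => ?_)
  have hdeg : ∑ i, m i = d := by
    have := hg (MvPolynomial.mem_support_iff.mp hm)
    rw [← Finsupp.degree_eq_sum]
    rw [← this]
    exact (Finsupp.degree_eq_weight_one (R := ℕ)) ▸ rfl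
  have e : ∏ i, (c * x i) ^ m i = c ^ d * ∏ i, x i ^ m i := by
    simp only [mul_pow]
    rw [Finset.prod_mul_distrib, Finset.prod_pow_eq_pow_sum, hdeg]
  rw [e]
  ring

/-- the kernel of the affine evaluation is generated by generators of the homogeneous ideal and
`X j - 1` -/
theorem ker_affine_gen {n r : ℕ} (φ : Fin (n + 1) → K)
    (f : Fin r → MvPolynomial (Fin (n + 1)) k)
    (hgen : Ideal.span (Set.range f) =
      RingHom.ker (MvPolynomial.aeval fun i => Polynomial.C (φ i) * Polynomial.X))
    (j : Fin (n + 1)) (hj0 : φ j ≠ 0) (G : MvPolynomial (Fin (n + 1)) k)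
    (hG : MvPolynomial.aeval (fun i => φ i / φ j) G = 0) :
    ∃ (H : Fin r → MvPolynomial (Fin (n + 1)) k) (H' : MvPolynomial (Fin (n + 1)) k),
      G = ∑ i, H i * f i + (MvPolynomial.X j - 1) * H' := by
  classical
  obtain ⟨N, hN⟩ : ∃ N, N = G.totalDegree := ⟨_, rfl⟩
  obtain ⟨G', hG'⟩ : ∃ G' : MvPolynomial (Fin (n + 1)) k, G' = ∑ e ∈ Finset.range (N + 1),
      MvPolynomial.homogeneousComponent e G * MvPolynomial.X j ^ (N - e) := ⟨_, rfl⟩
  have hG'hom : G'.IsHomogeneous N := by
    rw [hG']
    apply MvPolynomial.IsHomogeneous.sum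
    intro e he
    rw [Finset.mem_range] at he
    have h1 := (MvPolynomial.homogeneousComponent_isHomogeneous e G).mul
      (MvPolynomial.isHomogeneous_X_pow (R := k) j (N - e))
    have h2 : e + (N - e) = N := by omega
    rwa [h2] at h1
  have hG'φ : MvPolynomial.aeval φ G' = 0 := by
    have hφe : φ = fun i => φ j * (φ i / φ j) := by
      funext i; field_simp
    have h1 : ∀ e ∈ Finset.range (N + 1),
        MvPolynomial.aeval φ (MvPolynomial.homogeneousComponent e G * MvPolynomial.X j ^ (N - e)) =
        φ j ^ N * MvPolynomial.aeval (fun i => φ i / φ j) (MvPolynomial.homogeneousComponent e G) := by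
      intro e he
      rw [Finset.mem_range] at he
      rw [map_mul, map_pow, MvPolynomial.aeval_X]
      have h3 : MvPolynomial.aeval φ (MvPolynomial.homogeneousComponent e G) =
          φ j ^ e * MvPolynomial.aeval (fun i => φ i / φ j) (MvPolynomial.homogeneousComponent e G) := by
        rw [← aeval_smul_of_homogeneous' _ (MvPolynomial.homogeneousComponent_isHomogeneous e G)]
        rw [← hφe]
      have h2 : φ j ^ N = φ j ^ e * φ j ^ (N - e) := by rw [← pow_add]; congr 1; omega
      rw [h2, h3]
      ring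
    rw [hG', map_sum, Finset.sum_congr rfl h1, ← Finset.mul_sum, ← map_sum, hN,
      MvPolynomial.sum_homogeneousComponent, hG, mul_zero]
  have hG'ker : G' ∈ RingHom.ker (MvPolynomial.aeval (R := k)
      fun i => Polynomial.C (φ i) * (Polynomial.X : Polynomial K)) := by
    rw [RingHom.mem_ker]
    have e1 : (fun i => Polynomial.C (φ i) * (Polynomial.X : Polynomial K)) =
        fun i => Polynomial.X * (algebraMap K (Polynomial K) ∘ φ) i := by
      funext i
      rw [Function.comp_apply, Polynomial.algebraMap_apply, Algebra.algebraMap_self, RingHom.id_apply,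
        mul_comm]
    rw [e1, aeval_smul_of_homogeneous' G' hG'hom, MvPolynomial.aeval_algebraMap_apply, hG'φ,
      map_zero, mul_zero]
  rw [← hgen] at hG'ker
  obtain ⟨H, hH⟩ := (Ideal.mem_span_range_iff_exists_fun).mp hG'ker
  have hdvd : (MvPolynomial.X j - 1 : MvPolynomial (Fin (n + 1)) k) ∣ G - G' := by
    have h1 : G - G' = ∑ e ∈ Finset.range (N + 1),
        MvPolynomial.homogeneousComponent e G * (1 - MvPolynomial.X j ^ (N - e)) := by
      rw [hG']
      simp only [mul_sub, mul_one, Finset.sum_sub_distrib]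
      rw [hN, MvPolynomial.sum_homogeneousComponent]
    rw [h1]
    apply Finset.dvd_sum
    intro e _
    apply Dvd.dvd.mul_left
    have h2 := sub_dvd_pow_sub_pow (MvPolynomial.X j : MvPolynomial (Fin (n + 1)) k) 1 (N - e)
    rw [one_pow] at h2
    have h3 : (1 : MvPolynomial (Fin (n + 1)) k) - MvPolynomial.X j ^ (N - e) =
        -(MvPolynomial.X j ^ (N - e) - 1) := by ring
    rw [h3]
    exact (dvd_neg).mpr h2
  obtain ⟨H', hH'⟩ := hdvd
  refine ⟨H, H', ?_⟩
  rw [hH, ← hH']
  ring

/-- the tangent functional at `γ` in the direction `c` (no component along `X 0`) -/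
noncomputable def Dc {n : ℕ} (γ : Fin (n + 1) → k) (c : Fin n → k)
    (p : MvPolynomial (Fin (n + 1)) k) : k :=
  ∑ l : Fin n, MvPolynomial.eval γ (MvPolynomial.pderiv l.succ p) * c l

theorem Dc_add {n : ℕ} (γ : Fin (n + 1) → k) (c : Fin n → k)
    (p q : MvPolynomial (Fin (n + 1)) k) : Dc γ c (p + q) = Dc γ c p + Dc γ c q := by
  unfold Dc
  rw [← Finset.sum_add_distrib]
  apply Finset.sum_congr rfl
  intro l _
  rw [Derivation.map_add, map_add]; ring

theorem Dc_sub {n : ℕ} (γ : Fin (n + 1) → k) (c : Fin n → k)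
    (p q : MvPolynomial (Fin (n + 1)) k) : Dc γ c (p - q) = Dc γ c p - Dc γ c q := by
  unfold Dc
  rw [← Finset.sum_sub_distrib]
  apply Finset.sum_congr rfl
  intro l _
  rw [Derivation.map_sub, map_sub]; ring

theorem Dc_mul {n : ℕ} (γ : Fin (n + 1) → k) (c : Fin n → k)
    (p q : MvPolynomial (Fin (n + 1)) k) :
    Dc γ c (p * q) = MvPolynomial.eval γ p * Dc γ c q + MvPolynomial.eval γ q * Dc γ c p := by
  unfold Dc
  rw [Finset.mul_sum, Finset.mul_sum, ← Finset.sum_add_distrib]
  apply Finset.sum_congr rfl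
  intro l _
  rw [Derivation.leibniz, smul_eq_mul, smul_eq_mul, map_add, map_mul, map_mul]; ring

theorem Dc_sum {n : ℕ} (γ : Fin (n + 1) → k) (c : Fin n → k) {ι : Type*} (s : Finset ι)
    (p : ι → MvPolynomial (Fin (n + 1)) k) : Dc γ c (∑ i ∈ s, p i) = ∑ i ∈ s, Dc γ c (p i) := by
  classical
  induction s using Finset.induction_on with
  | empty =>
    simp only [Finset.sum_empty]
    unfold Dc
    simp
  | insert a s ha ih => rw [Finset.sum_insert ha, Finset.sum_insert ha, Dc_add, ih]

theorem Dc_X_succ_sub_C {n : ℕ} (γ : Fin (n + 1) → k) (c : Fin n → k) (m : Fin n) (b : k) :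
    Dc γ c (MvPolynomial.X m.succ - MvPolynomial.C b) = c m := by
  classical
  unfold Dc
  rw [Finset.sum_eq_single m]
  · rw [Derivation.map_sub, MvPolynomial.pderiv_X, MvPolynomial.pderiv_C, sub_zero,
      Pi.single_eq_same, map_one, one_mul]
  · intro l _ hl
    rw [Derivation.map_sub, MvPolynomial.pderiv_X, MvPolynomial.pderiv_C, sub_zero,
      Pi.single_eq_of_ne (fun h => hl (Fin.succ_injective _ h).symm), map_zero, zero_mul]
  · intro h; exact absurd (Finset.mem_univ m) h

theorem Dc_X_zero_sub_one {n : ℕ} (γ : Fin (n + 1) → k) (c : Fin n → k) :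
    Dc γ c (MvPolynomial.X 0 - 1) = 0 := by
  classical
  unfold Dc
  apply Finset.sum_eq_zero
  intro l _
  rw [Derivation.map_sub, MvPolynomial.pderiv_X, Derivation.map_one_eq_zero, sub_zero,
    Pi.single_eq_of_ne (Fin.succ_ne_zero l).symm, map_zero, zero_mul]

end Groth.Agent.Helper16.Proj
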