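import Groth.Agent.H16.Proj6
set_option autoImplicit false
set_option linter.unusedSimpArgs false

/-! Jacobian criterion, general case: the kernel of the Jacobian at a nonsingular point is a line. -/

namespace Groth.Agent.Helper16.Proj

open FunFld Module Groth.Agent.Helper17.FF Groth.Agent.Helper16.Emb Groth.Agent.Helper16.Hasse

variable {k K : Type*} [Field k] [Field K] [Algebra k K]

theorem const_of_val_lt (P : Place k K) {c : k} (h : P.1 (algebraMap k K c) < 1) : c = 0 := by
  by_contra hne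
  rw [val_const P hne] at h
  exact lt_irrefl _ h

/-- at a nonsingular point one of the affine coordinates is a local parameter -/
theorem exists_param_coord {n : ℕ} (φ : Fin (n + 1) → K) (P : Place k K) (j : Fin (n + 1))
    (hj0 : φ j ≠ 0) (hj : ∀ i, P.1 (φ i) ≤ P.1 (φ j)) (γ : Fin (n + 1) → k)
    (hγ : ∀ i, P.1 (φ i / φ j - algebraMap k K (γ i)) < 1) (hns : IsNonsingularAt φ P) :
    ∃ a, P.1 (φ a / φ j - algebraMap k K (γ a)) = WithZero.exp (-1 : ℤ) := by
  classical
  obtain ⟨ξ, hξ⟩ : ∃ ξ : Fin (n + 1) → K, ξ = fun l => φ l / φ j - algebraMap k K (γ l) := ⟨_, rfl⟩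
  have hξl : ∀ l, ξ l = φ l / φ j - algebraMap k K (γ l) := fun l => by rw [hξ]
  have hξP : ∀ l, P.1 (ξ l) < 1 := fun l => by rw [hξl]; exact hγ l
  have hξP' : ∀ l, P.1 (ξ l) ≤ WithZero.exp (-1 : ℤ) := by
    intro l
    have h3 : P.1 (ξ l) < WithZero.exp (0 : ℤ) := by rw [WithZero.exp_zero]; exact hξP l
    rw [val_lt_exp_iff_le] at h3
    simpa using h3
  by_contra hno
  push_neg at hno
  have hξ2 : ∀ l, P.1 (ξ l) ≤ WithZero.exp (-2 : ℤ) := by
    intro l
    have h1 : P.1 (ξ l) < WithZero.exp (-1 : ℤ) :=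
      lt_of_le_of_ne (hξP' l) (by rw [hξl]; exact hno l)
    rw [val_lt_exp_iff_le] at h1
    have e : (-1 : ℤ) - 1 = -2 := by norm_num
    rwa [e] at h1
  obtain ⟨t, ht⟩ := P.2.2 (WithZero.exp (-1 : ℤ))
  have htL : LocJ φ j P t := locJ_of_inLocRing hj0 hj
    (hns t (by rw [ht]; exact Groth.Agent.Helper16.Plane.exp_neg_one_le_one))
  obtain ⟨u, hu, h, hh, hhP, hth⟩ := htL
  obtain ⟨c₀, α, hα, eu⟩ := A_decomp φ j γ hu
  have hvd := val_decomp P φ hj γ hγ (c₀ := c₀) hα
  have huP : P.1 u = WithZero.exp (-1 : ℤ) := by rw [← hth, map_mul, hhP, mul_one, ht]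
  have hc₀ : c₀ = 0 := by
    by_contra hne
    have := hvd.2 hne
    rw [← eu, huP] at this
    have h2 : (WithZero.exp (-1 : ℤ) : WithZero (Multiplicative ℤ)) < 1 := by
      rw [← WithZero.exp_zero, WithZero.exp_lt_exp]; norm_num
    rw [this] at h2
    exact lt_irrefl _ h2
  rw [hc₀, map_zero, zero_add] at eu
  have hu2 : P.1 u ≤ WithZero.exp (-2 : ℤ) := by
    rw [eu]
    apply Valuation.map_sum_le
    intro i _
    rw [map_mul, ← hξl]
    calc P.1 (α i) * P.1 (ξ i) ≤ 1 * WithZero.exp (-2 : ℤ) :=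
          mul_le_mul' (A_le_O P φ hj (hα i)) (hξ2 i)
      _ = _ := one_mul _
  rw [huP, WithZero.exp_le_exp] at hu2
  norm_num at hu2

/-- at a nonsingular point, the kernel of the Jacobian matrix is a line -/
theorem jacobian_ker_of_nonsingular [IsAlgClosed k] (hK : IsFunctionField k K) {n r : ℕ}
    (φ : Fin (n + 1) → K) (hφ : LinearIndependent k φ)
    (P : Place k K) (hP : ∀ i, P.1 (φ i) ≤ P.1 (φ 0)) (γ : Fin (n + 1) → k)
    (hγ : ∀ i, P.1 (φ i / φ 0 - algebraMap k K (γ i)) < 1)
    (f : Fin r → MvPolynomial (Fin (n + 1)) k) (d : Fin r → ℕ)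
    (hhom : ∀ i, (f i).IsHomogeneous (d i))
    (hgen : Ideal.span (Set.range f) =
      RingHom.ker (MvPolynomial.aeval fun i => Polynomial.C (φ i) * Polynomial.X))
    (hns : IsNonsingularAt φ P) :
    ∃ e : Fin n → k, e ≠ 0 ∧
      (∀ i, ∑ l : Fin n, MvPolynomial.eval γ (MvPolynomial.pderiv l.succ (f i)) * e l = 0) ∧
      ∀ c : Fin n → k,
        (∀ i, ∑ l : Fin n, MvPolynomial.eval γ (MvPolynomial.pderiv l.succ (f i)) * c l = 0) →
        ∃ μ : k, c = μ • e := by
  classical
  have hφ0 : ∀ i, φ i ≠ 0 := fun i => hφ.ne_zero i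
  have hj0 := hφ0 0
  have hγ0 : γ 0 = 1 := by
    by_contra hne
    have h1 := hγ 0
    rw [div_self hj0] at h1
    have h2 : (1 : K) - algebraMap k K (γ 0) = algebraMap k K (1 - γ 0) := by
      rw [map_sub, map_one]
    rw [h2, val_const P (sub_ne_zero.mpr (Ne.symm hne))] at h1
    exact lt_irrefl _ h1
  obtain ⟨ξ, hξ⟩ : ∃ ξ : Fin (n + 1) → K, ξ = fun l => φ l / φ 0 - algebraMap k K (γ l) := ⟨_, rfl⟩
  have hξl : ∀ l, ξ l = φ l / φ 0 - algebraMap k K (γ l) := fun l => by rw [hξ]
  have hξP : ∀ l, P.1 (ξ l) < 1 := fun l => by rw [hξl]; exact hγ l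
  have hξP' : ∀ l, P.1 (ξ l) ≤ WithZero.exp (-1 : ℤ) := by
    intro l
    have h3 : P.1 (ξ l) < WithZero.exp (0 : ℤ) := by rw [WithZero.exp_zero]; exact hξP l
    rw [val_lt_exp_iff_le] at h3
    simpa using h3
  have hξ0 : ξ 0 = 0 := by rw [hξl, div_self hj0, hγ0, map_one, sub_self]
  -- the ring hom data
  have hfγ : ∀ i, MvPolynomial.eval γ (f i) = 0 := by
    intro i
    have hfφ : MvPolynomial.aeval φ (f i) = 0 := by
      have hmem : f i ∈ RingHom.ker (MvPolynomial.aeval (R := k)
          fun i => Polynomial.C (φ i) * (Polynomial.X : Polynomial K)) := by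
        rw [← hgen]; exact Ideal.subset_span (Set.mem_range_self i)
      rw [RingHom.mem_ker] at hmem
      have e1 : (fun i => Polynomial.C (φ i) * (Polynomial.X : Polynomial K)) =
          fun i => Polynomial.X * (algebraMap K (Polynomial K) ∘ φ) i := by
        funext i
        rw [Function.comp_apply, Polynomial.algebraMap_apply, Algebra.algebraMap_self,
          RingHom.id_apply, mul_comm]
      rw [e1, aeval_smul_of_homogeneous' (f i) (hhom i), MvPolynomial.aeval_algebraMap_apply] at hmem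
      rcases mul_eq_zero.mp hmem with h | h
      · exact absurd (pow_eq_zero_iff'.mp h).1 Polynomial.X_ne_zero
      · exact (Polynomial.C_eq_zero).mp h
    exact (Groth.Agent.Helper16.Plane.taylor_at_point hK φ 0 hj0 P γ hγ (f i) (d i) (hhom i) hfφ).1
  have hfφ : ∀ i, MvPolynomial.aeval φ (f i) = 0 := by
    intro i
    have hmem : f i ∈ RingHom.ker (MvPolynomial.aeval (R := k)
        fun i => Polynomial.C (φ i) * (Polynomial.X : Polynomial K)) := by
      rw [← hgen]; exact Ideal.subset_span (Set.mem_range_self i)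
    rw [RingHom.mem_ker] at hmem
    have e1 : (fun i => Polynomial.C (φ i) * (Polynomial.X : Polynomial K)) =
        fun i => Polynomial.X * (algebraMap K (Polynomial K) ∘ φ) i := by
      funext i
      rw [Function.comp_apply, Polynomial.algebraMap_apply, Algebra.algebraMap_self,
        RingHom.id_apply, mul_comm]
    rw [e1, aeval_smul_of_homogeneous' (f i) (hhom i), MvPolynomial.aeval_algebraMap_apply] at hmem
    rcases mul_eq_zero.mp hmem with h | h
    · exact absurd (pow_eq_zero_iff'.mp h).1 Polynomial.X_ne_zero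
    · exact (Polynomial.C_eq_zero).mp h
  -- uniformizer
  obtain ⟨t, ht⟩ := P.2.2 (WithZero.exp (-1 : ℤ))
  have ht0 : t ≠ 0 := by
    rintro rfl
    rw [map_zero] at ht
    exact WithZero.exp_ne_zero ht.symm
  have htlt : P.1 t < 1 := by
    rw [ht, ← WithZero.exp_zero, WithZero.exp_lt_exp]; norm_num
  obtain ⟨ε, hε⟩ : ∃ ε : Fin n → K, ε = fun l => ξ l.succ / t := ⟨_, rfl⟩
  have hεl : ∀ l, ε l = ξ l.succ / t := fun l => by rw [hε]
  have hεP : ∀ l, P.1 (ε l) ≤ 1 := by
    intro l
    rw [hεl, map_div₀, ht]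
    exact div_le_one_of_le₀ (hξP' l.succ) zero_le
  have hex : ∀ l, ∃ c : k, P.1 (ε l - algebraMap k K c) < 1 := fun l =>
    Groth.Agent.Helper16.LLS.exists_const_sub_lt hK P (hεP l)
  choose e he using hex
  have hevε : ∀ l, evalP P (ε l) = algebraMap k _ (e l) := by
    intro l
    rw [evalP_eq_of_sub_lt P (hεP l) (P.2.1 _) (he l), evalP_algebraMap]
  have hιinj : Function.Injective (algebraMap k (IsLocalRing.ResidueField P.O)) :=
    RingHom.injective _
  refine ⟨e, ?_, ?_, ?_⟩
  · -- e ≠ 0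
    obtain ⟨a, haP⟩ := exists_param_coord φ P 0 hj0 hP γ hγ hns
    rw [← hξl] at haP
    have ha0 : a ≠ 0 := by
      rintro rfl
      rw [hξ0, map_zero] at haP
      exact WithZero.exp_ne_zero haP.symm
    obtain ⟨l, rfl⟩ := Fin.exists_succ_eq.mpr ha0
    intro he0
    have h1 : P.1 (ε l) = 1 := by
      rw [hεl, map_div₀, haP, ht]
      exact div_self WithZero.exp_ne_zero
    have h2 := he l
    rw [he0, Pi.zero_apply, map_zero, sub_zero, h1] at h2
    exact lt_irrefl _ h2
  · -- e in the kernel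
    intro i
    obtain ⟨-, hT, -⟩ :=
      Groth.Agent.Helper16.Plane.taylor_at_point hK φ 0 hj0 P γ hγ (f i) (d i) (hhom i) (hfφ i)
    rw [Fin.sum_univ_succ] at hT
    have e0 : φ 0 / φ 0 - algebraMap k K (γ 0) = 0 := by rw [← hξl, hξ0]
    rw [e0, mul_zero, zero_add] at hT
    have h1 : P.1 (∑ l : Fin n, algebraMap k K (MvPolynomial.eval γ
        (MvPolynomial.pderiv l.succ (f i))) * ε l) < 1 := by
      have e2 : ∑ l : Fin n, algebraMap k K (MvPolynomial.eval γ
          (MvPolynomial.pderiv l.succ (f i))) * ε l =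
          (∑ l : Fin n, algebraMap k K (MvPolynomial.eval γ
            (MvPolynomial.pderiv l.succ (f i))) * (φ l.succ / φ 0 - algebraMap k K (γ l.succ))) / t := by
        rw [Finset.sum_div]
        apply Finset.sum_congr rfl
        intro l _
        rw [hεl, hξl]; ring
      rw [e2, map_div₀, ht]
      rw [div_lt_one₀ (zero_lt_iff.mpr WithZero.exp_ne_zero)]
      refine lt_of_le_of_lt hT ?_
      rw [WithZero.exp_lt_exp]; norm_num
    have h2 := (evalP_eq_zero_iff P (le_of_lt h1)).mpr h1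
    rw [evalP_sum P _ _ (fun l _ => by
      rw [map_mul]
      calc _ ≤ (1 : WithZero (Multiplicative ℤ)) * 1 := mul_le_mul' (P.2.1 _) (hεP l)
        _ = 1 := one_mul _)] at h2
    have h3 : ∀ l ∈ (Finset.univ : Finset (Fin n)),
        evalP P (algebraMap k K (MvPolynomial.eval γ (MvPolynomial.pderiv l.succ (f i))) * ε l) =
        algebraMap k _ (MvPolynomial.eval γ (MvPolynomial.pderiv l.succ (f i)) * e l) := by
      intro l _
      rw [evalP_mul P (P.2.1 _) (hεP l), evalP_algebraMap, hevε, map_mul]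
    rw [Finset.sum_congr rfl h3, ← map_sum] at h2
    exact hιinj (by rw [h2, map_zero])
  · -- the kernel is contained in the line
    intro c hc
    -- the functional kills the affine kernel
    have hDker : ∀ G : MvPolynomial (Fin (n + 1)) k,
        MvPolynomial.aeval (fun i => φ i / φ 0) G = 0 → Dc γ c G = 0 := by
      intro G hG
      obtain ⟨H, H', hGH⟩ := ker_affine_gen φ f hgen 0 hj0 G hG
      rw [hGH, Dc_add, Dc_sum, Dc_mul, Dc_X_zero_sub_one]
      have h1 : ∀ i ∈ (Finset.univ : Finset (Fin r)), Dc γ c (H i * f i) = 0 := by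
        intro i _
        rw [Dc_mul, hfγ i, zero_mul, add_zero]
        have : Dc γ c (f i) = 0 := hc i
        rw [this, mul_zero]
      rw [Finset.sum_eq_zero h1]
      simp only [map_sub, MvPolynomial.eval_X, map_one, hγ0, sub_self, zero_mul, mul_zero, add_zero]
    -- lifts
    have hrange := Algebra.adjoin_range_eq_range_aeval k (fun i => φ i / φ 0)
    obtain ⟨u₀, hu₀, w₀, hw₀, hw₀P, e₀⟩ := locJ_of_inLocRing hj0 hP (hns t (le_of_lt htlt))
    rw [hrange] at hu₀ hw₀
    obtain ⟨U₀, hU₀⟩ := hu₀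
    obtain ⟨W₀, hW₀⟩ := hw₀
    have hU₀' : MvPolynomial.aeval (fun i => φ i / φ 0) U₀ = u₀ := hU₀
    have hW₀' : MvPolynomial.aeval (fun i => φ i / φ 0) W₀ = w₀ := hW₀
    have hloc : ∀ l, LocJ φ 0 P (ε l) := fun l => locJ_of_inLocRing hj0 hP (hns _ (hεP l))
    choose u hu w hw hwP el using hloc
    have hUl : ∀ l, ∃ U : MvPolynomial (Fin (n + 1)) k,
        MvPolynomial.aeval (fun i => φ i / φ 0) U = u l := by
      intro l
      have := hu l
      rw [hrange] at this
      exact this
    have hWl : ∀ l, ∃ W : MvPolynomial (Fin (n + 1)) k,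
        MvPolynomial.aeval (fun i => φ i / φ 0) W = w l := by
      intro l
      have := hw l
      rw [hrange] at this
      exact this
    choose U hU using hUl
    choose W hW using hWl
    -- values at the point
    have hval : ∀ (p : MvPolynomial (Fin (n + 1)) k),
        evalP P (MvPolynomial.aeval (fun i => φ i / φ 0) p) = algebraMap k _ (MvPolynomial.eval γ p) := by
      intro p
      have h1 := val_aeval_sub_lt P p γ (fun i => φ i / φ 0) hγ
      have h2 : P.1 (MvPolynomial.aeval (fun i => φ i / φ 0) p) ≤ 1 := by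
        have : MvPolynomial.aeval (fun i => φ i / φ 0) p =
            (MvPolynomial.aeval (fun i => φ i / φ 0) p - algebraMap k K (MvPolynomial.eval γ p)) +
            algebraMap k K (MvPolynomial.eval γ p) := by ring
        rw [this]
        exact (P.1.map_add _ _).trans (max_le (le_of_lt h1) (P.2.1 _))
      rw [evalP_eq_of_sub_lt P h2 (P.2.1 _) h1, evalP_algebraMap]
    have hW₀γ : MvPolynomial.eval γ W₀ ≠ 0 := by
      intro h0
      have h1 := hval W₀
      rw [hW₀', h0, map_zero, evalP_eq_zero_iff P (le_of_eq hw₀P), hw₀P] at h1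
      exact lt_irrefl _ h1
    have hU₀γ : MvPolynomial.eval γ U₀ = 0 := by
      have h1 := hval U₀
      have h2 : P.1 u₀ < 1 := by rw [← e₀, map_mul, hw₀P, mul_one]; exact htlt
      rw [hU₀', (evalP_eq_zero_iff P (le_of_lt h2)).mpr h2] at h1
      exact hιinj (by rw [← h1, map_zero])
    have hWγ : ∀ l, MvPolynomial.eval γ (W l) ≠ 0 := by
      intro l h0
      have h1 := hval (W l)
      rw [hW l, h0, map_zero, evalP_eq_zero_iff P (le_of_eq (hwP l)), hwP l] at h1
      exact lt_irrefl _ h1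
    have hUγ : ∀ l, e l * MvPolynomial.eval γ (W l) = MvPolynomial.eval γ (U l) := by
      intro l
      have h1 := congrArg (evalP P) (el l)
      rw [evalP_mul P (hεP l) (le_of_eq (hwP l)), hevε, ← hW l, hval, ← hU l, hval, ← map_mul] at h1
      exact hιinj h1
    refine ⟨Dc γ c U₀ / MvPolynomial.eval γ W₀, ?_⟩
    funext l
    rw [Pi.smul_apply, smul_eq_mul]
    have hG : MvPolynomial.aeval (fun i => φ i / φ 0)
        ((MvPolynomial.X l.succ - MvPolynomial.C (γ l.succ)) * (W₀ * W l) - U₀ * U l) = 0 := by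
      rw [map_sub, map_mul, map_mul, map_mul, map_sub, MvPolynomial.aeval_X, MvPolynomial.aeval_C,
        hW₀', hU₀', hW l, hU l, ← hξl, ← e₀, ← el l, hεl]
      field_simp
      ring
    have hD := hDker _ hG
    rw [Dc_sub, Dc_mul, Dc_mul γ c U₀, Dc_X_succ_sub_C, hU₀γ, zero_mul, zero_add] at hD
    simp only [map_sub, MvPolynomial.eval_X, MvPolynomial.eval_C, sub_self, zero_mul, zero_add,
      map_mul] at hD
    -- hD : W₀γ * Wlγ * c l - Ulγ * Dc U₀ = 0
    have hWl := hWγ l
    rw [← hUγ l] at hD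
    have h5 : MvPolynomial.eval γ W₀ * c l - e l * Dc γ c U₀ = 0 := by
      have h6 : MvPolynomial.eval γ (W l) * (MvPolynomial.eval γ W₀ * c l - e l * Dc γ c U₀) = 0 := by
        linear_combination hD
      rcases mul_eq_zero.mp h6 with h | h
      · exact absurd h hWl
      · exact h
    rw [div_mul_eq_mul_div, eq_div_iff hW₀γ]
    linear_combination h5

end Groth.Agent.Helper16.Proj
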