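import Groth.Agent.H16.Proj7
set_option autoImplicit false
set_option linter.unusedSimpArgs false

/-! Jacobian criterion, general case: if the row space of the Jacobian is a hyperplane, the point is
nonsingular. -/

namespace Groth.Agent.Helper16.Proj

open FunFld Module Groth.Agent.Helper17.FF Groth.Agent.Helper16.Emb Groth.Agent.Helper16.Hasse

variable {k K : Type*} [Field k] [Field K] [Algebra k K]

theorem nonsingular_of_jacobian_rows [IsAlgClosed k] (hK : IsFunctionField k K) {n r : ℕ}
    (hn : 1 ≤ n) (φ : Fin (n + 1) → K) (hφ : LinearIndependent k φ)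
    (hbir : IntermediateField.adjoin k (Set.range fun i => φ i / φ 0) = ⊤)
    (P : Place k K) (hP : ∀ i, P.1 (φ i) ≤ P.1 (φ 0)) (γ : Fin (n + 1) → k)
    (hγ : ∀ i, P.1 (φ i / φ 0 - algebraMap k K (γ i)) < 1)
    (f : Fin r → MvPolynomial (Fin (n + 1)) k) (d : Fin r → ℕ)
    (hhom : ∀ i, (f i).IsHomogeneous (d i)) (hfφ : ∀ i, MvPolynomial.aeval φ (f i) = 0)
    (c : Fin n → k) (l₀ : Fin n) (hc0 : c l₀ ≠ 0)
    (hrow : ∀ lam : Fin n → k, (∑ l, lam l * c l = 0) → ∃ b : Fin r → k,
      ∀ m, lam m = ∑ i, b i * MvPolynomial.eval γ (MvPolynomial.pderiv m.succ (f i))) :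
    IsNonsingularAt φ P := by
  classical
  have hφ0 : ∀ i, φ i ≠ 0 := fun i => hφ.ne_zero i
  have hj0 := hφ0 0
  have hγ0 : γ 0 = 1 := by
    by_contra hne
    have h1 := hγ 0
    rw [div_self hj0] at h1
    have h2 : (1 : K) - algebraMap k K (γ 0) = algebraMap k K (1 - γ 0) := by
      rw [map_sub, map_one]
    rw [h2, val_const P (sub_ne_zero.mpr (Ne.symm hne))] at h1
    exact lt_irrefl _ h1
  -- the affine ring
  obtain ⟨S, hS⟩ : ∃ S : Subalgebra k K, S = Algebra.adjoin k (Set.range fun i => φ i / φ 0) :=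
    ⟨_, rfl⟩
  have hxS : ∀ l, φ l / φ 0 ∈ S := fun l => by
    rw [hS]; exact Algebra.subset_adjoin (Set.mem_range_self l)
  obtain ⟨ξ', hξ'⟩ : ∃ ξ' : Fin (n + 1) → S,
      ξ' = fun l => (⟨φ l / φ 0, hxS l⟩ : S) - algebraMap k S (γ l) := ⟨_, rfl⟩
  have hξ'c : ∀ l, ((ξ' l : S) : K) = φ l / φ 0 - algebraMap k K (γ l) := by
    intro l
    rw [hξ']
    simp only [Subalgebra.coe_sub, Subalgebra.coe_algebraMap]
  have hξ'0 : ξ' 0 = 0 := by
    apply Subtype.ext
    rw [hξ'c, div_self hj0, hγ0, map_one, sub_self]; rfl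
  have hE : ∀ i, ∑ m : Fin n, algebraMap k S (MvPolynomial.eval γ
      (MvPolynomial.pderiv m.succ (f i))) * ξ' m.succ ∈ (Ideal.span (Set.range ξ')) ^ 2 := by
    intro i
    have hsum0 : MvPolynomial.aeval (fun l => algebraMap k S (γ l) + ξ' l) (f i) = 0 := by
      apply Subtype.ext
      rw [← Subalgebra.coe_val, MvPolynomial.comp_aeval_apply]
      have e1 : (fun i => S.val (algebraMap k S (γ i) + ξ' i)) = fun i => (φ 0)⁻¹ * φ i := by
        funext i
        rw [map_add, Subalgebra.coe_val]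
        rw [hξ'c, Subalgebra.coe_algebraMap]
        rw [div_eq_inv_mul]; ring
      rw [e1, aeval_smul_of_homogeneous (f i) (hhom i) φ, hfφ i, mul_zero]
      rfl
    have hf0 := (Groth.Agent.Helper16.Plane.taylor_at_point hK φ 0 hj0 P γ hγ (f i) (d i)
      (hhom i) (hfφ i)).1
    have hT := taylor_ideal (A := S) (f i) γ ξ'
    rw [hsum0, hf0, map_zero, sub_zero, zero_sub] at hT
    have h1 := (Submodule.neg_mem_iff _).mp hT
    rw [Fin.sum_univ_succ, hξ'0, mul_zero, zero_add] at h1
    exact h1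
  -- each coordinate is a multiple of the distinguished one modulo the square
  have hy : ∀ l : Fin n, ξ' l.succ - algebraMap k S (c l / c l₀) * ξ' l₀.succ ∈
      (Ideal.span (Set.range ξ')) ^ 2 := by
    intro l
    obtain ⟨b, hb⟩ := hrow (fun m => (if m = l then 1 else 0) - (c l / c l₀) * (if m = l₀ then 1 else 0))
      (by
        simp only [sub_mul, Finset.sum_sub_distrib, ite_mul, one_mul, zero_mul, mul_ite, mul_one,
          mul_zero, Finset.sum_ite_eq', Finset.mem_univ, if_true]
        field_simp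
        ring)
    have e1 : ξ' l.succ - algebraMap k S (c l / c l₀) * ξ' l₀.succ =
        ∑ i, algebraMap k S (b i) * ∑ m : Fin n, algebraMap k S (MvPolynomial.eval γ
          (MvPolynomial.pderiv m.succ (f i))) * ξ' m.succ := by
      simp only [Finset.mul_sum]
      rw [Finset.sum_comm]
      have e2 : ∀ m ∈ (Finset.univ : Finset (Fin n)),
          ∑ i, algebraMap k S (b i) * (algebraMap k S (MvPolynomial.eval γ
            (MvPolynomial.pderiv m.succ (f i))) * ξ' m.succ) =
          algebraMap k S ((if m = l then 1 else 0) - (c l / c l₀) * (if m = l₀ then 1 else 0)) *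
            ξ' m.succ := by
        intro m _
        rw [hb m, map_sum, Finset.sum_mul]
        apply Finset.sum_congr rfl
        intro i _
        rw [map_mul]; ring
      rw [Finset.sum_congr rfl e2]
      simp only [map_sub, map_mul, sub_mul, Finset.sum_sub_distrib]
      have e3 : ∀ (q : Fin n) (z : k), ∑ m : Fin n, algebraMap k S (if m = q then 1 else 0) * ξ' m.succ =
          ξ' q.succ := by
        intro q _
        rw [Finset.sum_eq_single q]
        · rw [if_pos rfl, map_one, one_mul]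
        · intro m _ hm; rw [if_neg hm, map_zero, zero_mul]
        · intro h; exact absurd (Finset.mem_univ q) h
      rw [e3 l 0]
      congr 1
      simp only [mul_assoc]
      rw [← Finset.mul_sum, e3 l₀ 0]
    rw [e1]
    apply Ideal.sum_mem
    intro i _
    exact Ideal.mul_mem_left _ _ (hE i)
  have hdec : ∀ l : Fin n, ∃ s : Fin (n + 1) → S, (∀ m, s m ∈ Ideal.span (Set.range ξ')) ∧
      ξ' l.succ - algebraMap k S (c l / c l₀) * ξ' l₀.succ = ∑ m, ξ' m * s m :=
    fun l => exists_of_mem_sq ξ' (hy l)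
  choose s hsJ hs using hdec
  -- the matrix
  obtain ⟨A, hA⟩ : ∃ A : Matrix (Fin n) (Fin n) S,
      A = fun l m => (if l = m then 1 else 0) - s l m.succ := ⟨_, rfl⟩
  obtain ⟨X, hX⟩ : ∃ X : Fin n → S, X = fun m => ξ' m.succ := ⟨_, rfl⟩
  obtain ⟨κ, hκ⟩ : ∃ κ : Fin n → S, κ = fun l => algebraMap k S (c l / c l₀) := ⟨_, rfl⟩
  have hAX : A.mulVec X = ξ' l₀.succ • κ := by
    funext l
    rw [Matrix.mulVec, dotProduct, hA, hX, hκ, Pi.smul_apply, smul_eq_mul]
    simp only [sub_mul, Finset.sum_sub_distrib, ite_mul, one_mul, zero_mul, Finset.sum_ite_eq,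
      Finset.mem_univ, if_true]
    have h1 := hs l
    rw [Fin.sum_univ_succ, hξ'0, zero_mul, zero_add] at h1
    have h2 : ∑ m : Fin n, s l m.succ * ξ' m.succ = ∑ m : Fin n, ξ' m.succ * s l m.succ :=
      Finset.sum_congr rfl (fun m _ => mul_comm _ _)
    rw [h2, ← h1]
    ring
  have hdet : A.det • X = ξ' l₀.succ • (A.adjugate.mulVec κ) := by
    have h1 : A.adjugate.mulVec (A.mulVec X) = A.det • X := by
      rw [Matrix.mulVec_mulVec, Matrix.adjugate_mul, Matrix.smul_mulVec, Matrix.one_mulVec]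
    rw [← h1, hAX, Matrix.mulVec_smul]
  have hJP : ∀ y : S, y ∈ Ideal.span (Set.range ξ') → P.1 (y : K) < 1 := by
    intro y hy
    obtain ⟨c', rfl⟩ := Ideal.mem_span_range_iff_exists_fun.mp hy
    rw [AddSubmonoidClass.coe_finset_sum]
    apply Valuation.map_sum_lt _ one_ne_zero
    intro l _
    rw [Subalgebra.coe_mul, map_mul, hξ'c]
    have hcl : ((c' l : S) : K) ∈ Algebra.adjoin k (Set.range fun i => φ i / φ 0) := by
      rw [← hS]; exact Subtype.property _
    calc P.1 ((c' l : S) : K) * P.1 (φ l / φ 0 - algebraMap k K (γ l))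
        ≤ 1 * P.1 (φ l / φ 0 - algebraMap k K (γ l)) := mul_le_mul' (A_le_O P φ hP hcl) le_rfl
      _ = _ := one_mul _
      _ < 1 := hγ l
  have hdetJ : A.det - 1 ∈ Ideal.span (Set.range ξ') := by
    rw [← Ideal.Quotient.eq_zero_iff_mem, map_sub, map_one, RingHom.map_det]
    have h1 : (Ideal.Quotient.mk (Ideal.span (Set.range ξ'))).mapMatrix A = 1 := by
      ext l m
      rw [RingHom.mapMatrix_apply, Matrix.map_apply, hA]
      simp only [map_sub]
      rw [Ideal.Quotient.eq_zero_iff_mem.mpr (hsJ l m.succ), sub_zero, Matrix.one_apply]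
      split_ifs <;> simp
    rw [h1, Matrix.det_one, sub_self]
  have hwP : P.1 ((A.det : S) : K) = 1 := by
    have h1 := hJP _ hdetJ
    rw [Subalgebra.coe_sub, Subalgebra.coe_one] at h1
    have h2 : ((A.det : S) : K) = 1 + (((A.det : S) : K) - 1) := by ring
    rw [h2, Valuation.map_add_eq_of_lt_left, map_one]
    rw [map_one]; exact h1
  -- apply the principal ideal criterion
  refine nonsingular_of_principal hK hn φ hφ hbir P 0 hP γ hγ l₀.succ (Fin.succ_ne_zero l₀)
    ((A.det : S) : K) (by rw [← hS]; exact Subtype.property _) hwP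
    (fun l => ((Fin.cases (0 : S) (fun m => A.adjugate.mulVec κ m) l : S) : K))
    (fun l => by rw [← hS]; exact Subtype.property _) ?_
  intro l
  refine Fin.cases ?_ (fun m => ?_) l
  · rw [← hξ'c, hξ'0]
    simp
  · have h1 := congrFun hdet m
    rw [Pi.smul_apply, Pi.smul_apply, smul_eq_mul, smul_eq_mul, hX] at h1
    have h2 := congrArg (fun y : S => (y : K)) h1
    simp only [Subalgebra.coe_mul] at h2
    rw [hξ'c, hξ'c] at h2
    simp only [Fin.cases_succ]
    rw [mul_comm, h2]

end Groth.Agent.Helper16.Proj
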