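import Groth.Agent.H16.Proj8
set_option autoImplicit false
set_option linter.unusedSimpArgs false

/-! Jacobian criterion, general case: final form. -/

namespace Groth.Agent.Helper16.Proj

open FunFld Module Groth.Agent.Helper17.FF Groth.Agent.Helper16.Emb Groth.Agent.Helper16.Hasse

variable {k K : Type*} [Field k] [Field K] [Algebra k K]

theorem evalP_aeval {σ : Type*} (P : Place k K) (p : MvPolynomial σ k) (γ : σ → k) (x : σ → K)
    (hx : ∀ l, P.1 (x l - algebraMap k K (γ l)) < 1) :
    P.1 (MvPolynomial.aeval x p) ≤ 1 ∧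
    evalP P (MvPolynomial.aeval x p) = algebraMap k _ (MvPolynomial.eval γ p) := by
  have h1 := val_aeval_sub_lt P p γ x hx
  have h2 : P.1 (MvPolynomial.aeval x p) ≤ 1 := by
    have : MvPolynomial.aeval x p =
        (MvPolynomial.aeval x p - algebraMap k K (MvPolynomial.eval γ p)) +
        algebraMap k K (MvPolynomial.eval γ p) := by ring
    rw [this]
    exact (P.1.map_add _ _).trans (max_le (le_of_lt h1) (P.2.1 _))
  refine ⟨h2, ?_⟩
  rw [evalP_eq_of_sub_lt P h2 (P.2.1 _) h1, evalP_algebraMap]

theorem aeval_eq_zero_of_mem_ker {n : ℕ} (φ : Fin (n + 1) → K) (g : MvPolynomial (Fin (n + 1)) k)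
    {d : ℕ} (hg : g.IsHomogeneous d)
    (hmem : g ∈ RingHom.ker (MvPolynomial.aeval (R := k)
      fun i => Polynomial.C (φ i) * (Polynomial.X : Polynomial K))) :
    MvPolynomial.aeval φ g = 0 := by
  rw [RingHom.mem_ker] at hmem
  have e1 : (fun i => Polynomial.C (φ i) * (Polynomial.X : Polynomial K)) =
      fun i => Polynomial.X * (algebraMap K (Polynomial K) ∘ φ) i := by
    funext i
    rw [Function.comp_apply, Polynomial.algebraMap_apply, Algebra.algebraMap_self,
      RingHom.id_apply, mul_comm]
  rw [e1, aeval_smul_of_homogeneous' g hg, MvPolynomial.aeval_algebraMap_apply] at hmem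
  rcases mul_eq_zero.mp hmem with h | h
  · exact absurd (pow_eq_zero_iff'.mp h).1 Polynomial.X_ne_zero
  · exact (Polynomial.C_eq_zero).mp h

theorem jacobian_criterion [IsAlgClosed k] (hK : IsFunctionField k K) {n : ℕ} (hn : 1 ≤ n)
    (φ : Fin (n + 1) → K) (hφ : LinearIndependent k φ)
    (hbir : IntermediateField.adjoin k (Set.range fun i => φ i / φ 0) = ⊤)
    (P : Place k K) (hP : ∀ i, P.1 (φ i) ≤ P.1 (φ 0)) {r : ℕ}
    (f : Fin r → MvPolynomial (Fin (n + 1)) k)
    (hhom : ∀ i, (f i).IsHomogeneous (f i).totalDegree)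
    (hgen : Ideal.span (Set.range f) =
      RingHom.ker (MvPolynomial.aeval fun i => Polynomial.C (φ i) * Polynomial.X))
    (M : Matrix (Fin r) (Fin n) P.O)
    (hM : ∀ i j, ((M i j : P.O) : K) =
      MvPolynomial.aeval (fun l => φ l / φ 0) (MvPolynomial.pderiv j.succ (f i))) :
    IsNonsingularAt φ P ↔ (M.map (IsLocalRing.residue P.O)).rank = n - 1 := by
  classical
  have hφ0 : ∀ i, φ i ≠ 0 := fun i => hφ.ne_zero i
  obtain ⟨γ, hγ⟩ := Groth.Agent.Helper16.Plane.exists_point hK φ 0 (hφ0 0) P hP
  have hfφ : ∀ i, MvPolynomial.aeval φ (f i) = 0 := fun i =>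
    aeval_eq_zero_of_mem_ker φ (f i) (hhom i) (by
      rw [← hgen]; exact Ideal.subset_span (Set.mem_range_self i))
  obtain ⟨ι, hι⟩ : ∃ ι : k →+* IsLocalRing.ResidueField P.O,
      ι = algebraMap k (IsLocalRing.ResidueField P.O) := ⟨_, rfl⟩
  have hιbij : Function.Bijective ι := by rw [hι]; exact algebraMap_bijective hK P
  obtain ⟨J, hJ⟩ : ∃ J : Matrix (Fin r) (Fin n) k,
      J = fun i j => MvPolynomial.eval γ (MvPolynomial.pderiv j.succ (f i)) := ⟨_, rfl⟩
  obtain ⟨JF, hJF⟩ : ∃ JF : Matrix (Fin r) (Fin n) (IsLocalRing.ResidueField P.O),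
      JF = M.map (IsLocalRing.residue P.O) := ⟨_, rfl⟩
  rw [← hJF]
  have hJFJ : ∀ i j, JF i j = ι (J i j) := by
    intro i j
    rw [hJF, Matrix.map_apply, hJ, hι]
    have h1 := evalP_aeval P (MvPolynomial.pderiv j.succ (f i)) γ (fun l => φ l / φ 0) hγ
    rw [← h1.2, evalP_of_le P h1.1]
    congr 1
    exact Subtype.ext (hM i j)
  have hmv : ∀ (c : Fin n → k) (i : Fin r), (JF.mulVec (fun l => ι (c l))) i = ι (∑ l, J i l * c l) := by
    intro c i
    rw [Matrix.mulVec, dotProduct, map_sum]
    apply Finset.sum_congr rfl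
    intro l _
    rw [hJFJ, map_mul]
  have hpull : ∀ c' : Fin n → IsLocalRing.ResidueField P.O, ∃ c : Fin n → k, c' = fun l => ι (c l) := by
    intro c'
    choose c hc using fun l => hιbij.2 (c' l)
    exact ⟨c, funext fun l => (hc l).symm⟩
  have hrn := LinearMap.finrank_range_add_finrank_ker JF.mulVecLin
  rw [Module.finrank_fin_fun] at hrn
  have hrank : JF.rank = finrank (IsLocalRing.ResidueField P.O) (LinearMap.range JF.mulVecLin) := rfl
  constructor
  · intro hns
    obtain ⟨e, he0, heker, hespan⟩ := jacobian_ker_of_nonsingular hK φ hφ P hP γ hγ f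
      (fun i => (f i).totalDegree) hhom hgen hns
    have hkerspan : LinearMap.ker JF.mulVecLin =
        Submodule.span (IsLocalRing.ResidueField P.O) {fun l => ι (e l)} := by
      apply le_antisymm
      · intro c' hc'
        rw [LinearMap.mem_ker, Matrix.mulVecLin_apply] at hc'
        obtain ⟨c, rfl⟩ := hpull c'
        have h1 : ∀ i, ∑ l, J i l * c l = 0 := by
          intro i
          have := congrFun hc' i
          rw [hmv, Pi.zero_apply] at this
          exact hιbij.1 (by rw [this, map_zero])
        obtain ⟨μ, hμ⟩ := hespan c (by intro i; have := h1 i; rw [hJ] at this; exact this)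
        rw [Submodule.mem_span_singleton]
        refine ⟨ι μ, ?_⟩
        funext l
        rw [Pi.smul_apply, smul_eq_mul, hμ, Pi.smul_apply, smul_eq_mul, map_mul]
      · rw [Submodule.span_singleton_le_iff_mem, LinearMap.mem_ker, Matrix.mulVecLin_apply]
        funext i
        rw [hmv, Pi.zero_apply]
        have := heker i
        rw [hJ]
        simp only
        rw [this, map_zero]
    have hne : (fun l => ι (e l)) ≠ (0 : Fin n → IsLocalRing.ResidueField P.O) := by
      intro h0
      apply he0
      funext l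
      have := congrFun h0 l
      rw [Pi.zero_apply] at this
      show e l = 0
      exact hιbij.1 (by rw [this, map_zero])
    rw [hkerspan, finrank_span_singleton hne] at hrn
    rw [hrank]
    omega
  · intro hr
    rw [hrank] at hr
    have hker1 : finrank (IsLocalRing.ResidueField P.O) (LinearMap.ker JF.mulVecLin) = 1 := by omega
    obtain ⟨⟨c', hc'ker⟩, hc'0, hc'span⟩ := finrank_eq_one_iff'.mp hker1
    have hc'0' : c' ≠ 0 := fun h => hc'0 (Subtype.ext h)
    obtain ⟨c, rfl⟩ := hpull c'
    rw [LinearMap.mem_ker, Matrix.mulVecLin_apply] at hc'ker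
    have hcne : ∃ l₀, c l₀ ≠ 0 := by
      by_contra hno
      push_neg at hno
      apply hc'0'
      funext l
      rw [hno l, map_zero]; rfl
    obtain ⟨l₀, hl₀⟩ := hcne
    -- the row space is the hyperplane orthogonal to c
    obtain ⟨ℓ, hℓ⟩ : ∃ ℓ : (Fin n → IsLocalRing.ResidueField P.O) →ₗ[IsLocalRing.ResidueField P.O]
        IsLocalRing.ResidueField P.O, ∀ lam, ℓ lam = ∑ l, lam l * ι (c l) :=
      ⟨{ toFun := fun lam => ∑ l, lam l * ι (c l)
         map_add' := by
           intro a b
           rw [← Finset.sum_add_distrib]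
           apply Finset.sum_congr rfl
           intro l _
           rw [Pi.add_apply]; ring
         map_smul' := by
           intro a b
           rw [RingHom.id_apply, smul_eq_mul, Finset.mul_sum]
           apply Finset.sum_congr rfl
           intro l _
           rw [Pi.smul_apply, smul_eq_mul]; ring }, fun lam => rfl⟩
    have hℓsurj : Function.Surjective ℓ := by
      intro y
      refine ⟨fun l => if l = l₀ then y / ι (c l₀) else 0, ?_⟩
      rw [hℓ, Finset.sum_eq_single l₀]
      · rw [if_pos rfl]
        have : ι (c l₀) ≠ 0 := fun h => hl₀ (hιbij.1 (by rw [h, map_zero]))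
        field_simp
      · intro l _ hl; rw [if_neg hl, zero_mul]
      · intro h; exact absurd (Finset.mem_univ l₀) h
    have hℓrn := LinearMap.finrank_range_add_finrank_ker ℓ
    rw [Module.finrank_fin_fun, LinearMap.range_eq_top.mpr hℓsurj, finrank_top,
      Module.finrank_self] at hℓrn
    have hrowle : Submodule.span (IsLocalRing.ResidueField P.O) (Set.range JF.row) ≤
        LinearMap.ker ℓ := by
      rw [Submodule.span_le]
      rintro _ ⟨i, rfl⟩
      rw [SetLike.mem_coe, LinearMap.mem_ker, hℓ]
      have := congrFun hc'ker i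
      rw [Pi.zero_apply, Matrix.mulVec, dotProduct] at this
      exact this
    have hroweq : Submodule.span (IsLocalRing.ResidueField P.O) (Set.range JF.row) =
        LinearMap.ker ℓ := by
      apply Submodule.eq_of_le_of_finrank_eq hrowle
      rw [← Matrix.rank_eq_finrank_span_row, hrank]
      omega
    apply nonsingular_of_jacobian_rows hK hn φ hφ hbir P hP γ hγ f (fun i => (f i).totalDegree)
      hhom hfφ c l₀ hl₀
    intro lam hlam
    have hmem : (fun l => ι (lam l)) ∈ LinearMap.ker ℓ := by
      rw [LinearMap.mem_ker, hℓ]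
      have : ∑ l, ι (lam l) * ι (c l) = ι (∑ l, lam l * c l) := by
        rw [map_sum]
        apply Finset.sum_congr rfl
        intro l _
        rw [map_mul]
      rw [this, hlam, map_zero]
    rw [← hroweq, Submodule.mem_span_range_iff_exists_fun] at hmem
    obtain ⟨β, hβ⟩ := hmem
    choose b hb using fun i => hιbij.2 (β i)
    refine ⟨b, fun m => ?_⟩
    apply hιbij.1
    have h1 := congrFun hβ m
    rw [Finset.sum_apply] at h1
    rw [← h1, map_sum]
    apply Finset.sum_congr rfl
    intro i _
    rw [Pi.smul_apply, smul_eq_mul, ← hb i, map_mul]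
    congr 1
    have := hJFJ i m
    rw [hJ] at this
    exact this

end Groth.Agent.Helper16.Proj
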