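import Mathlib
set_option autoImplicit false
set_option linter.unusedSimpArgs false

/-! Power sums: a bound `|∑ βᵢⁿ| ≤ C sⁿ` for all `n ≥ 1` forces `|βᵢ| ≤ s`. -/

namespace Groth.Agent.Helper16.RH

open Finset

/-- Newton's identity in range form, evaluated -/
theorem newton_eval {m : ℕ} (β : Fin m → ℂ) (k : ℕ) :
    (k : ℂ) * (univ.val.map β).esymm k =
      (-1) ^ (k + 1) * ∑ i ∈ range k, (-1) ^ i * (univ.val.map β).esymm i * ∑ j, β j ^ (k - i) := by
  classical
  have h := congrArg (MvPolynomial.aeval β) (MvPolynomial.mul_esymm_eq_sum (Fin m) ℂ k)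
  rw [map_mul, map_natCast, MvPolynomial.aeval_esymm_eq_multiset_esymm, map_mul, map_pow, map_neg,
    map_one, map_sum] at h
  rw [h]
  congr 1
  rw [Finset.sum_filter, Finset.Nat.sum_antidiagonal_eq_sum_range_succ_mk, Finset.sum_range_succ]
  simp only [lt_self_iff_false, if_false, add_zero]
  refine Finset.sum_congr rfl fun i hi => ?_
  rw [if_pos (Finset.mem_range.mp hi), map_mul, map_mul, map_pow, map_neg, map_one,
    MvPolynomial.aeval_esymm_eq_multiset_esymm]
  congr 1
  simp [MvPolynomial.psum]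

theorem esymm_zero' {R : Type*} [CommSemiring R] (s : Multiset R) : s.esymm 0 = 1 := by
  simp [Multiset.esymm, Multiset.powersetCard_zero_left]

/-- bound on the elementary symmetric functions from a bound on the power sums -/
theorem esymm_bound {m : ℕ} (β : Fin m → ℂ) (C s : ℝ) (hs : 0 < s) (hC : 0 ≤ C)
    (h : ∀ n : ℕ, 1 ≤ n → ‖∑ i, β i ^ n‖ ≤ C * s ^ n) (k : ℕ) :
    ‖(univ.val.map β).esymm k‖ ≤ ((1 + C) * s) ^ k := by
  classical
  induction k using Nat.strong_induction_on with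
  | _ k ih =>
    rcases Nat.eq_zero_or_pos k with rfl | hk
    · rw [esymm_zero', norm_one, pow_zero]
    have hN := newton_eval β k
    have hA : (1 : ℝ) ≤ 1 + C := by linarith
    have hAs : 0 ≤ (1 + C) * s := by positivity
    have h1 : (k : ℝ) * ‖(univ.val.map β).esymm k‖ ≤
        ∑ i ∈ range k, ((1 + C) * s) ^ i * (C * s ^ (k - i)) := by
      have e : (k : ℝ) * ‖(univ.val.map β).esymm k‖ = ‖(k : ℂ) * (univ.val.map β).esymm k‖ := by
        rw [norm_mul, Complex.norm_natCast]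
      rw [e, hN, norm_mul, norm_pow, norm_neg, norm_one, one_pow, one_mul]
      refine (norm_sum_le _ _).trans (Finset.sum_le_sum fun i hi => ?_)
      have hik : i < k := Finset.mem_range.mp hi
      rw [norm_mul, norm_mul, norm_pow, norm_neg, norm_one, one_pow, one_mul]
      exact mul_le_mul (ih i hik) (h (k - i) (by omega)) (norm_nonneg _) (pow_nonneg hAs _)
    have h2 : ∑ i ∈ range k, ((1 + C) * s) ^ i * (C * s ^ (k - i)) =
        s ^ k * ((1 + C) ^ k - 1) := by
      have e1 : ∀ i ∈ range k, ((1 + C) * s) ^ i * (C * s ^ (k - i)) =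
          (s ^ k * C) * (1 + C) ^ i := by
        intro i hi
        have hik : i < k := Finset.mem_range.mp hi
        have e2 : s ^ k = s ^ i * s ^ (k - i) := by rw [← pow_add]; congr 1; omega
        rw [e2, mul_pow]; ring
      rw [Finset.sum_congr rfl e1, ← Finset.mul_sum]
      have e3 := geom_sum_mul (1 + C) k
      have e4 : (1 + C - 1) = C := by ring
      rw [e4] at e3
      rw [mul_assoc, mul_comm C, e3]
    rw [h2] at h1
    have h3 : s ^ k * ((1 + C) ^ k - 1) ≤ ((1 + C) * s) ^ k := by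
      rw [mul_pow]
      have : 0 ≤ s ^ k := by positivity
      nlinarith
    have hk1 : (1 : ℝ) ≤ k := by exact_mod_cast hk
    have hnn : 0 ≤ ‖(univ.val.map β).esymm k‖ := norm_nonneg _
    nlinarith

/-- crude bound on the roots -/
theorem root_bound {m : ℕ} (β : Fin m → ℂ) (C s : ℝ) (hs : 0 < s) (hC : 0 ≤ C)
    (h : ∀ n : ℕ, 1 ≤ n → ‖∑ i, β i ^ n‖ ≤ C * s ^ n) (i : Fin m) :
    ‖β i‖ ≤ ((m : ℝ) + 1) * ((1 + C) * s) := by
  classical
  by_contra hcon
  push Not at hcon
  obtain ⟨A, hA⟩ : ∃ A : ℝ, A = (1 + C) * s := ⟨_, rfl⟩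
  rw [← hA] at hcon
  have hA0 : 0 < A := by rw [hA]; positivity
  obtain ⟨b, hb⟩ : ∃ b : ℝ, b = ‖β i‖ := ⟨_, rfl⟩
  rw [← hb] at hcon
  have hb0 : 0 < b := lt_trans (by positivity) hcon
  have hm1 : (0 : ℝ) < (m : ℝ) + 1 := by positivity
  -- the polynomial identity
  have hV := Multiset.prod_X_sub_X_eq_sum_esymm (univ.val.map β)
  have hcard : Multiset.card (univ.val.map β) = m := by simp
  rw [hcard] at hV
  have hroot : Polynomial.eval (β i) ((univ.val.map β).map fun t => Polynomial.X - Polynomial.C t).prod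
      = 0 := by
    rw [Polynomial.eval_multiset_prod, Multiset.prod_eq_zero_iff]
    simp only [Multiset.map_map, Multiset.mem_map, Function.comp_apply]
    exact ⟨i, Finset.mem_univ_val i, by simp⟩
  rw [hV, Polynomial.eval_finsetSum, Finset.sum_range_succ'] at hroot
  simp only [Polynomial.eval_mul, Polynomial.eval_pow, Polynomial.eval_neg, Polynomial.eval_one,
    Polynomial.eval_C, Polynomial.eval_X, pow_zero, esymm_zero', one_mul, Nat.sub_zero]
    at hroot
  -- `β^m = - ∑ ...`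
  have hnorm : b ^ m ≤ ∑ j ∈ range m, A ^ (j + 1) * b ^ (m - (j + 1)) := by
    have e : β i ^ m = -∑ j ∈ range m,
        (-1) ^ (j + 1) * ((univ.val.map β).esymm (j + 1) * β i ^ (m - (j + 1))) := by
      rw [eq_neg_iff_add_eq_zero, add_comm]; exact hroot
    have e2 : b ^ m = ‖β i ^ m‖ := by rw [norm_pow, hb]
    rw [e2, e, norm_neg]
    refine (norm_sum_le _ _).trans (Finset.sum_le_sum fun j _ => ?_)
    rw [norm_mul, norm_pow, norm_neg, norm_one, one_pow, one_mul, norm_mul, norm_pow, ← hb]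
    have h4 := esymm_bound β C s hs hC h (j + 1)
    rw [← hA] at h4
    exact mul_le_mul_of_nonneg_right h4 (by positivity)
  have hterm : ∀ j ∈ range m, A ^ (j + 1) * b ^ (m - (j + 1)) ≤ b ^ m / ((m : ℝ) + 1) := by
    intro j hj
    have hjm : j < m := Finset.mem_range.mp hj
    have hAb : A ≤ b / ((m : ℝ) + 1) := by
      rw [le_div_iff₀ hm1]; linarith
    have hAb' : A ≤ b := hAb.trans (div_le_self hb0.le (by linarith))
    have e1 : A ^ (j + 1) ≤ (b / ((m : ℝ) + 1)) * b ^ j := by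
      rw [pow_succ, mul_comm]
      exact mul_le_mul hAb (pow_le_pow_left₀ hA0.le hAb' j) (by positivity) (by positivity)
    have e2 : b ^ m = b * b ^ j * b ^ (m - (j + 1)) := by
      rw [← pow_succ', ← pow_add]; congr 1; omega
    calc A ^ (j + 1) * b ^ (m - (j + 1)) ≤ (b / ((m : ℝ) + 1)) * b ^ j * b ^ (m - (j + 1)) :=
          mul_le_mul_of_nonneg_right e1 (by positivity)
      _ = b ^ m / ((m : ℝ) + 1) := by rw [e2]; ring
  have hsum : ∑ j ∈ range m, A ^ (j + 1) * b ^ (m - (j + 1)) ≤ m * (b ^ m / ((m : ℝ) + 1)) := by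
    have := Finset.sum_le_sum hterm
    simpa using this
  have hlt : (m : ℝ) * (b ^ m / ((m : ℝ) + 1)) < b ^ m := by
    have hbm : 0 < b ^ m := by positivity
    rw [mul_div_assoc', div_lt_iff₀ hm1]
    nlinarith
  linarith

/-- the power sum lemma -/
theorem norm_le_of_powerSum_bound {m : ℕ} (β : Fin m → ℂ) (C s : ℝ) (hs : 0 < s) (hC : 0 ≤ C)
    (h : ∀ n : ℕ, 1 ≤ n → ‖∑ i, β i ^ n‖ ≤ C * s ^ n) (i : Fin m) : ‖β i‖ ≤ s := by
  by_contra hcon
  push Not at hcon
  have ht : 1 < ‖β i‖ / s := by rw [one_lt_div hs]; exact hcon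
  obtain ⟨N, hN⟩ := pow_unbounded_of_one_lt (((m : ℝ) + 1) * (1 + C)) ht
  have hN0 : N ≠ 0 := by
    rintro rfl
    rw [pow_zero] at hN
    have : (1 : ℝ) ≤ ((m : ℝ) + 1) * (1 + C) := by
      have h1 : (1 : ℝ) ≤ (m : ℝ) + 1 := by linarith [Nat.cast_nonneg (α := ℝ) m]
      have h2 : (1 : ℝ) ≤ 1 + C := by linarith
      nlinarith
    linarith
  have hb := root_bound (fun j => β j ^ N) C (s ^ N) (by positivity) hC (by
    intro n hn
    have e : ∀ j, (β j ^ N) ^ n = β j ^ (N * n) := fun j => by rw [pow_mul]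
    simp only [e]
    rw [← pow_mul]
    exact h (N * n) (Nat.one_le_iff_ne_zero.mpr (Nat.mul_ne_zero hN0 (by omega)))) i
  simp only [norm_pow] at hb
  rw [div_pow, lt_div_iff₀ (by positivity)] at hN
  nlinarith

end Groth.Agent.Helper16.RH
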