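import Groth.Agent.H16.WP9
import Groth.Agent.Lib.Helper17.FFGal
import Groth.Agent.Lib.Helper17.FFFrob
set_option autoImplicit false
set_option linter.unusedSimpArgs false

/-! Pullback of places along endomorphisms; stable places. -/

namespace Groth.Agent.Helper16.RH

open FunFld Module Groth.Agent.Helper17.FF

variable {k K : Type*} [Field k] [Field K] [Algebra k K]

/-- a place is stable under an endomorphism -/
def IsStable (Φ : K →ₐ[k] K) (P : Place k K) : Prop := ∀ z : K, P.1 (Φ z) < 1 ↔ P.1 z < 1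

/-- transport of a place along an isomorphism -/
noncomputable def placeComap {K₂ : Type*} [Field K₂] [Algebra k K₂] (e : K ≃ₐ[k] K₂)
    (P : Place k K₂) : Place k K :=
  ⟨P.1.comap (e : K →+* K₂), fun c => by
      rw [Valuation.comap_apply]
      have : (e : K →+* K₂) (algebraMap k K c) = algebraMap k K₂ c := e.commutes c
      rw [this]; exact P.2.1 c,
    fun γ => by
      obtain ⟨x, hx⟩ := P.2.2 γ
      exact ⟨e.symm x, by rw [Valuation.comap_apply]; simpa using hx⟩⟩

@[simp] lemma placeComap_apply {K₂ : Type*} [Field K₂] [Algebra k K₂] (e : K ≃ₐ[k] K₂)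
    (P : Place k K₂) (x : K) : (placeComap e P).1 x = P.1 (e x) := rfl

/-- the pullback of a place along an endomorphism -/
theorem exists_pullPlace (hK : IsFunctionField k K) (Φ : K →ₐ[k] K) (P : Place k K) :
    ∃ (P' : Place k K) (e : ℕ), 0 < e ∧ ∀ z : K, P.1 (Φ z) = P'.1 z ^ e := by
  obtain ⟨hK₀, hfin⟩ := finiteDimensional_fieldRange hK Φ
  haveI := hfin
  haveI : Algebra.IsAlgebraic Φ.fieldRange K := Algebra.IsAlgebraic.of_finite _ _
  obtain ⟨P₀, e, he⟩ := exists_isOverWith hK₀ P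
  refine ⟨placeComap (AlgEquiv.ofInjectiveField Φ) P₀, e, isOverWith_pos he, fun z => ?_⟩
  rw [placeComap_apply, ← he]
  rfl

/-- the valuation ring of the pullback -/
theorem pull_le_one_iff {P P' : Place k K} {Φ : K →ₐ[k] K} {e : ℕ} (he : 0 < e)
    (h : ∀ z : K, P.1 (Φ z) = P'.1 z ^ e) (z : K) : P.1 (Φ z) ≤ 1 ↔ P'.1 z ≤ 1 := by
  rw [h z, pow_le_one_iff he.ne']

theorem pull_lt_one_iff {P P' : Place k K} {Φ : K →ₐ[k] K} {e : ℕ} (he : 0 < e)
    (h : ∀ z : K, P.1 (Φ z) = P'.1 z ^ e) (z : K) : P.1 (Φ z) < 1 ↔ P'.1 z < 1 := by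
  rw [h z, pow_lt_one_iff he.ne']

/-- over an algebraically closed field a fixed point is stable -/
theorem isStable_of_fixed [IsAlgClosed k] (hK : IsFunctionField k K) (Φ : K →ₐ[k] K)
    (P : Place k K) (h : ∀ z : K, P.1 z < 1 → P.1 (Φ z) < 1) : IsStable Φ P := by
  intro z
  refine ⟨fun hz => ?_, h z⟩
  by_contra hcon
  push Not at hcon
  have hz0 : z ≠ 0 := by
    rintro rfl
    rw [map_zero] at hcon
    exact not_le.mpr zero_lt_one hcon
  rcases hcon.lt_or_eq with hgt | heq
  · have h1 : P.1 z⁻¹ < 1 := by rw [map_inv₀]; exact inv_lt_one_of_one_lt₀ hgt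
    have h2 := h _ h1
    rw [map_inv₀, map_inv₀] at h2
    have h3 : 1 < P.1 (Φ z) := by
      have hne : P.1 (Φ z) ≠ 0 := (map_ne_zero P.1).mpr ((map_ne_zero Φ).mpr hz0)
      exact (inv_lt_one₀ (zero_lt_iff.mpr hne)).mp h2
    exact lt_irrefl _ (hz.trans h3)
  · obtain ⟨c, hc⟩ := exists_const_sub_lt hK P heq.symm.le
    have h1 := h _ hc
    rw [map_sub, Φ.commutes] at h1
    have h2 : P.1 (algebraMap k K c) < 1 := by
      have e : algebraMap k K c = Φ z - (Φ z - algebraMap k K c) := by ring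
      rw [e]
      exact Valuation.map_sub_lt _ hz h1
    have hc0 : c = 0 := by
      by_contra hne
      rw [val_const P hne] at h2
      exact lt_irrefl _ h2
    rw [hc0, map_zero, sub_zero] at hc
    rw [← heq] at hc
    exact lt_irrefl _ hc

/-- stability in terms of valuation rings -/
theorem IsStable.le_one_iff {Φ : K →ₐ[k] K} {P : Place k K} (h : IsStable Φ P) (z : K) :
    P.1 (Φ z) ≤ 1 ↔ P.1 z ≤ 1 := by
  rcases eq_or_ne z 0 with rfl | hz0
  · simp
  have h1 := h z⁻¹
  rw [map_inv₀, map_inv₀, map_inv₀] at h1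
  have hne : P.1 (Φ z) ≠ 0 := (map_ne_zero P.1).mpr ((map_ne_zero Φ).mpr hz0)
  have hne' : P.1 z ≠ 0 := (map_ne_zero P.1).mpr hz0
  rw [inv_lt_one₀ (zero_lt_iff.mpr hne), inv_lt_one₀ (zero_lt_iff.mpr hne')] at h1
  rw [← not_lt, ← not_lt, h1]

/-- a fixed point of an endomorphism all of whose values are `p`-th powers, `p ≥ 2`, is a strong
fixed point -/
theorem strong_of_fixed_of_pow {Φ : K →ₐ[k] K} {p : ℕ} (hp : 2 ≤ p)
    (hpow : ∀ z : K, ∃ w : K, Φ z = w ^ p) (P : Place k K) {z : K} (hz : P.1 (Φ z) < 1) :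
    P.1 (Φ z) ≤ WithZero.exp (-2) := by
  obtain ⟨w, hw⟩ := hpow z
  rw [hw] at hz ⊢
  rcases eq_or_ne w 0 with rfl | hw0
  · rw [zero_pow (by omega), map_zero]; exact zero_le
  have h1 : P.1 w < 1 := by
    rw [map_pow] at hz
    exact (pow_lt_one_iff (by omega)).mp hz
  have h2 : 0 < P.ord w := (ord_pos_iff P hw0).mpr h1
  rw [val_le_exp_iff P (pow_ne_zero p hw0), ord_pow]
  have : (2 : ℤ) ≤ p := by exact_mod_cast hp
  nlinarith

variable {K' : Type*} [Field K'] [Algebra K K'] [Algebra k K'] [IsScalarTower k K K']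

/-- a place of a finite extension above a given place -/
theorem exists_isOver [FiniteDimensional K K'] (hK : IsFunctionField k K) (P : Place k K) :
    ∃ Q : Place k K', IsOver Q P := by
  classical
  obtain ⟨-, hsum⟩ := sum_ramIdx_mul_deg (K' := K') hK P
  by_contra hno
  push Not at hno
  have h1 := hsum ∅ (fun Q => by simp [hno Q])
  rw [Finset.sum_empty] at h1
  have h2 : 0 < finrank K K' * P.deg := Nat.mul_pos Module.finrank_pos (deg_pos hK P)
  omega

end Groth.Agent.Helper16.RH
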