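import Mathlib
import Groth.Agent.H16.RH2
import Groth.Agent.S11068
import Groth.Agent.Lib.Helper17.FFIC
import Groth.Agent.Lib.Helper17.FF22

/-! RH part 10: stable places of `Kb` correspond to degree one places of `K`. -/

namespace Groth.Agent.Helper16.RH

open FunFld Polynomial Module
open Groth.Agent.Helper17.FF

variable {k K kb Kb : Type*} [Field k] [Field K] [Algebra k K] [Field kb] [Algebra k kb]
    [Field Kb] [Algebra K Kb] [Algebra kb Kb]

/-- existence of a place of `Kb` above a place of `K` -/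
theorem exists_place_above [Algebra.IsAlgebraic k kb] (hKb : IsFunctionField kb Kb)
    (hc : ∀ c : k, algebraMap K Kb (algebraMap k K c) = algebraMap kb Kb (algebraMap k kb c))
    (P : Place k K) :
    ∃ Q : Place kb Kb, ∀ x : K, Q.1 (algebraMap K Kb x) ≤ 1 ↔ P.1 x ≤ 1 := by
  classical
  let f : P.O →+* Kb := (algebraMap K Kb).comp P.O.subtype
  obtain ⟨V, hV, hloc⟩ := IsLocalRing.exists_factor_valuationRing f
  have hmem : ∀ x : K, P.1 x ≤ 1 → algebraMap K Kb x ∈ V := fun x hx => hV ⟨x, hx⟩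
  -- constants lie in V
  letI algkKb : Algebra k Kb := ((algebraMap kb Kb).comp (algebraMap k kb)).toAlgebra
  haveI : IsScalarTower k kb Kb := IsScalarTower.of_algebraMap_eq (fun _ => rfl)
  have hkV : ∀ c : kb, algebraMap kb Kb c ∈ V := by
    intro c
    have h1 : IsIntegral k c := (Algebra.IsAlgebraic.isAlgebraic c).isIntegral
    have h2 : IsIntegral k (algebraMap kb Kb c) := h1.map (IsScalarTower.toAlgHom k kb Kb)
    have h3 := val_le_one_of_isIntegral' (R := k) (L := Kb) V.valuation (fun a => by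
      have : algebraMap k Kb a = algebraMap K Kb (algebraMap k K a) := by
        rw [hc]; rfl
      rw [this, ValuationSubring.valuation_le_one_iff]
      exact hmem _ (P.2.1 a)) h2
    exact (ValuationSubring.valuation_le_one_iff V _).1 h3
  -- a uniformizer
  obtain ⟨t, ht⟩ := P.2.2 (WithZero.exp (-1))
  have ht0 : t ≠ 0 := by
    rintro rfl
    rw [map_zero] at ht
    exact WithZero.exp_ne_zero.symm ht
  have htlt : P.1 t < 1 := by
    rw [ht, ← WithZero.exp_zero, WithZero.exp_lt_exp]; norm_num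
  have htV : algebraMap K Kb t ∈ V := hmem t htlt.le
  have key : ∀ x : K, P.1 x < 1 → V.valuation (algebraMap K Kb x) < 1 := by
    intro x hx
    have hxV : algebraMap K Kb x ∈ V := hmem x hx.le
    by_contra hcon
    have h1 : V.valuation (algebraMap K Kb x) = 1 :=
      le_antisymm ((ValuationSubring.valuation_le_one_iff V _).2 hxV) (not_lt.1 hcon)
    have h2 : IsUnit (⟨algebraMap K Kb x, hxV⟩ : V) :=
      (ValuationSubring.valuation_eq_one_iff V ⟨_, hxV⟩).2 h1
    have h3 : IsUnit (⟨x, hx.le⟩ : P.O) := hloc.1 ⟨x, hx.le⟩ h2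
    have h4 := (Valuation.integer.integers P.1).isUnit_iff_valuation_eq_one.1 h3
    have h5 : P.1 x = 1 := h4
    rw [h5] at hx
    exact lt_irrefl _ hx
  obtain ⟨Q, hQ⟩ := exists_place_of_valuationSubring hKb V hkV
    ((_root_.map_ne_zero (algebraMap K Kb)).2 ht0) (key t htlt)
  refine ⟨Q, fun x => ⟨fun hx => ?_, fun hx => (hQ _).2 (hmem x hx)⟩⟩
  by_contra hcon
  push Not at hcon
  have hx0 : x ≠ 0 := by
    rintro rfl
    rw [map_zero] at hcon
    exact not_lt.2 zero_le hcon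
  have h1 : P.1 x⁻¹ < 1 := by
    rw [map_inv₀]
    exact inv_lt_one_of_one_lt₀ hcon
  have h2 := key x⁻¹ h1
  have h3 : V.valuation (algebraMap K Kb x) ≤ 1 :=
    (ValuationSubring.valuation_le_one_iff V _).2 ((hQ _).1 hx)
  rw [map_inv₀, map_inv₀] at h2
  have h4 : V.valuation (algebraMap K Kb x) ≠ 0 :=
    (_root_.map_ne_zero _).2 ((_root_.map_ne_zero (algebraMap K Kb)).2 hx0)
  have h5 : 1 < V.valuation (algebraMap K Kb x) := by
    rwa [inv_lt_one₀ (zero_lt_iff.2 h4)] at h2
  exact not_le.2 h5 h3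

/-- the value of `z` at a place over a degree one place is computed from a representation -/
theorem exists_val_eq
    (hc : ∀ c : k, algebraMap K Kb (algebraMap k K c) = algebraMap kb Kb (algebraMap k kb c))
    (hgen : Algebra.adjoin K (Set.range (algebraMap kb Kb)) = ⊤)
    {P : Place k K} (hP : P.deg = 1) (z : Kb) (hz : z ≠ 0) :
    ∃ x₀ : K, ∀ Q : Place kb Kb, (∀ x : K, Q.1 (algebraMap K Kb x) ≤ 1 ↔ P.1 x ≤ 1) →
      Q.1 z = Q.1 (algebraMap K Kb x₀) := by
  classical
  set b := Module.Basis.ofVectorSpace k kb with hb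
  obtain ⟨c, hcz⟩ := exists_finsupp_of_adjoin_eq_top hc hgen b z
  have hc0 : c ≠ 0 := by
    rintro rfl
    apply hz
    rw [hcz]; simp
  have hne : c.support.Nonempty := Finsupp.support_nonempty_iff.2 hc0
  obtain ⟨j₀, hj₀, hmax⟩ := Finset.exists_max_image c.support (fun j => P.1 (c j)) hne
  set x₀ := c j₀ with hx₀
  have hx₀0 : x₀ ≠ 0 := Finsupp.mem_support_iff.1 hj₀
  have hpos : 0 < P.1 x₀ := zero_lt_iff.2 ((Valuation.ne_zero_iff _).2 hx₀0)
  set a : _ → K := fun j => c j / x₀ with ha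
  have ha1 : ∀ j ∈ c.support, P.1 (a j) ≤ 1 := by
    intro j hj
    rw [ha]
    simp only [map_div₀]
    exact (div_le_one₀ hpos).2 (hmax j hj)
  have ha0 : P.1 (a j₀) = 1 := by
    rw [ha]
    simp only
    rw [← hx₀, div_self hx₀0, map_one]
  have hz1 : z = algebraMap K Kb x₀ *
      ∑ j ∈ c.support, algebraMap K Kb (a j) * algebraMap kb Kb (b j) := by
    rw [hcz, Finset.mul_sum]
    refine Finset.sum_congr rfl fun j _ => ?_
    rw [← mul_assoc, ← map_mul, ha]
    simp only
    rw [mul_div_cancel₀ _ hx₀0]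
  refine ⟨x₀, fun Q hQP => ?_⟩
  have hu1 := frob_unit_sum hc hP Q hQP b b.linearIndependent c.support a ha1 hj₀ ha0
  conv_lhs => rw [hz1, map_mul, hu1, mul_one]

theorem place_above_unique
    (hc : ∀ c : k, algebraMap K Kb (algebraMap k K c) = algebraMap kb Kb (algebraMap k kb c))
    (hgen : Algebra.adjoin K (Set.range (algebraMap kb Kb)) = ⊤)
    {P : Place k K} (hP : P.deg = 1) (Q Q' : Place kb Kb)
    (hQ : ∀ x : K, Q.1 (algebraMap K Kb x) ≤ 1 ↔ P.1 x ≤ 1)
    (hQ' : ∀ x : K, Q'.1 (algebraMap K Kb x) ≤ 1 ↔ P.1 x ≤ 1) : Q = Q' := by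
  apply place_eq_of_le
  intro z hz
  rcases eq_or_ne z 0 with rfl | hz0
  · simp
  obtain ⟨x₀, hx₀⟩ := exists_val_eq hc hgen hP z hz0
  rw [hx₀ Q hQ, hQ]
  rw [hx₀ Q' hQ', hQ'] at hz
  exact hz

theorem card_stable_eq [Finite k] [IsAlgClosure k kb]
    (hK : IsFunctionField k K) (hKb : IsFunctionField kb Kb)
    (hc : ∀ c : k, algebraMap K Kb (algebraMap k K c) = algebraMap kb Kb (algebraMap k kb c))
    (hgen : Algebra.adjoin K (Set.range (algebraMap kb Kb)) = ⊤)
    (F : Kb →ₐ[kb] Kb)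
    (hF2 : ∀ x : K, F (algebraMap K Kb x) = algebraMap K Kb x ^ Nat.card k) :
    Nat.card {P : Place k K // P.deg = 1} = Nat.card {Q : Place kb Kb // IsStable F Q} := by
  classical
  haveI : Algebra.IsAlgebraic k kb := IsAlgClosure.isAlgebraic
  have hS := fun Q : Place kb Kb => Groth.Agent.S11068.result k K kb Kb hK hc hgen
    (F : Kb →+* Kb) (fun c => F.commutes c) hF2 Q
  have hex : ∀ Q : {Q : Place kb Kb // IsStable F Q}, ∃ P : Place k K,
      (∀ x : K, Q.1.1 (algebraMap K Kb x) ≤ 1 ↔ P.1 x ≤ 1) ∧ P.deg = 1 :=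
    fun Q => (hS Q.1).1 Q.2
  choose g hg using hex
  let f : {Q : Place kb Kb // IsStable F Q} → {P : Place k K // P.deg = 1} :=
    fun Q => ⟨g Q, (hg Q).2⟩
  have hinj : Function.Injective f := by
    intro Q Q' hQQ'
    have h1 : g Q = g Q' := congrArg Subtype.val hQQ'
    apply Subtype.ext
    refine place_above_unique hc hgen (hg Q).2 Q.1 Q'.1 (hg Q).1 ?_
    rw [h1]
    exact (hg Q').1
  have hsurj : Function.Surjective f := by
    rintro ⟨P, hP⟩
    obtain ⟨Q, hQ⟩ := exists_place_above hKb hc P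
    have hst : IsStable F Q := (hS Q).2 ⟨P, hQ, hP⟩
    refine ⟨⟨Q, hst⟩, ?_⟩
    apply Subtype.ext
    show g ⟨Q, hst⟩ = P
    apply place_eq_of_le
    intro x hx
    rw [← (hg ⟨Q, hst⟩).1 x]
    exact (hQ x).2 hx
  exact (Nat.card_congr (Equiv.ofBijective f ⟨hinj, hsurj⟩)).symm

end Groth.Agent.Helper16.RH
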