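import Mathlib
import Groth.Agent.H16.RH2
import Groth.Agent.Lib.Helper17.FF22
import Groth.Agent.Lib.Helper17.FFFrob

/-! RH part 11: stable rational places of a rational function field. -/

namespace Groth.Agent.Helper16.RH

open FunFld Polynomial Module
open Groth.Agent.Helper17.FF

variable {k E : Type*} [Field k] [Field E] [Algebra k E]

theorem isStable_of_unique_zero (hE : IsFunctionField k E) (Φ : E →ₐ[k] E) (P : Place k E) (y : E)
    (huniq : ∀ P' : Place k E, P'.1 y < 1 → P' = P) (hΦ : P.1 (Φ y) < 1) : IsStable Φ P := by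
  obtain ⟨P', e, he, h⟩ := exists_pullPlace hE Φ P
  have h1 : P'.1 y < 1 := (pull_lt_one_iff he h y).1 hΦ
  have h2 := huniq P' h1
  subst h2
  intro z
  exact pull_lt_one_iff he h z

theorem unique_zero_of_generator (hE : IsFunctionField k E) {y : E} (hy : Transcendental k y)
    (htop : IntermediateField.adjoin k ({y} : Set E) = ⊤) (P P' : Place k E)
    (hP : P.1 y < 1) (hP' : P'.1 y < 1) : P' = P := by
  classical
  by_contra hne
  have h1 := card_zeros_le hE (not_mem_range_of_transcendental hy) {P, P'} (by
    intro Q hQ
    rw [Finset.mem_insert, Finset.mem_singleton] at hQ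
    rcases hQ with rfl | rfl
    · exact hP
    · exact hP')
  rw [htop, IntermediateField.finrank_top, Finset.card_pair (Ne.symm hne)] at h1
  omega

theorem exists_rational_places (hE : IsFunctionField k E) {x : E}
    (hx : Transcendental k x) (htop : IntermediateField.adjoin k ({x} : Set E) = ⊤)
    (Φ : E →ₐ[k] E) {Q : ℕ} (hQ : 0 < Q) (A : Finset k)
    (hA : ∀ a ∈ A, Φ (x - algebraMap k E a) = (x - algebraMap k E a) ^ Q) :
    ∃ R : Finset (Place k E), (∀ P ∈ R, IsStable Φ P) ∧ A.card ≤ R.card := by
  classical
  have hy : ∀ a : k, Transcendental k (x - algebraMap k E a) := by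
    intro a halg
    apply hx
    have : x = (x - algebraMap k E a) + algebraMap k E a := by ring
    rw [this]
    exact halg.add (isAlgebraic_algebraMap a)
  have htop' : ∀ a : k, IntermediateField.adjoin k ({x - algebraMap k E a} : Set E) = ⊤ := by
    intro a
    rw [eq_top_iff, ← htop, IntermediateField.adjoin_simple_le_iff]
    have h1 : (x - algebraMap k E a) + algebraMap k E a ∈
        IntermediateField.adjoin k ({x - algebraMap k E a} : Set E) :=
      add_mem (IntermediateField.mem_adjoin_simple_self k _)
        (IntermediateField.algebraMap_mem _ a)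
    rwa [sub_add_cancel] at h1
  have hex : ∀ a : k, ∃ P : Place k E, P.1 (x - algebraMap k E a) < 1 :=
    fun a => exists_zero hE (not_mem_range_of_transcendental (hy a))
  choose Pl hPl using hex
  refine ⟨A.image Pl, ?_, ?_⟩
  · intro P hP
    rw [Finset.mem_image] at hP
    obtain ⟨a, ha, rfl⟩ := hP
    apply isStable_of_unique_zero hE Φ (Pl a) (x - algebraMap k E a)
    · intro P' hP'
      exact unique_zero_of_generator hE (hy a) (htop' a) (Pl a) P' (hPl a) hP'
    · rw [hA a ha, map_pow]
      exact pow_lt_one' (hPl a) hQ.ne'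
  · rw [Finset.card_image_of_injOn]
    intro a _ b _ hab
    have hab' : Pl a = Pl b := hab
    by_contra hne
    have h1 := hPl a
    have h2 := hPl b
    rw [hab'] at h1
    have h3 : (Pl b).1 ((x - algebraMap k E b) - (x - algebraMap k E a)) < 1 :=
      Valuation.map_sub_lt _ h2 h1
    have h4 : (x - algebraMap k E b) - (x - algebraMap k E a) = algebraMap k E (a - b) := by
      rw [map_sub]; ring
    rw [h4, val_const_eq_one' (Pl b) (sub_ne_zero.2 hne)] at h3
    exact lt_irrefl _ h3

end Groth.Agent.Helper16.RH
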