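import Mathlib
import Groth.Agent.Lib.Helper17.FFConst
import Groth.Agent.Lib.Helper17.FFCU
import Groth.Agent.Lib.Helper17.FFFrob
import Groth.Agent.Lib.Helper17.FFGeom

/-! RH for function fields, part 7: constant field extensions (universe polymorphic, possibly
infinite algebraic). -/

namespace Groth.Agent.Helper16.RH

open FunFld Polynomial Module
open scoped TensorProduct
open Groth.Agent.Helper17.FF

universe u u' v v'

section Trans

variable {k : Type u} {k' : Type u'} {K : Type v} {K' : Type v'} [Field k] [Field k'] [Field K]
    [Field K']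
    [Algebra k k'] [Algebra k K] [Algebra K K'] [Algebra k' K'] [Algebra k K']
    [IsScalarTower k k' K'] [IsScalarTower k K K']

theorem hc_of_tower (c : k) :
    algebraMap K K' (algebraMap k K c) = algebraMap k' K' (algebraMap k k' c) := by
  rw [← IsScalarTower.algebraMap_apply k K K', ← IsScalarTower.algebraMap_apply k k' K']

theorem hgen_of_surjective
    (h : Function.Surjective (Algebra.TensorProduct.productMap
      (IsScalarTower.toAlgHom k k' K') (IsScalarTower.toAlgHom k K K'))) :
    Algebra.adjoin K (Set.range (algebraMap k' K')) = ⊤ := by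
  rw [eq_top_iff]
  intro z hz'
  clear hz'
  obtain ⟨t, rfl⟩ := h z
  induction t using TensorProduct.induction_on with
  | zero => rw [map_zero]; exact Subalgebra.zero_mem _
  | tmul a b =>
    rw [Algebra.TensorProduct.productMap_apply_tmul]
    exact Subalgebra.mul_mem _ (Algebra.subset_adjoin ⟨a, rfl⟩) (Subalgebra.algebraMap_mem _ b)
  | add a b ha hb => rw [map_add]; exact Subalgebra.add_mem _ ha hb

theorem isAlgebraic_of_hgen [Algebra.IsAlgebraic k k']
    (hgen : Algebra.adjoin K (Set.range (algebraMap k' K')) = ⊤) : Algebra.IsAlgebraic K K' := by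
  have hint : Algebra.IsIntegral K (Algebra.adjoin K (Set.range (algebraMap k' K'))) := by
    apply Algebra.IsIntegral.adjoin
    rintro _ ⟨c, rfl⟩
    have h1 : IsIntegral k c := Algebra.IsIntegral.isIntegral c
    have h2 : IsIntegral k (algebraMap k' K' c) := h1.map (IsScalarTower.toAlgHom k k' K')
    exact h2.tower_top
  constructor
  intro z
  have hz : z ∈ Algebra.adjoin K (Set.range (algebraMap k' K')) := by rw [hgen]; trivial
  have h3 : IsIntegral K z :=
    (hint.isIntegral ⟨z, hz⟩).map (Subalgebra.val (Algebra.adjoin K (Set.range (algebraMap k' K'))))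
  exact h3.isAlgebraic

/-- the transcendental part of `IsFunctionField` for a constant field extension -/
theorem exists_transc_const [Algebra.IsAlgebraic k k']
    (h : Function.Bijective (Algebra.TensorProduct.productMap
      (IsScalarTower.toAlgHom k k' K') (IsScalarTower.toAlgHom k K K')))
    (hK : IsFunctionField k K) :
    ∃ x : K, Transcendental k x ∧ Transcendental k' (algebraMap K K' x) ∧
      FiniteDimensional (IntermediateField.adjoin k' ({algebraMap K K' x} : Set K')) K' := by
  classical
  haveI : Algebra.IsAlgebraic K K' :=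
    isAlgebraic_of_hgen (k := k) (k' := k') (hgen_of_surjective (k := k) h.2)
  obtain ⟨⟨x, hx, hfin⟩, hcl⟩ := id hK
  set x' : K' := algebraMap K K' x with hx'
  have hx'tr : Transcendental k' x' := by
    intro halg
    have h1 : IsAlgebraic k x' := IsAlgebraic.restrictScalars (R := k) (S := k') halg
    exact hx ((isAlgebraic_algebraMap_iff (algebraMap K K').injective).1 h1)
  haveI := essFiniteType_of_isFunctionField hK
  haveI : Algebra.EssFiniteType k' K' :=
    Algebra.EssFiniteType.of_surjective (CU.constEquivL h).toAlgHom (CU.constEquivL h).surjective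
  have htr : Algebra.trdeg k' K' ≤ 1 := by
    have h1 := lift_trdeg_add_eq k k' K'
    rw [trdeg_eq_zero, Cardinal.lift_zero, zero_add, Cardinal.lift_inj] at h1
    have h2 := lift_trdeg_add_eq k K K'
    rw [trdeg_eq_zero (R := K) (A := K'), Cardinal.lift_zero, add_zero] at h2
    rw [h1]
    have h3 : Cardinal.lift.{v} (Algebra.trdeg k K') ≤ 1 := by
      rw [← h2, Cardinal.lift_le_one_iff]
      exact trdeg_le_one_of_isFunctionField hK
    exact Cardinal.lift_le_one_iff.1 h3
  exact ⟨x, hx, hx'tr, finite_adjoin_of_trdeg_le_one htr hx'tr⟩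

/-- constant extension to an algebraically closed field is a function field -/
theorem isFunctionField_bar [IsAlgClosed k'] [Algebra.IsAlgebraic k k']
    (h : Function.Bijective (Algebra.TensorProduct.productMap
      (IsScalarTower.toAlgHom k k' K') (IsScalarTower.toAlgHom k K K')))
    (hK : IsFunctionField k K) : IsFunctionField k' K' := by
  obtain ⟨x, -, hx', hfin⟩ := exists_transc_const h hK
  refine ⟨⟨_, hx', hfin⟩, ?_⟩
  intro y hy
  have hint : IsIntegral k' y := hy.isIntegral
  have h1 := IsAlgClosed.degree_eq_one_of_irreducible k' (minpoly.irreducible hint)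
  exact minpoly.mem_range_of_degree_eq_one k' y h1

end Trans

section Fin

variable {k k' : Type u} {K : Type v} {K' : Type v'} [Field k] [Field k'] [Field K] [Field K']
    [Algebra k k'] [Algebra k K] [Algebra K K'] [Algebra k' K'] [Algebra k K']
    [IsScalarTower k k' K'] [IsScalarTower k K K']

/-- universe-polymorphic version of `isFunctionField_const` -/
theorem isFunctionField_const' [FiniteDimensional k k']
    (h : Function.Bijective (Algebra.TensorProduct.productMap
      (IsScalarTower.toAlgHom k k' K') (IsScalarTower.toAlgHom k K K')))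
    (hK : IsFunctionField k K) (hg : IsGeometric k K) : IsFunctionField k' K' := by
  classical
  haveI hfinK : Module.Finite K K' := CU.finite_const h
  haveI : Algebra.IsAlgebraic k k' := Algebra.IsAlgebraic.of_finite k k'
  obtain ⟨x, -, hx', hfin⟩ := exists_transc_const h hK
  refine ⟨⟨_, hx', hfin⟩, ?_⟩
  intro y hy
  have hint : IsIntegral k' y := hy.isIntegral
  set f : k'[X] := minpoly k' y with hf
  haveI : Fact (Irreducible f) := ⟨minpoly.irreducible hint⟩
  have hf0 : f ≠ 0 := minpoly.ne_zero hint
  haveI : FiniteDimensional k' (AdjoinRoot f) := (AdjoinRoot.powerBasis hf0).finite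
  have hdim : Module.finrank k' (AdjoinRoot f) = f.natDegree := by
    rw [(AdjoinRoot.powerBasis hf0).finrank, AdjoinRoot.powerBasis_dim]
  haveI : FiniteDimensional k (AdjoinRoot f) := FiniteDimensional.trans k k' (AdjoinRoot f)
  have hfield := hg (AdjoinRoot f) inferInstance
  let g₁ : AdjoinRoot f →ₐ[k] K' :=
    AdjoinRoot.liftAlgHom f (IsScalarTower.toAlgHom k k' K') y (by
      have := minpoly.aeval k' y
      rwa [Polynomial.aeval_def] at this)
  let Ψ : K ⊗[k] AdjoinRoot f →ₐ[K] K' :=
    Algebra.TensorProduct.productLeftAlgHom (Algebra.ofId K K') g₁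
  have hfield' : IsField (K ⊗[k] AdjoinRoot f) :=
    (Algebra.TensorProduct.comm k K (AdjoinRoot f)).toMulEquiv.isField hfield
  letI := hfield'.toField
  have hΨinj : Function.Injective Ψ := (Ψ : K ⊗[k] AdjoinRoot f →+* K').injective
  have h1 : Module.finrank K (K ⊗[k] AdjoinRoot f) ≤ Module.finrank K K' :=
    LinearMap.finrank_le_finrank_of_injective (f := Ψ.toLinearMap) hΨinj
  rw [Module.finrank_baseChange, CU.finrank_const h,
    ← Module.finrank_mul_finrank k k' (AdjoinRoot f), hdim] at h1
  have hpos : 0 < Module.finrank k k' := Module.finrank_pos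
  have hdeg : f.natDegree = 1 := by
    have h2 : 0 < f.natDegree := minpoly.natDegree_pos hint
    have h3 : f.natDegree ≤ 1 := by
      by_contra hcon
      have : 2 ≤ f.natDegree := by omega
      nlinarith
    omega
  exact (minpoly.natDegree_eq_one_iff).1 hdeg

end Fin

end Groth.Agent.Helper16.RH
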