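import Mathlib
import Groth.Agent.H16.RH7

/-! RH part 12: Galois closure and lifting the Frobenius. -/

namespace Groth.Agent.Helper16.RH

open FunFld Polynomial Module
open Groth.Agent.Helper17.FF

/-- a type synonym used to twist algebra structures -/
def TwL (L : Type*) := L

instance (L : Type*) [Field L] : Field (TwL L) := inferInstanceAs (Field L)

section Split

variable {E Kb L : Type*} [Field E] [Field Kb] [Field L] [Algebra E Kb] [Algebra Kb L] [Algebra E L]
  [IsScalarTower E Kb L]

theorem isSplittingField_of_tower (p : E[X]) (hp0 : p ≠ 0)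
    [hsp : IsSplittingField Kb L (p.map (algebraMap E Kb))] (θ : Kb)
    (hθ : aeval θ p = 0) (hgen : Algebra.adjoin E ({θ} : Set Kb) = ⊤) : IsSplittingField E L p := by
  have hmap : (p.map (algebraMap E Kb)).map (algebraMap Kb L) = p.map (algebraMap E L) := by
    rw [Polynomial.map_map, ← IsScalarTower.algebraMap_eq]
  have hroot : (p.map (algebraMap E Kb)).rootSet L = p.rootSet L := by
    unfold Polynomial.rootSet Polynomial.aroots
    rw [hmap]
  refine ⟨?_, ?_⟩
  · rw [← hmap]
    exact IsSplittingField.splits L (p.map (algebraMap E Kb))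
  · set A := Algebra.adjoin E (p.rootSet L) with hA
    have hθL : algebraMap Kb L θ ∈ A := by
      apply Algebra.subset_adjoin
      rw [Polynomial.mem_rootSet]
      refine ⟨hp0, ?_⟩
      rw [Polynomial.aeval_algebraMap_apply, hθ, map_zero]
    have hKb : ∀ z : Kb, algebraMap Kb L z ∈ A := by
      intro z
      have hz : z ∈ Algebra.adjoin E ({θ} : Set Kb) := by rw [hgen]; trivial
      induction hz using Algebra.adjoin_induction with
      | mem x hx =>
        rw [Set.mem_singleton_iff] at hx
        rw [hx]; exact hθL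
      | algebraMap r =>
        rw [← IsScalarTower.algebraMap_apply]
        exact Subalgebra.algebraMap_mem _ r
      | add x y _ _ hx hy => rw [map_add]; exact Subalgebra.add_mem _ hx hy
      | mul x y _ _ hx hy => rw [map_mul]; exact Subalgebra.mul_mem _ hx hy
    rw [eq_top_iff]
    intro z hz'
    clear hz'
    have hz : z ∈ Algebra.adjoin Kb ((p.map (algebraMap E Kb)).rootSet L) := by
      rw [IsSplittingField.adjoin_rootSet L (p.map (algebraMap E Kb))]; trivial
    induction hz using Algebra.adjoin_induction with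
    | mem x hx =>
      rw [hroot] at hx
      exact Algebra.subset_adjoin hx
    | algebraMap r => exact hKb r
    | add x y _ _ hx hy => exact Subalgebra.add_mem _ hx hy
    | mul x y _ _ hx hy => exact Subalgebra.mul_mem _ hx hy

end Split

section Lift

variable {k kb Kb L : Type*} [Field k] [Fintype k] [Field kb] [Field Kb] [Field L]
    [Algebra k Kb] [Algebra kb Kb] [Algebra Kb L] [Algebra k L] [Algebra kb L]
    [IsScalarTower k Kb L] [IsScalarTower kb Kb L]

theorem exists_frob_lift (Φ : Kb →ₐ[kb] Kb) (f : Kb[X]) [hsp : IsSplittingField Kb L f]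
    (hfΦ : f.map (Φ : Kb →+* Kb) = f.map (FiniteField.frobeniusAlgHom k Kb : Kb →+* Kb))
    (hΦpow : ∀ z, ∃ w, Φ z = w ^ Fintype.card k) :
    ∃ Ψ : L →ₐ[kb] L, (∀ z, Ψ (algebraMap Kb L z) = algebraMap Kb L (Φ z)) ∧
      ∀ z, ∃ w, Ψ z = w ^ Fintype.card k := by
  classical
  let frL : L →+* L := (FiniteField.frobeniusAlgHom k L : L →+* L)
  have hfrL : ∀ y : L, frL y = y ^ Fintype.card k := fun y => rfl
  let tw : Kb →+* TwL L := (algebraMap Kb L).comp (Φ : Kb →+* Kb)
  have hcomm : (algebraMap Kb L).comp (FiniteField.frobeniusAlgHom k Kb : Kb →+* Kb) =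
      frL.comp (algebraMap Kb L) := by
    ext z
    simp only [RingHom.comp_apply, hfrL]
    show algebraMap Kb L (z ^ Fintype.card k) = _
    rw [map_pow]
  have hmaptw : f.map tw = (f.map (algebraMap Kb L)).map frL := by
    show f.map ((algebraMap Kb L).comp (Φ : Kb →+* Kb)) = _
    rw [← Polynomial.map_map, hfΦ, Polynomial.map_map, hcomm, ← Polynomial.map_map]
  have hsplit0 : (f.map (algebraMap Kb L)).Splits := IsSplittingField.splits L f
  have hsplit : (f.map tw).Splits := by
    rw [hmaptw]; exact hsplit0.map frL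
  letI twAlg : Algebra Kb (TwL L) := tw.toAlgebra
  let Ψ₁ : L →ₐ[Kb] TwL L := IsSplittingField.lift L f hsplit
  let Ψ₀ : L →+* L := (Ψ₁ : L →+* TwL L)
  have hΨK : ∀ z, Ψ₀ (algebraMap Kb L z) = algebraMap Kb L (Φ z) := by
    intro z
    exact Ψ₁.commutes z
  let Ψ : L →ₐ[kb] L :=
    { Ψ₀ with
      commutes' := fun c => by
        show Ψ₀ (algebraMap kb L c) = algebraMap kb L c
        rw [IsScalarTower.algebraMap_apply kb Kb L, hΨK, Φ.commutes] }
  have hΨ : ∀ z, Ψ z = Ψ₀ z := fun z => rfl
  refine ⟨Ψ, hΨK, ?_⟩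
  have key : ∀ z : L, Ψ₀ z ∈ frL.range := by
    intro z
    have hz : z ∈ Algebra.adjoin Kb (f.rootSet L) := by
      rw [IsSplittingField.adjoin_rootSet L f]; trivial
    induction hz using Algebra.adjoin_induction with
    | mem x hx =>
      rw [Polynomial.mem_rootSet] at hx
      obtain ⟨hf0, hx⟩ := hx
      have h1 : Ψ₀ (Polynomial.eval₂ (algebraMap Kb L) x f) = 0 := by
        rw [← Polynomial.aeval_def, hx, map_zero]
      rw [Polynomial.hom_eval₂] at h1
      have h2 : Ψ₀.comp (algebraMap Kb L) = ((algebraMap Kb L).comp (Φ : Kb →+* Kb)) := by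
        ext z
        exact hΨK z
      rw [h2, ← Polynomial.eval_map] at h1
      have h3 : f.map ((algebraMap Kb L).comp (Φ : Kb →+* Kb)) =
          (f.map (algebraMap Kb L)).map frL := hmaptw
      rw [h3] at h1
      have hne : (f.map (algebraMap Kb L)).map frL ≠ 0 :=
        (Polynomial.map_ne_zero_iff frL.injective).2
          ((Polynomial.map_ne_zero_iff (algebraMap Kb L).injective).2 hf0)
      have h4 : Ψ₀ x ∈ ((f.map (algebraMap Kb L)).map frL).roots :=
        (Polynomial.mem_roots hne).2 h1
      rw [hsplit0.roots_map frL, Multiset.mem_map] at h4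
      obtain ⟨r, -, hr⟩ := h4
      exact ⟨r, hr⟩
    | algebraMap r =>
      rw [hΨK]
      obtain ⟨w, hw⟩ := hΦpow r
      refine ⟨algebraMap Kb L w, ?_⟩
      rw [hfrL, hw, map_pow]
    | add x y _ _ hx hy => rw [map_add]; exact Subring.add_mem _ hx hy
    | mul x y _ _ hx hy => rw [map_mul]; exact Subring.mul_mem _ hx hy
  intro z
  obtain ⟨w, hw⟩ := key z
  exact ⟨w, by rw [hΨ, ← hw, hfrL]⟩

end Lift

section Fin

variable {k K L : Type*} [Field k] [Field K] [Field L] [Algebra k K] [Algebra K L] [Algebra k L]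
  [IsScalarTower k K L]

theorem isFunctionField_of_finite [IsAlgClosed k] [FiniteDimensional K L]
    (hK : IsFunctionField k K) : IsFunctionField k L := by
  classical
  haveI : Algebra.IsAlgebraic K L := Algebra.IsAlgebraic.of_finite K L
  obtain ⟨⟨x, hx, hfin⟩, hcl⟩ := id hK
  set x' : L := algebraMap K L x with hx'
  have hx'tr : Transcendental k x' :=
    (transcendental_algebraMap_iff (algebraMap K L).injective).2 hx
  haveI := essFiniteType_of_isFunctionField hK
  haveI : Algebra.EssFiniteType k L := Algebra.EssFiniteType.comp k K L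
  have htr : Algebra.trdeg k L ≤ 1 := by
    have h2 := lift_trdeg_add_eq k K L
    rw [trdeg_eq_zero (R := K) (A := L), Cardinal.lift_zero, add_zero] at h2
    have h3 : Cardinal.lift.{u_2} (Algebra.trdeg k L) ≤ 1 := by
      rw [← h2, Cardinal.lift_le_one_iff]
      exact trdeg_le_one_of_isFunctionField hK
    exact Cardinal.lift_le_one_iff.1 h3
  refine ⟨⟨x', hx'tr, finite_adjoin_of_trdeg_le_one htr hx'tr⟩, ?_⟩
  intro y hy
  have hint : IsIntegral k y := hy.isIntegral
  have h1 := IsAlgClosed.degree_eq_one_of_irreducible k (minpoly.irreducible hint)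
  exact minpoly.mem_range_of_degree_eq_one k y h1

end Fin

end Groth.Agent.Helper16.RH
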