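import Mathlib
import Groth.Agent.H16.RH7
import Groth.Agent.H16.Plane3
import Groth.Agent.H16.Embed2
import Groth.Agent.Lib.Helper17.FFW2

/-! RH part 9: the Frobenius endomorphism of `Kb = kb ⊗ K`, and degrees of endomorphisms. -/

namespace Groth.Agent.Helper16.RH

open FunFld Polynomial Module
open scoped TensorProduct
open Groth.Agent.Helper17.FF

section Frob

variable {k K kb Kb : Type*} [Field k] [Fintype k] [Field K] [Field kb] [Field Kb]
    [Algebra k kb] [Algebra k K] [Algebra K Kb] [Algebra kb Kb] [Algebra k Kb]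
    [IsScalarTower k kb Kb] [IsScalarTower k K Kb]

/-- the Frobenius of `Kb` : identity on `kb`, `q`-th power on `K` -/
noncomputable def frobBar
    (h : Function.Bijective (Algebra.TensorProduct.productMap
      (IsScalarTower.toAlgHom k kb Kb) (IsScalarTower.toAlgHom k K Kb))) : Kb →ₐ[kb] Kb :=
  ((CU.constEquivL h).toAlgHom.comp
    (Algebra.TensorProduct.map (AlgHom.id kb kb) (FiniteField.frobeniusAlgHom k K))).comp
      (CU.constEquivL h).symm.toAlgHom

theorem frobBar_mul
    (h : Function.Bijective (Algebra.TensorProduct.productMap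
      (IsScalarTower.toAlgHom k kb Kb) (IsScalarTower.toAlgHom k K Kb))) (c : kb) (x : K) :
    frobBar h (algebraMap kb Kb c * algebraMap K Kb x) =
      algebraMap kb Kb c * algebraMap K Kb x ^ Fintype.card k := by
  have h1 : (CU.constEquivL h).symm (algebraMap kb Kb c * algebraMap K Kb x) = c ⊗ₜ[k] x := by
    rw [AlgEquiv.symm_apply_eq, CU.constEquivL_tmul]
  show (CU.constEquivL h) ((Algebra.TensorProduct.map (AlgHom.id kb kb)
    (FiniteField.frobeniusAlgHom k K)) ((CU.constEquivL h).symm
      (algebraMap kb Kb c * algebraMap K Kb x))) = _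
  rw [h1, Algebra.TensorProduct.map_tmul, AlgHom.id_apply, CU.constEquivL_tmul,
    FiniteField.coe_frobeniusAlgHom, map_pow]

theorem frobBar_algebraMap
    (h : Function.Bijective (Algebra.TensorProduct.productMap
      (IsScalarTower.toAlgHom k kb Kb) (IsScalarTower.toAlgHom k K Kb))) (x : K) :
    frobBar h (algebraMap K Kb x) = algebraMap K Kb x ^ Fintype.card k := by
  have := frobBar_mul h 1 x
  rwa [map_one, one_mul, one_mul] at this

theorem frobBar_pow_algebraMap
    (h : Function.Bijective (Algebra.TensorProduct.productMap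
      (IsScalarTower.toAlgHom k kb Kb) (IsScalarTower.toAlgHom k K Kb))) (r : ℕ) (x : K) :
    (frobBar h ^ r) (algebraMap K Kb x) = algebraMap K Kb x ^ (Fintype.card k ^ r) := by
  induction r with
  | zero => simp
  | succ r ih =>
    rw [pow_succ', AlgHom.mul_apply, ih, map_pow, frobBar_algebraMap, ← pow_mul, pow_succ']

/-- every value of the Frobenius is a `q`-th power -/
theorem frobBar_isPow [IsAlgClosed kb]
    (h : Function.Bijective (Algebra.TensorProduct.productMap
      (IsScalarTower.toAlgHom k kb Kb) (IsScalarTower.toAlgHom k K Kb))) (z : Kb) :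
    ∃ w : Kb, frobBar h z = w ^ Fintype.card k := by
  have key : ∀ z : Kb, frobBar h z ∈ (FiniteField.frobeniusAlgHom k Kb).range := by
    intro z
    obtain ⟨t, rfl⟩ := (CU.constEquivL h).surjective z
    induction t using TensorProduct.induction_on with
    | zero => rw [map_zero, map_zero]; exact Subalgebra.zero_mem _
    | tmul c a =>
      rw [CU.constEquivL_tmul, frobBar_mul]
      obtain ⟨c', hc'⟩ := IsAlgClosed.exists_pow_nat_eq c (Fintype.card_pos (α := k))
      refine ⟨algebraMap kb Kb c' * algebraMap K Kb a, ?_⟩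
      show (FiniteField.frobeniusAlgHom k Kb) (algebraMap kb Kb c' * algebraMap K Kb a) = _
      rw [FiniteField.coe_frobeniusAlgHom]
      simp only
      rw [mul_pow, ← map_pow, hc']
    | add a b ha hb => rw [map_add, map_add]; exact Subalgebra.add_mem _ ha hb
  obtain ⟨w, hw⟩ := key z
  exact ⟨w, hw.symm⟩

theorem frobBar_pow_isPow [IsAlgClosed kb]
    (h : Function.Bijective (Algebra.TensorProduct.productMap
      (IsScalarTower.toAlgHom k kb Kb) (IsScalarTower.toAlgHom k K Kb))) {r : ℕ} (hr : 0 < r)
    (z : Kb) : ∃ w : Kb, (frobBar h ^ r) z = w ^ Fintype.card k := by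
  obtain ⟨r, rfl⟩ : ∃ r', r = r' + 1 := ⟨r - 1, by omega⟩
  rw [pow_succ', AlgHom.mul_apply]
  exact frobBar_isPow h _

end Frob

section Deg

variable {k L : Type*} [Field k] [Field L] [Algebra k L]

/-- an endomorphism raising a transcendental element to the `Q`-th power has degree `Q` -/
theorem finrank_fieldRange_of_pow [IsAlgClosed k] (hL : IsFunctionField k L) (τ : L →ₐ[k] L)
    {x : L} (hx : Transcendental k x) {Q : ℕ} (hQ : 0 < Q) (hτ : τ x = x ^ Q) :
    finrank τ.fieldRange L = Q := by
  classical
  have hx0 : x ≠ 0 := by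
    rintro rfl
    exact hx isAlgebraic_zero
  have hxQ0 : x ^ Q ≠ 0 := pow_ne_zero _ hx0
  have h1 := deg_mapDiv_comp_algHom hL τ ![(1 : L), x, 0]
  have h2 : τ ∘ ![(1 : L), x, 0] = ![(1 : L), x ^ Q, 0] := by
    funext i
    fin_cases i <;> simp [hτ]
  rw [h2, Plane.mapDiv_eq_poles hL x 0 hx0 (fun P => by rw [map_zero]; exact zero_le),
    Plane.mapDiv_eq_poles hL (x ^ Q) 0 hxQ0 (fun P => by rw [map_zero]; exact zero_le)] at h1
  have h3 : ((-FunFld.div k (x ^ Q)) ⊔ 0 : Divisor k L) = Q • ((-FunFld.div k x) ⊔ 0) := by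
    ext P
    rw [Finsupp.sup_apply, Finsupp.neg_apply, div_apply hL, Finsupp.smul_apply, Finsupp.sup_apply,
      Finsupp.neg_apply, div_apply hL, ord_pow, Finsupp.zero_apply, nsmul_eq_mul]
    rcases le_total (P.ord x) 0 with h | h
    · rw [max_eq_left (by nlinarith), max_eq_left (by omega)]
      push_cast
      ring
    · rw [max_eq_right (by nlinarith), max_eq_right (by omega)]
      simp
  rw [h3, Emb.deg_nsmul, deg_poles hL hx] at h1
  have hpos : 0 < finrank (IntermediateField.adjoin k ({x} : Set L)) L := by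
    haveI := finite_of_transcendental hL hx
    exact finrank_pos
  have h4 : (Q : ℤ) = (finrank τ.fieldRange L : ℤ) := by
    have hne : ((finrank (IntermediateField.adjoin k ({x} : Set L)) L : ℕ) : ℤ) ≠ 0 := by
      exact_mod_cast hpos.ne'
    exact mul_right_cancel₀ hne h1
  exact_mod_cast h4.symm

end Deg

end Groth.Agent.Helper16.RH
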