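import Mathlib
import Groth.Agent.H16.RH9

/-! RH part 13: the rational subfield `E = kb(x)` of `Kb` and related lemmas. -/

namespace Groth.Agent.Helper16.RH

open FunFld Polynomial Module
open scoped TensorProduct
open Groth.Agent.Helper17.FF

section Bar

variable {k K kb Kb : Type*} [Field k] [Field K] [Field kb] [Field Kb]
    [Algebra k kb] [Algebra k K] [Algebra K Kb] [Algebra kb Kb] [Algebra k Kb]
    [IsScalarTower k kb Kb] [IsScalarTower k K Kb]

theorem transcendental_bar [Algebra.IsAlgebraic k kb] {x : K} (hx : Transcendental k x) :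
    Transcendental kb (algebraMap K Kb x) := by
  intro halg
  have h1 : IsAlgebraic k (algebraMap K Kb x) := IsAlgebraic.restrictScalars (R := k) (S := kb) halg
  exact hx ((isAlgebraic_algebraMap_iff (algebraMap K Kb).injective).1 h1)

theorem mem_E_of_mem_E₀ (x : K) {c : K} (hc : c ∈ IntermediateField.adjoin k ({x} : Set K)) :
    algebraMap K Kb c ∈ IntermediateField.adjoin kb ({algebraMap K Kb x} : Set Kb) := by
  have hle : IntermediateField.adjoin k ({x} : Set K) ≤
      ((IntermediateField.adjoin kb ({algebraMap K Kb x} : Set Kb)).restrictScalars k).comap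
        (IsScalarTower.toAlgHom k K Kb) := by
    rw [IntermediateField.adjoin_simple_le_iff]
    show (IsScalarTower.toAlgHom k K Kb) x ∈
      (IntermediateField.adjoin kb ({algebraMap K Kb x} : Set Kb))
    exact IntermediateField.mem_adjoin_simple_self kb _
  exact hle hc

theorem adjoin_theta_top
    (hgen : Algebra.adjoin K (Set.range (algebraMap kb Kb)) = ⊤) (x θ : K)
    [Algebra.IsAlgebraic (IntermediateField.adjoin k ({x} : Set K)) K]
    (hθ : IntermediateField.adjoin (IntermediateField.adjoin k ({x} : Set K)) ({θ} : Set K) = ⊤) :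
    Algebra.adjoin (IntermediateField.adjoin kb ({algebraMap K Kb x} : Set Kb))
      ({algebraMap K Kb θ} : Set Kb) = ⊤ := by
  set E₀ := IntermediateField.adjoin k ({x} : Set K) with hE₀
  set E := IntermediateField.adjoin kb ({algebraMap K Kb x} : Set Kb) with hE
  set A := Algebra.adjoin E ({algebraMap K Kb θ} : Set Kb) with hA
  have hθint : IsIntegral E₀ θ := (Algebra.IsAlgebraic.isAlgebraic θ).isIntegral
  have h1 : ∀ y : K, algebraMap K Kb y ∈ A := by
    intro y
    have hy : y ∈ (IntermediateField.adjoin E₀ ({θ} : Set K)).toSubalgebra := by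
      rw [hθ]; trivial
    rw [IntermediateField.adjoin_simple_toSubalgebra_of_isAlgebraic hθint.isAlgebraic] at hy
    induction hy using Algebra.adjoin_induction with
    | mem z hz =>
      rw [Set.mem_singleton_iff] at hz
      rw [hz]
      exact Algebra.subset_adjoin rfl
    | algebraMap c =>
      have hc : algebraMap K Kb (algebraMap E₀ K c) ∈ E := mem_E_of_mem_E₀ x c.2
      exact Subalgebra.algebraMap_mem A (⟨_, hc⟩ : E)
    | add a b _ _ ha hb => rw [map_add]; exact Subalgebra.add_mem _ ha hb
    | mul a b _ _ ha hb => rw [map_mul]; exact Subalgebra.mul_mem _ ha hb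
  rw [eq_top_iff]
  intro z hz'
  clear hz'
  have hz : z ∈ Algebra.adjoin K (Set.range (algebraMap kb Kb)) := by rw [hgen]; trivial
  induction hz using Algebra.adjoin_induction with
  | mem w hw =>
    obtain ⟨c, rfl⟩ := hw
    exact Subalgebra.algebraMap_mem A (algebraMap kb E c)
  | algebraMap y => exact h1 y
  | add a b _ _ ha hb => exact Subalgebra.add_mem _ ha hb
  | mul a b _ _ ha hb => exact Subalgebra.mul_mem _ ha hb

end Bar

section Restrict

variable {kb Kb : Type*} [Field kb] [Field Kb] [Algebra kb Kb]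

/-- restriction of an endomorphism to a stable intermediate field -/
noncomputable def restrictE (Φ : Kb →ₐ[kb] Kb) (E : IntermediateField kb Kb)
    (h : ∀ z ∈ E, Φ z ∈ E) : E →ₐ[kb] E :=
  (Φ.comp E.val).codRestrict E.toSubalgebra (fun z => h z z.2)

@[simp] theorem restrictE_coe (Φ : Kb →ₐ[kb] Kb) (E : IntermediateField kb Kb)
    (h : ∀ z ∈ E, Φ z ∈ E) (z : E) : ((restrictE Φ E h z : E) : Kb) = Φ z := rfl

theorem restrictE_pow_coe (Φ : Kb →ₐ[kb] Kb) (E : IntermediateField kb Kb)
    (h : ∀ z ∈ E, Φ z ∈ E) (r : ℕ) (z : E) : (((restrictE Φ E h ^ r) z : E) : Kb) = (Φ ^ r) z := by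
  induction r generalizing z with
  | zero => simp
  | succ r ih =>
    rw [pow_succ, pow_succ, AlgHom.mul_apply, AlgHom.mul_apply, ih, restrictE_coe]

theorem stable_adjoin_simple (Φ : Kb →ₐ[kb] Kb) (x : Kb)
    (hx : Φ x ∈ IntermediateField.adjoin kb ({x} : Set Kb)) :
    ∀ z ∈ IntermediateField.adjoin kb ({x} : Set Kb), Φ z ∈ IntermediateField.adjoin kb ({x} : Set Kb) := by
  have hle : IntermediateField.adjoin kb ({x} : Set Kb) ≤
      (IntermediateField.adjoin kb ({x} : Set Kb)).comap Φ := by
    rw [IntermediateField.adjoin_simple_le_iff]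
    exact hx
  exact fun z hz => hle hz

end Restrict

section Roots

theorem exists_fixed_finset (k kb : Type*) [Field k] [Fintype k] [Field kb] [IsAlgClosed kb]
    [Algebra k kb] {r : ℕ} (hr : r ≠ 0) :
    ∃ A : Finset kb, A.card = Fintype.card k ^ r ∧ ∀ a ∈ A, a ^ (Fintype.card k ^ r) = a := by
  classical
  obtain ⟨p, hp⟩ := CharP.exists k
  haveI := hp
  obtain ⟨n, hprime, hcard⟩ := FiniteField.card k p
  haveI : CharP kb p := charP_of_injective_algebraMap (algebraMap k kb).injective p
  have hq1 : 1 < Fintype.card k := Fintype.one_lt_card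
  have hdvd : p ∣ Fintype.card k ^ r := by
    rw [hcard]
    exact dvd_pow (dvd_pow_self p n.ne_zero) hr
  have hsep : (X ^ (Fintype.card k ^ r) - X : kb[X]).Separable := galois_poly_separable p _ hdvd
  have hsplit : ((X ^ (Fintype.card k ^ r) - X : kb[X]).map (algebraMap kb kb)).Splits :=
    IsAlgClosed.splits _
  have hcardroots := Polynomial.card_rootSet_eq_natDegree hsep hsplit
  rw [FiniteField.X_pow_card_pow_sub_X_natDegree_eq kb hr hq1] at hcardroots
  refine ⟨((X ^ (Fintype.card k ^ r) - X : kb[X]).rootSet kb).toFinset, ?_, ?_⟩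
  · rw [Set.toFinset_card]; exact hcardroots
  · intro a ha
    rw [Set.mem_toFinset, Polynomial.mem_rootSet] at ha
    have h2 := ha.2
    simp only [map_sub, map_pow, aeval_X] at h2
    exact sub_eq_zero.1 h2

end Roots

end Groth.Agent.Helper16.RH
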