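import Groth.Agent.H16.RH5
set_option autoImplicit false
set_option linter.unusedSimpArgs false
set_option maxHeartbeats 1000000

/-! The main count. -/

namespace Groth.Agent.Helper16.RH

open FunFld Module Groth.Agent.Helper17.FF

variable {k E K L : Type*} [Field k] [Field E] [Field K] [Field L]
  [Algebra k E] [Algebra k K] [Algebra k L] [Algebra E L] [Algebra E K] [Algebra K L]
  [IsScalarTower k E L] [IsScalarTower k K L] [IsScalarTower E K L]
  [FiniteDimensional E L] [IsGalois E L]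

theorem galois_count [IsAlgClosed k] (hE : IsFunctionField k E) (hK : IsFunctionField k K)
    (hL : IsFunctionField k L) (Ψ : L →ₐ[k] L) (ΦK : K →ₐ[k] K) (ΦE : E →ₐ[k] E)
    (hΨK : ∀ z : K, Ψ (algebraMap K L z) = algebraMap K L (ΦK z))
    (hΨE : ∀ z : E, Ψ (algebraMap E L z) = algebraMap E L (ΦE z))
    {p : ℕ} (hp : 2 ≤ p) (hpow : ∀ z : L, ∃ w : L, Ψ z = w ^ p)
    (s : ℕ) (hdeg : finrank Ψ.fieldRange L = s ^ 2) (hs : genus k L < s)
    (R : Finset (Place k E)) (hR : ∀ P ∈ R, IsStable ΦE P) :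
    ∃ S : Finset (Place k K), (∀ P ∈ S, IsStable ΦK P) ∧
      (finrank E L : ℝ) * R.card -
        ((finrank E L : ℝ) - 1) * (1 + (s : ℝ) ^ 2 + 2 * s * genus k L + 2 * (genus k L : ℝ) ^ 3) -
        ((finrank E L : ℝ) + 1) * (((finrank E L : ℝ) - 1) * (2 * genus k L + 2)) ≤ S.card := by
  classical
  haveI : FiniteDimensional K L := FiniteDimensional.right E K L
  haveI : IsGalois K L := IsGalois.tower_top_of_isGalois E K L
  haveI : Algebra.IsAlgebraic E L := Algebra.IsAlgebraic.of_finite _ _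
  haveI : Algebra.IsAlgebraic K L := Algebra.IsAlgebraic.of_finite _ _
  haveI : Nonempty (Place k L) := exists_place hL
  obtain ⟨n, hn⟩ : ∃ n : ℕ, n = finrank E L := ⟨_, rfl⟩
  obtain ⟨h, hh⟩ : ∃ h : ℕ, h = finrank K L := ⟨_, rfl⟩
  obtain ⟨g, hg⟩ : ∃ g : ℕ, g = genus k L := ⟨_, rfl⟩
  have hn1 : 1 ≤ n := by rw [hn]; exact Module.finrank_pos
  have hh1 : 1 ≤ h := by rw [hh]; exact Module.finrank_pos
  obtain ⟨B₀, hB₀⟩ : ∃ B₀ : ℝ, B₀ = 1 + (s : ℝ) ^ 2 + 2 * s * g + 2 * (g : ℝ) ^ 3 := ⟨_, rfl⟩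
  rw [← hn, ← hg, ← hB₀]
  -- the bad set
  obtain ⟨hBfin, hBcard⟩ := bad_finite (E := E) hL
  obtain ⟨BadF, hBadF⟩ : ∃ BadF : Finset (Place k L), BadF = hBfin.toFinset := ⟨_, rfl⟩
  have hmemBad : ∀ Q, Q ∈ BadF ↔ Q ∈ Bad k E L := fun Q => by rw [hBadF, Set.Finite.mem_toFinset]
  obtain ⟨b, hb⟩ : ∃ b : ℕ, b = BadF.card := ⟨_, rfl⟩
  have hb_le : b ≤ (n - 1) * (2 * g + 2) := by
    rw [hb, hBadF, ← Set.ncard_eq_toFinset_card _ hBfin, hn, hg]; exact hBcard
  -- fibres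
  have hfibfin : ∀ P : Place k E, {Q : Place k L | IsOver Q P}.Finite := fun P =>
    (sum_ramIdx_mul_deg (K' := L) hE P).1
  obtain ⟨fibF, hfibF⟩ : ∃ fibF : Place k E → Finset (Place k L),
      fibF = fun P => (hfibfin P).toFinset := ⟨_, rfl⟩
  have hmemfib : ∀ P Q, Q ∈ fibF P ↔ IsOver Q P := fun P Q => by
    rw [hfibF]; simp only [Set.Finite.mem_toFinset]; rfl
  -- good rational places
  obtain ⟨Rg, hRg⟩ : ∃ Rg : Finset (Place k E),
      Rg = R.filter (fun P => ∀ Q : Place k L, IsOver Q P → Q ∉ Bad k E L) := ⟨_, rfl⟩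
  have hRg_card : R.card ≤ Rg.card + b := by
    have h1 : R.card = Rg.card + (R.filter (fun P => ¬ ∀ Q : Place k L, IsOver Q P →
        Q ∉ Bad k E L)).card := by
      rw [hRg]; exact (Finset.card_filter_add_card_filter_not _).symm
    have h2 : (R.filter (fun P => ¬ ∀ Q : Place k L, IsOver Q P → Q ∉ Bad k E L)).card ≤ b := by
      have hex : ∀ P ∈ R.filter (fun P => ¬ ∀ Q : Place k L, IsOver Q P → Q ∉ Bad k E L),
          ∃ Q : Place k L, IsOver Q P ∧ Q ∈ Bad k E L := by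
        intro P hP
        have := (Finset.mem_filter.mp hP).2
        push Not at this
        exact this
      choose! f hf using hex
      rw [hb]
      apply Finset.card_le_card_of_injOn f
      · intro P hP
        exact (hmemBad _).mpr (hf P hP).2
      · intro P₁ hP₁ P₂ hP₂ h12
        have h3 := (hf P₁ hP₁).1
        have h4 := (hf P₂ hP₂).1
        rw [h12] at h3
        exact isOver_unique h3 h4
    omega
  -- the places over the good rational places
  obtain ⟨W, hW⟩ : ∃ W : Finset (Place k L), W = Rg.biUnion fibF := ⟨_, rfl⟩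
  have hWcard : W.card = n * Rg.card := by
    rw [hW, Finset.card_biUnion]
    · rw [Finset.sum_const_nat (m := n), mul_comm]
      intro P hP
      have hP' := (Finset.mem_filter.mp (by rw [hRg] at hP; exact hP)).2
      have h1 := fiber_card (L := L) hE P hP'
      rw [hn, ← h1, hfibF, Set.ncard_eq_toFinset_card _ (hfibfin P)]
    · intro P₁ _ P₂ _ hne
      rw [Function.onFun, Finset.disjoint_left]
      intro Q hQ₁ hQ₂
      exact hne (isOver_unique ((hmemfib _ _).mp hQ₁) ((hmemfib _ _).mp hQ₂))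
  -- the strong fixed points
  have hSFb := fun σ : L ≃ₐ[E] L => SF_bound hL Ψ s hdeg hs σ
  obtain ⟨SFf, hSFf⟩ : ∃ SFf : (L ≃ₐ[E] L) → Finset (Place k L),
      SFf = fun σ => (hSFb σ).1.toFinset := ⟨_, rfl⟩
  have hmemSF : ∀ σ Q, Q ∈ SFf σ ↔ Q ∈ SF Ψ σ := fun σ Q => by
    rw [hSFf]; simp only [Set.Finite.mem_toFinset]
  have hSFcard : ∀ σ, ((SFf σ).card : ℝ) ≤ B₀ := by
    intro σ
    have h1 := (hSFb σ).2
    rw [Set.ncard_eq_toFinset_card _ (hSFb σ).1] at h1
    rw [hSFf, hB₀, hg]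
    exact h1
  have hWsub : W ⊆ Finset.univ.biUnion SFf := by
    intro Q hQ
    rw [hW, Finset.mem_biUnion] at hQ
    obtain ⟨P, hP, hQP⟩ := hQ
    have hPR : P ∈ R := (Finset.mem_filter.mp (by rw [hRg] at hP; exact hP)).1
    obtain ⟨σ, hσ⟩ := exists_mem_SF hE hL Ψ ΦE hΨE hp hpow P (hR P hPR) Q ((hmemfib _ _).mp hQP)
    rw [Finset.mem_biUnion]
    exact ⟨σ, Finset.mem_univ _, (hmemSF _ _).mpr hσ⟩
  have hcardG : (Finset.univ : Finset (L ≃ₐ[E] L)).card = n := by
    rw [Finset.card_univ, ← Nat.card_eq_fintype_card, IsGalois.card_aut_eq_finrank, hn]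
  have hsumG : (n : ℝ) * Rg.card ≤ ∑ σ : L ≃ₐ[E] L, ((SFf σ).card : ℝ) := by
    have h1 : W.card ≤ ∑ σ : L ≃ₐ[E] L, (SFf σ).card :=
      (Finset.card_le_card hWsub).trans Finset.card_biUnion_le
    rw [hWcard] at h1
    exact_mod_cast h1
  have hone : ∀ σ₀ : L ≃ₐ[E] L, (n : ℝ) * Rg.card - ((n : ℝ) - 1) * B₀ ≤ (SFf σ₀).card := by
    intro σ₀
    have h1 : ∑ σ : L ≃ₐ[E] L, ((SFf σ).card : ℝ) =
        (SFf σ₀).card + ∑ σ ∈ Finset.univ.erase σ₀, ((SFf σ).card : ℝ) := by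
      exact (Finset.add_sum_erase _ (fun σ => ((SFf σ).card : ℝ)) (Finset.mem_univ σ₀)).symm
    have h2 : ∑ σ ∈ Finset.univ.erase σ₀, ((SFf σ).card : ℝ) ≤ ((n : ℝ) - 1) * B₀ := by
      have h3 : ∑ σ ∈ Finset.univ.erase σ₀, ((SFf σ).card : ℝ) ≤
          ∑ _σ ∈ (Finset.univ : Finset (L ≃ₐ[E] L)).erase σ₀, B₀ :=
        Finset.sum_le_sum fun σ _ => hSFcard σ
      rw [Finset.sum_const, Finset.card_erase_of_mem (Finset.mem_univ _), hcardG,
        nsmul_eq_mul, Nat.cast_sub hn1, Nat.cast_one] at h3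
      exact h3
    linarith
  -- the twists over `K`
  obtain ⟨U, hU⟩ : ∃ U : Finset (Place k L),
      U = Finset.univ.biUnion (fun ρ : L ≃ₐ[K] L => SFf (ρ.restrictScalars E)) := ⟨_, rfl⟩
  have hcardH : (Finset.univ : Finset (L ≃ₐ[K] L)).card = h := by
    rw [Finset.card_univ, ← Nat.card_eq_fintype_card, IsGalois.card_aut_eq_finrank, hh]
  have hdouble : ∑ ρ : L ≃ₐ[K] L, (SFf (ρ.restrictScalars E)).card ≤ U.card + h * b := by
    have h1 : ∀ ρ : L ≃ₐ[K] L, (SFf (ρ.restrictScalars E)).card =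
        ∑ Q ∈ U, if Q ∈ SFf (ρ.restrictScalars E) then 1 else 0 := by
      intro ρ
      rw [Finset.sum_ite, Finset.sum_const_zero, add_zero, Finset.sum_const, smul_eq_mul, mul_one]
      congr 1
      ext Q
      rw [Finset.mem_filter]
      constructor
      · intro hQ
        refine ⟨?_, hQ⟩
        rw [hU, Finset.mem_biUnion]
        exact ⟨ρ, Finset.mem_univ _, hQ⟩
      · exact fun hQ => hQ.2
    rw [Finset.sum_congr rfl (fun ρ _ => h1 ρ), Finset.sum_comm]
    have h2 : ∀ Q ∈ U, (∑ ρ : L ≃ₐ[K] L, if Q ∈ SFf (ρ.restrictScalars E) then 1 else 0) ≤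
        1 + (if Q ∈ BadF then h else 0) := by
      intro Q _
      rw [← Finset.card_filter]
      by_cases hQB : Q ∈ BadF
      · rw [if_pos hQB]
        have := Finset.card_filter_le (Finset.univ : Finset (L ≃ₐ[K] L))
          (fun ρ => Q ∈ SFf (ρ.restrictScalars E))
        rw [hcardH] at this
        omega
      · rw [if_neg hQB, add_zero, Finset.card_le_one]
        intro ρ₁ hρ₁ ρ₂ hρ₂
        have hQ₁ := (hmemSF _ _).mp (Finset.mem_filter.mp hρ₁).2
        have hQ₂ := (hmemSF _ _).mp (Finset.mem_filter.mp hρ₂).2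
        have hQB' : Q ∉ Bad k E L := fun hc => hQB ((hmemBad Q).mpr hc)
        have h12 := twist_unique hL Ψ Q hQB' _ _ hQ₁ hQ₂
        ext x
        have := congrArg (fun τ : L ≃ₐ[E] L => τ x) h12
        exact this
    refine (Finset.sum_le_sum h2).trans ?_
    rw [Finset.sum_add_distrib, Finset.sum_const, smul_eq_mul, mul_one, ← Finset.sum_filter,
      Finset.sum_const, smul_eq_mul]
    have h3 : (U.filter (fun Q => Q ∈ BadF)).card ≤ b := by
      rw [hb]
      apply Finset.card_le_card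
      intro Q hQ
      exact (Finset.mem_filter.mp hQ).2
    have h4 : (U.filter (fun Q => Q ∈ BadF)).card * h ≤ h * b := by
      rw [mul_comm]; exact Nat.mul_le_mul_left h h3
    omega
  -- the map to places of `K`
  obtain ⟨S, hS⟩ : ∃ S : Finset (Place k K), S = U.image (fun Q => placeBelow hK Q) := ⟨_, rfl⟩
  have hSstable : ∀ P ∈ S, IsStable ΦK P := by
    intro P hP
    rw [hS, Finset.mem_image] at hP
    obtain ⟨Q, hQ, rfl⟩ := hP
    rw [hU, Finset.mem_biUnion] at hQ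
    obtain ⟨ρ, -, hQρ⟩ := hQ
    exact stable_below (E := E) hK Ψ ΦK hΨK ρ Q ((hmemSF _ _).mp hQρ)
  have hUS : U.card ≤ h * S.card := by
    rw [hS]
    apply Finset.card_le_mul_card_image
    intro P _
    have hsub : (U.filter fun Q => placeBelow hK Q = P) ⊆
        ((sum_ramIdx_mul_deg (K' := L) hK P).1).toFinset := by
      intro Q hQ
      rw [Set.Finite.mem_toFinset]
      have := (Finset.mem_filter.mp hQ).2
      show IsOver Q P
      rw [← this]
      exact isOver_placeBelow hK Q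
    refine (Finset.card_le_card hsub).trans ?_
    rw [← Set.ncard_eq_toFinset_card _ (sum_ramIdx_mul_deg (K' := L) hK P).1,
      ← Nat.card_coe_set_eq]
    obtain ⟨Q₀, hQ₀⟩ := exists_isOver (K' := L) hK P
    have h5 := card_over_mul_card_decomp hQ₀
    rw [← hh] at h5
    have h6 : 0 < Nat.card (Q₀.O.decompositionSubgroup K) := Nat.card_pos
    calc Nat.card {Q' : Place k L // IsOver Q' P}
        ≤ Nat.card {Q' : Place k L // IsOver Q' P} * Nat.card (Q₀.O.decompositionSubgroup K) :=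
          Nat.le_mul_of_pos_right _ h6
      _ = h := h5
  refine ⟨S, hSstable, ?_⟩
  -- arithmetic
  have hsumH : (h : ℝ) * ((n : ℝ) * Rg.card - ((n : ℝ) - 1) * B₀) ≤
      ∑ ρ : L ≃ₐ[K] L, ((SFf (ρ.restrictScalars E)).card : ℝ) := by
    have h1 : ∑ _ρ : L ≃ₐ[K] L, ((n : ℝ) * Rg.card - ((n : ℝ) - 1) * B₀) ≤
        ∑ ρ : L ≃ₐ[K] L, ((SFf (ρ.restrictScalars E)).card : ℝ) :=
      Finset.sum_le_sum fun ρ _ => hone _
    rw [Finset.sum_const, hcardH, nsmul_eq_mul] at h1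
    exact h1
  have hdoubleR : ∑ ρ : L ≃ₐ[K] L, ((SFf (ρ.restrictScalars E)).card : ℝ) ≤
      (U.card : ℝ) + h * b := by
    exact_mod_cast hdouble
  have hUSR : (U.card : ℝ) ≤ h * S.card := by exact_mod_cast hUS
  have hRgR : (R.card : ℝ) ≤ Rg.card + b := by exact_mod_cast hRg_card
  have hbR : (b : ℝ) ≤ ((n : ℝ) - 1) * (2 * g + 2) := by
    have : (b : ℝ) ≤ ((n - 1 : ℕ) : ℝ) * (2 * g + 2) := by exact_mod_cast hb_le
    rwa [Nat.cast_sub hn1, Nat.cast_one] at this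
  have hhpos : (0 : ℝ) < h := by exact_mod_cast hh1
  have hnR : (1 : ℝ) ≤ n := by exact_mod_cast hn1
  have hmain : (h : ℝ) * ((n : ℝ) * Rg.card - ((n : ℝ) - 1) * B₀ - b) ≤ h * S.card := by
    have : (h : ℝ) * ((n : ℝ) * Rg.card - ((n : ℝ) - 1) * B₀ - b) =
        (h : ℝ) * ((n : ℝ) * Rg.card - ((n : ℝ) - 1) * B₀) - h * b := by ring
    rw [this]; linarith
  have hmain' : (n : ℝ) * Rg.card - ((n : ℝ) - 1) * B₀ - b ≤ S.card :=
    le_of_mul_le_mul_left hmain hhpos
  have hb0 : (0 : ℝ) ≤ b := Nat.cast_nonneg _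
  nlinarith

end Groth.Agent.Helper16.RH
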