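import Mathlib
import Groth.Agent.H16.RH6
import Groth.Agent.H16.RH11
import Groth.Agent.H16.RH12
import Groth.Agent.H16.RH13
import Groth.Agent.Lib.Helper17.FFSep

/-! RH part 14: the main bounds for the number of Frobenius-stable places. -/

namespace Groth.Agent.Helper16.RH

open FunFld Polynomial Module
open scoped TensorProduct
open Groth.Agent.Helper17.FF

theorem frob_pow_apply (k R : Type*) [Field k] [Fintype k] [CommRing R] [Algebra k R] (r : ℕ)
    (z : R) : ((FiniteField.frobeniusAlgHom k R) ^ r) z = z ^ (Fintype.card k ^ r) := by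
  induction r generalizing z with
  | zero => simp
  | succ r ih =>
    rw [pow_succ', AlgHom.mul_apply, ih, FiniteField.coe_frobeniusAlgHom]
    simp only
    rw [← pow_mul, pow_succ]

theorem sub_pow_card_pow (k R : Type*) [Field k] [Fintype k] [CommRing R] [Algebra k R] (r : ℕ)
    (a b : R) : (a - b) ^ (Fintype.card k ^ r) =
      a ^ (Fintype.card k ^ r) - b ^ (Fintype.card k ^ r) := by
  rw [← frob_pow_apply k R r, map_sub, frob_pow_apply, frob_pow_apply]

section Main

variable {k K kb Kb : Type*} [Field k] [Fintype k] [Field K] [Field kb] [Field Kb]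
    [Algebra k kb] [Algebra k K] [Algebra K Kb] [Algebra kb Kb] [Algebra k Kb]
    [IsScalarTower k kb Kb] [IsScalarTower k K Kb] [IsAlgClosed kb] [Algebra.IsAlgebraic k kb]

theorem stable_upper
    (hbij : Function.Bijective (Algebra.TensorProduct.productMap
      (IsScalarTower.toAlgHom k kb Kb) (IsScalarTower.toAlgHom k K Kb)))
    (hK : IsFunctionField k K) (r : ℕ) (hr : 0 < r) (s : ℕ) (hs2 : s ^ 2 = Fintype.card k ^ r)
    (hsg : genus kb Kb < s) :
    {Q : Place kb Kb | IsStable (frobBar hbij ^ r) Q}.Finite ∧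
    (({Q : Place kb Kb | IsStable (frobBar hbij ^ r) Q}.ncard : ℝ) ≤
      1 + (s : ℝ) ^ 2 + 2 * s * genus kb Kb + 2 * (genus kb Kb : ℝ) ^ 3) := by
  classical
  have hKb : IsFunctionField kb Kb := isFunctionField_bar hbij hK
  obtain ⟨x, hx, hxb, -⟩ := exists_transc_const hbij hK
  have hdeg : finrank (frobBar hbij ^ r).fieldRange Kb = Fintype.card k ^ r :=
    finrank_fieldRange_of_pow hKb (frobBar hbij ^ r) hxb (pow_pos Fintype.card_pos r)
      (frobBar_pow_algebraMap hbij r x)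
  obtain ⟨hfin, hb⟩ := SF_bound (E := Kb) hKb (frobBar hbij ^ r) s (hdeg.trans hs2.symm) hsg
    AlgEquiv.refl
  have hq2 : 2 ≤ Fintype.card k := Fintype.one_lt_card
  have hsub : {Q : Place kb Kb | IsStable (frobBar hbij ^ r) Q} ⊆
      SF (frobBar hbij ^ r) (AlgEquiv.refl : Kb ≃ₐ[Kb] Kb) := by
    intro Q hQ z hz
    have h1 : Q.1 ((frobBar hbij ^ r) z) < 1 := (hQ z).2 hz
    exact strong_of_fixed_of_pow hq2 (frobBar_pow_isPow hbij hr) Q h1
  refine ⟨hfin.subset hsub, le_trans ?_ hb⟩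
  exact_mod_cast Set.ncard_le_ncard hsub hfin

theorem two_pow_bound {q r s g : ℕ} (hq : 2 ≤ q) (hr : 2 * (g + 1) ≤ r) (hs : s ^ 2 = q ^ r) :
    g < s := by
  by_contra hcon
  push Not at hcon
  have h1 : g < 2 ^ (g + 1) := lt_trans (Nat.lt_two_pow_self) (Nat.pow_lt_pow_right (by norm_num) (by omega))
  have h2 : s < 2 ^ (g + 1) := lt_of_le_of_lt hcon h1
  have h3 : s ^ 2 < (2 ^ (g + 1)) ^ 2 := Nat.pow_lt_pow_left h2 (by norm_num)
  have h4 : (2 ^ (g + 1)) ^ 2 = 2 ^ (2 * (g + 1)) := by rw [← pow_mul, mul_comm]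
  have h5 : 2 ^ (2 * (g + 1)) ≤ 2 ^ r := Nat.pow_le_pow_right (by norm_num) hr
  have h6 : 2 ^ r ≤ q ^ r := Nat.pow_le_pow_left hq r
  omega

set_option maxHeartbeats 1600000 in
theorem stable_lower_core
    (hbij : Function.Bijective (Algebra.TensorProduct.productMap
      (IsScalarTower.toAlgHom k kb Kb) (IsScalarTower.toAlgHom k K Kb)))
    (hK : IsFunctionField k K) (x : K) (hx : Transcendental k x)
    (xb : Kb) (hxbdef : xb = algebraMap K Kb x) (E : IntermediateField kb Kb)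
    (hEdef : E = IntermediateField.adjoin kb ({xb} : Set Kb))
    (p : E[X]) (hpsep : p.Separable)
    (θb : Kb) (hθroot : aeval θb p = 0)
    (hθtop : Algebra.adjoin E ({θb} : Set Kb) = ⊤)
    (hfΦ : (p.map (algebraMap E Kb)).map (frobBar hbij : Kb →+* Kb) =
      (p.map (algebraMap E Kb)).map (FiniteField.frobeniusAlgHom k Kb : Kb →+* Kb)) :
    ∃ (C : ℝ) (r₀ : ℕ), ∀ r s : ℕ, r₀ ≤ r → s ^ 2 = Fintype.card k ^ r →
      ∃ S : Finset (Place kb Kb), (∀ Q ∈ S, IsStable (frobBar hbij ^ r) Q) ∧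
        ((Fintype.card k : ℝ) ^ r - C * s ≤ S.card) := by
  classical
  have hKb : IsFunctionField kb Kb := isFunctionField_bar hbij hK
  have hxb_tr : Transcendental kb xb := by rw [hxbdef]; exact transcendental_bar hx
  have hxbE : xb ∈ E := by rw [hEdef]; exact IntermediateField.mem_adjoin_simple_self kb xb
  have hEff : IsFunctionField kb E := isFunctionField_intermediateField hKb E ⟨xb, hxbE, hxb_tr⟩
  have hp0 : p ≠ 0 := hpsep.ne_zero
  obtain ⟨f, hf⟩ : ∃ f : Kb[X], f = p.map (algebraMap E Kb) := ⟨_, rfl⟩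
  rw [← hf] at hfΦ
  haveI hspKb : IsSplittingField Kb f.SplittingField (p.map (algebraMap E Kb)) := by
    rw [← hf]; exact IsSplittingField.splittingField f
  haveI hspE : IsSplittingField E f.SplittingField p :=
    isSplittingField_of_tower p hp0 θb hθroot hθtop
  haveI : IsGalois E f.SplittingField := IsGalois.of_separable_splitting_field hpsep
  haveI : FiniteDimensional E f.SplittingField := IsSplittingField.finiteDimensional _ p
  haveI : FiniteDimensional Kb f.SplittingField := IsSplittingField.finiteDimensional _ f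
  have hL : IsFunctionField kb f.SplittingField := isFunctionField_of_finite hKb
  -- Frobenius
  obtain ⟨Φ, hΦdef⟩ : ∃ Φ : Kb →ₐ[kb] Kb, Φ = frobBar hbij := ⟨_, rfl⟩
  rw [← hΦdef] at hfΦ
  have hΦpow : ∀ z, ∃ w, Φ z = w ^ Fintype.card k := by rw [hΦdef]; exact frobBar_isPow hbij
  obtain ⟨Ψ, hΨK, hΨpow⟩ := exists_frob_lift (k := k) (L := f.SplittingField) Φ f hfΦ hΦpow
  have hΦx : Φ xb = xb ^ Fintype.card k := by rw [hΦdef, hxbdef]; exact frobBar_algebraMap hbij x
  have hΦxr : ∀ r, (Φ ^ r) xb = xb ^ (Fintype.card k ^ r) := by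
    intro r; rw [hΦdef, hxbdef]; exact frobBar_pow_algebraMap hbij r x
  have hstab : ∀ z ∈ E, Φ z ∈ E := by
    rw [hEdef]
    apply stable_adjoin_simple Φ xb
    rw [hΦx]
    exact pow_mem (IntermediateField.mem_adjoin_simple_self kb xb) _
  obtain ⟨ΦE, hΦEdef⟩ : ∃ ΦE : E →ₐ[kb] E, ΦE = restrictE Φ E hstab := ⟨_, rfl⟩
  have hΨKr : ∀ (r : ℕ) (z : Kb), (Ψ ^ r) (algebraMap Kb f.SplittingField z) =
      algebraMap Kb f.SplittingField ((Φ ^ r) z) := by
    intro r
    induction r with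
    | zero => intro z; simp
    | succ r ih =>
      intro z
      rw [pow_succ, pow_succ, AlgHom.mul_apply, AlgHom.mul_apply, hΨK, ih]
  have hΨEr : ∀ (r : ℕ) (z : E), (Ψ ^ r) (algebraMap E f.SplittingField z) =
      algebraMap E f.SplittingField ((ΦE ^ r) z) := by
    intro r z
    rw [IsScalarTower.algebraMap_apply E Kb f.SplittingField, hΨKr,
      IsScalarTower.algebraMap_apply E Kb f.SplittingField]
    congr 1
    rw [hΦEdef]
    exact (restrictE_pow_coe Φ E hstab r z).symm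
  have hpowr : ∀ r, 0 < r → ∀ z : f.SplittingField, ∃ w : f.SplittingField,
      (Ψ ^ r) z = w ^ Fintype.card k := by
    intro r hr z
    obtain ⟨r', rfl⟩ : ∃ r', r = r' + 1 := ⟨r - 1, by omega⟩
    rw [pow_succ', AlgHom.mul_apply]
    exact hΨpow _
  have hxL : Transcendental kb (algebraMap Kb f.SplittingField xb) :=
    (transcendental_algebraMap_iff (algebraMap Kb f.SplittingField).injective).2 hxb_tr
  have hdeg : ∀ r, finrank (Ψ ^ r).fieldRange f.SplittingField = Fintype.card k ^ r := by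
    intro r
    apply finrank_fieldRange_of_pow hL (Ψ ^ r) hxL (pow_pos Fintype.card_pos r)
    rw [hΨKr, hΦxr, map_pow]
  -- generator of E
  have hxE_tr : Transcendental kb (⟨xb, hxbE⟩ : E) := by
    have h1 : Transcendental kb (algebraMap E Kb (⟨xb, hxbE⟩ : E)) := hxb_tr
    exact (transcendental_algebraMap_iff (algebraMap E Kb).injective).1 h1
  have htopE : IntermediateField.adjoin kb ({(⟨xb, hxbE⟩ : E)} : Set E) = ⊤ := by
    apply IntermediateField.lift_injective
    rw [IntermediateField.lift_adjoin_simple, IntermediateField.lift_top]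
    exact hEdef.symm
  obtain ⟨n, hn⟩ : ∃ n : ℕ, n = finrank E f.SplittingField := ⟨_, rfl⟩
  obtain ⟨gL, hgL⟩ : ∃ gL : ℕ, gL = genus kb f.SplittingField := ⟨_, rfl⟩
  have hn1 : 1 ≤ n := by rw [hn]; exact Module.finrank_pos
  refine ⟨((n : ℝ) - 1) * (1 + 2 * gL + 2 * (gL : ℝ) ^ 3) +
    ((n : ℝ) + 1) * (((n : ℝ) - 1) * (2 * gL + 2)), 2 * (gL + 1), ?_⟩
  intro r s hr hs
  have hr0 : 0 < r := by omega
  have hq2 : 2 ≤ Fintype.card k := Fintype.one_lt_card
  have hsg : gL < s := two_pow_bound hq2 hr hs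
  have hs1 : 1 ≤ s := by omega
  obtain ⟨A, hAcard, hA⟩ := exists_fixed_finset k kb hr0.ne'
  obtain ⟨R, hRst, hRcard⟩ := exists_rational_places hEff hxE_tr htopE (ΦE ^ r)
    (Q := Fintype.card k ^ r) (pow_pos Fintype.card_pos r) A (by
      intro a ha
      apply Subtype.ext
      rw [hΦEdef, restrictE_pow_coe]
      have h1 : (((⟨xb, hxbE⟩ : E) - algebraMap kb E a : E) : Kb) = xb - algebraMap kb Kb a := rfl
      have h2 : ((((⟨xb, hxbE⟩ : E) - algebraMap kb E a) ^ (Fintype.card k ^ r) : E) : Kb) =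
          (xb - algebraMap kb Kb a) ^ (Fintype.card k ^ r) := rfl
      rw [h1, h2, map_sub, hΦxr, AlgHom.commutes, sub_pow_card_pow k Kb, ← map_pow, hA a ha])
  obtain ⟨S, hSst, hScard⟩ := galois_count hEff hKb hL (Ψ ^ r) (Φ ^ r) (ΦE ^ r) (hΨKr r) (hΨEr r)
    hq2 (hpowr r hr0) s ((hdeg r).trans hs.symm) (by rw [← hgL]; exact hsg) R hRst
  refine ⟨S, ?_, ?_⟩
  · rw [← hΦdef]; exact hSst
  rw [← hn, ← hgL] at hScard
  have hRc : ((Fintype.card k : ℝ)) ^ r ≤ R.card := by
    have h1 : Fintype.card k ^ r ≤ R.card := by rw [← hAcard]; exact hRcard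
    exact_mod_cast h1
  have hsq : (s : ℝ) ^ 2 = (Fintype.card k : ℝ) ^ r := by exact_mod_cast hs
  have hs1' : (1 : ℝ) ≤ s := by exact_mod_cast hs1
  have hn1' : (1 : ℝ) ≤ n := by exact_mod_cast hn1
  have hg0 : (0 : ℝ) ≤ gL := Nat.cast_nonneg _
  have hn0 : (0 : ℝ) ≤ (n : ℝ) - 1 := by linarith
  have e1 : ((n : ℝ) - 1) * (1 + 2 * s * gL + 2 * (gL : ℝ) ^ 3) ≤
      ((n : ℝ) - 1) * (1 + 2 * gL + 2 * (gL : ℝ) ^ 3) * s := by
    have h1 : 1 + 2 * (s : ℝ) * gL + 2 * (gL : ℝ) ^ 3 ≤ (1 + 2 * gL + 2 * (gL : ℝ) ^ 3) * s := by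
      have h2 : (0 : ℝ) ≤ 2 * (gL : ℝ) ^ 3 := by positivity
      nlinarith
    calc ((n : ℝ) - 1) * (1 + 2 * s * gL + 2 * (gL : ℝ) ^ 3)
        ≤ ((n : ℝ) - 1) * ((1 + 2 * gL + 2 * (gL : ℝ) ^ 3) * s) :=
          mul_le_mul_of_nonneg_left h1 hn0
      _ = _ := by ring
  have e2 : ((n : ℝ) + 1) * (((n : ℝ) - 1) * (2 * gL + 2)) ≤
      ((n : ℝ) + 1) * (((n : ℝ) - 1) * (2 * gL + 2)) * s := by
    have h2 : (0 : ℝ) ≤ ((n : ℝ) + 1) * (((n : ℝ) - 1) * (2 * gL + 2)) := by positivity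
    nlinarith
  have e3 : (n : ℝ) * (Fintype.card k : ℝ) ^ r ≤ (n : ℝ) * R.card :=
    mul_le_mul_of_nonneg_left hRc (by linarith)
  have e4 : ((n : ℝ) - 1) * (1 + (s : ℝ) ^ 2 + 2 * s * gL + 2 * (gL : ℝ) ^ 3) =
      ((n : ℝ) - 1) * (Fintype.card k : ℝ) ^ r +
        ((n : ℝ) - 1) * (1 + 2 * s * gL + 2 * (gL : ℝ) ^ 3) := by
    rw [hsq]; ring
  rw [e4] at hScard
  nlinarith

theorem stable_lower
    (hbij : Function.Bijective (Algebra.TensorProduct.productMap
      (IsScalarTower.toAlgHom k kb Kb) (IsScalarTower.toAlgHom k K Kb)))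
    (hK : IsFunctionField k K) :
    ∃ (C : ℝ) (r₀ : ℕ), ∀ r s : ℕ, r₀ ≤ r → s ^ 2 = Fintype.card k ^ r →
      ∃ S : Finset (Place kb Kb), (∀ Q ∈ S, IsStable (frobBar hbij ^ r) Q) ∧
        ((Fintype.card k : ℝ) ^ r - C * s ≤ S.card) := by
  classical
  have hgen := hgen_of_surjective (k := k) hbij.2
  have hg : IsGeometric k K := isGeometric_of_perfect k K hK
  obtain ⟨x, hx, hsep⟩ := exists_separating hK hg
  haveI := hsep
  haveI hfinE₀ : FiniteDimensional (IntermediateField.adjoin k ({x} : Set K)) K :=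
    finite_of_transcendental hK hx
  haveI : Algebra.IsAlgebraic (IntermediateField.adjoin k ({x} : Set K)) K :=
    Algebra.IsAlgebraic.of_finite _ _
  obtain ⟨θ, hθ⟩ := Field.exists_primitive_element (IntermediateField.adjoin k ({x} : Set K)) K
  have hθtop := adjoin_theta_top hgen x θ hθ
  let j₀ : (IntermediateField.adjoin k ({x} : Set K)) →+*
      (IntermediateField.adjoin kb ({algebraMap K Kb x} : Set Kb)) :=
    RingHom.codRestrict ((algebraMap K Kb).comp
      (algebraMap (IntermediateField.adjoin k ({x} : Set K)) K)) _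
      (fun c => mem_E_of_mem_E₀ x c.2)
  have hj₀ : (algebraMap (IntermediateField.adjoin kb ({algebraMap K Kb x} : Set Kb)) Kb).comp j₀ =
      (algebraMap K Kb).comp (algebraMap (IntermediateField.adjoin k ({x} : Set K)) K) := rfl
  have hmsep : (minpoly (IntermediateField.adjoin k ({x} : Set K)) θ).Separable :=
    Algebra.IsSeparable.isSeparable _ θ
  refine stable_lower_core hbij hK x hx _ rfl _ rfl
    ((minpoly (IntermediateField.adjoin k ({x} : Set K)) θ).map j₀) hmsep.map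
    (algebraMap K Kb θ) ?_ hθtop ?_
  · rw [Polynomial.aeval_def, Polynomial.eval₂_map, hj₀, ← Polynomial.hom_eval₂,
      ← Polynomial.aeval_def, minpoly.aeval, map_zero]
  · have e1 : ((minpoly (IntermediateField.adjoin k ({x} : Set K)) θ).map j₀).map
        (algebraMap (IntermediateField.adjoin kb ({algebraMap K Kb x} : Set Kb)) Kb) =
        (minpoly (IntermediateField.adjoin k ({x} : Set K)) θ).map ((algebraMap K Kb).comp
          (algebraMap (IntermediateField.adjoin k ({x} : Set K)) K)) := by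
      rw [Polynomial.map_map, hj₀]
    rw [e1, Polynomial.map_map, Polynomial.map_map]
    congr 1
    ext c
    simp only [RingHom.comp_apply]
    show frobBar hbij (algebraMap K Kb _) = (FiniteField.frobeniusAlgHom k Kb) (algebraMap K Kb _)
    rw [frobBar_algebraMap, FiniteField.coe_frobeniusAlgHom]

end Main

end Groth.Agent.Helper16.RH
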