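import Mathlib
import Groth.Agent.H16.RH10
import Groth.Agent.H16.RH14
import Groth.Agent.Lib.Helper17.FFZL2
import Groth.Agent.Lib.Helper17.FF23

/-! RH part 15: counting stable places via the zeta function. -/

namespace Groth.Agent.Helper16.RH

open FunFld Polynomial Module
open scoped TensorProduct
open Groth.Agent.Helper17.FF

universe u v w v'

section Level

variable {k kb k' : Type u} {K : Type v} {Kb : Type w} {K' : Type v'}
  [Field k] [Fintype k] [Field K] [Field kb] [Field Kb] [Algebra k kb] [Algebra k K]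
  [Algebra K Kb] [Algebra kb Kb] [Algebra k Kb] [IsScalarTower k kb Kb] [IsScalarTower k K Kb]
  [IsAlgClosed kb] [Algebra.IsAlgebraic k kb]
  [Field k'] [Field K'] [Algebra k k'] [Algebra k K'] [Algebra K K'] [Algebra k' K']
  [IsScalarTower k k' K'] [IsScalarTower k K K'] [FiniteDimensional k k']
  [Algebra k' kb] [IsScalarTower k k' kb]

set_option maxHeartbeats 1600000 in
theorem level_count_aux
    (hbij : Function.Bijective (Algebra.TensorProduct.productMap
      (IsScalarTower.toAlgHom k kb Kb) (IsScalarTower.toAlgHom k K Kb)))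
    (hK : IsFunctionField k K)
    (hbij' : Function.Bijective (Algebra.TensorProduct.productMap
      (IsScalarTower.toAlgHom k k' K') (IsScalarTower.toAlgHom k K K')))
    {m : ℕ} (α : Fin m → ℂ)
    (hα : PowerSeries.map (Int.castRingHom ℂ) (FunFld.numerZ k K) =
      ((∏ i, (1 - Polynomial.C (α i) * Polynomial.X) : Polynomial ℂ) : PowerSeries ℂ)) :
    (Nat.card {Q : Place kb Kb // IsStable (frobBar hbij ^ finrank k k') Q} : ℂ) =
      1 + (Fintype.card k : ℂ) ^ finrank k k' - ∑ i, α i ^ finrank k k' := by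
  classical
  have hKb : IsFunctionField kb Kb := isFunctionField_bar hbij hK
  have hgen := hgen_of_surjective (k := k) hbij.2
  have hg : IsGeometric k K := isGeometric_of_perfect k K hK
  haveI : Finite k' := Module.finite_of_finite k
  have hK' : IsFunctionField k' K' := isFunctionField_const' hbij' hK hg
  haveI : Algebra.IsAlgebraic k' kb := Algebra.IsAlgebraic.tower_top (K := k) (L := k') (A := kb)
  haveI : IsAlgClosure k' kb := ⟨inferInstance, inferInstance⟩
  letI algk'Kb : Algebra k' Kb := ((algebraMap kb Kb).comp (algebraMap k' kb)).toAlgebra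
  haveI : IsScalarTower k' kb Kb := IsScalarTower.of_algebraMap_eq (fun _ => rfl)
  haveI : IsScalarTower k k' Kb := IsScalarTower.of_algebraMap_eq (fun c => by
    show algebraMap k Kb c = algebraMap kb Kb (algebraMap k' kb (algebraMap k k' c))
    rw [← IsScalarTower.algebraMap_apply k k' kb, ← IsScalarTower.algebraMap_apply k kb Kb])
  let e : k' ⊗[k] K ≃ₐ[k] K' := AlgEquiv.ofBijective _ hbij'
  let J : K' →ₐ[k] Kb := (Algebra.TensorProduct.productMap
      (IsScalarTower.toAlgHom k k' Kb) (IsScalarTower.toAlgHom k K Kb)).comp e.symm.toAlgHom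
  have hJe : ∀ (c : k') (a : K), J (e (c ⊗ₜ a)) = algebraMap k' Kb c * algebraMap K Kb a := by
    intro c a
    show (Algebra.TensorProduct.productMap
      (IsScalarTower.toAlgHom k k' Kb) (IsScalarTower.toAlgHom k K Kb)) (e.symm (e (c ⊗ₜ a))) = _
    rw [AlgEquiv.symm_apply_apply, Algebra.TensorProduct.productMap_apply_tmul]
    rfl
  have he : ∀ (c : k') (a : K), e (c ⊗ₜ a) = algebraMap k' K' c * algebraMap K K' a := by
    intro c a
    show (Algebra.TensorProduct.productMap
      (IsScalarTower.toAlgHom k k' K') (IsScalarTower.toAlgHom k K K')) (c ⊗ₜ a) = _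
    rw [Algebra.TensorProduct.productMap_apply_tmul]
    rfl
  letI algK'Kb : Algebra K' Kb := J.toRingHom.toAlgebra
  have halg : ∀ y : K', algebraMap K' Kb y = J y := fun y => rfl
  have hc' : ∀ c : k', algebraMap K' Kb (algebraMap k' K' c) =
      algebraMap kb Kb (algebraMap k' kb c) := by
    intro c
    have h1 := hJe c 1
    rw [he, map_one, mul_one, map_one, mul_one] at h1
    rw [halg, h1]
    rfl
  have hKK' : ∀ a : K, algebraMap K' Kb (algebraMap K K' a) = algebraMap K Kb a := by
    intro a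
    have h1 := hJe 1 a
    rw [he, map_one, one_mul, map_one, one_mul] at h1
    rw [halg, h1]
  have hgen' : Algebra.adjoin K' (Set.range (algebraMap kb Kb)) = ⊤ := by
    rw [eq_top_iff]
    intro z hz'
    clear hz'
    have hz : z ∈ Algebra.adjoin K (Set.range (algebraMap kb Kb)) := by rw [hgen]; trivial
    induction hz using Algebra.adjoin_induction with
    | mem w hw => exact Algebra.subset_adjoin hw
    | algebraMap y =>
      rw [← hKK']
      exact Subalgebra.algebraMap_mem _ _
    | add a b _ _ ha hb => exact Subalgebra.add_mem _ ha hb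
    | mul a b _ _ ha hb => exact Subalgebra.mul_mem _ ha hb
  have hcard' : Nat.card k' = Fintype.card k ^ finrank k k' := by
    rw [Module.natCard_eq_pow_finrank (K := k) (V := k'), Nat.card_eq_fintype_card]
  have hF2 : ∀ y : K', (frobBar hbij ^ finrank k k') (algebraMap K' Kb y) =
      algebraMap K' Kb y ^ Nat.card k' := by
    intro y
    rw [hcard']
    obtain ⟨t, rfl⟩ := e.surjective y
    induction t using TensorProduct.induction_on with
    | zero =>
      rw [map_zero, map_zero, map_zero, zero_pow]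
      exact (pow_pos Fintype.card_pos _).ne'
    | tmul c a =>
      rw [halg, hJe, map_mul, frobBar_pow_algebraMap, mul_pow]
      congr 1
      have h1 : algebraMap k' Kb c = algebraMap kb Kb (algebraMap k' kb c) := rfl
      rw [h1, AlgHom.commutes, ← map_pow, ← map_pow, ← hcard', pow_natCard_eq]
    | add a b ha hb =>
      rw [map_add, map_add, map_add, ha, hb]
      rw [← frob_pow_apply k Kb, ← frob_pow_apply k Kb, ← frob_pow_apply k Kb, map_add]
  have h1 := card_stable_eq hK' hKb hc' hgen' (frobBar hbij ^ finrank k k') hF2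
  have hce : IsConstExt k K k' K' := ZLog.isConstExt_of_bijective hbij'
  have h2 := ZLog.card_deg_one_isConstExt k K k' K' hK hce α hα
  rw [← h1, h2, Nat.card_eq_fintype_card]

end Level

section Count

variable {k kb : Type u} {K : Type v} {Kb : Type w}
  [Field k] [Fintype k] [Field K] [Field kb] [Field Kb] [Algebra k kb] [Algebra k K]
  [Algebra K Kb] [Algebra kb Kb] [Algebra k Kb] [IsScalarTower k kb Kb] [IsScalarTower k K Kb]
  [IsAlgClosed kb] [Algebra.IsAlgebraic k kb]

theorem level_count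
    (hbij : Function.Bijective (Algebra.TensorProduct.productMap
      (IsScalarTower.toAlgHom k kb Kb) (IsScalarTower.toAlgHom k K Kb)))
    (hK : IsFunctionField k K) {m : ℕ} (α : Fin m → ℂ)
    (hα : PowerSeries.map (Int.castRingHom ℂ) (FunFld.numerZ k K) =
      ((∏ i, (1 - Polynomial.C (α i) * Polynomial.X) : Polynomial ℂ) : PowerSeries ℂ))
    (r : ℕ) (hr : 0 < r) :
    (Nat.card {Q : Place kb Kb // IsStable (frobBar hbij ^ r) Q} : ℂ) =
      1 + (Fintype.card k : ℂ) ^ r - ∑ i, α i ^ r := by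
  classical
  obtain ⟨k', K', _, _, _, _, _, _, _, _, _, hfr, hbij'⟩ := exists_const_ext_finite hK r hr
  haveI : Algebra.IsAlgebraic k k' := Algebra.IsAlgebraic.of_finite k k'
  let ι : k' →ₐ[k] kb := IsAlgClosed.lift
  letI : Algebra k' kb := ι.toRingHom.toAlgebra
  haveI : IsScalarTower k k' kb := IsScalarTower.of_algebraMap_eq (fun c => (ι.commutes c).symm)
  have := level_count_aux hbij hK hbij' α hα
  rwa [hfr] at this

theorem powerSum_bound
    (hbij : Function.Bijective (Algebra.TensorProduct.productMap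
      (IsScalarTower.toAlgHom k kb Kb) (IsScalarTower.toAlgHom k K Kb)))
    (hK : IsFunctionField k K) {m : ℕ} (α : Fin m → ℂ)
    (hα : PowerSeries.map (Int.castRingHom ℂ) (FunFld.numerZ k K) =
      ((∏ i, (1 - Polynomial.C (α i) * Polynomial.X) : Polynomial ℂ) : PowerSeries ℂ)) :
    ∃ (C : ℝ) (t₀ : ℕ), 0 ≤ C ∧ 0 < t₀ ∧ ∀ t : ℕ, t₀ ≤ t →
      ‖∑ i, α i ^ (2 * t)‖ ≤ C * (Fintype.card k : ℝ) ^ t := by
  classical
  obtain ⟨C₂, r₂, hlow⟩ := stable_lower hbij hK
  obtain ⟨g, hg⟩ : ∃ g : ℕ, g = genus kb Kb := ⟨_, rfl⟩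
  have hq2 : 2 ≤ Fintype.card k := Fintype.one_lt_card
  refine ⟨|C₂| + 2 * g + 2 * (g : ℝ) ^ 3 + 1, max (g + 1) r₂, by positivity,
    lt_of_lt_of_le (Nat.succ_pos g) (le_max_left _ _), ?_⟩
  intro t ht
  have ht1 : g + 1 ≤ t := le_trans (le_max_left _ _) ht
  have ht2 : r₂ ≤ 2 * t := by
    have := le_trans (le_max_right (g + 1) r₂) ht
    omega
  have hr0 : 0 < 2 * t := by omega
  have hs2 : (Fintype.card k ^ t) ^ 2 = Fintype.card k ^ (2 * t) := by
    rw [← pow_mul, mul_comm]
  have hsg : genus kb Kb < Fintype.card k ^ t := by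
    rw [← hg]
    exact two_pow_bound hq2 (by omega) hs2
  obtain ⟨hfin, hup⟩ := stable_upper hbij hK (2 * t) hr0 (Fintype.card k ^ t) hs2 hsg
  obtain ⟨S, hSst, hScard⟩ := hlow (2 * t) (Fintype.card k ^ t) ht2 hs2
  have hcount := level_count hbij hK α hα (2 * t) hr0
  rw [← hg] at hup
  obtain ⟨N, hN⟩ : ∃ N : ℕ, N = {Q : Place kb Kb | IsStable (frobBar hbij ^ (2 * t)) Q}.ncard :=
    ⟨_, rfl⟩
  have hNcard : Nat.card {Q : Place kb Kb // IsStable (frobBar hbij ^ (2 * t)) Q} = N := by
    rw [hN]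
    exact Nat.card_coe_set_eq _
  rw [hNcard] at hcount
  rw [← hN] at hup
  have hSN : S.card ≤ N := by
    rw [hN, ← Set.ncard_coe_finset S]
    apply Set.ncard_le_ncard _ hfin
    intro Q hQ
    exact hSst Q (Finset.mem_coe.1 hQ)
  have hsum : ∑ i, α i ^ (2 * t) = ((1 + (Fintype.card k : ℝ) ^ (2 * t) - N : ℝ) : ℂ) := by
    push_cast
    rw [hcount]; ring
  rw [hsum, Complex.norm_real, Real.norm_eq_abs]
  obtain ⟨s, hs⟩ : ∃ s : ℝ, s = (Fintype.card k : ℝ) ^ t := ⟨_, rfl⟩
  have hs1 : (1 : ℝ) ≤ s := by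
    rw [hs]
    have : (1 : ℝ) ≤ (Fintype.card k : ℝ) := by exact_mod_cast (by omega : 1 ≤ Fintype.card k)
    exact one_le_pow₀ this
  have hsq : (Fintype.card k : ℝ) ^ (2 * t) = s ^ 2 := by
    rw [hs, ← pow_mul, mul_comm]
  have hup' : (N : ℝ) ≤ 1 + s ^ 2 + 2 * s * g + 2 * (g : ℝ) ^ 3 := by
    have := hup
    push_cast at this
    rw [← hs] at this
    exact this
  have hlow' : s ^ 2 - C₂ * s ≤ N := by
    have h1 : ((Fintype.card k : ℝ)) ^ (2 * t) - C₂ * s ≤ S.card := by
      have := hScard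
      push_cast at this
      rw [← hs] at this
      exact this
    rw [hsq] at h1
    have h2 : (S.card : ℝ) ≤ N := by exact_mod_cast hSN
    linarith
  rw [hsq, ← hs, abs_le]
  have hg0 : (0 : ℝ) ≤ g := Nat.cast_nonneg _
  have hg3 : (0 : ℝ) ≤ 2 * (g : ℝ) ^ 3 := by positivity
  have hC : C₂ ≤ |C₂| := le_abs_self _
  have hC0 : 0 ≤ |C₂| := abs_nonneg _
  constructor
  · nlinarith
  · nlinarith

end Count

end Groth.Agent.Helper16.RH
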