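import Mathlib
import Groth.Prelude.Def_W4bk4goldsch23FF

/-! RH part 8: `kb ⊗[k] K` is a field for `kb/k` algebraic and `K/k` geometric. -/

namespace Groth.Agent.Helper16.RH

open FunFld Polynomial Module
open scoped TensorProduct

universe u v

variable {k kb : Type u} {K : Type v} [Field k] [Field kb] [Field K] [Algebra k kb] [Algebra k K]

/-- every element of `kb ⊗ K` comes from a finite level -/
theorem exists_level [Algebra.IsAlgebraic k kb] (z : kb ⊗[k] K) :
    ∃ (F : IntermediateField k kb) (_ : FiniteDimensional k F) (w : F ⊗[k] K),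
      Algebra.TensorProduct.map F.val (AlgHom.id k K) w = z := by
  induction z using TensorProduct.induction_on with
  | zero => exact ⟨⊥, inferInstance, 0, map_zero _⟩
  | tmul c a =>
    have hc : IsIntegral k c := (Algebra.IsAlgebraic.isAlgebraic c).isIntegral
    refine ⟨IntermediateField.adjoin k {c}, IntermediateField.adjoin.finiteDimensional hc,
      (⟨c, IntermediateField.mem_adjoin_simple_self k c⟩ : IntermediateField.adjoin k {c}) ⊗ₜ a, ?_⟩
    rw [Algebra.TensorProduct.map_tmul]
    rfl
  | add z₁ z₂ h₁ h₂ =>
    obtain ⟨F₁, hF₁, w₁, hw₁⟩ := h₁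
    obtain ⟨F₂, hF₂, w₂, hw₂⟩ := h₂
    haveI := hF₁
    haveI := hF₂
    refine ⟨F₁ ⊔ F₂, IntermediateField.finiteDimensional_sup F₁ F₂,
      Algebra.TensorProduct.map (IntermediateField.inclusion (le_sup_left : F₁ ≤ F₁ ⊔ F₂))
        (AlgHom.id k K) w₁ +
      Algebra.TensorProduct.map (IntermediateField.inclusion (le_sup_right : F₂ ≤ F₁ ⊔ F₂))
        (AlgHom.id k K) w₂, ?_⟩
    rw [map_add, ← hw₁, ← hw₂]
    congr 1
    · rw [← AlgHom.comp_apply, ← Algebra.TensorProduct.map_comp]
      rfl
    · rw [← AlgHom.comp_apply, ← Algebra.TensorProduct.map_comp]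
      rfl

theorem level_injective (F : IntermediateField k kb) :
    Function.Injective (Algebra.TensorProduct.map F.val (AlgHom.id k K)) := by
  have h := Module.Flat.rTensor_preserves_injective_linearMap (M := K) F.val.toLinearMap
    F.val.injective
  intro a b hab
  apply h
  have : ∀ t : F ⊗[k] K, (LinearMap.rTensor K F.val.toLinearMap) t =
      Algebra.TensorProduct.map F.val (AlgHom.id k K) t := by
    intro t
    induction t using TensorProduct.induction_on with
    | zero => simp
    | tmul x y => simp
    | add x y hx hy => rw [map_add, map_add, hx, hy]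
  rw [this, this, hab]

theorem isField_tensor_of_isGeometric [Algebra.IsAlgebraic k kb] (hg : IsGeometric k K) :
    IsField (kb ⊗[k] K) := by
  refine ⟨⟨0, 1, ?_⟩, mul_comm, ?_⟩
  · intro h01
    have hinj := level_injective (K := K) (⊥ : IntermediateField k kb)
    have hf := hg (⊥ : IntermediateField k kb) inferInstance
    obtain ⟨a, b, hab⟩ := hf.exists_pair_ne
    letI := hf.toField
    have h1 : (Algebra.TensorProduct.map (⊥ : IntermediateField k kb).val (AlgHom.id k K)) 0 =
      (Algebra.TensorProduct.map (⊥ : IntermediateField k kb).val (AlgHom.id k K)) 1 := by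
      rw [map_zero, map_one]; exact h01
    exact zero_ne_one (hinj h1)
  · intro z hz
    obtain ⟨F, hF, w, hw⟩ := exists_level z
    have hf := hg F hF
    have hw0 : w ≠ 0 := by
      rintro rfl
      rw [map_zero] at hw
      exact hz hw.symm
    obtain ⟨w', hw'⟩ := hf.mul_inv_cancel hw0
    refine ⟨Algebra.TensorProduct.map F.val (AlgHom.id k K) w', ?_⟩
    rw [← hw, ← map_mul, hw', map_one]

end Groth.Agent.Helper16.RH
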