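import Mathlib
import Groth.Agent.H16.RH1
import Groth.Agent.H16.RH8
import Groth.Agent.H16.RH15

/-! RH part 16: the Riemann hypothesis for function fields, abstract and concrete forms. -/

namespace Groth.Agent.Helper16.RH

open FunFld Polynomial Module
open scoped TensorProduct
open Groth.Agent.Helper17.FF

universe u v w

section Abstract

variable {k kb : Type u} {K : Type v} {Kb : Type w}
  [Field k] [Fintype k] [Field K] [Field kb] [Field Kb] [Algebra k kb] [Algebra k K]
  [Algebra K Kb] [Algebra kb Kb] [Algebra k Kb] [IsScalarTower k kb Kb] [IsScalarTower k K Kb]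
  [IsAlgClosed kb] [Algebra.IsAlgebraic k kb]

theorem rh_abstract
    (hbij : Function.Bijective (Algebra.TensorProduct.productMap
      (IsScalarTower.toAlgHom k kb Kb) (IsScalarTower.toAlgHom k K Kb)))
    (hK : IsFunctionField k K) {m : ℕ} (α : Fin m → ℂ)
    (hα : PowerSeries.map (Int.castRingHom ℂ) (FunFld.numerZ k K) =
      ((∏ i, (1 - Polynomial.C (α i) * Polynomial.X) : Polynomial ℂ) : PowerSeries ℂ))
    (i : Fin m) : ‖α i‖ ≤ Real.sqrt (Fintype.card k) := by
  obtain ⟨C, t₀, hC, ht₀, hb⟩ := powerSum_bound hbij hK α hα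
  have hq0 : (0 : ℝ) < Fintype.card k := by exact_mod_cast Fintype.card_pos
  have h1 := norm_le_of_powerSum_bound (fun j => α j ^ (2 * t₀)) C ((Fintype.card k : ℝ) ^ t₀)
    (pow_pos hq0 _) hC (fun n hn => by
      have h2 := hb (t₀ * n) (Nat.le_mul_of_pos_right _ (by omega))
      have e1 : ∑ j, (fun j => α j ^ (2 * t₀)) j ^ n = ∑ j, α j ^ (2 * (t₀ * n)) := by
        refine Finset.sum_congr rfl fun j _ => ?_
        simp only
        rw [← pow_mul, mul_assoc]
      rw [e1, ← pow_mul]
      exact h2) i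
  simp only [norm_pow] at h1
  have hsq : (Fintype.card k : ℝ) ^ t₀ = (Real.sqrt (Fintype.card k)) ^ (2 * t₀) := by
    rw [pow_mul, Real.sq_sqrt hq0.le]
  rw [hsq] at h1
  exact le_of_pow_le_pow_left₀ (by omega) (Real.sqrt_nonneg _) h1

end Abstract

section Concrete

variable {k : Type u} {K : Type v} [Field k] [Fintype k] [Field K] [Algebra k K]

attribute [local instance] Algebra.TensorProduct.rightAlgebra

theorem norm_le_sqrt_aux (kb : Type u) [Field kb] [Algebra k kb] [IsAlgClosed kb]
    [Algebra.IsAlgebraic k kb] (hK : IsFunctionField k K) {m : ℕ} (α : Fin m → ℂ)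
    (hα : PowerSeries.map (Int.castRingHom ℂ) (FunFld.numerZ k K) =
      ((∏ i, (1 - Polynomial.C (α i) * Polynomial.X) : Polynomial ℂ) : PowerSeries ℂ))
    (i : Fin m) : ‖α i‖ ≤ Real.sqrt (Fintype.card k) := by
  have hg : IsGeometric k K := isGeometric_of_perfect k K hK
  have hf : IsField (kb ⊗[k] K) := isField_tensor_of_isGeometric hg
  letI : Field (kb ⊗[k] K) := hf.toField
  have hbij : Function.Bijective (Algebra.TensorProduct.productMap
      (IsScalarTower.toAlgHom k kb (kb ⊗[k] K))
      (IsScalarTower.toAlgHom k K (kb ⊗[k] K))) := by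
    have : (Algebra.TensorProduct.productMap
      (IsScalarTower.toAlgHom k kb (kb ⊗[k] K))
      (IsScalarTower.toAlgHom k K (kb ⊗[k] K))) =
        AlgHom.id k (kb ⊗[k] K) := by
      apply Algebra.TensorProduct.ext'
      intro a b
      rw [Algebra.TensorProduct.productMap_apply_tmul]
      show a ⊗ₜ[k] (1 : K) * (1 : kb) ⊗ₜ[k] b = _
      rw [Algebra.TensorProduct.tmul_mul_tmul, mul_one, one_mul]
      rfl
    rw [this]
    exact Function.bijective_id
  exact rh_abstract hbij hK α hα i

theorem norm_le_sqrt (hK : IsFunctionField k K) {m : ℕ} (α : Fin m → ℂ)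
    (hα : PowerSeries.map (Int.castRingHom ℂ) (FunFld.numerZ k K) =
      ((∏ i, (1 - Polynomial.C (α i) * Polynomial.X) : Polynomial ℂ) : PowerSeries ℂ))
    (i : Fin m) : ‖α i‖ ≤ Real.sqrt (Fintype.card k) :=
  norm_le_sqrt_aux (AlgebraicClosure k) hK α hα i

end Concrete

end Groth.Agent.Helper16.RH
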