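import Groth.Agent.H16.SV4
import Groth.Agent.H21.Orders
set_option autoImplicit false
set_option linter.unusedSimpArgs false

namespace Groth.Agent.Helper16.Hasse

open FunFld Module Groth.Agent.Helper17.FF

variable {k K : Type*} [Field k] [Field K] [Algebra k K] {n : ℕ}

/-- `τ`-orders versus orders at a strong fixed point (for an adapted basis). -/
theorem strong_orders_le [IsAlgClosed k] (hK : IsFunctionField k K) (τ : K →ₐ[k] K)
    (P : Place k K) (hS : IsStrongFixedPt τ P) {t : K} (ht : P.1 t = WithZero.exp (-1 : ℤ))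
    (H : K →ₐ[k] PowerSeries K) (hH : LocRes.IsHasseFamily t H) (φ ψ : Fin (n + 1) → K)
    (A : Matrix (Fin (n + 1)) (Fin (n + 1)) k) (hA : ∀ i, ψ i = ∑ j, A i j • φ j)
    (J' : Fin n → ℕ) (hJ'mono : StrictMono J')
    (h0v : P.1 (ψ 0) = 1) (h0e : evalP P (ψ 0) = 1)
    (hl : ∀ l : Fin n, P.1 (ψ l.succ) = WithZero.exp (-(J' l : ℤ)) ∧
      evalP P (ψ l.succ / t ^ J' l) = 1)
    (hJpos : ∀ l, 1 ≤ J' l)
    (J : Fin n → ℕ) (hJ : IsOrders K (hcol τ H φ) J) (hn : 0 < n) :
    ∀ l, J l + J' ⟨0, hn⟩ ≤ J' l := by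
  classical
  intro l
  have hP := fixed_of_strong hK hS
  have ht0 : t ≠ 0 := t_ne_zero hK P ht H hH
  have hmono0 : J' ⟨0, hn⟩ ≤ J' l := hJ'mono.monotone (Fin.mk_le_of_le_val (Nat.zero_le _))
  obtain ⟨N, hNdef⟩ : ∃ N, N = J' l - J' ⟨0, hn⟩ := ⟨_, rfl⟩
  suffices hJl : J l ≤ N by omega
  -- exponents
  obtain ⟨jj, hjj⟩ : ∃ jj : Fin (n + 1) → ℕ, jj = Fin.cases 0 J' := ⟨_, rfl⟩
  have hjj0 : jj 0 = 0 := by rw [hjj]; rfl
  have hjjs : ∀ r : Fin n, jj r.succ = J' r := fun r => by rw [hjj]; rfl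
  have hψv : ∀ i, P.1 (ψ i) ≤ WithZero.exp (-(jj i : ℤ)) := by
    intro i
    refine Fin.cases ?_ (fun r => ?_) i
    · rw [hjj0, h0v]; simp
    · rw [hjjs, (hl r).1]
  have hunit : ∀ i, evalP P (ψ i / t ^ jj i) = 1 := by
    intro i
    refine Fin.cases ?_ (fun r => ?_) i
    · rw [hjj0, pow_zero, div_one, h0e]
    · rw [hjjs, (hl r).2]
  have hjjinj : Function.Injective jj := by
    intro a b hab
    induction a using Fin.cases with
    | zero =>
      induction b using Fin.cases with
      | zero => rfl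
      | succ r => rw [hjj0, hjjs] at hab; have := hJpos r; omega
    | succ r =>
      induction b using Fin.cases with
      | zero => rw [hjj0, hjjs] at hab; have := hJpos r; omega
      | succ r' => rw [hjjs, hjjs] at hab; rw [hJ'mono.injective hab]
  -- column scaling
  obtain ⟨S, hS'⟩ : ∃ S : Fin (N + 2) → K, S = Fin.cases 1 (fun c => t ^ c.val) := ⟨_, rfl⟩
  have hS0 : S 0 = 1 := by rw [hS']; rfl
  have hSs : ∀ c : Fin (N + 1), S c.succ = t ^ c.val := fun c => by rw [hS']; rfl
  have hSne : ∀ c, S c ≠ 0 := by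
    intro c
    refine Fin.cases ?_ (fun c => ?_) c
    · rw [hS0]; exact one_ne_zero
    · rw [hSs]; exact pow_ne_zero _ ht0
  -- the scaled matrix
  obtain ⟨Nm, hNm⟩ : ∃ Nm : Matrix {i : Fin (n + 1) // i ≤ l.succ} (Fin (N + 2)) K,
      Nm = Matrix.of fun i c => hcol τ H ψ c.val i.1 * S c / t ^ jj i.1 := ⟨_, rfl⟩
  have hN0 : ∀ i : {i : Fin (n + 1) // i ≤ l.succ}, Nm i 0 = τ (ψ i.1) / t ^ jj i.1 := by
    intro i
    rw [hNm, Matrix.of_apply, hS0, mul_one]
    rfl
  have hNs : ∀ (i : {i : Fin (n + 1) // i ≤ l.succ}) (c : Fin (N + 1)),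
      Nm i c.succ = LocRes.hasseD H c.val (ψ i.1) * t ^ c.val / t ^ jj i.1 := by
    intro i c
    rw [hNm, Matrix.of_apply, hSs]
    rfl
  have hNle : ∀ i c, P.1 (Nm i c) ≤ 1 := by
    intro i c
    refine Fin.cases ?_ (fun c => ?_) c
    · rw [hN0]
      exact val_div_pow P ht (tau_val_pow_le hK hP ht (hψv i.1))
    · rw [hNs]
      exact (hasse_entry hK P ht H hH (hψv i.1) c.val).1
  -- residues
  have hr00 : ∀ i : {i : Fin (n + 1) // i ≤ l.succ}, i.1 = 0 → evalP P (Nm i 0) = 1 := by
    intro i hi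
    rw [hN0, hi, hjj0, pow_zero, div_one, evalP_tau hK hP (le_of_eq h0v), h0e]
  have hrs0 : ∀ i : {i : Fin (n + 1) // i ≤ l.succ}, i.1 ≠ 0 → evalP P (Nm i 0) = 0 := by
    intro i hi
    obtain ⟨r, hr⟩ := Fin.exists_succ_eq_of_ne_zero hi
    rw [hN0, ← hr, hjjs]
    have hle : P.1 (τ (ψ r.succ) / t ^ J' r) < 1 := by
      rw [val_div_pow_eq P ht]
      calc P.1 (τ (ψ r.succ)) * WithZero.exp ((J' r : ℕ) : ℤ)
          ≤ WithZero.exp (-((2 * J' r : ℕ) : ℤ)) * WithZero.exp ((J' r : ℕ) : ℤ) :=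
            mul_le_mul' (tau_val_pow_le_strong hK hS ht (le_of_eq (hl r).1)) le_rfl
        _ = WithZero.exp (-((J' r : ℕ) : ℤ)) := by
            rw [← WithZero.exp_add]; congr 1; push_cast; ring
        _ < 1 := exp_neg_pos_lt_one (hJpos r)
    exact (evalP_eq_zero_iff P (le_of_lt hle)).mpr hle
  have hrss : ∀ (i : {i : Fin (n + 1) // i ≤ l.succ}) (c : Fin (N + 1)),
      evalP P (Nm i c.succ) = (((jj i.1).choose c.val : ℕ) : IsLocalRing.ResidueField P.O) := by
    intro i c
    rw [hNs, (hasse_entry hK P ht H hH (hψv i.1) c.val).2, hunit, mul_one]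
  -- residue rows independent
  have hres : LinearIndependent (IsLocalRing.ResidueField P.O)
      (fun i : {i : Fin (n + 1) // i ≤ l.succ} => fun c : Fin (N + 2) => evalP P (Nm i c)) := by
    rw [Fintype.linearIndependent_iff]
    intro β hβ
    have hβ0 : ∀ i : {i : Fin (n + 1) // i ≤ l.succ}, i.1 = 0 → β i = 0 := by
      intro i hi
      have h1 := congrFun hβ 0
      simp only [Finset.sum_apply, Pi.smul_apply, smul_eq_mul, Pi.zero_apply] at h1
      rw [Finset.sum_eq_single i] at h1
      · rwa [hr00 i hi, mul_one] at h1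
      · intro i' _ hne
        rw [hrs0 i' (fun h => hne (Subtype.ext (h.trans hi.symm))), mul_zero]
      · intro h; exact absurd (Finset.mem_univ _) h
    have hA' := binom_indep
      (Finset.univ.filter (fun i : {i : Fin (n + 1) // i ≤ l.succ} => i.1 ≠ 0))
      (fun i => jj i.1) (fun a _ b _ hab => Subtype.ext (hjjinj hab)) β (J' ⟨0, hn⟩) N
      (by
        intro i hi
        rw [Finset.mem_filter] at hi
        obtain ⟨r, hr⟩ := Fin.exists_succ_eq_of_ne_zero hi.2
        have hrl : r ≤ l := by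
          have := i.2
          rw [← hr] at this
          exact Fin.succ_le_succ_iff.mp this
        have h1 : J' ⟨0, hn⟩ ≤ J' r := hJ'mono.monotone (Fin.mk_le_of_le_val (Nat.zero_le _))
        have h2 : J' r ≤ J' l := hJ'mono.monotone hrl
        show J' ⟨0, hn⟩ ≤ jj i.1 ∧ jj i.1 ≤ J' ⟨0, hn⟩ + N
        rw [← hr, hjjs]
        omega)
      (by
        intro c hc
        have h1 := congrFun hβ (Fin.succ ⟨c, by omega⟩)
        simp only [Finset.sum_apply, Pi.smul_apply, smul_eq_mul, Pi.zero_apply] at h1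
        rw [Finset.sum_filter]
        refine Eq.trans (Finset.sum_congr rfl fun i _ => ?_) h1
        by_cases hi : i.1 = 0
        · rw [if_neg (not_not.mpr hi), hβ0 i hi, zero_mul]
        · rw [if_pos hi, hrss])
    intro i
    by_cases hi : i.1 = 0
    · exact hβ0 i hi
    · exact hA' i (by rw [Finset.mem_filter]; exact ⟨Finset.mem_univ _, hi⟩)
  have hNind := rows_indep_of_residue P Nm hNle hres
  -- the unscaled matrix
  obtain ⟨B, hB⟩ : ∃ B : Matrix {i : Fin (n + 1) // i ≤ l.succ} (Fin (N + 2)) K,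
      B = Matrix.of fun i c => hcol τ H ψ c.val i.1 := ⟨_, rfl⟩
  have hBind : LinearIndependent K B.row := by
    show LinearIndependent K (fun i : {i : Fin (n + 1) // i ≤ l.succ} => fun c => B i c)
    rw [Fintype.linearIndependent_iff] at hNind ⊢
    intro a ha i
    have h1 := hNind (fun i => a i * t ^ jj i.1) (by
      funext c
      have h2 := congrFun ha c
      simp only [Finset.sum_apply, Pi.smul_apply, smul_eq_mul, Pi.zero_apply] at h2 ⊢
      calc ∑ i, a i * t ^ jj i.1 * Nm i c = (∑ i, a i * B i c) * S c := by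
            rw [Finset.sum_mul]
            refine Finset.sum_congr rfl fun i _ => ?_
            rw [hNm, hB]
            simp only [Matrix.of_apply]
            field_simp
        _ = 0 := by rw [h2, zero_mul]) i
    rcases mul_eq_zero.mp h1 with h | h
    · exact h
    · exact absurd h (pow_ne_zero _ ht0)
  -- linearity
  have hlin : ∀ (m : ℕ) (i : Fin (n + 1)),
      hcol τ H ψ m i = ∑ j, algebraMap k K (A i j) * hcol τ H φ m j := by
    intro m i
    cases m with
    | zero =>
      show τ (ψ i) = ∑ j, algebraMap k K (A i j) * τ (φ j)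
      rw [hA i, map_sum]
      refine Finset.sum_congr rfl fun j _ => ?_
      rw [map_smul, Algebra.smul_def]
    | succ m =>
      show LocRes.hasseD H m (ψ i) = ∑ j, algebraMap k K (A i j) * LocRes.hasseD H m (φ j)
      rw [hA i, hasseD_sum_smul]
      refine Finset.sum_congr rfl fun j _ => ?_
      rw [Algebra.smul_def]
  obtain ⟨A', hA'⟩ : ∃ A' : Matrix (Fin (n + 1)) (Fin (N + 2)) K,
      A' = Matrix.of fun j c => hcol τ H φ c.val j := ⟨_, rfl⟩
  obtain ⟨Cm, hCm⟩ : ∃ Cm : Matrix {i : Fin (n + 1) // i ≤ l.succ} (Fin (n + 1)) K,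
      Cm = Matrix.of fun i j => algebraMap k K (A i.1 j) := ⟨_, rfl⟩
  have hBmul : B = Cm * A' := by
    ext i c
    rw [Matrix.mul_apply, hB, hCm, hA']
    simp only [Matrix.of_apply]
    exact hlin c.val i.1
  have hrankB : B.rank = Fintype.card {i : Fin (n + 1) // i ≤ l.succ} :=
    LinearIndependent.rank_matrix hBind
  have hcardT : Fintype.card {i : Fin (n + 1) // i ≤ l.succ} = l.val + 2 := by
    rw [Fintype.card_subtype]
    have : (Finset.univ.filter (fun i : Fin (n + 1) => i ≤ l.succ)) = Finset.Iic l.succ := by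
      ext; simp
    rw [this, Fin.card_Iic, Fin.val_succ]
  have hrankle : B.rank ≤ A'.rank := by rw [hBmul]; exact Matrix.rank_mul_le_right _ _
  have hrange : Set.range A'.col = hcol τ H φ '' Set.Iio (N + 2) := by
    ext v
    constructor
    · rintro ⟨c, rfl⟩
      refine ⟨c.val, c.isLt, ?_⟩
      ext j
      rw [hA']
      rfl
    · rintro ⟨m, hm, rfl⟩
      refine ⟨⟨m, hm⟩, ?_⟩
      ext j
      rw [hA']
      rfl
  have hjumps := Groth.Agent.H21.Orders.finrank_span_le_card_jumps (R := K) (hcol τ H φ) (N + 2)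
  rw [← hrange, ← Matrix.rank_eq_finrank_span_cols] at hjumps
  have hupper : ((Finset.range (N + 2)).filter (fun j => IsJump K (hcol τ H φ) j)).card ≤
      1 + (Finset.univ.filter (fun i : Fin n => J i ≤ N)).card := by
    have hsub : (Finset.range (N + 2)).filter (fun j => IsJump K (hcol τ H φ) j) ⊆
        insert 0 ((Finset.univ.filter (fun i : Fin n => J i ≤ N)).image (fun i => J i + 1)) := by
      intro j hj
      rw [Finset.mem_filter, Finset.mem_range] at hj
      obtain ⟨hjN, hjump⟩ := hj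
      rcases Nat.eq_zero_or_pos j with rfl | hpos
      · exact Finset.mem_insert_self _ _
      · obtain ⟨j', rfl⟩ : ∃ j', j = j' + 1 := ⟨j - 1, by omega⟩
        obtain ⟨i, hi⟩ := (hJ.2 j').mpr hjump
        apply Finset.mem_insert_of_mem
        rw [Finset.mem_image]
        exact ⟨i, by rw [Finset.mem_filter]; exact ⟨Finset.mem_univ _, by omega⟩, by rw [hi]⟩
    calc _ ≤ _ := Finset.card_le_card hsub
      _ ≤ ((Finset.univ.filter (fun i : Fin n => J i ≤ N)).image (fun i => J i + 1)).card + 1 :=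
          Finset.card_insert_le _ _
      _ ≤ (Finset.univ.filter (fun i : Fin n => J i ≤ N)).card + 1 := by
          gcongr
          exact Finset.card_image_le
      _ = _ := add_comm _ _
  by_contra hlt
  push Not at hlt
  have hsub2 : Finset.univ.filter (fun i : Fin n => J i ≤ N) ⊆ Finset.Iio l := by
    intro i hi
    rw [Finset.mem_filter] at hi
    rw [Finset.mem_Iio]
    exact hJ.1.lt_iff_lt.mp (by omega)
  have h3 := Finset.card_le_card hsub2
  rw [Fin.card_Iio] at h3
  omega

end Groth.Agent.Helper16.Hasse
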