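import Groth.Agent.H16.SV7
import Groth.Agent.H16.Cond
set_option autoImplicit false
set_option linter.unusedSimpArgs false

namespace Groth.Agent.Helper16.Hasse

open FunFld Module Groth.Agent.Helper17.FF

variable {k K : Type*} [Field k] [Field K] [Algebra k K] {n : ℕ}

/-- the divisor of an effective map normalized at `P` has coefficient `0` at `P` -/
theorem mapDiv_eq_zero_of_norm (hK : IsFunctionField k K) (P : Place k K) (ψ : Fin (n + 1) → K)
    (hψ0 : ∀ i, ψ i ≠ 0) (heff : (1 : K) ∈ Submodule.span k (Set.range ψ))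
    (hnorm : ∀ i, P.1 (ψ i) ≤ 1) : mapDiv k ψ P = 0 := by
  apply le_antisymm
  · obtain ⟨i, hi⟩ := Groth.Agent.Helper16.Emb.exists_val_eq_mapDiv hK ψ hψ0 P
    have h1 := hnorm i
    rw [hi] at h1
    have h2 : WithZero.exp (mapDiv k ψ P) ≤ WithZero.exp (0 : ℤ) := by
      rw [WithZero.exp_zero]; exact h1
    exact WithZero.exp_le_exp.mp h2
  · obtain ⟨c, hc⟩ := (Submodule.mem_span_range_iff_exists_fun k).mp heff
    have h1 : P.1 (∑ i, c i • ψ i) ≤ WithZero.exp (mapDiv k ψ P) := by
      apply Valuation.map_sum_le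
      intro i _
      rw [Algebra.smul_def, map_mul]
      calc P.1 (algebraMap k K (c i)) * P.1 (ψ i) ≤ 1 * WithZero.exp (mapDiv k ψ P) :=
            mul_le_mul' (P.2.1 (c i)) (Groth.Agent.Helper16.Emb.val_le_mapDiv hK ψ hψ0 P i)
        _ = _ := one_mul _
    rw [hc, map_one] at h1
    have h2 : WithZero.exp (0 : ℤ) ≤ WithZero.exp (mapDiv k ψ P) := by
      rw [WithZero.exp_zero]; exact h1
    exact WithZero.exp_le_exp.mp h2

/-- the Weierstrass divisor at `P`, computed with a local parameter for a normalized effective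
map at a fixed place, is the order of the Wronskian -/
theorem wDiv_apply_param [IsAlgClosed k] (hK : IsFunctionField k K) (τ : K →ₐ[k] K)
    (P : Place k K) (hP : IsFixedPt τ P) (φ : Fin (n + 1) → K) (hφ : LinearIndependent k φ)
    (heff : (1 : K) ∈ Submodule.span k (Set.range φ)) (hnorm : ∀ i, P.1 (φ i) ≤ 1)
    {t : K} (ht : P.1 t = WithZero.exp (-1 : ℤ)) (Ht : K →ₐ[k] PowerSeries K)
    (J : Fin n → ℕ) (Φ : Place k K → (K →ₐ[k] LaurentSeries k))
    (hΦ : LocRes.IsExpansionAt P.1 (Φ P)) :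
    wDiv τ Ht Φ t φ J P = P.ord (wrMat τ Ht φ J).det := by
  have hφ0 : ∀ i, φ i ≠ 0 := fun i => hφ.ne_zero i
  have hmd : mapDiv k φ P = 0 := mapDiv_eq_zero_of_norm hK P φ hφ0 heff hnorm
  have hmd2 : mapDiv k (⇑τ ∘ φ) P = 0 := by
    apply mapDiv_eq_zero_of_norm hK P
    · intro i
      exact (map_ne_zero τ).mpr (hφ0 i)
    · obtain ⟨c, hc⟩ := (Submodule.mem_span_range_iff_exists_fun k).mp heff
      rw [Submodule.mem_span_range_iff_exists_fun]
      refine ⟨c, ?_⟩
      have h1 := congrArg τ hc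
      rw [map_sum, map_one] at h1
      rw [← h1]
      refine Finset.sum_congr rfl fun i _ => ?_
      rw [map_smul]
      rfl
    · intro i
      exact tau_val_le hK hP (hnorm i)
  unfold wDiv
  rw [Finsupp.add_apply, Finsupp.add_apply, Finsupp.add_apply, Finsupp.smul_apply,
    Finsupp.smul_apply, hmd, hmd2, divDiff_param Φ P hΦ ht, div_apply hK]
  simp only [smul_zero, add_zero]

end Groth.Agent.Helper16.Hasse
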