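import Groth.Agent.H16.SF4
import Groth.Agent.S12604
set_option autoImplicit false
set_option linter.unusedSimpArgs false

/-! The Stöhr–Voloch bound for strong fixed points, for every `n > g`. -/

namespace Groth.Agent.Helper16.Hasse

open FunFld Module Groth.Agent.Helper17.FF

variable {k K : Type*} [Field k] [Field K] [Algebra k K]

theorem strong_bound [IsAlgClosed k] (hK : IsFunctionField k K) (τ : K →ₐ[k] K) (n : ℕ)
    (hn : genus k K < n) :
    {P : Place k K | IsStrongFixedPt τ P}.Finite ∧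
    (n : ℤ) * (Set.ncard {P : Place k K | IsStrongFixedPt τ P} : ℤ) ≤
      ((n : ℤ) + finrank τ.fieldRange K) * ((n : ℤ) + genus k K) +
        ((genus k K : ℤ) - 1) * ((n : ℤ) ^ 2 - n + 2 * (genus k K : ℤ) ^ 2) := by
  classical
  obtain ⟨g, hg⟩ : ∃ g, g = genus k K := ⟨_, rfl⟩
  rw [← hg] at hn ⊢
  obtain ⟨d, hd⟩ : ∃ d, d = finrank τ.fieldRange K := ⟨_, rfl⟩
  rw [← hd]
  by_cases hτ : ∀ x, τ x = x
  · have hempty : {P : Place k K | IsStrongFixedPt τ P} = ∅ := by
      ext P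
      simp only [Set.mem_ofPred_eq, Set.mem_empty_iff_false, iff_false]
      intro hS
      obtain ⟨u, hu⟩ := P.2.2 (WithZero.exp (-1 : ℤ))
      have h1 := hS u (by rw [hu]; exact exp_neg_pos_lt_one (j := 1) one_pos)
      rw [hτ u, hu, WithZero.exp_le_exp] at h1
      omega
    rw [hempty]
    refine ⟨Set.finite_empty, ?_⟩
    rw [Set.ncard_empty]
    simp only [Nat.cast_zero, mul_zero]
    rcases Nat.eq_zero_or_pos g with rfl | hg1
    · simp only [Nat.cast_zero, add_zero, zero_sub]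
      have h1 : (0 : ℤ) ≤ d := Int.natCast_nonneg d
      have h2 : (0 : ℤ) ≤ n := Int.natCast_nonneg n
      nlinarith [mul_nonneg h1 h2]
    · have h1 : (0 : ℤ) ≤ d := Int.natCast_nonneg d
      have h2 : (0 : ℤ) ≤ n := Int.natCast_nonneg n
      have h3 : (1 : ℤ) ≤ g := by exact_mod_cast hg1
      have h4 : (g : ℤ) < n := by exact_mod_cast hn
      have h5 : (0 : ℤ) ≤ (n : ℤ) ^ 2 - n := by nlinarith
      have h6 : (0 : ℤ) ≤ ((g : ℤ) - 1) * ((n : ℤ) ^ 2 - n + 2 * (g : ℤ) ^ 2) :=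
        mul_nonneg (by linarith) (by positivity)
      have h7 : (0 : ℤ) ≤ ((n : ℤ) + d) * ((n : ℤ) + g) := by positivity
      linarith
  push Not at hτ
  obtain ⟨x, hx⟩ := hτ
  obtain ⟨P₀, hP₀⟩ := exists_not_fixed hK τ hx
  obtain ⟨t, H, ht, hH⟩ := exists_hasse_param hK P₀
  obtain ⟨φ, hφ, hspan⟩ := exists_basis_L hK P₀ n (by rw [← hg]; exact hn)
  rw [← hg] at hspan
  obtain ⟨m, hm⟩ : ∃ m, m = n + g := ⟨_, rfl⟩
  rw [← hm] at hspan
  have hn1 : 1 ≤ n := by omega
  have hφL : ∀ i, φ i ∈ L (Finsupp.single P₀ (m : ℤ) : Divisor k K) := by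
    intro i
    rw [← hspan]
    exact Submodule.subset_span ⟨i, rfl⟩
  have htm : P₀.1 (t ^ m) = WithZero.exp (-(m : ℤ)) := by
    rw [map_pow, ht, ← WithZero.exp_nsmul]; simp
  have hφv : ∀ i, P₀.1 (t ^ m * φ i) ≤ 1 := by
    intro i
    rw [map_mul, htm]
    calc WithZero.exp (-(m : ℤ)) * P₀.1 (φ i)
        ≤ WithZero.exp (-(m : ℤ)) * WithZero.exp (m : ℤ) :=
          mul_le_mul' le_rfl (mem_L_single.mp (hφL i)).1
      _ = 1 := by rw [← WithZero.exp_add]; simp
  have hφpole : ∀ i (Q : Place k K), Q ≠ P₀ → Q.1 (φ i) ≤ 1 := fun i =>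
    (mem_L_single.mp (hφL i)).2
  have hφ0 : ∀ i, φ i ≠ 0 := hφ.ne_zero
  have hrepr : ∀ f ∈ L (Finsupp.single P₀ (m : ℤ) : Divisor k K),
      ∃ c : Fin (n + 1) → k, f = ∑ j, c j • φ j := by
    intro f hf
    rw [← hspan, Submodule.mem_span_range_iff_exists_fun] at hf
    obtain ⟨c, hc⟩ := hf
    exact ⟨c, hc.symm⟩
  have hone : (1 : K) ∈ L (Finsupp.single P₀ (m : ℤ) : Divisor k K) := by
    rw [mem_L_single]
    refine ⟨?_, fun Q _ => by simp⟩
    rw [map_one, ← WithZero.exp_zero, WithZero.exp_le_exp]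
    exact Int.natCast_nonneg m
  obtain ⟨a, ha⟩ := hrepr 1 hone
  -- τ φ is not a multiple of φ
  have hτφ : ¬ ∃ y : K, ∀ i, τ (φ i) = y * φ i := by
    rintro ⟨y, hy⟩
    have hlin : ∀ f ∈ L (Finsupp.single P₀ (m : ℤ) : Divisor k K), τ f = y * f := by
      intro f hf
      obtain ⟨c, rfl⟩ := hrepr f hf
      rw [map_sum, Finset.mul_sum]
      refine Finset.sum_congr rfl fun j _ => ?_
      rw [map_smul, hy, mul_smul_comm]
    have hy1 : y = 1 := by
      have := hlin 1 hone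
      rw [map_one, mul_one] at this
      exact this.symm
    obtain ⟨f, hf1, hf2⟩ := exists_exact_pole hK P₀ m (by rw [← hg]; omega)
    have hfL : f ∈ L (Finsupp.single P₀ (m : ℤ) : Divisor k K) :=
      mem_L_single.mpr ⟨le_of_eq hf1, hf2⟩
    have h1 := hlin f hfL
    rw [hy1, one_mul] at h1
    have h2 := tau_val_le_of_not_fixed hK τ P₀ hP₀ hf2
    rw [h1, hf1, ← WithZero.exp_zero, WithZero.exp_le_exp] at h2
    have : (0 : ℤ) < m := by exact_mod_cast (by omega : 0 < m)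
    omega
  -- orders
  have hrows := rows_indep_top hK τ P₀ hP₀ ht H hH φ hφ m hφv hφpole
  obtain ⟨J, hJ⟩ := exists_isOrders (hcol τ H φ) (n := n) (by simp)
    (by
      intro h
      have h1 := congrFun h 0
      have h2 : hcol τ H φ 0 0 = τ (φ 0) := rfl
      rw [h2, Pi.zero_apply] at h1
      exact hφ0 0 ((map_eq_zero τ).mp h1))
    (span_eq_top_of_rows_indep_trunc (hcol τ H φ) hrows)
  obtain ⟨hfin, hbound⟩ := Groth.Agent.S12604.result k K hK τ φ hφ hτφ t H hH J hJ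
  refine ⟨hfin, ?_⟩
  rw [← hg, ← hd] at hbound
  -- degree bound
  have hdeg : (mapDiv k φ).deg ≤ (m : ℤ) := by
    have hle : mapDiv k φ ≤ (Finsupp.single P₀ (m : ℤ) : Divisor k K) := by
      intro Q
      rw [Groth.Agent.Helper16.Emb.mapDiv_apply hK φ hφ0 Q, neg_le]
      apply Finset.le_inf'
      intro i _
      exact (val_le_exp_iff Q (hφ0 i) _).mp (hφL i Q)
    have := deg_mono hle
    rwa [deg_single_nat hK] at this
  -- order bounds
  have hsmall : ∀ l : Fin n, l.val + g ≤ n → J l ≤ l.val := by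
    intro l hl
    have hex : ∀ r : Fin (l.val + 1), ∃ f : K, P₀.1 f = WithZero.exp ((m - r.val : ℕ) : ℤ) ∧
        ∀ Q : Place k K, Q ≠ P₀ → Q.1 f ≤ 1 := fun r =>
      exists_exact_pole hK P₀ (m - r.val) (by rw [← hg]; have := r.isLt; omega)
    choose f hf1 hf2 using hex
    have hfL : ∀ r, f r ∈ L (Finsupp.single P₀ (m : ℤ) : Divisor k K) := by
      intro r
      rw [mem_L_single]
      refine ⟨?_, hf2 r⟩
      rw [hf1, WithZero.exp_le_exp]
      exact_mod_cast Nat.sub_le m r.val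
    choose A hA using fun r => hrepr (f r) (hfL r)
    refine orders_le_small hK τ P₀ hP₀ ht H hH φ J hJ m l (by omega) f (Matrix.of A) hA a ha ?_ hf2
    intro r
    rw [map_mul, htm, hf1, ← WithZero.exp_add]
    congr 1
    have hr : r.val ≤ m := by have := r.isLt; omega
    rw [Nat.cast_sub hr]
    ring
  have htop : J ⟨n - 1, by omega⟩ ≤ m :=
    orders_le_top hK τ P₀ hP₀ ht H hH φ hφ J hJ m hφv hφpole ⟨n - 1, by omega⟩
      (by simp only; omega)
  have hall : ∀ l : Fin n, J l ≤ l.val + g + 1 := by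
    intro l
    have h1 := strictMono_gap J hJ.1 l ⟨n - 1, by omega⟩ (by
      rw [Fin.le_def]; have := l.isLt; simp only; omega)
    simp only at h1
    have := l.isLt
    omega
  -- assemble
  have hd0 : (0 : ℤ) ≤ d := Int.natCast_nonneg d
  have hn0 : (0 : ℤ) ≤ n := Int.natCast_nonneg n
  have hmz : (m : ℤ) = (n : ℤ) + g := by rw [hm]; push_cast; ring
  have hA1 : ((n : ℤ) + d) * (mapDiv k φ).deg ≤ ((n : ℤ) + d) * ((n : ℤ) + g) := by
    rw [← hmz]
    exact mul_le_mul_of_nonneg_left hdeg (by linarith)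
  have hA2 : (2 * (g : ℤ) - 2) * ∑ l, (J l : ℤ) ≤
      ((g : ℤ) - 1) * ((n : ℤ) ^ 2 - n + 2 * (g : ℤ) ^ 2) := by
    rcases Nat.eq_zero_or_pos g with hg0 | hg1
    · have hlow : (∑ l : Fin n, (l.val : ℤ)) ≤ ∑ l, (J l : ℤ) :=
        Finset.sum_le_sum fun l _ => by exact_mod_cast strictMono_le J hJ.1 l
      have h3 := two_mul_sum_fin n
      rw [hg0]
      simp only [Nat.cast_zero]
      nlinarith
    · have h3 := sum_orders_le g hg1 hn J hsmall hall
      have h4 : (1 : ℤ) ≤ g := by exact_mod_cast hg1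
      have h5 : (2 * (g : ℤ) - 2) * ∑ l, (J l : ℤ) = ((g : ℤ) - 1) * ((∑ l, (J l : ℤ)) * 2) := by
        ring
      rw [h5]
      apply mul_le_mul_of_nonneg_left _ (by linarith)
      nlinarith
  linarith

end Groth.Agent.Helper16.Hasse
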