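import Groth.Agent.H16.RH2
import Groth.Agent.S11053
set_option autoImplicit false
set_option linter.unusedSimpArgs false

/-! Counting fixed points of twisted Frobenius maps in a Galois extension: basic lemmas. -/

namespace Groth.Agent.Helper16.RH

open FunFld Module Groth.Agent.Helper17.FF

variable {k E L : Type*} [Field k] [Field E] [Field L]
  [Algebra k E] [Algebra k L] [Algebra E L] [IsScalarTower k E L]

/-- the endomorphism twisted by an automorphism -/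
noncomputable def tw (Ψ : L →ₐ[k] L) (σ : L ≃ₐ[E] L) : L →ₐ[k] L :=
  Ψ.comp ((σ.restrictScalars k : L ≃ₐ[k] L) : L →ₐ[k] L)

@[simp] lemma tw_apply (Ψ : L →ₐ[k] L) (σ : L ≃ₐ[E] L) (x : L) : tw Ψ σ x = Ψ (σ x) := rfl

lemma tw_fieldRange (Ψ : L →ₐ[k] L) (σ : L ≃ₐ[E] L) : (tw Ψ σ).fieldRange = Ψ.fieldRange := by
  ext y
  constructor
  · rintro ⟨x, rfl⟩
    exact ⟨σ x, rfl⟩
  · rintro ⟨x, rfl⟩
    exact ⟨σ.symm x, by simp⟩

/-- the strong fixed points of the twisted endomorphism -/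
def SF (Ψ : L →ₐ[k] L) (σ : L ≃ₐ[E] L) : Set (Place k L) :=
  {Q | ∀ x : L, Q.1 x < 1 → Q.1 (tw Ψ σ x) ≤ WithZero.exp (-2)}

theorem SF_bound [IsAlgClosed k] (hL : IsFunctionField k L) (Ψ : L →ₐ[k] L) (s : ℕ)
    (hdeg : finrank Ψ.fieldRange L = s ^ 2) (hs : genus k L < s) (σ : L ≃ₐ[E] L) :
    (SF Ψ σ).Finite ∧
    ((SF Ψ σ).ncard : ℝ) ≤ 1 + (s : ℝ) ^ 2 + 2 * s * genus k L + 2 * (genus k L : ℝ) ^ 3 := by
  obtain ⟨hfin, hb⟩ := Groth.Agent.S11053.result k L hL (tw Ψ σ) s hs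
  refine ⟨hfin, ?_⟩
  have hs0 : (0 : ℝ) < s := by
    have : 0 < s := lt_of_le_of_lt (Nat.zero_le _) hs
    exact_mod_cast this
  have hs1 : (1 : ℝ) ≤ s := by
    have : 1 ≤ s := lt_of_le_of_lt (Nat.zero_le _) hs
    exact_mod_cast this
  rw [tw_fieldRange, hdeg] at hb
  refine hb.trans ?_
  push_cast
  have e1 : ((s : ℝ) + (s : ℝ) ^ 2 / s) = 2 * s := by field_simp; ring
  rw [e1]
  have hg0 : (0 : ℝ) ≤ genus k L := Nat.cast_nonneg _
  have e2 : 2 * (genus k L : ℝ) ^ 2 * ((genus k L : ℝ) - 1) / s ≤ 2 * (genus k L : ℝ) ^ 3 := by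
    rw [div_le_iff₀ hs0]
    have h3 : (0 : ℝ) ≤ (genus k L : ℝ) ^ 2 := by positivity
    have h4 : (0 : ℝ) ≤ (genus k L : ℝ) ^ 3 := by positivity
    nlinarith
  linarith

variable [FiniteDimensional E L] [IsGalois E L]

/-- a place over a stable place is a strong fixed point of some twist -/
theorem exists_mem_SF (hE : IsFunctionField k E) (hL : IsFunctionField k L) (Ψ : L →ₐ[k] L)
    (ΦE : E →ₐ[k] E) (hΨE : ∀ z : E, Ψ (algebraMap E L z) = algebraMap E L (ΦE z))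
    {p : ℕ} (hp : 2 ≤ p) (hpow : ∀ z : L, ∃ w : L, Ψ z = w ^ p)
    (P : Place k E) (hP : IsStable ΦE P) (Q : Place k L) (hQ : IsOver Q P) :
    ∃ σ : L ≃ₐ[E] L, Q ∈ SF Ψ σ := by
  haveI : Algebra.IsAlgebraic E L := Algebra.IsAlgebraic.of_finite _ _
  obtain ⟨Q', e, he, hQ'⟩ := exists_pullPlace hL Ψ Q
  have hQ'over : IsOver Q' P := by
    rw [isOver_iff hE Q' P]
    apply place_ext
    intro y
    obtain ⟨e₁, he₁⟩ := isOver_placeBelow hE Q'
    obtain ⟨e₂, he₂⟩ := hQ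
    rw [← isOverWith_le_one_iff he₁, ← pull_le_one_iff he hQ', hΨE, isOverWith_le_one_iff he₂,
      hP.le_one_iff]
  obtain ⟨σ, hσ⟩ := exists_galPlace_of_isOver hQ hQ'over
  have hσ' : ∀ x : L, Q.1 (σ x) = Q'.1 x := fun x => by rw [← hσ]; rfl
  refine ⟨σ⁻¹, fun x hx => ?_⟩
  have hpow' : ∀ z : L, ∃ w : L, tw Ψ σ⁻¹ z = w ^ p := fun z => hpow _
  apply strong_of_fixed_of_pow hp hpow'
  rw [tw_apply, hQ', ← hσ']
  have e1 : σ (σ⁻¹ x) = x := by
    show σ (σ.symm x) = x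
    exact σ.apply_symm_apply x
  rw [e1]
  exact pow_lt_one' hx he.ne'

end Groth.Agent.Helper16.RH
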