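import Groth.Agent.H16.RH3
set_option autoImplicit false
set_option linter.unusedSimpArgs false

/-! Places with nontrivial stabiliser, and the size of fibres. -/

namespace Groth.Agent.Helper16.RH

open FunFld Module Groth.Agent.Helper17.FF

variable {k E L : Type*} [Field k] [Field E] [Field L]
  [Algebra k E] [Algebra k L] [Algebra E L] [IsScalarTower k E L]

/-- the places with a nontrivial stabiliser -/
def Bad (k E L : Type*) [Field k] [Field E] [Field L]
    [Algebra k E] [Algebra k L] [Algebra E L] [IsScalarTower k E L] : Set (Place k L) :=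
  {Q | ∃ ρ : L ≃ₐ[E] L, ρ ≠ 1 ∧ galPlace ρ Q = Q}

theorem fixed_finite [IsAlgClosed k] (hL : IsFunctionField k L) (ρ : L ≃ₐ[E] L) (hρ : ρ ≠ 1) :
    {Q : Place k L | galPlace ρ Q = Q}.Finite ∧
      {Q : Place k L | galPlace ρ Q = Q}.ncard ≤ 2 * genus k L + 2 := by
  have hsub : {Q : Place k L | galPlace ρ Q = Q} ⊆
      {Q : Place k L | ∀ x : L, Q.1 x < 1 → Q.1 ((ρ.restrictScalars k : L ≃ₐ[k] L) x) < 1} := by
    intro Q hQ x hx
    have hQ' : galPlace ρ Q = Q := hQ
    have h1 : (galPlace ρ Q).1 x = Q.1 (ρ x) := rfl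
    rw [hQ'] at h1
    show Q.1 (ρ x) < 1
    rw [← h1]; exact hx
  have hρ' : (ρ.restrictScalars k : L ≃ₐ[k] L) ≠ 1 := by
    intro h
    apply hρ
    ext x
    have := congrArg (fun τ : L ≃ₐ[k] L => τ x) h
    exact this
  have hle : Set.encard {Q : Place k L | ∀ x : L, Q.1 x < 1 →
      Q.1 ((ρ.restrictScalars k : L ≃ₐ[k] L) x) < 1} ≤ ((2 * genus k L + 2 : ℕ) : ℕ∞) := by
    by_contra hcon
    push Not at hcon
    exact hρ' (eq_one_of_many_fixed hL _ hcon)
  have hfin : {Q : Place k L | ∀ x : L, Q.1 x < 1 →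
      Q.1 ((ρ.restrictScalars k : L ≃ₐ[k] L) x) < 1}.Finite :=
    Set.finite_of_encard_le_coe hle
  refine ⟨hfin.subset hsub, ?_⟩
  have h1 := Set.ncard_le_ncard hsub hfin
  have h2 : {Q : Place k L | ∀ x : L, Q.1 x < 1 →
      Q.1 ((ρ.restrictScalars k : L ≃ₐ[k] L) x) < 1}.ncard ≤ 2 * genus k L + 2 := by
    rw [← Nat.cast_le (α := ℕ∞), hfin.cast_ncard_eq]
    exact hle
  exact h1.trans h2

variable [FiniteDimensional E L] [IsGalois E L]

theorem bad_finite [IsAlgClosed k] (hL : IsFunctionField k L) :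
    (Bad k E L).Finite ∧ (Bad k E L).ncard ≤ (finrank E L - 1) * (2 * genus k L + 2) := by
  classical
  have hB : Bad k E L = ⋃ ρ ∈ ((Finset.univ : Finset (L ≃ₐ[E] L)).erase 1),
      {Q : Place k L | galPlace ρ Q = Q} := by
    ext Q
    simp only [Bad, Set.mem_setOf_eq, Set.mem_iUnion, Finset.mem_erase, Finset.mem_univ, and_true,
      exists_prop]
  have hfin : ∀ ρ ∈ ((Finset.univ : Finset (L ≃ₐ[E] L)).erase 1),
      {Q : Place k L | galPlace ρ Q = Q}.Finite := fun ρ hρ =>
    (fixed_finite hL ρ (Finset.ne_of_mem_erase hρ)).1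
  refine ⟨?_, ?_⟩
  · rw [hB]
    exact Set.Finite.biUnion (Finset.finite_toSet _) hfin
  · rw [hB]
    refine (Finset.set_ncard_biUnion_le _ _).trans ?_
    have hcard : ((Finset.univ : Finset (L ≃ₐ[E] L)).erase 1).card = finrank E L - 1 := by
      rw [Finset.card_erase_of_mem (Finset.mem_univ _), Finset.card_univ,
        ← Nat.card_eq_fintype_card, IsGalois.card_aut_eq_finrank]
    rw [← hcard, ← smul_eq_mul, ← Finset.sum_const]
    refine Finset.sum_le_sum fun ρ hρ => ?_
    exact (fixed_finite hL ρ (Finset.ne_of_mem_erase hρ)).2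

/-- a fibre that avoids the bad set has full cardinality -/
theorem fiber_card (hE : IsFunctionField k E) (P : Place k E)
    (hP : ∀ Q : Place k L, IsOver Q P → Q ∉ Bad k E L) :
    {Q : Place k L | IsOver Q P}.ncard = finrank E L := by
  classical
  obtain ⟨Q, hQ⟩ := exists_isOver (K' := L) hE P
  have h := card_over_mul_card_decomp hQ
  have hbot : Q.O.decompositionSubgroup E = ⊥ := by
    rw [Subgroup.eq_bot_iff_forall]
    intro σ hσ
    by_contra hne
    rw [mem_decomp_iff] at hσ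
    exact hP Q hQ ⟨σ, hne, hσ⟩
  rw [hbot, Subgroup.card_bot, mul_one] at h
  rw [← h]
  exact (Nat.card_coe_set_eq _).symm

end Groth.Agent.Helper16.RH
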