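import Groth.Agent.H16.RH4
set_option autoImplicit false
set_option linter.unusedSimpArgs false

/-! The main count: stable places of an intermediate field of a Galois extension. -/

namespace Groth.Agent.Helper16.RH

open FunFld Module Groth.Agent.Helper17.FF

variable {k E L : Type*} [Field k] [Field E] [Field L]
  [Algebra k E] [Algebra k L] [Algebra E L] [IsScalarTower k E L]

theorem place_eq_of_lt {K : Type*} [Field K] [Algebra k K] {P Q : Place k K}
    (h : ∀ x, Q.1 x < 1 → P.1 x < 1) : P = Q := by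
  symm
  apply place_eq_of_le
  intro x hx
  by_contra hcon
  push Not at hcon
  have hx0 : x ≠ 0 := fun h0 => by rw [h0, map_zero] at hcon; exact not_lt.2 zero_le hcon
  have h1 : Q.1 x⁻¹ < 1 := by rw [map_inv₀]; exact inv_lt_one_of_one_lt₀ hcon
  have h2 := h _ h1
  rw [map_inv₀, inv_lt_one₀ (val_pos P.1 hx0)] at h2
  exact not_lt.2 hx h2

/-- a place with trivial stabiliser is a strong fixed point of at most one twist -/
theorem twist_unique (hL : IsFunctionField k L) (Ψ : L →ₐ[k] L) (Q : Place k L)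
    (hQ : Q ∉ Bad k E L) (σ₁ σ₂ : L ≃ₐ[E] L) (h₁ : Q ∈ SF Ψ σ₁) (h₂ : Q ∈ SF Ψ σ₂) : σ₁ = σ₂ := by
  obtain ⟨Q', e, he, hQ'⟩ := exists_pullPlace hL Ψ Q
  have hlt : (WithZero.exp (-2 : ℤ) : WithZero (Multiplicative ℤ)) < 1 := by
    rw [← WithZero.exp_zero, WithZero.exp_lt_exp]; norm_num
  have key : ∀ σ : L ≃ₐ[E] L, Q ∈ SF Ψ σ → galPlace σ Q' = Q := by
    intro σ hσ
    apply place_eq_of_lt
    intro x hx
    have h1 := lt_of_le_of_lt (hσ x hx) hlt
    rw [tw_apply, pull_lt_one_iff he hQ'] at h1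
    exact h1
  have e1 := key σ₁ h₁
  have e2 := key σ₂ h₂
  have e3 : Q' = galPlace σ₁⁻¹ Q := by
    rw [← e1, galPlace_mul, mul_inv_cancel, galPlace_one]
  have e4 : galPlace (σ₁⁻¹ * σ₂) Q = Q := by
    rw [← galPlace_mul, ← e3, e2]
  by_contra hne
  apply hQ
  refine ⟨σ₁⁻¹ * σ₂, ?_, e4⟩
  intro h
  apply hne
  have := congrArg (fun τ => σ₁ * τ) h
  simpa using this.symm

variable {K : Type*} [Field K] [Algebra k K] [Algebra E K] [Algebra K L]
  [IsScalarTower k K L] [IsScalarTower E K L]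

/-- the place below a strong fixed point of a twist by an automorphism over `K` is stable -/
theorem stable_below [IsAlgClosed k] [Algebra.IsAlgebraic K L] (hK : IsFunctionField k K)
    (Ψ : L →ₐ[k] L)
    (ΦK : K →ₐ[k] K) (hΨK : ∀ z : K, Ψ (algebraMap K L z) = algebraMap K L (ΦK z))
    (ρ : L ≃ₐ[K] L) (Q : Place k L) (hQ : Q ∈ SF Ψ (ρ.restrictScalars E)) :
    IsStable ΦK (placeBelow hK Q) := by
  apply isStable_of_fixed hK
  intro z hz
  obtain ⟨e, he⟩ := isOver_placeBelow hK Q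
  have hepos := isOverWith_pos he
  have hlt : (WithZero.exp (-2 : ℤ) : WithZero (Multiplicative ℤ)) < 1 := by
    rw [← WithZero.exp_zero, WithZero.exp_lt_exp]; norm_num
  have h1 : Q.1 (algebraMap K L z) < 1 := by
    rw [he z]; exact pow_lt_one' hz hepos.ne'
  have h2 := lt_of_le_of_lt (hQ _ h1) hlt
  rw [tw_apply] at h2
  have h3 : (ρ.restrictScalars E) (algebraMap K L z) = algebraMap K L z := ρ.commutes z
  rw [h3, hΨK, he, pow_lt_one_iff hepos.ne'] at h2
  exact h2

end Groth.Agent.Helper16.RH
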