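import Groth.Agent.H16.SF1
set_option autoImplicit false
set_option linter.unusedSimpArgs false

/-! Bounds for `τ`-orders from independent rows. -/

namespace Groth.Agent.Helper16.Hasse

open FunFld Module Groth.Agent.Helper17.FF

variable {k K : Type*} [Field k] [Field K] [Algebra k K] {n : ℕ}

/-- abstract rank lemma: `r` rows in the `k`-span of `φ` with independent truncated Hasse rows
bound the `τ`-orders -/
theorem orders_le_of_rows (τ : K →ₐ[k] K) (H : K →ₐ[k] PowerSeries K) (φ : Fin (n + 1) → K)
    (J : Fin n → ℕ) (hJ : IsOrders K (hcol τ H φ) J)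
    {ι : Type*} [Fintype ι] (ψ : ι → K) (A : Matrix ι (Fin (n + 1)) k)
    (hA : ∀ i, ψ i = ∑ j, A i j • φ j) (N : ℕ)
    (hind : LinearIndependent K (fun i : ι => fun c : Fin (N + 2) => hcol τ H ψ c.val i))
    (l : Fin n) (hcard : Fintype.card ι = l.val + 2) : J l ≤ N := by
  classical
  obtain ⟨B, hB⟩ : ∃ B : Matrix ι (Fin (N + 2)) K,
      B = Matrix.of fun i c => hcol τ H ψ c.val i := ⟨_, rfl⟩
  have hBind : LinearIndependent K B.row := by
    rw [hB]; exact hind
  have hlin : ∀ (m : ℕ) (i : ι),
      hcol τ H ψ m i = ∑ j, algebraMap k K (A i j) * hcol τ H φ m j := by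
    intro m i
    cases m with
    | zero =>
      show τ (ψ i) = ∑ j, algebraMap k K (A i j) * τ (φ j)
      rw [hA i, map_sum]
      refine Finset.sum_congr rfl fun j _ => ?_
      rw [map_smul, Algebra.smul_def]
    | succ m =>
      show LocRes.hasseD H m (ψ i) = ∑ j, algebraMap k K (A i j) * LocRes.hasseD H m (φ j)
      rw [hA i, hasseD_sum_smul]
      refine Finset.sum_congr rfl fun j _ => ?_
      rw [Algebra.smul_def]
  obtain ⟨A', hA'⟩ : ∃ A' : Matrix (Fin (n + 1)) (Fin (N + 2)) K,
      A' = Matrix.of fun j c => hcol τ H φ c.val j := ⟨_, rfl⟩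
  obtain ⟨Cm, hCm⟩ : ∃ Cm : Matrix ι (Fin (n + 1)) K,
      Cm = Matrix.of fun i j => algebraMap k K (A i j) := ⟨_, rfl⟩
  have hBmul : B = Cm * A' := by
    ext i c
    rw [Matrix.mul_apply, hB, hCm, hA']
    simp only [Matrix.of_apply]
    exact hlin c.val i
  have hrankB : B.rank = Fintype.card ι := LinearIndependent.rank_matrix hBind
  have hrankle : B.rank ≤ A'.rank := by rw [hBmul]; exact Matrix.rank_mul_le_right _ _
  have hrange : Set.range A'.col = hcol τ H φ '' Set.Iio (N + 2) := by
    ext v
    constructor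
    · rintro ⟨c, rfl⟩
      refine ⟨c.val, c.isLt, ?_⟩
      ext j
      rw [hA']
      rfl
    · rintro ⟨m, hm, rfl⟩
      refine ⟨⟨m, hm⟩, ?_⟩
      ext j
      rw [hA']
      rfl
  have hjumps := Groth.Agent.H21.Orders.finrank_span_le_card_jumps (R := K) (hcol τ H φ) (N + 2)
  rw [← hrange, ← Matrix.rank_eq_finrank_span_cols] at hjumps
  have hupper : ((Finset.range (N + 2)).filter (fun j => IsJump K (hcol τ H φ) j)).card ≤
      1 + (Finset.univ.filter (fun i : Fin n => J i ≤ N)).card := by
    have hsub : (Finset.range (N + 2)).filter (fun j => IsJump K (hcol τ H φ) j) ⊆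
        insert 0 ((Finset.univ.filter (fun i : Fin n => J i ≤ N)).image (fun i => J i + 1)) := by
      intro j hj
      rw [Finset.mem_filter, Finset.mem_range] at hj
      obtain ⟨hjN, hjump⟩ := hj
      rcases Nat.eq_zero_or_pos j with rfl | hpos
      · exact Finset.mem_insert_self _ _
      · obtain ⟨j', rfl⟩ : ∃ j', j = j' + 1 := ⟨j - 1, by omega⟩
        obtain ⟨i, hi⟩ := (hJ.2 j').mpr hjump
        apply Finset.mem_insert_of_mem
        rw [Finset.mem_image]
        exact ⟨i, by rw [Finset.mem_filter]; exact ⟨Finset.mem_univ _, by omega⟩, by rw [hi]⟩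
    calc _ ≤ _ := Finset.card_le_card hsub
      _ ≤ ((Finset.univ.filter (fun i : Fin n => J i ≤ N)).image (fun i => J i + 1)).card + 1 :=
          Finset.card_insert_le _ _
      _ ≤ (Finset.univ.filter (fun i : Fin n => J i ≤ N)).card + 1 := by
          gcongr
          exact Finset.card_image_le
      _ = _ := add_comm _ _
  by_contra hlt
  push Not at hlt
  have hsub2 : Finset.univ.filter (fun i : Fin n => J i ≤ N) ⊆ Finset.Iio l := by
    intro i hi
    rw [Finset.mem_filter] at hi
    rw [Finset.mem_Iio]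
    exact hJ.1.lt_iff_lt.mp (by omega)
  have h3 := Finset.card_le_card hsub2
  rw [Fin.card_Iio] at h3
  omega

/-- Leibniz rule for Hasse derivatives -/
theorem hasseD_mul (H : K →ₐ[k] PowerSeries K) (j : ℕ) (a b : K) :
    LocRes.hasseD H j (a * b) =
      ∑ p ∈ Finset.HasAntidiagonal.antidiagonal j, LocRes.hasseD H p.1 a * LocRes.hasseD H p.2 b := by
  simp only [LocRes.hasseD_apply, map_mul, PowerSeries.coeff_mul]

/-- transfer of a row dependency to the rows scaled by a fixed element -/
theorem rows_indep_of_scaled (τ : K →ₐ[k] K) (H : K →ₐ[k] PowerSeries K) {ι : Type*} [Fintype ι]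
    (ψ : ι → K) (u : K) (N : ℕ)
    (hind : LinearIndependent K (fun i : ι => fun c : Fin (N + 2) =>
      (Fin.cases (τ (ψ i)) (fun j : Fin (N + 1) => LocRes.hasseD H j.val (u * ψ i)) c : K))) :
    LinearIndependent K (fun i : ι => fun c : Fin (N + 2) => hcol τ H ψ c.val i) := by
  classical
  rw [Fintype.linearIndependent_iff] at hind ⊢
  intro a ha
  apply hind a
  funext c
  simp only [Finset.sum_apply, Pi.smul_apply, smul_eq_mul, Pi.zero_apply]
  have hcol0 : ∑ i, a i * τ (ψ i) = 0 := by
    have := congrFun ha 0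
    simpa [hcol] using this
  have hcols : ∀ b : ℕ, b < N + 1 → ∑ i, a i * LocRes.hasseD H b (ψ i) = 0 := by
    intro b hb
    have := congrFun ha ⟨b + 1, by omega⟩
    simpa [hcol] using this
  refine Fin.cases ?_ (fun j => ?_) c
  · simpa using hcol0
  · simp only [Fin.cases_succ]
    calc ∑ i, a i * LocRes.hasseD H j.val (u * ψ i)
        = ∑ i, ∑ p ∈ Finset.HasAntidiagonal.antidiagonal j.val,
            LocRes.hasseD H p.1 u * (a i * LocRes.hasseD H p.2 (ψ i)) := by
          refine Finset.sum_congr rfl fun i _ => ?_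
          rw [hasseD_mul, Finset.mul_sum]
          refine Finset.sum_congr rfl fun p _ => ?_
          ring
      _ = ∑ p ∈ Finset.HasAntidiagonal.antidiagonal j.val,
            LocRes.hasseD H p.1 u * ∑ i, a i * LocRes.hasseD H p.2 (ψ i) := by
          rw [Finset.sum_comm]
          refine Finset.sum_congr rfl fun p _ => ?_
          rw [Finset.mul_sum]
      _ = 0 := by
          refine Finset.sum_eq_zero fun p hp => ?_
          rw [Finset.HasAntidiagonal.mem_antidiagonal] at hp
          rw [hcols p.2 (by have := j.isLt; omega), mul_zero]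

end Groth.Agent.Helper16.Hasse
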