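import Groth.Agent.H16.SF2
set_option autoImplicit false
set_option linter.unusedSimpArgs false

/-! Bounds for `τ`-orders at a non-fixed place. -/

namespace Groth.Agent.Helper16.Hasse

open FunFld Module Groth.Agent.Helper17.FF

variable {k K : Type*} [Field k] [Field K] [Algebra k K] {n : ℕ}

theorem evalP_hasseD_eq_zero [IsAlgClosed k] (hK : IsFunctionField k K) (P : Place k K) {t : K}
    (ht : P.1 t = WithZero.exp (-1 : ℤ)) (H : K →ₐ[k] PowerSeries K)
    (hH : LocRes.IsHasseFamily t H) {g : K} {r : ℕ} (hg : P.1 g ≤ WithZero.exp (-(r : ℤ)))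
    {j : ℕ} (hj : j < r) : evalP P (LocRes.hasseD H j g) = 0 := by
  have h1 := val_hasseD_le hK P ht H hH hg (le_of_lt hj)
  have h2 : P.1 (LocRes.hasseD H j g) < 1 :=
    lt_of_le_of_lt h1 (exp_neg_pos_lt_one (by omega))
  exact (evalP_eq_zero_iff P (le_of_lt h2)).mpr h2

theorem evalP_hasseD_ne_zero [IsAlgClosed k] (hK : IsFunctionField k K) (P : Place k K) {t : K}
    (ht : P.1 t = WithZero.exp (-1 : ℤ)) (H : K →ₐ[k] PowerSeries K)
    (hH : LocRes.IsHasseFamily t H) {g : K} {r : ℕ} (hg : P.1 g = WithZero.exp (-(r : ℤ))) :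
    evalP P (LocRes.hasseD H r g) ≠ 0 := by
  have ht0 : t ≠ 0 := t_ne_zero hK P ht H hH
  have h1 := hasse_entry hK P ht H hH (le_of_eq hg) r
  have e : LocRes.hasseD H r g * t ^ r / t ^ r = LocRes.hasseD H r g := by
    field_simp
  rw [e, Nat.choose_self, Nat.cast_one, one_mul] at h1
  rw [h1.2]
  have hv : P.1 (g / t ^ r) = 1 := by
    rw [val_div_pow_eq P ht, hg, ← WithZero.exp_add]
    simp
  intro h0
  rw [evalP_eq_zero_iff P (le_of_eq hv), hv] at h0
  exact lt_irrefl _ h0

/-- the first orders are the expected ones when adapted functions exist -/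
theorem orders_le_small [IsAlgClosed k] (hK : IsFunctionField k K) (τ : K →ₐ[k] K)
    (P : Place k K) (hP : ¬ IsFixedPt τ P) {t : K} (ht : P.1 t = WithZero.exp (-1 : ℤ))
    (H : K →ₐ[k] PowerSeries K) (hH : LocRes.IsHasseFamily t H)
    (φ : Fin (n + 1) → K) (J : Fin n → ℕ) (hJ : IsOrders K (hcol τ H φ) J) (m : ℕ) (l : Fin n)
    (hlm : l.val < m) (f : Fin (l.val + 1) → K) (A : Matrix (Fin (l.val + 1)) (Fin (n + 1)) k)
    (hA : ∀ r, f r = ∑ j, A r j • φ j) (a : Fin (n + 1) → k) (ha : (1 : K) = ∑ j, a j • φ j)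
    (hfv : ∀ r, P.1 (t ^ m * f r) = WithZero.exp (-(r.val : ℤ)))
    (hfpole : ∀ r (Q : Place k K), Q ≠ P → Q.1 (f r) ≤ 1) : J l ≤ l.val := by
  classical
  obtain ⟨ψ, hψ⟩ : ∃ ψ : Option (Fin (l.val + 1)) → K, ψ = fun i => i.elim 1 f := ⟨_, rfl⟩
  obtain ⟨A', hA'⟩ : ∃ A' : Matrix (Option (Fin (l.val + 1))) (Fin (n + 1)) k,
      A' = fun i => i.elim a A := ⟨_, rfl⟩
  have hψn : ψ none = 1 := by rw [hψ]; rfl
  have hψs : ∀ r, ψ (some r) = f r := fun r => by rw [hψ]; rfl
  have htm : P.1 (t ^ m) = WithZero.exp (-(m : ℤ)) := by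
    rw [map_pow, ht, ← WithZero.exp_nsmul]; simp
  have hgv : ∀ i, P.1 (t ^ m * ψ i) ≤ 1 := by
    intro i
    cases i with
    | none => rw [hψn, mul_one, htm]; exact exp_neg_nat_le_one m
    | some r => rw [hψs, hfv]; exact exp_neg_nat_le_one _
  refine orders_le_of_rows τ H φ J hJ ψ A' ?_ l.val ?_ l (by simp)
  · intro i
    cases i with
    | none => rw [hψn, hA']; exact ha
    | some r => rw [hψs, hA']; exact hA r
  · apply rows_indep_of_scaled τ H ψ (t ^ m) l.val
    obtain ⟨M, hM⟩ : ∃ M : Matrix (Option (Fin (l.val + 1))) (Fin (l.val + 2)) K,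
        M = Matrix.of fun i c => (Fin.cases (τ (ψ i))
          (fun j : Fin (l.val + 1) => LocRes.hasseD H j.val (t ^ m * ψ i)) c : K) := ⟨_, rfl⟩
    have hM0 : ∀ i, M i 0 = τ (ψ i) := fun i => by rw [hM]; rfl
    have hMs : ∀ i (j : Fin (l.val + 1)), M i j.succ = LocRes.hasseD H j.val (t ^ m * ψ i) :=
      fun i j => by rw [hM]; rfl
    have hle : ∀ i c, P.1 (M i c) ≤ 1 := by
      intro i c
      refine Fin.cases ?_ (fun j => ?_) c
      · rw [hM0]
        cases i with
        | none => rw [hψn, map_one, map_one]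
        | some r => rw [hψs]; exact tau_val_le_of_not_fixed hK τ P hP (hfpole r)
      · rw [hMs]
        exact hasse_mem_SP hK P ht H hH (hgv i) j.val
    have hres : LinearIndependent (IsLocalRing.ResidueField P.O)
        (fun i : Option (Fin (l.val + 1)) => fun c : Fin (l.val + 2) => evalP P (M i c)) := by
      rw [Fintype.linearIndependent_iff]
      intro β hβ
      have hcolumn : ∀ c, β none * evalP P (M none c) +
          ∑ r : Fin (l.val + 1), β (some r) * evalP P (M (some r) c) = 0 := by
        intro c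
        have h1 := congrFun hβ c
        simp only [Finset.sum_apply, Pi.smul_apply, smul_eq_mul, Pi.zero_apply] at h1
        rw [Fintype.sum_option] at h1
        exact h1
      have hnone : ∀ j : Fin (l.val + 1), evalP P (M none j.succ) = 0 := by
        intro j
        rw [hMs, hψn, mul_one]
        exact evalP_hasseD_eq_zero hK P ht H hH (le_of_eq htm) (by have := j.isLt; omega)
      have hsome' : ∀ (rv : ℕ) (hr : rv < l.val + 1), β (some ⟨rv, hr⟩) = 0 := by
        intro rv
        induction rv using Nat.strong_induction_on with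
        | _ rv ih =>
          intro hr
          obtain ⟨r, hrdef⟩ : ∃ r : Fin (l.val + 1), r = ⟨rv, hr⟩ := ⟨_, rfl⟩
          rw [← hrdef]
          have h1 := hcolumn r.succ
          rw [hnone, mul_zero, zero_add, Finset.sum_eq_single r] at h1
          · rcases mul_eq_zero.mp h1 with h | h
            · exact h
            · rw [hMs, hψs] at h
              exact absurd h (evalP_hasseD_ne_zero hK P ht H hH (hfv r))
          · intro r' _ hne
            rcases lt_or_gt_of_ne hne with hlt | hgt
            · have hlt' : r'.val < rv := by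
                have : r'.val < r.val := hlt
                rw [hrdef] at this
                exact this
              have := ih r'.val hlt' r'.isLt
              rw [this, zero_mul]
            · rw [hMs, hψs, evalP_hasseD_eq_zero hK P ht H hH (le_of_eq (hfv r')) hgt, mul_zero]
          · intro h; exact absurd (Finset.mem_univ _) h
      have hsome : ∀ r : Fin (l.val + 1), β (some r) = 0 := fun r => hsome' r.val r.isLt
      intro i
      cases i with
      | none =>
        have h1 := hcolumn 0
        rw [hM0, hψn, map_one, evalP_one, mul_one, Finset.sum_eq_zero, add_zero] at h1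
        · exact h1
        · intro r _
          rw [hsome r, zero_mul]
      | some r => exact hsome r
    have := rows_indep_of_residue P M hle hres
    rw [hM] at this
    exact this

/-- truncated Hasse rows of a basis of functions with poles of order `≤ m` only at `P` are
independent -/
theorem rows_indep_top [IsAlgClosed k] (hK : IsFunctionField k K) (τ : K →ₐ[k] K)
    (P : Place k K) (hP : ¬ IsFixedPt τ P) {t : K} (ht : P.1 t = WithZero.exp (-1 : ℤ))
    (H : K →ₐ[k] PowerSeries K) (hH : LocRes.IsHasseFamily t H)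
    (φ : Fin (n + 1) → K) (hφ : LinearIndependent k φ) (m : ℕ)
    (hφv : ∀ i, P.1 (t ^ m * φ i) ≤ 1) (hφpole : ∀ i (Q : Place k K), Q ≠ P → Q.1 (φ i) ≤ 1) :
    LinearIndependent K (fun i : Fin (n + 1) => fun c : Fin (m + 2) => hcol τ H φ c.val i) := by
  classical
  have ht0 : t ≠ 0 := t_ne_zero hK P ht H hH
  · apply rows_indep_of_scaled τ H φ (t ^ m) m
    obtain ⟨M, hM⟩ : ∃ M : Matrix (Fin (n + 1)) (Fin (m + 2)) K,
        M = Matrix.of fun i c => (Fin.cases (τ (φ i))
          (fun j : Fin (m + 1) => LocRes.hasseD H j.val (t ^ m * φ i)) c : K) := ⟨_, rfl⟩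
    have hM0 : ∀ i, M i 0 = τ (φ i) := fun i => by rw [hM]; rfl
    have hMs : ∀ i (j : Fin (m + 1)), M i j.succ = LocRes.hasseD H j.val (t ^ m * φ i) :=
      fun i j => by rw [hM]; rfl
    have hD : ∀ (i : Fin (n + 1)) (j : ℕ), P.1 (LocRes.hasseD H j (t ^ m * φ i)) ≤ 1 := fun i j =>
      hasse_mem_SP hK P ht H hH (hφv i) j
    have hle : ∀ i c, P.1 (M i c) ≤ 1 := by
      intro i c
      refine Fin.cases ?_ (fun j => ?_) c
      · rw [hM0]
        exact tau_val_le_of_not_fixed hK τ P hP (hφpole i)
      · rw [hMs]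
        exact hD i j.val
    have hres : LinearIndependent (IsLocalRing.ResidueField P.O)
        (fun i : Fin (n + 1) => fun c : Fin (m + 2) => evalP P (M i c)) := by
      rw [Fintype.linearIndependent_iff]
      intro β hβ
      have hsurj := (algebraMap_bijective hK P).2
      choose c hc using fun i => hsurj (β i)
      obtain ⟨f, hf⟩ : ∃ f : K, f = ∑ i, c i • φ i := ⟨_, rfl⟩
      obtain ⟨g, hg⟩ : ∃ g : K, g = ∑ i, c i • (t ^ m * φ i) := ⟨_, rfl⟩
      have hgf : g = t ^ m * f := by
        rw [hg, hf, Finset.mul_sum]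
        refine Finset.sum_congr rfl fun i _ => ?_
        rw [mul_smul_comm]
      have hsm : ∀ (j : ℕ) (i : Fin (n + 1)),
          P.1 (c i • LocRes.hasseD H j (t ^ m * φ i)) ≤ 1 := by
        intro j i
        rw [Algebra.smul_def, map_mul]
        calc P.1 (algebraMap k K (c i)) * P.1 (LocRes.hasseD H j (t ^ m * φ i)) ≤ 1 * 1 :=
              mul_le_mul' (P.2.1 (c i)) (hD i j)
          _ = 1 := one_mul _
      have hgle : P.1 g ≤ 1 := by
        rw [hg]
        apply Valuation.map_sum_le
        intro i _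
        have := hsm 0 i
        rwa [hasseD_zero H hH] at this
      have hev : ∀ j : ℕ, j < m + 1 → evalP P (LocRes.hasseD H j g) = 0 := by
        intro j hj
        rw [hg, hasseD_sum_smul, evalP_sum P _ _ (fun i _ => hsm j i)]
        have h1 := congrFun hβ (Fin.succ ⟨j, hj⟩)
        simp only [Finset.sum_apply, Pi.smul_apply, smul_eq_mul, Pi.zero_apply] at h1
        refine Eq.trans (Finset.sum_congr rfl fun i _ => ?_) h1
        rw [evalP_smul P _ (hD i j), Algebra.smul_def, hc, hMs]
      have hgv : P.1 g ≤ WithZero.exp (-((m + 1 : ℕ) : ℤ)) :=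
        val_le_of_taylor_zero hK P ht H hH hgle (m + 1) hev
      have hfv : P.1 f < 1 := by
        have e : f = g / t ^ m := by rw [hgf]; field_simp
        rw [e, val_div_pow_eq P ht]
        calc P.1 g * WithZero.exp ((m : ℕ) : ℤ)
            ≤ WithZero.exp (-((m + 1 : ℕ) : ℤ)) * WithZero.exp ((m : ℕ) : ℤ) :=
              mul_le_mul' hgv le_rfl
          _ = WithZero.exp (-1 : ℤ) := by
              rw [← WithZero.exp_add]; congr 1; push_cast; ring
          _ < 1 := exp_neg_pos_lt_one (j := 1) (by norm_num)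
      have hfall : ∀ Q : Place k K, Q.1 f ≤ 1 := by
        intro Q
        by_cases hQ : Q = P
        · rw [hQ]; exact le_of_lt hfv
        · rw [hf]
          apply Valuation.map_sum_le
          intro i _
          rw [Algebra.smul_def, map_mul]
          calc Q.1 (algebraMap k K (c i)) * Q.1 (φ i) ≤ 1 * 1 :=
                mul_le_mul' (Q.2.1 (c i)) (hφpole i Q hQ)
            _ = 1 := one_mul _
      obtain ⟨d, hd⟩ := mem_range_of_forall_val_le_one hK hfall
      have hd0 : d = 0 := by
        by_contra hne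
        rw [← hd, val_const P hne] at hfv
        exact lt_irrefl _ hfv
      have hf0 : ∑ i, c i • φ i = 0 := by
        rw [← hf, ← hd, hd0, map_zero]
      have hc0 := Fintype.linearIndependent_iff.mp hφ c hf0
      intro i
      rw [← hc i, hc0 i, map_zero]
    have := rows_indep_of_residue P M hle hres
    rw [hM] at this
    exact this

/-- the last order is at most `m` for a basis of functions with poles of order `≤ m` only at `P` -/
theorem orders_le_top [IsAlgClosed k] (hK : IsFunctionField k K) (τ : K →ₐ[k] K)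
    (P : Place k K) (hP : ¬ IsFixedPt τ P) {t : K} (ht : P.1 t = WithZero.exp (-1 : ℤ))
    (H : K →ₐ[k] PowerSeries K) (hH : LocRes.IsHasseFamily t H)
    (φ : Fin (n + 1) → K) (hφ : LinearIndependent k φ) (J : Fin n → ℕ)
    (hJ : IsOrders K (hcol τ H φ) J) (m : ℕ)
    (hφv : ∀ i, P.1 (t ^ m * φ i) ≤ 1) (hφpole : ∀ i (Q : Place k K), Q ≠ P → Q.1 (φ i) ≤ 1)
    (l : Fin n) (hl : l.val + 1 = n) : J l ≤ m := by
  classical
  refine orders_le_of_rows τ H φ J hJ φ (1 : Matrix (Fin (n + 1)) (Fin (n + 1)) k) ?_ m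
    (rows_indep_top hK τ P hP ht H hH φ hφ m hφv hφpole) l (by simp; omega)
  intro i
  rw [Finset.sum_eq_single i]
  · rw [Matrix.one_apply_eq, one_smul]
  · intro j _ hne
    rw [Matrix.one_apply_ne (Ne.symm hne), zero_smul]
  · intro h; exact absurd (Finset.mem_univ _) h

/-- truncated independent rows make the columns span -/
theorem span_eq_top_of_rows_indep_trunc {F : Type*} [Field F] {m N : ℕ} (c : ℕ → (Fin m → F))
    (hrows : LinearIndependent F (fun i : Fin m => fun j : Fin N => c j.val i)) :
    Submodule.span F (Set.range c) = ⊤ := by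
  classical
  by_contra hne
  obtain ⟨f, hf0, hfker⟩ := Submodule.exists_le_ker_of_lt_top _ (lt_top_iff_ne_top.mpr hne)
  apply hf0
  have hcoef := Fintype.linearIndependent_iff.mp hrows
    (fun i => f (fun j => if i = j then 1 else 0)) (by
    funext j
    simp only [Finset.sum_apply, Pi.smul_apply, smul_eq_mul, Pi.zero_apply]
    have h1 : c j.val ∈ LinearMap.ker f := hfker (Submodule.subset_span ⟨j.val, rfl⟩)
    rw [LinearMap.mem_ker, LinearMap.pi_apply_eq_sum_univ f] at h1
    refine Eq.trans (Finset.sum_congr rfl fun i _ => ?_) h1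
    rw [smul_eq_mul, mul_comm])
  refine LinearMap.ext fun v => ?_
  rw [LinearMap.pi_apply_eq_sum_univ f v, LinearMap.zero_apply]
  apply Finset.sum_eq_zero
  intro i _
  rw [hcoef i, smul_zero]

end Groth.Agent.Helper16.Hasse
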