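import Groth.Agent.H16.SF3
import Groth.Agent.Lib.Helper17.FF20
set_option autoImplicit false
set_option linter.unusedSimpArgs false

/-! Functions with prescribed pole order at a place; bases of `L(mP)`; order-sum bounds. -/

namespace Groth.Agent.Helper16.Hasse

open FunFld Module Groth.Agent.Helper17.FF

variable {k K : Type*} [Field k] [Field K] [Algebra k K] {n : ℕ}

theorem deg_single_nat [IsAlgClosed k] (hK : IsFunctionField k K) (P : Place k K) (j : ℕ) :
    Divisor.deg (k := k) (K := K) (Finsupp.single P (j : ℤ)) = j := by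
  rw [deg_single, deg_eq_one_of_isAlgClosed hK P]; simp

theorem ell_single [IsAlgClosed k] (hK : IsFunctionField k K) (P : Place k K) (j : ℕ)
    (hj : 2 * (genus k K : ℤ) - 1 ≤ j) :
    (ell (Finsupp.single P (j : ℤ) : Divisor k K) : ℤ) = j + 1 - genus k K := by
  have := ell_eq_of_deg_ge hK (Finsupp.single P (j : ℤ) : Divisor k K)
    (by rw [deg_single_nat hK]; exact hj)
  rw [this, deg_single_nat hK]

theorem mem_L_single {P : Place k K} {j : ℤ} {f : K} :
    f ∈ L (Finsupp.single P j : Divisor k K) ↔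
      P.1 f ≤ WithZero.exp j ∧ ∀ Q : Place k K, Q ≠ P → Q.1 f ≤ 1 := by
  classical
  rw [mem_L]
  constructor
  · intro h
    refine ⟨by simpa using h P, fun Q hQ => ?_⟩
    have := h Q
    rw [Finsupp.single_apply, if_neg (Ne.symm hQ), WithZero.exp_zero] at this
    exact this
  · rintro ⟨h1, h2⟩ Q
    by_cases hQ : Q = P
    · rw [hQ, Finsupp.single_eq_same]; exact h1
    · rw [Finsupp.single_apply, if_neg (Ne.symm hQ), WithZero.exp_zero]; exact h2 Q hQ

/-- a function with a pole of exact order `j ≥ 2g` at `P` and no other pole -/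
theorem exists_exact_pole [IsAlgClosed k] (hK : IsFunctionField k K) (P : Place k K) (j : ℕ)
    (hj : 2 * genus k K ≤ j) :
    ∃ f : K, P.1 f = WithZero.exp (j : ℤ) ∧ ∀ Q : Place k K, Q ≠ P → Q.1 f ≤ 1 := by
  classical
  rcases Nat.eq_zero_or_pos j with rfl | hpos
  · refine ⟨1, by simp, fun Q _ => by simp⟩
  obtain ⟨j', rfl⟩ : ∃ j', j = j' + 1 := ⟨j - 1, by omega⟩
  have h1 := ell_single hK P (j' + 1) (by push_cast; omega)
  have h0 := ell_single hK P j' (by
    have : (2 * genus k K : ℤ) ≤ ((j' + 1 : ℕ) : ℤ) := by exact_mod_cast hj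
    push_cast at this; omega)
  have hle : L (Finsupp.single P (j' : ℤ) : Divisor k K) ≤
      L (Finsupp.single P ((j' + 1 : ℕ) : ℤ) : Divisor k K) := by
    intro f hf
    rw [mem_L_single] at hf ⊢
    refine ⟨hf.1.trans ?_, hf.2⟩
    rw [WithZero.exp_le_exp]; push_cast; omega
  have hne : L (Finsupp.single P (j' : ℤ) : Divisor k K) ≠
      L (Finsupp.single P ((j' + 1 : ℕ) : ℤ) : Divisor k K) := by
    intro heq
    unfold ell at h0 h1
    rw [heq, h1] at h0
    push_cast at h0
    omega
  obtain ⟨f, hf1, hf0⟩ := SetLike.exists_of_lt (lt_of_le_of_ne hle hne)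
  rw [mem_L_single] at hf1 hf0
  refine ⟨f, ?_, hf1.2⟩
  have hlt : WithZero.exp (j' : ℤ) < P.1 f := by
    by_contra hcon
    push Not at hcon
    exact hf0 ⟨hcon, hf1.2⟩
  have hv : P.1 f ≠ 0 := by
    intro h
    rw [h] at hlt
    exact absurd hlt (by simp)
  obtain ⟨a, ha⟩ : ∃ a : ℤ, P.1 f = WithZero.exp a := ⟨_, (WithZero.exp_log hv).symm⟩
  rw [ha, WithZero.exp_lt_exp] at hlt
  have hle' := hf1.1
  rw [ha, WithZero.exp_le_exp] at hle'
  rw [ha]
  congr 1
  push_cast at hle' ⊢
  omega

/-- a basis of `L((n+g)P)` for `n > g` -/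
theorem exists_basis_L [IsAlgClosed k] (hK : IsFunctionField k K) (P : Place k K) (n : ℕ)
    (hn : genus k K < n) :
    ∃ φ : Fin (n + 1) → K, LinearIndependent k φ ∧
      Submodule.span k (Set.range φ) =
        L (Finsupp.single P ((n + genus k K : ℕ) : ℤ) : Divisor k K) := by
  classical
  haveI := L_finite hK (Finsupp.single P ((n + genus k K : ℕ) : ℤ) : Divisor k K)
  have h1 := ell_single hK P (n + genus k K) (by push_cast; omega)
  have hfr : finrank k (L (Finsupp.single P ((n + genus k K : ℕ) : ℤ) : Divisor k K)) = n + 1 := by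
    have h1' : ((finrank k (L (Finsupp.single P ((n + genus k K : ℕ) : ℤ) : Divisor k K)) : ℕ) : ℤ)
        = ((n + 1 : ℕ) : ℤ) := by
      unfold ell at h1
      rw [h1]; push_cast; ring
    exact_mod_cast h1'
  let b := Module.finBasisOfFinrankEq k _ hfr
  refine ⟨fun i => (b i : K), ?_, ?_⟩
  · exact b.linearIndependent.map' (Submodule.subtype _) (Submodule.ker_subtype _)
  · have : (Set.range fun i => (b i : K)) = (Submodule.subtype _) '' Set.range b := by
      ext x
      simp
    rw [this, Submodule.span_image, b.span_eq, Submodule.map_subtype_top]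

theorem two_mul_sum_fin (n : ℕ) : (∑ l : Fin n, (l.val : ℤ)) * 2 = (n : ℤ) ^ 2 - n := by
  induction n with
  | zero => simp
  | succ n ih =>
    rw [Fin.sum_univ_castSucc, add_mul]
    simp only [Fin.val_castSucc, Fin.val_last]
    rw [ih]
    push_cast
    ring

theorem strictMono_le (J : Fin n → ℕ) (hJ : StrictMono J) (l : Fin n) : l.val ≤ J l := by
  obtain ⟨v, hv⟩ := l
  induction v with
  | zero => exact Nat.zero_le _
  | succ v ih =>
    have h1 := ih (by omega)
    have h2 : J ⟨v, by omega⟩ < J ⟨v + 1, hv⟩ := hJ (Fin.mk_lt_mk.mpr (Nat.lt_succ_self v))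
    show v + 1 ≤ J ⟨v + 1, hv⟩
    have : v ≤ J ⟨v, by omega⟩ := h1
    omega

theorem strictMono_gap (J : Fin n → ℕ) (hJ : StrictMono J) (a b : Fin n) (hab : a ≤ b) :
    J a + (b.val - a.val) ≤ J b := by
  obtain ⟨bv, hb⟩ := b
  induction bv with
  | zero =>
    have : a.val = 0 := by
      have : a.val ≤ 0 := hab
      omega
    have ha : a = ⟨0, hb⟩ := Fin.ext this
    rw [ha]
    simp
  | succ bv ih =>
    rcases (Nat.lt_or_ge a.val (bv + 1)) with hlt | hge
    · have h1 := ih (by omega) (by rw [Fin.le_def]; simp; omega)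
      have h2 : J ⟨bv, by omega⟩ < J ⟨bv + 1, hb⟩ := hJ (Fin.mk_lt_mk.mpr (Nat.lt_succ_self bv))
      simp only at h1 ⊢
      omega
    · have : a.val = bv + 1 := by
        have : a.val ≤ bv + 1 := hab
        omega
      have ha : a = ⟨bv + 1, hb⟩ := Fin.ext this
      rw [ha]
      simp

/-- the sum bound -/
theorem sum_orders_le (g : ℕ) (hg : 1 ≤ g) (hgn : g < n) (J : Fin n → ℕ)
    (h1 : ∀ l : Fin n, l.val + g ≤ n → J l ≤ l.val)
    (h2 : ∀ l : Fin n, J l ≤ l.val + g + 1) :
    (∑ l, (J l : ℤ)) * 2 ≤ (n : ℤ) ^ 2 - n + 2 * ((g : ℤ) + 1) * ((g : ℤ) - 1) := by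
  classical
  have hB : ∀ l : Fin n, (J l : ℤ) ≤ (l.val : ℤ) + (if n < l.val + g then ((g : ℤ) + 1) else 0) := by
    intro l
    by_cases h : n < l.val + g
    · rw [if_pos h]
      have := h2 l
      have : (J l : ℤ) ≤ ((l.val + g + 1 : ℕ) : ℤ) := by exact_mod_cast this
      push_cast at this
      linarith
    · rw [if_neg h, add_zero]
      have := h1 l (by omega)
      exact_mod_cast this
  have hsum : (∑ l : Fin n, (J l : ℤ)) ≤ (∑ l : Fin n, (l.val : ℤ)) +
      ∑ l : Fin n, (if n < l.val + g then ((g : ℤ) + 1) else 0) := by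
    rw [← Finset.sum_add_distrib]
    exact Finset.sum_le_sum fun l _ => hB l
  have hcount : (∑ l : Fin n, (if n < l.val + g then ((g : ℤ) + 1) else 0)) ≤
      ((g : ℤ) - 1) * ((g : ℤ) + 1) := by
    rw [Fin.sum_univ_eq_sum_range (fun v => if n < v + g then ((g : ℤ) + 1) else 0) n,
      Finset.sum_ite, Finset.sum_const, Finset.sum_const_zero, add_zero, nsmul_eq_mul]
    have hcard : ((Finset.range n).filter (fun v => n < v + g)).card ≤ g - 1 := by
      have hsub : (Finset.range n).filter (fun v => n < v + g) ⊆ Finset.Ico (n + 1 - g) n := by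
        intro v hv
        rw [Finset.mem_filter, Finset.mem_range] at hv
        rw [Finset.mem_Ico]
        omega
      have := Finset.card_le_card hsub
      rw [Nat.card_Ico] at this
      omega
    have hcard' : (((Finset.range n).filter (fun v => n < v + g)).card : ℤ) ≤ (g : ℤ) - 1 := by
      have : (((Finset.range n).filter (fun v => n < v + g)).card : ℤ) ≤ ((g - 1 : ℕ) : ℤ) := by
        exact_mod_cast hcard
      rw [Nat.cast_sub hg] at this
      simpa using this
    exact mul_le_mul_of_nonneg_right hcard' (by positivity)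
  have h3 := two_mul_sum_fin n
  nlinarith [hsum, hcount, h3]

end Groth.Agent.Helper16.Hasse
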