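import Mathlib
import Groth.Prelude.Def_W4bk4goldsch23FF
import Groth.Agent.Lib.Helper17.FF18

set_option autoImplicit false
set_option linter.style.haveILetI false

/-! Singular places: an approximating multiplier. -/

namespace Groth.Agent.H16.SG

open FunFld Module
open Groth.Agent.Helper17.FF

section U

variable {k K : Type*} [Field k] [Field K] [Algebra k K]

theorem exists_multiplier (hK : IsFunctionField k K) (Pinf P₀ : Place k K) (h0 : P₀ ≠ Pinf)
    {n : ℕ} (a : Fin n → K) :
    ∃ u : K, (∀ l, P₀.1 ((u - 1) * a l) ≤ 1) ∧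
      ∀ P : Place k K, P ≠ P₀ → P ≠ Pinf → ∀ l, P.1 (u * a l) ≤ 1 := by
  classical
  have hbad : {P : Place k K | ∃ l, 1 < P.1 (a l)}.Finite := by
    refine Set.Finite.subset (Set.finite_iUnion (fun l => finite_support_ord hK (a l))) ?_
    rintro P ⟨l, hl⟩
    refine Set.mem_iUnion.2 ⟨l, ?_⟩
    rw [Function.mem_support]
    have hal : a l ≠ 0 := by
      rintro h; rw [h, map_zero] at hl; exact not_lt.2 zero_le hl
    rw [val_eq_exp_neg_ord P hal, ← WithZero.exp_zero, WithZero.exp_lt_exp] at hl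
    omega
  set A : Finset (Place k K) := (insert P₀ hbad.toFinset).erase Pinf with hA
  set M : ℤ := ∑ P ∈ A, ∑ l, |WithZero.log (P.1 (a l))| with hM
  have hM0 : 0 ≤ M := Finset.sum_nonneg (fun _ _ => Finset.sum_nonneg (fun _ _ => abs_nonneg _))
  have hMle : ∀ P ∈ A, ∀ l, P.1 (a l) ≤ WithZero.exp M := by
    intro P hP l
    rcases eq_or_ne (P.1 (a l)) 0 with h | h
    · rw [h]; exact zero_le
    rw [← WithZero.exp_log h, WithZero.exp_le_exp]
    have h1 : |WithZero.log (P.1 (a l))| ≤ ∑ l, |WithZero.log (P.1 (a l))| :=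
      Finset.single_le_sum (f := fun l => |WithZero.log (P.1 (a l))|)
        (fun _ _ => abs_nonneg _) (Finset.mem_univ l)
    have h2 : ∑ l, |WithZero.log (P.1 (a l))| ≤ M :=
      Finset.single_le_sum (f := fun P : Place k K => ∑ l, |WithZero.log (P.1 (a l))|)
        (fun _ _ => Finset.sum_nonneg (fun _ _ => abs_nonneg _)) hP
    have h3 := le_abs_self (WithZero.log (P.1 (a l)))
    linarith
  let e := A.equivFin
  let Pf : Fin A.card → Place k K := fun j => ((e.symm j : A) : Place k K)
  have hPf : Function.Injective Pf := fun i j hij => e.symm.injective (Subtype.ext hij)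
  have hPfA : ∀ j, Pf j ∈ A := fun j => (e.symm j).2
  have hinf : Pinf ∉ Set.range Pf := by
    rintro ⟨j, hj⟩
    have := hPfA j
    rw [hj, hA] at this
    exact (Finset.mem_erase.1 this).1 rfl
  have hsurj : ∀ P ∈ A, ∃ j, Pf j = P := fun P hP => ⟨e ⟨P, hP⟩, by simp [Pf]⟩
  obtain ⟨u, hu1, hu2⟩ := strong_approx hK Pinf A.card Pf hPf hinf
    (fun j => if Pf j = P₀ then 1 else 0) (fun _ => M)
  have hP₀A : P₀ ∈ A := by
    rw [hA]; exact Finset.mem_erase.2 ⟨h0, Finset.mem_insert_self _ _⟩
  refine ⟨u, ?_, ?_⟩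
  · intro l
    obtain ⟨j, hj⟩ := hsurj P₀ hP₀A
    have h1 := hu1 j
    simp only [hj, if_true] at h1
    rw [map_mul, h1]
    calc WithZero.exp (-M) * P₀.1 (a l) ≤ WithZero.exp (-M) * WithZero.exp M :=
          mul_le_mul' le_rfl (hMle P₀ hP₀A l)
      _ = 1 := by rw [← WithZero.exp_add, neg_add_cancel, WithZero.exp_zero]
  · intro P hP0 hPinf l
    by_cases hPA : P ∈ A
    · obtain ⟨j, hj⟩ := hsurj P hPA
      have h1 := hu1 j
      simp only [hj, if_neg hP0, sub_zero] at h1
      rw [map_mul, h1]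
      calc WithZero.exp (-M) * P.1 (a l) ≤ WithZero.exp (-M) * WithZero.exp M :=
            mul_le_mul' le_rfl (hMle P hPA l)
        _ = 1 := by rw [← WithZero.exp_add, neg_add_cancel, WithZero.exp_zero]
    · have hnotbad : ¬ 1 < P.1 (a l) := by
        intro hl
        apply hPA
        rw [hA]
        refine Finset.mem_erase.2 ⟨hPinf, Finset.mem_insert_of_mem ?_⟩
        rw [Set.Finite.mem_toFinset]
        exact ⟨l, hl⟩
      have hrange : P ∉ Set.range Pf := by
        rintro ⟨j, hj⟩
        exact hPA (hj ▸ hPfA j)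
      have h1 := hu2 P hPinf hrange
      rw [map_mul]
      exact mul_le_one' h1 (not_lt.1 hnotbad)

end U

end Groth.Agent.H16.SG
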