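import Mathlib
import Groth.Agent.H16.SG1
import Groth.Agent.H16.NS3
import Groth.Agent.Lib.Helper17.FF24

set_option autoImplicit false
set_option linter.style.haveILetI false

/-! Singular places: normalised singular elements and the conorm divisor. -/

namespace Groth.Agent.H16.SG

open FunFld Module
open scoped TensorProduct
open Groth.Agent.Helper17.FF Groth.Agent.H16.NS

universe u v w

section Y

variable {k F : Type u} {K : Type v} {K' : Type w} [Field k] [Field F] [Field K] [Field K']
    [Algebra k F] [FiniteDimensional k F] [Algebra k K] [Algebra K K'] [Algebra F K']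
    [Algebra k K'] [IsScalarTower k F K'] [IsScalarTower k K K']

/-- `O_P[F]` inside `K'`. -/
abbrev adjP (F : Type u) {K : Type v} {K' : Type w} [Field F] [Field K] [Field K'] [Algebra k K]
    [Algebra K K'] [Algebra F K'] (P : Place k K) :
    Subalgebra (P.O.toSubring.map (algebraMap K K')) K' :=
  Algebra.adjoin (P.O.toSubring.map (algebraMap K K')) (Set.range (algebraMap F K'))

theorem exists_singular_element
    (h : Function.Bijective (Algebra.TensorProduct.productMap
      (IsScalarTower.toAlgHom k F K') (IsScalarTower.toAlgHom k K K')))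
    (hK : IsFunctionField k K) (Pinf P₀ : Place k K) (h0 : P₀ ≠ Pinf)
    (z : K') (hz : ∀ Q : Place k K', IsOver Q P₀ → Q.1 z ≤ 1) (hzn : z ∉ adjP F P₀) :
    ∃ y : K', (∀ Q : Place k K', IsOver Q P₀ → Q.1 y ≤ 1) ∧ y ∉ adjP F P₀ ∧
      ∀ P : Place k K, P ≠ P₀ → P ≠ Pinf → y ∈ adjP F P := by
  classical
  let b := Module.finBasis k F
  let B' := constBasis h b
  have hB' : ∀ i, B' i = algebraMap F K' (b i) := constBasis_apply h b
  have M1 : ∀ (P : Place k K) (y : K'), y ∈ adjP F P ↔ ∀ i, P.1 (B'.repr y i) ≤ 1 := fun P y =>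
    mem_adjoin_iff P.O.toSubring (fun x => P.2.1 x) b B' hB' y
  obtain ⟨u, hu1, hu2⟩ := exists_multiplier hK Pinf P₀ h0 (fun l => B'.repr z l)
  have hw : (u - 1) • z ∈ adjP F P₀ := by
    rw [M1]
    intro i
    rw [map_smul, Finsupp.smul_apply, smul_eq_mul]
    exact hu1 i
  have hyz : u • z = z + (u - 1) • z := by rw [sub_smul, one_smul]; abel
  refine ⟨u • z, ?_, ?_, ?_⟩
  · intro Q hQ
    rw [hyz]
    exact (Q.1.map_add _ _).trans (max_le (hz Q hQ) (val_le_one_of_mem_adjoin P₀ hw Q hQ))
  · intro hy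
    apply hzn
    have : z = u • z - (u - 1) • z := by rw [hyz]; abel
    rw [this]
    exact Subalgebra.sub_mem _ hy hw
  · intro P hP0 hPinf
    rw [M1]
    intro i
    rw [map_smul, Finsupp.smul_apply, smul_eq_mul]
    exact hu2 P hP0 hPinf i

theorem exists_conorm_divisor
    (h : Function.Bijective (Algebra.TensorProduct.productMap
      (IsScalarTower.toAlgHom k F K') (IsScalarTower.toAlgHom k K K')))
    (hK : IsFunctionField k K) (Pinf : Place k K) (n : ℕ) :
    ∃ D' : Divisor F K', 0 ≤ D' ∧ D'.deg = (n : ℤ) * Pinf.deg ∧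
      (∀ (Q' : Place F K') (e : ℕ), IsOverWith (placeDown k Q') Pinf e → D' Q' = (n : ℤ) * e) ∧
      (∀ Q' : Place F K', ¬ IsOver (placeDown k Q') Pinf → D' Q' = 0) := by
  classical
  haveI : FiniteDimensional K K' := CU.finite_const h
  haveI : Algebra.IsAlgebraic k F := Algebra.IsAlgebraic.of_finite k F
  have hKw : IsWeakFF k K := IsWeakFF.of_isFunctionField hK
  obtain ⟨hfin, hsum⟩ := wk_sum_ramIdx_mul_deg (L := K') hKw Pinf
  set T := hfin.toFinset with hT
  have hTmem : ∀ Q, Q ∈ T ↔ IsOver Q Pinf := fun Q => by rw [hT, Set.Finite.mem_toFinset]; rfl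
  have hsumT := hsum T hTmem
  set D' : Divisor F K' :=
    ∑ Q ∈ T, Finsupp.single (placeUp F Q) ((n : ℤ) * (ramIdx Q Pinf : ℤ)) with hD'
  have hD'apply : ∀ Q' : Place F K', D' Q' =
      if placeDown k Q' ∈ T then (n : ℤ) * (ramIdx (placeDown k Q') Pinf : ℤ) else 0 := by
    intro Q'
    rw [hD', Finsupp.finsetSum_apply]
    simp only [Finsupp.single_apply]
    split_ifs with hmem
    · rw [Finset.sum_eq_single (placeDown k Q')]
      · rw [if_pos (placeUp_placeDown Q')]
      · intro Q _ hne
        rw [if_neg]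
        intro heq
        apply hne
        rw [← heq, placeDown_placeUp]
      · intro hn; exact absurd hmem hn
    · apply Finset.sum_eq_zero
      intro Q hQ
      rw [if_neg]
      intro heq
      apply hmem
      rw [← heq, placeDown_placeUp]
      exact hQ
  refine ⟨D', ?_, ?_, ?_, ?_⟩
  · intro Q'
    rw [hD'apply, Finsupp.zero_apply]
    split_ifs
    · positivity
    · exact le_rfl
  · rw [← degHom_apply, hD', map_sum]
    simp only [degHom_apply, deg_single]
    have h1 : ∀ Q ∈ T, (n : ℤ) * (ramIdx Q Pinf : ℤ) * ((placeUp F Q).deg : ℤ) * (finrank k F : ℤ) =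
        (n : ℤ) * ((ramIdx Q Pinf * Q.deg : ℕ) : ℤ) := by
      intro Q _
      rw [deg_placeUp (k₁ := F) Q]
      push_cast
      ring
    have hpos : (0 : ℤ) < (finrank k F : ℤ) := by exact_mod_cast Module.finrank_pos
    have h2 : (∑ Q ∈ T, (n : ℤ) * (ramIdx Q Pinf : ℤ) * ((placeUp F Q).deg : ℤ)) *
        (finrank k F : ℤ) = ((n : ℤ) * Pinf.deg) * (finrank k F : ℤ) := by
      rw [Finset.sum_mul, Finset.sum_congr rfl h1, ← Finset.mul_sum, ← Nat.cast_sum, hsumT,
        CU.finrank_const h]
      push_cast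
      ring
    exact mul_right_cancel₀ hpos.ne' h2
  · intro Q' e he
    rw [hD'apply, if_pos ((hTmem _).2 ⟨e, he⟩), ramIdx_eq he]
  · intro Q' hQ'
    rw [hD'apply, if_neg (fun hmem => hQ' ((hTmem _).1 hmem))]

end Y

end Groth.Agent.H16.SG
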