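import Mathlib
import Groth.Prelude.Def_W4bk4goldsch23FF
import Groth.Prelude.Def_W4bk4goldsch23Ext
import Groth.Agent.H16.RH7
import Groth.Agent.Lib.Helper17.FFW
import Groth.Agent.Lib.Helper17.FF11
import Groth.Agent.Lib.Helper17.FF20

set_option autoImplicit false
set_option linter.style.haveILetI false

/-! Splitting fields of places: the degree-one criterion via a dimension count in `K̄`. -/

namespace Groth.Agent.H16.SP

open FunFld Module
open scoped TensorProduct
open Groth.Agent.Helper17.FF Groth.Agent.Helper16.RH

section B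

variable {F kb K' Kb : Type*} [Field F] [Field kb] [Field K'] [Field Kb]
  [Algebra F kb] [Algebra F K'] [Algebra K' Kb] [Algebra kb Kb] [Algebra F Kb]
  [IsScalarTower F kb Kb] [IsScalarTower F K' Kb]

/-- linear disjointness: `F`-independent elements of `K'` stay independent over `kb` in `Kb`. -/
theorem linearIndependent_bar
    (h : Function.Bijective (Algebra.TensorProduct.productMap
      (IsScalarTower.toAlgHom F kb Kb) (IsScalarTower.toAlgHom F K' Kb)))
    {ι : Type*} (v : ι → K') (hv : LinearIndependent F v) :
    LinearIndependent kb (fun i => algebraMap K' Kb (v i)) := by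
  classical
  have hs : LinearIndepOn F id (Set.range v) := hv.linearIndepOn_id
  let b := Module.Basis.extend hs
  let B := Algebra.TensorProduct.basis kb b
  let e := CU.constEquivL h
  have h1 : LinearIndependent kb (fun i => e.toLinearMap (B i)) :=
    B.linearIndependent.map' e.toLinearMap (LinearMap.ker_eq_bot.2 e.injective)
  have h2 : ∀ i, e.toLinearMap (B i) = algebraMap K' Kb (i : K') := by
    intro i
    show e (B i) = _
    rw [Algebra.TensorProduct.basis_apply, CU.constEquivL_tmul, map_one, one_mul,
      Module.Basis.extend_apply_self]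
  simp only [h2] at h1
  have hmem : ∀ i, v i ∈ hs.extend (Set.subset_univ _) :=
    fun i => Module.Basis.subset_extend hs ⟨i, rfl⟩
  have h3 := h1.comp (fun i => (⟨v i, hmem i⟩ : hs.extend (Set.subset_univ _)))
    (fun i j hij => hv.injective (by simpa using hij))
  exact h3

theorem deg_eq_one_of_bar [IsAlgClosed kb] [Algebra.IsAlgebraic F kb]
    (h : Function.Bijective (Algebra.TensorProduct.productMap
      (IsScalarTower.toAlgHom F kb Kb) (IsScalarTower.toAlgHom F K' Kb)))
    (hK' : IsFunctionField F K') (Q : Place F K') (Qb : Place kb Kb)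
    (hQ : ∀ z : K', Qb.1 (algebraMap K' Kb z) = Q.1 z)
    (y : K') (hy : 1 < Q.1 y)
    (hy' : ∀ R : Place kb Kb, R ≠ Qb → R.1 (algebraMap K' Kb y) ≤ 1) :
    Q.deg = 1 := by
  classical
  have hKb : IsFunctionField kb Kb := isFunctionField_bar h hK'
  haveI : Algebra.IsAlgebraic K' Kb :=
    isAlgebraic_of_hgen (k := F) (k' := kb) (hgen_of_surjective (k := F) h.2)
  have hincl : ∀ (n : ℕ) (z : K'), z ∈ L (Finsupp.single Q (n : ℤ) : Divisor F K') →
      algebraMap K' Kb z ∈ L (Finsupp.single Qb (n : ℤ) : Divisor kb Kb) := by
    intro n z hz R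
    by_cases hR : R = Qb
    · subst hR
      rw [Finsupp.single_eq_same, hQ]
      have := hz Q
      rwa [Finsupp.single_eq_same] at this
    · have h0 : (Finsupp.single Qb (n : ℤ) : Divisor kb Kb) R = 0 := by
        rw [Finsupp.single_apply, if_neg (fun h => hR h.symm)]
      rw [h0, WithZero.exp_zero]
      obtain ⟨R₀, e, he⟩ := exists_isOverWith hK' (placeDown F R)
      have hR₀ : R₀ ≠ Q := by
        rintro rfl
        have h1 : R.1 (algebraMap K' Kb y) = R₀.1 y ^ e := he y
        have h2 := hy' R hR
        have hpos := isOverWith_pos he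
        rw [h1] at h2
        exact absurd (one_lt_pow₀ hy hpos.ne') (not_lt.2 h2)
      have h3 := hz R₀
      have h00 : (Finsupp.single Q (n : ℤ) : Divisor F K') R₀ = 0 := by
        rw [Finsupp.single_apply, if_neg (fun h => hR₀ h.symm)]
      rw [h00, WithZero.exp_zero] at h3
      have h4 : R.1 (algebraMap K' Kb z) = R₀.1 z ^ e := he z
      rw [h4]
      exact pow_le_one' h3 e
  have hdim : ∀ n : ℕ, (finrank F (L (Finsupp.single Q (n : ℤ) : Divisor F K')) : ℤ) ≤ 1 + n := by
    intro n
    haveI := L_finite hK' (Finsupp.single Q (n : ℤ) : Divisor F K')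
    haveI := L_finite hKb (Finsupp.single Qb (n : ℤ) : Divisor kb Kb)
    let b := Module.finBasis F (L (Finsupp.single Q (n : ℤ) : Divisor F K'))
    have hv : LinearIndependent F (fun i => ((b i : L (Finsupp.single Q (n : ℤ) : Divisor F K')) : K')) :=
      b.linearIndependent.map' (Submodule.subtype _) (Submodule.ker_subtype _)
    have hv' := linearIndependent_bar h _ hv
    let w : Fin (finrank F (L (Finsupp.single Q (n : ℤ) : Divisor F K'))) →
        L (Finsupp.single Qb (n : ℤ) : Divisor kb Kb) :=
      fun i => ⟨algebraMap K' Kb (b i), hincl n _ (b i).2⟩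
    have hw : LinearIndependent kb w := by
      apply LinearIndependent.of_comp (Submodule.subtype _)
      exact hv'
    have h5 := hw.fintype_card_le_finrank
    rw [Fintype.card_fin] at h5
    have h6 := ell_le_deg_add_one hKb (D := (Finsupp.single Qb (n : ℤ) : Divisor kb Kb))
      (by
        intro R
        rw [Finsupp.single_apply, Finsupp.zero_apply]
        split_ifs
        · exact_mod_cast Nat.zero_le n
        · exact le_rfl)
    rw [deg_single, deg_eq_one_of_isAlgClosed hKb Qb] at h6
    have h7 : (finrank F (L (Finsupp.single Q (n : ℤ) : Divisor F K')) : ℤ) ≤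
        finrank kb (L (Finsupp.single Qb (n : ℤ) : Divisor kb Kb)) := by exact_mod_cast h5
    push_cast at h6
    linarith
  have hpos := deg_pos hK' Q
  set g := genus F K' with hg
  have hr := (riemann hK').1 (Finsupp.single Q ((g + 1 : ℕ) : ℤ) : Divisor F K')
  rw [deg_single] at hr
  have hd := hdim (g + 1)
  unfold ell at hr
  push_cast at hr hd
  by_contra hne
  have h2 : (2 : ℤ) ≤ Q.deg := by
    have : 2 ≤ Q.deg := by omega
    exact_mod_cast this
  nlinarith

end B

end Groth.Agent.H16.SP
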