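import Mathlib
import Groth.Agent.H16.SG2
import Groth.Agent.H16.SP1

set_option autoImplicit false
set_option linter.style.haveILetI false

/-! Singular places: at most `g + 1` of them for a fixed constant field extension. -/

namespace Groth.Agent.H16.SG

open FunFld Module
open scoped TensorProduct
open Groth.Agent.Helper17.FF Groth.Agent.H16.NS Groth.Agent.Helper16.RH

universe u v w

section Count

variable {k F : Type u} {K : Type v} {K' : Type w} [Field k] [Field F] [Field K] [Field K']
    [Algebra k F] [FiniteDimensional k F] [Algebra k K] [Algebra K K'] [Algebra F K']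
    [Algebra k K'] [IsScalarTower k F K'] [IsScalarTower k K K']

theorem card_le_of_singular
    (h : Function.Bijective (Algebra.TensorProduct.productMap
      (IsScalarTower.toAlgHom k F K') (IsScalarTower.toAlgHom k K K')))
    (hK : IsFunctionField k K) (hg : IsGeometric k K) (T : Finset (Place k K))
    (hT : ∀ P ∈ T, ∃ z : K', (∀ Q : Place k K', IsOver Q P → Q.1 z ≤ 1) ∧ z ∉ adjP F P) :
    T.card ≤ genus k K + 1 := by
  classical
  rcases T.eq_empty_or_nonempty with rfl | ⟨Pinf, hPinf⟩
  · simp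
  set T₀ := T.erase Pinf with hT₀
  have hcard : T.card = T₀.card + 1 := (Finset.card_erase_add_one hPinf).symm
  suffices hsuff : T₀.card ≤ genus k K by omega
  have hy : ∀ P ∈ T₀, ∃ y : K', (∀ Q : Place k K', IsOver Q P → Q.1 y ≤ 1) ∧ y ∉ adjP F P ∧
      ∀ P' : Place k K, P' ≠ P → P' ≠ Pinf → y ∈ adjP F P' := by
    intro P hP
    obtain ⟨z, hz, hzn⟩ := hT P (Finset.mem_of_mem_erase hP)
    exact exists_singular_element h hK Pinf P (Finset.ne_of_mem_erase hP) z hz hzn
  choose! y hy1 hy2 hy3 using hy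
  haveI : FiniteDimensional K K' := CU.finite_const h
  haveI : Algebra.IsAlgebraic k F := Algebra.IsAlgebraic.of_finite k F
  haveI : Algebra.IsAlgebraic K K' := Algebra.IsAlgebraic.of_finite K K'
  have hK' : IsFunctionField F K' := isFunctionField_const' h hK hg
  have hKw : IsWeakFF k K := IsWeakFF.of_isFunctionField hK
  obtain ⟨hfin, -⟩ := wk_sum_ramIdx_mul_deg (L := K') hKw Pinf
  set Tinf := hfin.toFinset with hTinf
  have hTinfmem : ∀ Q, Q ∈ Tinf ↔ IsOver Q Pinf := fun Q => by
    rw [hTinf, Set.Finite.mem_toFinset]; rfl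
  set n : ℕ := (∑ P ∈ T₀, ∑ Q ∈ Tinf, |WithZero.log (Q.1 (y P))|).toNat with hn
  have hnle : ∀ P ∈ T₀, ∀ Q : Place k K', IsOver Q Pinf → Q.1 (y P) ≤ WithZero.exp (n : ℤ) := by
    intro P hP Q hQ
    rcases eq_or_ne (Q.1 (y P)) 0 with h0 | h0
    · rw [h0]; exact zero_le
    rw [← WithZero.exp_log h0, WithZero.exp_le_exp]
    have h1 : |WithZero.log (Q.1 (y P))| ≤ ∑ Q ∈ Tinf, |WithZero.log (Q.1 (y P))| :=
      Finset.single_le_sum (f := fun Q : Place k K' => |WithZero.log (Q.1 (y P))|)
        (fun _ _ => abs_nonneg _) ((hTinfmem Q).2 hQ)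
    have h2 : ∑ Q ∈ Tinf, |WithZero.log (Q.1 (y P))| ≤
        ∑ P ∈ T₀, ∑ Q ∈ Tinf, |WithZero.log (Q.1 (y P))| :=
      Finset.single_le_sum (f := fun P => ∑ Q ∈ Tinf, |WithZero.log (Q.1 (y P))|)
        (fun _ _ => Finset.sum_nonneg (fun _ _ => abs_nonneg _)) hP
    have h3 := le_abs_self (WithZero.log (Q.1 (y P)))
    have h4 : (0 : ℤ) ≤ ∑ P ∈ T₀, ∑ Q ∈ Tinf, |WithZero.log (Q.1 (y P))| :=
      Finset.sum_nonneg (fun _ _ => Finset.sum_nonneg (fun _ _ => abs_nonneg _))
    rw [hn, Int.toNat_of_nonneg h4]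
    linarith
  obtain ⟨D', hD0, hDdeg, hD1, hD2⟩ := exists_conorm_divisor h hK Pinf n
  -- membership of the singular elements
  have hyL : ∀ P ∈ T₀, y P ∈ L D' := by
    intro P hP Q'
    obtain ⟨P₁, e, he⟩ := exists_isOverWith hK (placeDown k Q')
    have hepos := isOverWith_pos he
    by_cases hP₁ : P₁ = Pinf
    · subst hP₁
      rw [hD1 Q' e he]
      have h1 := hnle P hP (placeDown k Q') ⟨e, he⟩
      refine h1.trans ?_
      rw [WithZero.exp_le_exp]
      have : (1 : ℤ) ≤ e := by exact_mod_cast hepos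
      nlinarith
    · have hno : ¬ IsOver (placeDown k Q') Pinf := fun hov => hP₁ (isOver_unique ⟨e, he⟩ hov)
      rw [hD2 Q' hno, WithZero.exp_zero]
      by_cases hPP : P₁ = P
      · subst hPP
        exact hy1 P₁ hP (placeDown k Q') ⟨e, he⟩
      · exact val_le_one_of_mem_adjoin P₁ (hy3 P hP P₁ hPP hP₁) (placeDown k Q') ⟨e, he⟩
  have hxL : ∀ x : K, x ∈ L (Finsupp.single Pinf (n : ℤ) : Divisor k K) →
      algebraMap K K' x ∈ L D' := by
    intro x hx Q'
    obtain ⟨P₁, e, he⟩ := exists_isOverWith hK (placeDown k Q')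
    have h1 : Q'.1 (algebraMap K K' x) = P₁.1 x ^ e := he x
    rw [h1]
    by_cases hP₁ : P₁ = Pinf
    · subst hP₁
      rw [hD1 Q' e he]
      have h2 := hx P₁
      rw [Finsupp.single_eq_same] at h2
      calc P₁.1 x ^ e ≤ WithZero.exp (n : ℤ) ^ e := pow_le_pow_left' h2 e
        _ = WithZero.exp ((n : ℤ) * e) := by
            rw [← WithZero.exp_nsmul]; congr 1; simp [mul_comm]
    · have hno : ¬ IsOver (placeDown k Q') Pinf := fun hov => hP₁ (isOver_unique ⟨e, he⟩ hov)
      rw [hD2 Q' hno, WithZero.exp_zero]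
      have h2 := hx P₁
      rw [Finsupp.single_apply, if_neg (fun h => hP₁ h.symm), WithZero.exp_zero] at h2
      exact pow_le_one' h2 e
  -- the family
  haveI := L_finite hK (Finsupp.single Pinf (n : ℤ) : Divisor k K)
  haveI := L_finite hK' D'
  let bx := Module.finBasis k (L (Finsupp.single Pinf (n : ℤ) : Divisor k K))
  have hxs : LinearIndependent k (fun j => ((bx j : L (Finsupp.single Pinf (n : ℤ) : Divisor k K)) : K)) :=
    bx.linearIndependent.map' (Submodule.subtype _) (Submodule.ker_subtype _)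
  have hxs' := Groth.Agent.H16.SP.linearIndependent_bar (F := k) (kb := F) (K' := K) (Kb := K') h _ hxs
  let e₀ := T₀.equivFin
  let Pi : Fin T₀.card → Place k K := fun i => ((e₀.symm i : T₀) : Place k K)
  have hPiinj : Function.Injective Pi := fun i j hij => e₀.symm.injective (Subtype.ext hij)
  have hPimem : ∀ i, Pi i ∈ T₀ := fun i => (e₀.symm i).2
  have hPine : ∀ i, Pi i ≠ Pinf := fun i => Finset.ne_of_mem_erase (hPimem i)
  let v : Fin (finrank k (L (Finsupp.single Pinf (n : ℤ) : Divisor k K))) ⊕ Fin T₀.card → K' :=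
    Sum.elim (fun j => algebraMap K K' (bx j : K)) (fun i => y (Pi i))
  have hFmem : ∀ (P : Place k K) (c : F), algebraMap F K' c ∈ adjP F P := fun P c =>
    Algebra.subset_adjoin ⟨c, rfl⟩
  have hv : LinearIndependent F v := by
    rw [Fintype.linearIndependent_iff]
    intro g hg0
    rw [Fintype.sum_sum_type] at hg0
    simp only [v, Sum.elim_inl, Sum.elim_inr] at hg0
    have hinr : ∀ i, g (Sum.inr i) = 0 := by
      intro i
      by_contra hne
      apply hy2 (Pi i) (hPimem i)
      have hX : ∑ j, g (Sum.inl j) • algebraMap K K' (bx j : K) ∈ adjP F (Pi i) := by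
        refine Subalgebra.sum_mem _ (fun j _ => ?_)
        rw [Algebra.smul_def]
        refine Subalgebra.mul_mem _ (hFmem _ _) ?_
        have h1 := (bx j).2 (Pi i)
        rw [Finsupp.single_apply, if_neg (fun h => hPine i h.symm), WithZero.exp_zero] at h1
        have h2 : algebraMap K K' (bx j : K) = algebraMap ((Pi i).O.toSubring.map (algebraMap K K')) K'
            ⟨algebraMap K K' (bx j : K), ⟨_, h1, rfl⟩⟩ := rfl
        rw [h2]
        exact Subalgebra.algebraMap_mem _ _
      have hY : ∑ i' ∈ Finset.univ.erase i, g (Sum.inr i') • y (Pi i') ∈ adjP F (Pi i) := by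
        refine Subalgebra.sum_mem _ (fun i' hi' => ?_)
        rw [Algebra.smul_def]
        refine Subalgebra.mul_mem _ (hFmem _ _) ?_
        have hne' : Pi i ≠ Pi i' := fun h => (Finset.ne_of_mem_erase hi') (hPiinj h).symm
        exact hy3 (Pi i') (hPimem i') (Pi i) hne' (hPine i)
      have hsplit : ∑ i', g (Sum.inr i') • y (Pi i') = g (Sum.inr i) • y (Pi i) +
          ∑ i' ∈ Finset.univ.erase i, g (Sum.inr i') • y (Pi i') :=
        (Finset.add_sum_erase _ _ (Finset.mem_univ i)).symm
      have h3 : g (Sum.inr i) • y (Pi i) = -(∑ j, g (Sum.inl j) • algebraMap K K' (bx j : K)) -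
          ∑ i' ∈ Finset.univ.erase i, g (Sum.inr i') • y (Pi i') := by
        rw [hsplit] at hg0
        linear_combination hg0
      have h4 : g (Sum.inr i) • y (Pi i) ∈ adjP F (Pi i) := by
        rw [h3]
        exact Subalgebra.sub_mem _ (Subalgebra.neg_mem _ hX) hY
      have h5 : y (Pi i) = algebraMap F K' (g (Sum.inr i))⁻¹ * (g (Sum.inr i) • y (Pi i)) := by
        rw [Algebra.smul_def, ← mul_assoc, ← map_mul, inv_mul_cancel₀ hne, map_one, one_mul]
      rw [h5]
      exact Subalgebra.mul_mem _ (hFmem _ _) h4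
    have hinl : ∀ j, g (Sum.inl j) = 0 := by
      have h6 : ∑ j, g (Sum.inl j) • algebraMap K K' (bx j : K) = 0 := by
        have : ∑ i', g (Sum.inr i') • y (Pi i') = 0 :=
          Finset.sum_eq_zero (fun i' _ => by rw [hinr i', zero_smul])
        rw [this, add_zero] at hg0
        exact hg0
      exact Fintype.linearIndependent_iff.1 hxs' (fun j => g (Sum.inl j)) h6
    rintro (j | i)
    · exact hinl j
    · exact hinr i
  -- lift to `L D'`
  let w : Fin (finrank k (L (Finsupp.single Pinf (n : ℤ) : Divisor k K))) ⊕ Fin T₀.card → L D' :=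
    Sum.elim (fun j => ⟨algebraMap K K' (bx j : K), hxL _ (bx j).2⟩)
      (fun i => ⟨y (Pi i), hyL _ (hPimem i)⟩)
  have hw : LinearIndependent F w := by
    apply LinearIndependent.of_comp (Submodule.subtype _)
    have : (Submodule.subtype (L D')) ∘ w = v := by
      funext x
      rcases x with j | i <;> rfl
    rw [this]
    exact hv
  have h7 := hw.fintype_card_le_finrank
  rw [Fintype.card_sum, Fintype.card_fin, Fintype.card_fin] at h7
  have h8 := ell_le_deg_add_one hK' hD0
  rw [hDdeg] at h8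
  have h9 := (riemann hK).1 (Finsupp.single Pinf (n : ℤ) : Divisor k K)
  rw [deg_single] at h9
  unfold ell at h9
  have h10 : ((finrank k (L (Finsupp.single Pinf (n : ℤ) : Divisor k K)) + T₀.card : ℕ) : ℤ) ≤
      (finrank F (L D') : ℤ) := by exact_mod_cast h7
  push_cast at h10
  have : (T₀.card : ℤ) ≤ genus k K := by linarith
  exact_mod_cast this

end Count

end Groth.Agent.H16.SG
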