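import Mathlib
import Groth.Agent.H16.SP1
import Groth.Agent.H16.RH10

set_option autoImplicit false
set_option linter.style.haveILetI false

/-! Splitting fields of places: towers of constant field extensions. -/

namespace Groth.Agent.H16.SP

open FunFld Module
open scoped TensorProduct
open Groth.Agent.Helper17.FF Groth.Agent.Helper16.RH

universe u v v' w

section C

variable {k F kb : Type u} {K : Type v} {K' : Type v'} {Kb : Type w}
  [Field k] [Field F] [Field kb] [Field K] [Field K'] [Field Kb]
  [Algebra k F] [Algebra k kb] [Algebra F kb] [IsScalarTower k F kb]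
  [Algebra k K] [Algebra k K'] [Algebra K K'] [Algebra F K'] [IsScalarTower k K K']
  [IsScalarTower k F K']
  [Algebra k Kb] [Algebra K Kb] [Algebra kb Kb] [Algebra F Kb] [Algebra K' Kb]
  [IsScalarTower k kb Kb] [IsScalarTower F kb Kb] [IsScalarTower F K' Kb] [IsScalarTower k K Kb]
  [IsScalarTower k K' Kb] [IsScalarTower K K' Kb]

attribute [local instance] Algebra.TensorProduct.rightAlgebra in
theorem isPushout_of_bijective {k F K K' : Type*} [Field k] [Field F] [Field K] [Field K']
    [Algebra k F] [Algebra k K] [Algebra k K'] [Algebra K K'] [Algebra F K'] [IsScalarTower k K K']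
    [IsScalarTower k F K']
    (h : Function.Bijective (Algebra.TensorProduct.productMap
      (IsScalarTower.toAlgHom k F K') (IsScalarTower.toAlgHom k K K'))) :
    Algebra.IsPushout k F K K' := by
  have h0 : Algebra.IsPushout k F K (F ⊗[k] K) := inferInstance
  refine Algebra.IsPushout.of_equiv (CU.constEquivL h) ?_
  ext x
  show CU.constEquivL h ((1 : F) ⊗ₜ[k] x) = algebraMap K K' x
  rw [CU.constEquivL_tmul, map_one, one_mul]

theorem bijective_of_isPushout {k F K K' : Type*} [Field k] [Field F] [Field K] [Field K']
    [Algebra k F] [Algebra k K] [Algebra k K'] [Algebra K K'] [Algebra F K'] [IsScalarTower k K K']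
    [IsScalarTower k F K'] [hp : Algebra.IsPushout k F K K'] :
    Function.Bijective (Algebra.TensorProduct.productMap
      (IsScalarTower.toAlgHom k F K') (IsScalarTower.toAlgHom k K K')) := by
  have : ∀ z, Algebra.TensorProduct.productMap
      (IsScalarTower.toAlgHom k F K') (IsScalarTower.toAlgHom k K K') z =
      Algebra.IsPushout.equiv k F K K' z := by
    intro z
    induction z using TensorProduct.induction_on with
    | zero => simp
    | tmul a b =>
      rw [Algebra.TensorProduct.productMap_apply_tmul, Algebra.IsPushout.equiv_tmul]
      rfl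
    | add a b ha hb => rw [map_add, map_add, ha, hb]
  have h2 : (⇑(Algebra.TensorProduct.productMap
      (IsScalarTower.toAlgHom k F K') (IsScalarTower.toAlgHom k K K')) : F ⊗[k] K → K') =
      ⇑(Algebra.IsPushout.equiv k F K K') := funext this
  rw [h2]
  exact (Algebra.IsPushout.equiv k F K K').bijective

theorem bijective_of_tower
    (h : Function.Bijective (Algebra.TensorProduct.productMap
      (IsScalarTower.toAlgHom k F K') (IsScalarTower.toAlgHom k K K')))
    (hb : Function.Bijective (Algebra.TensorProduct.productMap
      (IsScalarTower.toAlgHom k kb Kb) (IsScalarTower.toAlgHom k K Kb))) :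
    Function.Bijective (Algebra.TensorProduct.productMap
      (IsScalarTower.toAlgHom F kb Kb) (IsScalarTower.toAlgHom F K' Kb)) := by
  haveI h1 : Algebra.IsPushout k F K K' := isPushout_of_bijective h
  haveI h2 : Algebra.IsPushout k kb K Kb := isPushout_of_bijective hb
  haveI h3 : Algebra.IsPushout F kb K' Kb := (Algebra.IsPushout.comp_iff k F K K' (T := kb) (T' := Kb)).1 h2
  exact bijective_of_isPushout

end C

end Groth.Agent.H16.SP
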