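import Mathlib
import Groth.Agent.H16.SG3
import Groth.Agent.H16.NS4
import Groth.Agent.H16.SP2

set_option autoImplicit false
set_option linter.style.haveILetI false

/-! Singular places: transfer of singularity to a larger constant field. -/

namespace Groth.Agent.H16.SG

open FunFld Module
open scoped TensorProduct
open Groth.Agent.Helper17.FF Groth.Agent.H16.NS Groth.Agent.Helper16.RH

universe u v w₁ w₂

section TR

variable {k F₁ F₂ : Type u} {K : Type v} {K₁ : Type w₁} {K₂ : Type w₂}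
  [Field k] [Field F₁] [Field F₂] [Field K] [Field K₁] [Field K₂]
  [Algebra k F₁] [Algebra k F₂] [Algebra F₁ F₂] [IsScalarTower k F₁ F₂]
  [FiniteDimensional k F₁] [FiniteDimensional k F₂]
  [Algebra k K]
  [Algebra K K₁] [Algebra F₁ K₁] [Algebra k K₁] [IsScalarTower k F₁ K₁] [IsScalarTower k K K₁]
  [Algebra K K₂] [Algebra F₂ K₂] [Algebra k K₂] [IsScalarTower k F₂ K₂] [IsScalarTower k K K₂]

theorem sing_transfer
    (h₁ : Function.Bijective (Algebra.TensorProduct.productMap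
      (IsScalarTower.toAlgHom k F₁ K₁) (IsScalarTower.toAlgHom k K K₁)))
    (h₂ : Function.Bijective (Algebra.TensorProduct.productMap
      (IsScalarTower.toAlgHom k F₂ K₂) (IsScalarTower.toAlgHom k K K₂)))
    (hK : IsFunctionField k K) (P : Place k K)
    (z₁ : K₁) (hz₁ : ∀ Q : Place k K₁, IsOver Q P → Q.1 z₁ ≤ 1) (hzn : z₁ ∉ adjP F₁ P) :
    ∃ z : K₂, (∀ Q : Place k K₂, IsOver Q P → Q.1 z ≤ 1) ∧ z ∉ adjP F₂ P := by
  classical
  letI algF₁K₂ : Algebra F₁ K₂ := ((algebraMap F₂ K₂).comp (algebraMap F₁ F₂)).toAlgebra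
  haveI : IsScalarTower F₁ F₂ K₂ := IsScalarTower.of_algebraMap_eq (fun _ => rfl)
  let J₀ : F₁ ⊗[k] K →ₐ[k] K₂ :=
    Algebra.TensorProduct.productMap
      ((IsScalarTower.toAlgHom k F₂ K₂).comp (IsScalarTower.toAlgHom k F₁ F₂))
      (IsScalarTower.toAlgHom k K K₂)
  let j : K₁ →+* K₂ := (J₀.toRingHom).comp ((CU.constEquivL h₁).symm.toAlgHom.toRingHom)
  letI algK₁K₂ : Algebra K₁ K₂ := j.toAlgebra
  have hjF : ∀ c : F₁, j (algebraMap F₁ K₁ c) = algebraMap F₁ K₂ c := by
    intro c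
    have h1 : (CU.constEquivL h₁).symm (algebraMap F₁ K₁ c) = c ⊗ₜ[k] (1 : K) := by
      rw [AlgEquiv.symm_apply_eq, CU.constEquivL_tmul, map_one, mul_one]
    show J₀ ((CU.constEquivL h₁).symm (algebraMap F₁ K₁ c)) = _
    rw [h1, Algebra.TensorProduct.productMap_apply_tmul, map_one, mul_one]
    rfl
  have hjK : ∀ x : K, j (algebraMap K K₁ x) = algebraMap K K₂ x := by
    intro x
    have h1 : (CU.constEquivL h₁).symm (algebraMap K K₁ x) = (1 : F₁) ⊗ₜ[k] x := by
      rw [AlgEquiv.symm_apply_eq, CU.constEquivL_tmul, map_one, one_mul]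
    show J₀ ((CU.constEquivL h₁).symm (algebraMap K K₁ x)) = _
    rw [h1, Algebra.TensorProduct.productMap_apply_tmul, map_one, one_mul]
    rfl
  haveI : IsScalarTower F₁ K₁ K₂ := IsScalarTower.of_algebraMap_eq (fun c => (hjF c).symm)
  haveI : IsScalarTower K K₁ K₂ := IsScalarTower.of_algebraMap_eq (fun x => (hjK x).symm)
  haveI : IsScalarTower k K₁ K₂ := IsScalarTower.of_algebraMap_eq (fun c => by
    rw [IsScalarTower.algebraMap_apply k K K₁]
    show algebraMap k K₂ c = j _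
    rw [hjK, ← IsScalarTower.algebraMap_apply k K K₂])
  haveI : FiniteDimensional F₁ F₂ := FiniteDimensional.right k F₁ F₂
  have h12 := Groth.Agent.H16.SP.bijective_of_tower h₁ h₂
  by_contra hcon
  push Not at hcon
  have h3 := (tower_iff h₁ h12 hK P).1 hcon
  exact hzn (h3.1 z₁ hz₁)

end TR

end Groth.Agent.H16.SG
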