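import Mathlib
import Groth.Agent.H16.SG4

set_option autoImplicit false
set_option linter.style.haveILetI false

/-! Singular places: finiteness. -/

namespace Groth.Agent.H16.SG

open FunFld Module
open scoped TensorProduct
open Groth.Agent.Helper17.FF Groth.Agent.H16.NS Groth.Agent.Helper16.RH

universe u v w

attribute [local instance] Algebra.TensorProduct.rightAlgebra

theorem bij_tensor (k : Type u) (F : Type u) (K : Type v) [Field k] [Field F] [Field K]
    [Algebra k F] [Algebra k K] :
    Function.Bijective (Algebra.TensorProduct.productMap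
      (IsScalarTower.toAlgHom k F (F ⊗[k] K)) (IsScalarTower.toAlgHom k K (F ⊗[k] K))) := by
  have : (Algebra.TensorProduct.productMap
      (IsScalarTower.toAlgHom k F (F ⊗[k] K)) (IsScalarTower.toAlgHom k K (F ⊗[k] K))) =
        AlgHom.id k (F ⊗[k] K) := by
    apply Algebra.TensorProduct.ext'
    intro a b
    rw [Algebra.TensorProduct.productMap_apply_tmul]
    show TensorProduct.tmul k a (1 : K) * TensorProduct.tmul k (1 : F) b = _
    rw [Algebra.TensorProduct.tmul_mul_tmul, mul_one, one_mul]
    rfl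
  rw [this]
  exact Function.bijective_id

section A

variable {k : Type u} {K : Type v} [Field k] [Field K] [Algebra k K]

theorem sing_models_of_ne (hK : IsFunctionField k K) (hg : IsGeometric k K) (P : Place k K)
    (k' : Type u) [Field k'] [Algebra k k'] [FiniteDimensional k k']
    (hne : integralClosure (P.O.toSubring.map
        (Algebra.TensorProduct.includeRight : K →ₐ[k] k' ⊗[k] K).toRingHom) (k' ⊗[k] K) ≠
        Algebra.adjoin (P.O.toSubring.map
          (Algebra.TensorProduct.includeRight : K →ₐ[k] k' ⊗[k] K).toRingHom)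
          (Set.range (Algebra.TensorProduct.includeLeftRingHom : k' →+* k' ⊗[k] K)))
    (F₂ : Type u) [Field F₂] [Algebra k F₂] [Algebra k' F₂] [IsScalarTower k k' F₂]
    [FiniteDimensional k F₂]
    (K₂ : Type w) [Field K₂] [Algebra K K₂] [Algebra F₂ K₂] [Algebra k K₂]
    [IsScalarTower k F₂ K₂] [IsScalarTower k K K₂]
    (h₂ : Function.Bijective (Algebra.TensorProduct.productMap
      (IsScalarTower.toAlgHom k F₂ K₂) (IsScalarTower.toAlgHom k K K₂))) :
    ∃ z : K₂, (∀ Q : Place k K₂, IsOver Q P → Q.1 z ≤ 1) ∧ z ∉ adjP F₂ P := by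
  have hf : IsField (k' ⊗[k] K) := hg k' inferInstance
  letI : Field (k' ⊗[k] K) := hf.toField
  have h₁ := bij_tensor k k' K
  haveI : FiniteDimensional K (k' ⊗[k] K) := CU.finite_const h₁
  haveI : Algebra.IsIntegral k k' := Algebra.IsIntegral.of_finite k k'
  have hKw := IsWeakFF.of_isFunctionField hK
  have key := integralClosure_eq_adjoin_iff (k₁ := k') (L := k' ⊗[k] K) hKw P
  have hnall : ¬ ∀ z : k' ⊗[k] K, (∀ Q : Place k (k' ⊗[k] K), IsOver Q P → Q.1 z ≤ 1) →
      z ∈ adjP k' P := fun hall => hne (key.2 hall)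
  push Not at hnall
  obtain ⟨z₁, hz₁, hzn⟩ := hnall
  exact sing_transfer h₁ h₂ hK P z₁ hz₁ hzn

theorem exists_IF_of_ne (kb : Type u) [Field kb] [Algebra k kb] [IsAlgClosed kb]
    (hK : IsFunctionField k K) (hg : IsGeometric k K) (P : Place k K)
    (k' : Type u) [Field k'] [Algebra k k'] [FiniteDimensional k k']
    (hne : integralClosure (P.O.toSubring.map
        (Algebra.TensorProduct.includeRight : K →ₐ[k] k' ⊗[k] K).toRingHom) (k' ⊗[k] K) ≠
        Algebra.adjoin (P.O.toSubring.map
          (Algebra.TensorProduct.includeRight : K →ₐ[k] k' ⊗[k] K).toRingHom)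
          (Set.range (Algebra.TensorProduct.includeLeftRingHom : k' →+* k' ⊗[k] K))) :
    ∃ F : IntermediateField k kb, FiniteDimensional k F ∧
      ∀ F₂ : IntermediateField k kb, F ≤ F₂ → FiniteDimensional k F₂ →
        ∀ (K₂ : Type w) [Field K₂] [Algebra K K₂] [Algebra F₂ K₂] [Algebra k K₂]
          [IsScalarTower k F₂ K₂] [IsScalarTower k K K₂],
          Function.Bijective (Algebra.TensorProduct.productMap
            (IsScalarTower.toAlgHom k F₂ K₂) (IsScalarTower.toAlgHom k K K₂)) →
          ∃ z : K₂, (∀ Q : Place k K₂, IsOver Q P → Q.1 z ≤ 1) ∧ z ∉ adjP F₂ P := by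
  haveI : Algebra.IsAlgebraic k k' := Algebra.IsAlgebraic.of_finite k k'
  let σ : k' →ₐ[k] kb := IsAlgClosed.lift
  refine ⟨σ.fieldRange, ?_, ?_⟩
  · exact LinearEquiv.finiteDimensional (AlgEquiv.ofInjectiveField σ).toLinearEquiv
  · intro F₂ hle hfin K₂ _ _ _ _ _ _ h₂
    let τ : k' →+* F₂ :=
      { toFun := fun x => ⟨σ x, hle ⟨x, rfl⟩⟩
        map_one' := Subtype.ext (map_one σ)
        map_mul' := fun x y => Subtype.ext (map_mul σ x y)
        map_zero' := Subtype.ext (map_zero σ)
        map_add' := fun x y => Subtype.ext (map_add σ x y) }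
    letI : Algebra k' F₂ := τ.toAlgebra
    haveI : IsScalarTower k k' F₂ := IsScalarTower.of_algebraMap_eq (fun c => Subtype.ext (by
      show algebraMap k kb c = σ (algebraMap k k' c)
      rw [σ.commutes]))
    exact sing_models_of_ne hK hg P k' hne F₂ K₂ h₂

theorem finite_singular (hK : IsFunctionField k K) (hg : IsGeometric k K) :
    {P : Place k K | ∃ (k' : Type u) (_ : Field k') (_ : Algebra k k'), FiniteDimensional k k' ∧
      integralClosure (P.O.toSubring.map
        (Algebra.TensorProduct.includeRight : K →ₐ[k] k' ⊗[k] K).toRingHom) (k' ⊗[k] K) ≠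
        Algebra.adjoin (P.O.toSubring.map
          (Algebra.TensorProduct.includeRight : K →ₐ[k] k' ⊗[k] K).toRingHom)
          (Set.range (Algebra.TensorProduct.includeLeftRingHom : k' →+* k' ⊗[k] K))}.Finite := by
  classical
  by_contra hinf
  obtain ⟨T, hTS, hTcard⟩ := Set.Infinite.exists_subset_card_eq hinf (genus k K + 2)
  have hB : ∀ P : Place k K, ∃ F : IntermediateField k (AlgebraicClosure k),
      FiniteDimensional k F ∧ (P ∈ (T : Set (Place k K)) →
      ∀ F₂ : IntermediateField k (AlgebraicClosure k), F ≤ F₂ → FiniteDimensional k F₂ →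
        ∀ (K₂ : Type (max u v)) [Field K₂] [Algebra K K₂] [Algebra F₂ K₂] [Algebra k K₂]
          [IsScalarTower k F₂ K₂] [IsScalarTower k K K₂],
          Function.Bijective (Algebra.TensorProduct.productMap
            (IsScalarTower.toAlgHom k F₂ K₂) (IsScalarTower.toAlgHom k K K₂)) →
          ∃ z : K₂, (∀ Q : Place k K₂, IsOver Q P → Q.1 z ≤ 1) ∧ z ∉ adjP F₂ P) := by
    intro P
    by_cases hP : P ∈ (T : Set (Place k K))
    · obtain ⟨k', _, _, hfin, hne⟩ := hTS hP
      obtain ⟨F, hF, hgood⟩ := exists_IF_of_ne (AlgebraicClosure k) hK hg P k' hne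
      exact ⟨F, hF, fun _ => hgood⟩
    · exact ⟨⊥, inferInstance, fun h => absurd h hP⟩
  choose F hFfin hFgood using hB
  let F₂ : IntermediateField k (AlgebraicClosure k) := ⨆ P ∈ T, F P
  haveI hF₂ : FiniteDimensional k F₂ :=
    IntermediateField.finiteDimensional_iSup_of_finset' (fun P _ => hFfin P)
  have hf : IsField (F₂ ⊗[k] K) := hg F₂ hF₂
  letI : Field (F₂ ⊗[k] K) := hf.toField
  have h₂ := bij_tensor k F₂ K
  have hcard := card_le_of_singular h₂ hK hg T (fun P hP =>
    hFgood P hP F₂ (le_biSup F hP) hF₂ (F₂ ⊗[k] K) h₂)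
  omega

end A

end Groth.Agent.H16.SG
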