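import Mathlib
import Groth.Agent.H16.SG6
import Groth.Agent.H16.SG4

set_option autoImplicit false
set_option linter.style.haveILetI false

/-! Singular places: genus drop corollaries, model independence of the genus,
separable constant extensions are nonsingular. -/

namespace Groth.Agent.H16.SG

open FunFld Module
open scoped TensorProduct
open Groth.Agent.Helper17.FF Groth.Agent.H16.NS Groth.Agent.Helper16.RH

universe u v w w₁ w₂

section Geo

variable {k k' : Type u} {K : Type v} {K' : Type w} [Field k] [Field k'] [Field K] [Field K']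
    [Algebra k k'] [Algebra k K] [Algebra K K'] [Algebra k' K'] [Algebra k K']
    [IsScalarTower k k' K'] [IsScalarTower k K K']

theorem isGeometric_const' [FiniteDimensional k k']
    (h : Function.Bijective (Algebra.TensorProduct.productMap
      (IsScalarTower.toAlgHom k k' K') (IsScalarTower.toAlgHom k K K')))
    (hg : IsGeometric k K) : IsGeometric k' K' := by
  intro k'' _ _ hfin
  letI : Algebra k k'' := ((algebraMap k' k'').comp (algebraMap k k')).toAlgebra
  haveI : IsScalarTower k k' k'' := IsScalarTower.of_algebraMap_eq (fun _ => rfl)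
  haveI : FiniteDimensional k k'' := FiniteDimensional.trans k k' k''
  have hf := hg k'' inferInstance
  let e1 : k'' ⊗[k'] K' ≃ₐ[k''] k'' ⊗[k'] (k' ⊗[k] K) :=
    Algebra.TensorProduct.congr AlgEquiv.refl (CU.constEquivL h).symm
  let e2 := Algebra.TensorProduct.cancelBaseChange k k' k'' k'' K
  exact (e1.trans e2).toMulEquiv.isField hf

end Geo

section Pl

variable {k : Type u} {K : Type v} [Field k] [Field K] [Algebra k K]

theorem exists_place_ne (hK : IsFunctionField k K) (P : Place k K) : ∃ P' : Place k K, P' ≠ P := by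
  obtain ⟨⟨x, hx, -⟩, -⟩ := id hK
  have hxr : x ∉ Set.range (algebraMap k K) := by
    rintro ⟨c, rfl⟩
    exact hx (isAlgebraic_algebraMap c)
  have hx0 : x ≠ 0 := fun h0 => hxr ⟨0, by rw [map_zero, h0]⟩
  have hxr' : x⁻¹ ∉ Set.range (algebraMap k K) := by
    rintro ⟨c, hc⟩
    apply hxr
    refine ⟨c⁻¹, ?_⟩
    rw [map_inv₀, hc, inv_inv]
  obtain ⟨P₁, hP₁⟩ := exists_zero hK hxr
  obtain ⟨P₂, hP₂⟩ := exists_zero hK hxr'
  by_cases h1 : P₁ = P
  · refine ⟨P₂, fun h2 => ?_⟩
    rw [h1] at hP₁
    rw [h2] at hP₂
    have h3 : P.1 x * P.1 x⁻¹ = 1 := by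
      rw [← map_mul, mul_inv_cancel₀ hx0, map_one]
    have h4 : P.1 x * P.1 x⁻¹ < 1 := by
      calc P.1 x * P.1 x⁻¹ ≤ P.1 x * 1 := mul_le_mul' le_rfl hP₂.le
        _ = P.1 x := mul_one _
        _ < 1 := hP₁
    rw [h3] at h4
    exact lt_irrefl _ h4
  · exact ⟨P₁, h1⟩

end Pl

section Cor

variable {k F : Type u} {K : Type v} {K' : Type w} [Field k] [Field F] [Field K] [Field K']
    [Algebra k F] [FiniteDimensional k F] [Algebra k K] [Algebra K K'] [Algebra F K']
    [Algebra k K'] [IsScalarTower k F K'] [IsScalarTower k K K']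

theorem genus_le_model
    (h : Function.Bijective (Algebra.TensorProduct.productMap
      (IsScalarTower.toAlgHom k F K') (IsScalarTower.toAlgHom k K K')))
    (hK : IsFunctionField k K) (hg : IsGeometric k K) : genus F K' ≤ genus k K := by
  obtain ⟨Pinf⟩ := exists_place hK
  have := genus_add_card_le h hK hg Pinf ∅ (Finset.notMem_empty _) (fun P hP => by simp at hP)
  simpa using this

theorem genus_lt_of_singular
    (h : Function.Bijective (Algebra.TensorProduct.productMap
      (IsScalarTower.toAlgHom k F K') (IsScalarTower.toAlgHom k K K')))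
    (hK : IsFunctionField k K) (hg : IsGeometric k K) (P : Place k K)
    (z : K') (hz : ∀ Q : Place k K', IsOver Q P → Q.1 z ≤ 1) (hzn : z ∉ adjP F P) :
    genus F K' < genus k K := by
  classical
  obtain ⟨Pinf, hPinf⟩ := exists_place_ne hK P
  have := genus_add_card_le h hK hg Pinf {P} (by simpa using hPinf) (fun P' hP' => by
    rw [Finset.mem_singleton] at hP'
    subst hP'
    exact ⟨z, hz, hzn⟩)
  rw [Finset.card_singleton] at this
  omega

end Cor

section Ex

variable {k : Type u} {M : Type v} {L : Type w} [Field k] [Field M] [Field L] [Algebra k M]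
  [Algebra M L] [Algebra k L] [IsScalarTower k M L]

theorem exists_isOver [FiniteDimensional M L] (hM : IsWeakFF k M) (P : Place k M) :
    ∃ Q : Place k L, IsOver Q P := by
  classical
  obtain ⟨hfin, hsum⟩ := wk_sum_ramIdx_mul_deg (L := L) hM P
  by_contra hcon
  push Not at hcon
  have h1 := hsum ∅ (fun Q => by simpa using hcon Q)
  rw [Finset.sum_empty] at h1
  have h2 : 0 < finrank M L := Module.finrank_pos
  have h3 := wk_deg_pos hM P
  have : 0 < finrank M L * P.deg := Nat.mul_pos h2 h3
  omega

end Ex

section Inv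

variable {k F : Type u} {K : Type v} {K₁ : Type w₁} {K₂ : Type w₂}
  [Field k] [Field F] [Field K] [Field K₁] [Field K₂]
  [Algebra k F] [FiniteDimensional k F] [Algebra k K]
  [Algebra K K₁] [Algebra F K₁] [Algebra k K₁] [IsScalarTower k F K₁] [IsScalarTower k K K₁]
  [Algebra K K₂] [Algebra F K₂] [Algebra k K₂] [IsScalarTower k F K₂] [IsScalarTower k K K₂]

theorem genus_le_of_models
    (h₁ : Function.Bijective (Algebra.TensorProduct.productMap
      (IsScalarTower.toAlgHom k F K₁) (IsScalarTower.toAlgHom k K K₁)))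
    (h₂ : Function.Bijective (Algebra.TensorProduct.productMap
      (IsScalarTower.toAlgHom k F K₂) (IsScalarTower.toAlgHom k K K₂)))
    (hK : IsFunctionField k K) (hg : IsGeometric k K) : genus F K₂ ≤ genus F K₁ := by
  let j : K₁ →ₐ[F] K₂ := (CU.constEquivL h₂).toAlgHom.comp (CU.constEquivL h₁).symm.toAlgHom
  letI : Algebra K₁ K₂ := j.toRingHom.toAlgebra
  haveI : IsScalarTower F K₁ K₂ := IsScalarTower.of_algebraMap_eq (fun c => (j.commutes c).symm)
  have hjK : ∀ x : K, j (algebraMap K K₁ x) = algebraMap K K₂ x := by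
    intro x
    have h1 : (CU.constEquivL h₁).symm (algebraMap K K₁ x) = (1 : F) ⊗ₜ[k] x := by
      rw [AlgEquiv.symm_apply_eq, CU.constEquivL_tmul, map_one, one_mul]
    show CU.constEquivL h₂ ((CU.constEquivL h₁).symm (algebraMap K K₁ x)) = _
    rw [h1, CU.constEquivL_tmul, map_one, one_mul]
  haveI : IsScalarTower K K₁ K₂ := IsScalarTower.of_algebraMap_eq (fun x => (hjK x).symm)
  haveI : IsScalarTower k K₁ K₂ := IsScalarTower.of_algebraMap_eq (fun c => by
    rw [IsScalarTower.algebraMap_apply k K K₁]
    show algebraMap k K₂ c = j _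
    rw [hjK, ← IsScalarTower.algebraMap_apply k K K₂])
  have h12 := Groth.Agent.H16.SP.bijective_of_tower (F := F) (kb := F) h₁ h₂
  have hK₁ : IsFunctionField F K₁ := isFunctionField_const' h₁ hK hg
  have hg₁ : IsGeometric F K₁ := isGeometric_const' h₁ hg
  exact genus_le_model h12 hK₁ hg₁

theorem genus_eq_of_models
    (h₁ : Function.Bijective (Algebra.TensorProduct.productMap
      (IsScalarTower.toAlgHom k F K₁) (IsScalarTower.toAlgHom k K K₁)))
    (h₂ : Function.Bijective (Algebra.TensorProduct.productMap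
      (IsScalarTower.toAlgHom k F K₂) (IsScalarTower.toAlgHom k K K₂)))
    (hK : IsFunctionField k K) (hg : IsGeometric k K) : genus F K₁ = genus F K₂ :=
  le_antisymm (genus_le_of_models h₂ h₁ hK hg) (genus_le_of_models h₁ h₂ hK hg)

end Inv

section Sep

variable {k F : Type u} {K : Type v} {K' : Type w} [Field k] [Field F] [Field K] [Field K']
    [Algebra k F] [FiniteDimensional k F] [Algebra k K] [Algebra K K'] [Algebra F K']
    [Algebra k K'] [IsScalarTower k F K'] [IsScalarTower k K K']

theorem nonsing_of_separable [Algebra.IsSeparable k F]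
    (h : Function.Bijective (Algebra.TensorProduct.productMap
      (IsScalarTower.toAlgHom k F K') (IsScalarTower.toAlgHom k K K')))
    (hK : IsFunctionField k K) (P : Place k K)
    (z : K') (hz : ∀ Q : Place k K', IsOver Q P → Q.1 z ≤ 1) : z ∈ adjP F P := by
  classical
  letI algOL : Algebra P.O K' := ((algebraMap K K').comp P.O.subtype).toAlgebra
  haveI : IsScalarTower P.O K K' := IsScalarTower.of_algebraMap_eq (fun _ => rfl)
  haveI : FiniteDimensional K K' := CU.finite_const h
  have hKw := IsWeakFF.of_isFunctionField hK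
  obtain ⟨Q, hQ⟩ := exists_isOver (L := K') hKw P
  obtain ⟨hcl, -⟩ := CU.const_ext_main h hK P Q hQ
  obtain ⟨hmem, -⟩ := integralClosure_eq_and_finite (K' := K') hKw P
  have h1 : z ∈ integralClosure P.O K' := (hmem z).2 hz
  have h2 : z ∈ (integralClosure P.O K').toSubring := h1
  rw [hcl] at h2
  have h3 : z ∈ Algebra.adjoin P.O (Set.range (algebraMap F K')) := h2
  clear h2 h1 hz
  induction h3 using Algebra.adjoin_induction with
  | mem x hx => exact Algebra.subset_adjoin hx
  | algebraMap r =>
    have h4 : algebraMap P.O K' r = algebraMap (P.O.toSubring.map (algebraMap K K')) K'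
        ⟨algebraMap K K' (r : K), ⟨_, r.2, rfl⟩⟩ := rfl
    rw [h4]
    exact Subalgebra.algebraMap_mem _ _
  | add x y _ _ hx hy => exact Subalgebra.add_mem _ hx hy
  | mul x y _ _ hx hy => exact Subalgebra.mul_mem _ hx hy

end Sep

end Groth.Agent.H16.SG
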