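import Mathlib
import Groth.Agent.H16.SG7
import Groth.Agent.H16.SG5

set_option autoImplicit false
set_option linter.style.haveILetI false

/-! Singular places: reduction to purely inseparable constant extensions. -/

namespace Groth.Agent.H16.SG

open FunFld Module
open scoped TensorProduct
open Groth.Agent.Helper17.FF Groth.Agent.H16.NS Groth.Agent.Helper16.RH

universe u v w w'

theorem fixedField_top_isPurelyInseparable (k N : Type*) [Field k] [Field N] [Algebra k N]
    [Normal k N] :
    IsPurelyInseparable k (IntermediateField.fixedField (⊤ : Subgroup (N ≃ₐ[k] N))) := by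
  classical
  rw [isPurelyInseparable_iff_natSepDegree_eq_one]
  intro x
  have hmin : minpoly k x = minpoly k (x : N) :=
    (minpoly.algebraMap_eq (algebraMap (IntermediateField.fixedField (⊤ : Subgroup (N ≃ₐ[k] N))) N).injective x).symm
  rw [hmin]
  have hsplit : ((minpoly k (x : N)).map (algebraMap k N)).Splits := Normal.splits' (x : N)
  rw [Polynomial.natSepDegree_eq_of_splits _ hsplit]
  have halg : IsAlgebraic k (x : N) := Algebra.IsAlgebraic.isAlgebraic (x : N)
  have hroots : ((minpoly k (x : N)).aroots N).toFinset = {(x : N)} := by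
    ext y
    rw [Multiset.mem_toFinset, Finset.mem_singleton, Polynomial.mem_aroots]
    constructor
    · rintro ⟨-, hy⟩
      obtain ⟨σ, hσ⟩ := minpoly.exists_algEquiv_of_root' halg hy
      have := (IntermediateField.mem_fixedField_iff _ _).1 x.2 σ (Subgroup.mem_top σ)
      rw [← hσ, this]
    · rintro rfl
      exact ⟨minpoly.ne_zero halg.isIntegral, minpoly.aeval k _⟩
  rw [hroots, Finset.card_singleton]

section Comp

variable {k k' M K K' K₂ : Type*} [Field k] [Field k'] [Field M] [Field K] [Field K'] [Field K₂]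
  [Algebra k k'] [Algebra k' M] [Algebra k M] [IsScalarTower k k' M]
  [Algebra k K] [Algebra K K'] [Algebra k' K'] [Algebra k K'] [IsScalarTower k k' K']
  [IsScalarTower k K K']
  [Algebra k K₂] [Algebra K' K₂] [Algebra k' K₂] [Algebra M K₂] [Algebra K K₂]
  [IsScalarTower k M K₂] [IsScalarTower k' M K₂] [IsScalarTower k' K' K₂]
  [IsScalarTower k K K₂] [IsScalarTower k K' K₂] [IsScalarTower K K' K₂]

theorem bijective_comp
    (h : Function.Bijective (Algebra.TensorProduct.productMap
      (IsScalarTower.toAlgHom k k' K') (IsScalarTower.toAlgHom k K K')))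
    (h' : Function.Bijective (Algebra.TensorProduct.productMap
      (IsScalarTower.toAlgHom k' M K₂) (IsScalarTower.toAlgHom k' K' K₂))) :
    Function.Bijective (Algebra.TensorProduct.productMap
      (IsScalarTower.toAlgHom k M K₂) (IsScalarTower.toAlgHom k K K₂)) := by
  haveI h1 : Algebra.IsPushout k k' K K' := Groth.Agent.H16.SP.isPushout_of_bijective h
  haveI h2 : Algebra.IsPushout k' M K' K₂ := Groth.Agent.H16.SP.isPushout_of_bijective h'
  haveI h3 : Algebra.IsPushout k M K K₂ :=
    (Algebra.IsPushout.comp_iff k k' K K' (T := M) (T' := K₂)).2 h2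
  exact Groth.Agent.H16.SP.bijective_of_isPushout

end Comp

section PI

attribute [local instance] Algebra.TensorProduct.rightAlgebra

variable {k F : Type u} {K : Type v} {K₁ : Type w} [Field k] [Field F] [Field K] [Field K₁]
    [Algebra k F] [FiniteDimensional k F] [Algebra k K] [Algebra K K₁] [Algebra F K₁]
    [Algebra k K₁] [IsScalarTower k F K₁] [IsScalarTower k K K₁]

theorem exists_pi_genus_lt
    (h₁ : Function.Bijective (Algebra.TensorProduct.productMap
      (IsScalarTower.toAlgHom k F K₁) (IsScalarTower.toAlgHom k K K₁)))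
    (hK : IsFunctionField k K) (hg : IsGeometric k K) (P : Place k K)
    (z₁ : K₁) (hz₁ : ∀ Q : Place k K₁, IsOver Q P → Q.1 z₁ ≤ 1) (hzn₁ : z₁ ∉ adjP F P) :
    ∃ (M : Type u) (_ : Field M) (_ : Algebra k M), FiniteDimensional k M ∧
      IsPurelyInseparable k M ∧
      ∀ (K₂ : Type w') [Field K₂] [Algebra K K₂] [Algebra M K₂] [Algebra k K₂]
        [IsScalarTower k M K₂] [IsScalarTower k K K₂],
        Function.Bijective (Algebra.TensorProduct.productMap
          (IsScalarTower.toAlgHom k M K₂) (IsScalarTower.toAlgHom k K K₂)) →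
        genus M K₂ < genus k K := by
  classical
  haveI : Algebra.IsAlgebraic k F := Algebra.IsAlgebraic.of_finite k F
  let σ : F →ₐ[k] AlgebraicClosure k := IsAlgClosed.lift
  letI algFkb : Algebra F (AlgebraicClosure k) := σ.toRingHom.toAlgebra
  haveI : IsScalarTower k F (AlgebraicClosure k) :=
    IsScalarTower.of_algebraMap_eq (fun c => (σ.commutes c).symm)
  let N : IntermediateField k (AlgebraicClosure k) :=
    IntermediateField.normalClosure k F (AlgebraicClosure k)
  haveI : Normal k N := inferInstance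
  haveI : FiniteDimensional k N := inferInstance
  let M₀ : IntermediateField k N := IntermediateField.fixedField (⊤ : Subgroup (N ≃ₐ[k] N))
  haveI hpi : IsPurelyInseparable k M₀ := fixedField_top_isPurelyInseparable k N
  haveI : FiniteDimensional k M₀ := inferInstance
  haveI : FiniteDimensional M₀ N := inferInstance
  haveI hgal : IsGalois M₀ N := IsGalois.of_fixed_field N (⊤ : Subgroup (N ≃ₐ[k] N))
  haveI : Algebra.IsSeparable M₀ N := hgal.to_isSeparable
  haveI : Algebra.IsAlgebraic k M₀ := Algebra.IsAlgebraic.of_finite k M₀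
  -- models
  have hfM : IsField (M₀ ⊗[k] K) := hg M₀ inferInstance
  letI : Field (M₀ ⊗[k] K) := hfM.toField
  have hfN : IsField (N ⊗[k] K) := hg N inferInstance
  letI : Field (N ⊗[k] K) := hfN.toField
  have hM := bij_tensor k M₀ K
  have hN := bij_tensor k N K
  obtain ⟨zN, hzN, hznN⟩ := sing_transfer h₁ hN hK P z₁ hz₁ hzn₁
  -- the tower `M₀ ⊗ K → N ⊗ K`
  let J₀ : M₀ ⊗[k] K →ₐ[k] N ⊗[k] K :=
    Algebra.TensorProduct.productMap
      ((IsScalarTower.toAlgHom k N (N ⊗[k] K)).comp (IsScalarTower.toAlgHom k M₀ N))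
      (IsScalarTower.toAlgHom k K (N ⊗[k] K))
  letI algKK : Algebra (M₀ ⊗[k] K) (N ⊗[k] K) := J₀.toRingHom.toAlgebra
  have hjF : ∀ c : M₀, J₀ (algebraMap M₀ (M₀ ⊗[k] K) c) = algebraMap M₀ (N ⊗[k] K) c := by
    intro c
    show J₀ (c ⊗ₜ[k] (1 : K)) = _
    rw [Algebra.TensorProduct.productMap_apply_tmul, map_one, mul_one]
    rfl
  have hjK : ∀ x : K, J₀ (algebraMap K (M₀ ⊗[k] K) x) = algebraMap K (N ⊗[k] K) x := by
    intro x
    show J₀ ((1 : M₀) ⊗ₜ[k] x) = _
    rw [Algebra.TensorProduct.productMap_apply_tmul, map_one, one_mul]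
    rfl
  haveI : IsScalarTower M₀ (M₀ ⊗[k] K) (N ⊗[k] K) :=
    IsScalarTower.of_algebraMap_eq (fun c => (hjF c).symm)
  haveI : IsScalarTower K (M₀ ⊗[k] K) (N ⊗[k] K) :=
    IsScalarTower.of_algebraMap_eq (fun x => (hjK x).symm)
  haveI : IsScalarTower k (M₀ ⊗[k] K) (N ⊗[k] K) := by
    refine IsScalarTower.of_algebraMap_eq (R := k) (S := M₀ ⊗[k] K) (A := N ⊗[k] K) (fun c => ?_)
    rw [IsScalarTower.algebraMap_apply k K (M₀ ⊗[k] K)]
    show algebraMap k (N ⊗[k] K) c = J₀ _
    rw [hjK, ← IsScalarTower.algebraMap_apply k K (N ⊗[k] K)]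
  have h12 := Groth.Agent.H16.SP.bijective_of_tower hM hN
  have htow := tower_iff hM h12 hK P
  have hsingM : ∃ y : M₀ ⊗[k] K, (∀ Q : Place k (M₀ ⊗[k] K), IsOver Q P → Q.1 y ≤ 1) ∧
      y ∉ adjP M₀ P := by
    by_contra hcon
    push Not at hcon
    apply hznN
    refine htow.2 ⟨hcon, ?_⟩ zN hzN
    intro Q hQ z hz
    have hKM : IsFunctionField M₀ (M₀ ⊗[k] K) := isFunctionField_const' hM hK hg
    exact nonsing_of_separable (k := M₀) (F := N) (K := M₀ ⊗[k] K) (K' := N ⊗[k] K) h12 hKM
      (placeUp M₀ Q) z (fun Q' hQ' => hz (placeDown k Q') hQ')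
  obtain ⟨y, hy, hyn⟩ := hsingM
  have hlt := genus_lt_of_singular hM hK hg P y hy hyn
  refine ⟨M₀, inferInstance, inferInstance, inferInstance, hpi, ?_⟩
  intro K₂ _ _ _ _ _ _ h₂
  rw [← genus_eq_of_models hM h₂ hK hg]
  exact hlt

end PI

end Groth.Agent.H16.SG
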