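import Mathlib
import Groth.Agent.H16.SG8

set_option autoImplicit false
set_option linter.style.haveILetI false

/-! Singular places: a purely inseparable constant extension is nonsingular. -/

namespace Groth.Agent.H16.SG

open FunFld Module
open scoped TensorProduct
open Groth.Agent.Helper17.FF Groth.Agent.H16.NS Groth.Agent.Helper16.RH

universe u v

attribute [local instance] Algebra.TensorProduct.rightAlgebra

theorem exists_nonsingular_pi (k : Type u) (K : Type v) [Field k] [Field K] [Algebra k K]
    (hK : IsFunctionField k K) (hg : IsGeometric k K) :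
    ∃ (k' : Type u) (_ : Field k') (_ : Algebra k k'), FiniteDimensional k k' ∧
      IsPurelyInseparable k k' ∧
      ∀ (K' : Type v) [Field K'] [Algebra K K'] [Algebra k' K'] [Algebra k K']
        [IsScalarTower k k' K'] [IsScalarTower k K K'],
        Function.Bijective (Algebra.TensorProduct.productMap
          (IsScalarTower.toAlgHom k k' K') (IsScalarTower.toAlgHom k K K')) →
        ∀ (Q : Place k' K') (k'' : Type u) [Field k''] [Algebra k' k''] [FiniteDimensional k' k'']
          (K'' : Type v) [Field K''] [Algebra K' K''] [Algebra k'' K''] [Algebra k' K'']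
          [IsScalarTower k' k'' K''] [IsScalarTower k' K' K''],
          Function.Bijective (Algebra.TensorProduct.productMap
            (IsScalarTower.toAlgHom k' k'' K'') (IsScalarTower.toAlgHom k' K' K'')) →
          integralClosure (Q.O.toSubring.map (algebraMap K' K'')) K'' =
            Algebra.adjoin (Q.O.toSubring.map (algebraMap K' K''))
              (Set.range (algebraMap k'' K'')) := by
  classical
  let S : Set ℕ := {n | ∃ (k' : Type u) (_ : Field k') (_ : Algebra k k')
    (_ : FiniteDimensional k k') (_ : IsPurelyInseparable k k')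
    (K' : Type (max u v)) (_ : Field K') (_ : Algebra K K') (_ : Algebra k' K') (_ : Algebra k K')
    (_ : IsScalarTower k k' K') (_ : IsScalarTower k K K'),
    Function.Bijective (Algebra.TensorProduct.productMap
      (IsScalarTower.toAlgHom k k' K') (IsScalarTower.toAlgHom k K K')) ∧ genus k' K' = n}
  have hSne : S.Nonempty := by
    have hf : IsField (k ⊗[k] K) := hg k inferInstance
    letI : Field (k ⊗[k] K) := hf.toField
    exact ⟨genus k (k ⊗[k] K), k, inferInstance, inferInstance, inferInstance, inferInstance,
      k ⊗[k] K, inferInstance, inferInstance, inferInstance, inferInstance, inferInstance,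
      inferInstance, bij_tensor k k K, rfl⟩
  obtain ⟨k', _, _, hfin, hpi, K'₀, _, _, _, _, _, _, h₀, hgen₀⟩ := Nat.sInf_mem hSne
  refine ⟨k', inferInstance, inferInstance, hfin, hpi, ?_⟩
  intro K' _ _ _ _ _ _ h Q k'' _ _ _ K'' _ _ _ _ _ _ h''
  by_contra hne
  have hK' : IsFunctionField k' K' := isFunctionField_const' h hK hg
  have hg' : IsGeometric k' K' := isGeometric_const' h hg
  have hK'w := IsWeakFF.of_isFunctionField hK'
  haveI : FiniteDimensional K' K'' := CU.finite_const h''
  haveI : Algebra.IsIntegral k' k'' := Algebra.IsIntegral.of_finite k' k''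
  have hne' := mt (integralClosure_eq_adjoin_iff (k₁ := k'') (L := K'') hK'w Q).2 hne
  push Not at hne'
  obtain ⟨z, hz, hzn⟩ := hne'
  obtain ⟨M, _, _, hMfin, hMpi, hMlt⟩ :=
    exists_pi_genus_lt.{u, v, v, max u v} h'' hK' hg' Q z hz hzn
  -- the model `M ⊗[k'] K'`
  have hfM : IsField (M ⊗[k'] K') := hg' M hMfin
  letI : Field (M ⊗[k'] K') := hfM.toField
  have hM := bij_tensor k' M K'
  have hlt := hMlt (M ⊗[k'] K') hM
  have hgen : genus k' K' = genus k' K'₀ := genus_eq_of_models h h₀ hK hg
  -- `M` over `k`
  letI : Algebra k M := ((algebraMap k' M).comp (algebraMap k k')).toAlgebra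
  haveI : IsScalarTower k k' M := IsScalarTower.of_algebraMap_eq (fun _ => rfl)
  haveI : FiniteDimensional k M := FiniteDimensional.trans k k' M
  haveI : IsPurelyInseparable k M := IsPurelyInseparable.trans k k' M
  haveI : IsScalarTower k K' (M ⊗[k'] K') := by
    refine IsScalarTower.of_algebraMap_eq (R := k) (S := K') (A := M ⊗[k'] K') (fun c => ?_)
    show (algebraMap k M c) ⊗ₜ[k'] (1 : K') = (1 : M) ⊗ₜ[k'] (algebraMap k K' c)
    rw [IsScalarTower.algebraMap_apply k k' M, IsScalarTower.algebraMap_apply k k' K',
      Algebra.algebraMap_eq_smul_one (A := M), Algebra.algebraMap_eq_smul_one (A := K'),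
      TensorProduct.smul_tmul]
  letI : Algebra K (M ⊗[k'] K') :=
    ((algebraMap K' (M ⊗[k'] K')).comp (algebraMap K K')).toAlgebra
  haveI : IsScalarTower K K' (M ⊗[k'] K') := IsScalarTower.of_algebraMap_eq (fun _ => rfl)
  haveI : IsScalarTower k K (M ⊗[k'] K') := by
    refine IsScalarTower.of_algebraMap_eq (R := k) (S := K) (A := M ⊗[k'] K') (fun c => ?_)
    rw [IsScalarTower.algebraMap_apply k K' (M ⊗[k'] K'), IsScalarTower.algebraMap_apply k K K']
    rfl
  have hcomp := bijective_comp (k := k) (k' := k') (M := M) (K := K) (K' := K')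
    (K₂ := M ⊗[k'] K') h hM
  have hmem : genus M (M ⊗[k'] K') ∈ S :=
    ⟨M, inferInstance, inferInstance, inferInstance, inferInstance, M ⊗[k'] K', inferInstance,
      inferInstance, inferInstance, inferInstance, inferInstance, inferInstance, hcomp, rfl⟩
  have hle := Nat.sInf_le hmem
  rw [← hgen₀, ← hgen] at hle
  omega

end Groth.Agent.H16.SG
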