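import Mathlib
import Groth.Prelude.Def_DeRham
import Groth.Agent.H16.DeRhamGen

/-!
# Top-degree forms on coordinate strata (helper16)
-/

set_option autoImplicit false

namespace Groth.Agent.H16.SNC

open exteriorPower

universe u

/-- The `m`-th exterior power of a module generated by `m` elements is cyclic. -/
theorem top_cyclic {R M : Type u} [CommRing R] [AddCommGroup M] [Module R M] (m : ℕ)
    (v : Fin m → M) (hv : Submodule.span R (Set.range v) = ⊤) (x : ↥(⋀[R]^m M)) :
    ∃ a : R, x = a • exteriorPower.ιMulti R m v := by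
  have h := exteriorPower.ιMulti_span_of_span (R := R) (n := m) (M := M) hv
  have hle : Submodule.span R (exteriorPower.ιMulti R m ''
      {a : Fin m → M | Set.range a ⊆ Set.range v}) ≤
      Submodule.span R {exteriorPower.ιMulti R m v} := by
    rw [Submodule.span_le]
    rintro _ ⟨a, ha, rfl⟩
    choose f hf using fun i => ha (Set.mem_range_self i)
    have haf : a = v ∘ f := funext fun i => (hf i).symm
    rw [haf]
    by_cases hinj : Function.Injective f
    · have hbij : Function.Bijective f := Finite.injective_iff_bijective.mp hinj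
      have h1 : (exteriorPower.ιMulti R m) (v ∘ (Equiv.ofBijective f hbij)) =
          Equiv.Perm.sign (Equiv.ofBijective f hbij) • exteriorPower.ιMulti R m v :=
        AlternatingMap.map_perm (exteriorPower.ιMulti R m) v (Equiv.ofBijective f hbij)
      have h2 : (v ∘ (Equiv.ofBijective f hbij) : Fin m → M) = v ∘ f := rfl
      rw [h2] at h1
      show (exteriorPower.ιMulti R m) (v ∘ f) ∈ _
      rw [h1, Units.smul_def, ← Int.cast_smul_eq_zsmul R]
      exact Submodule.smul_mem _ _ (Submodule.subset_span rfl)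
    · have : ∃ i j, f i = f j ∧ i ≠ j := by
        unfold Function.Injective at hinj
        push Not at hinj
        exact hinj
      obtain ⟨i, j, hij, hne⟩ := this
      have h0 : (exteriorPower.ιMulti R m) (v ∘ f) = 0 :=
        (exteriorPower.ιMulti R m).map_eq_zero_of_eq (v ∘ f)
          (show (v ∘ f) i = (v ∘ f) j by simp [hij]) hne
      show (exteriorPower.ιMulti R m) (v ∘ f) ∈ _
      rw [h0]
      exact Submodule.zero_mem _
  rw [h] at hle
  obtain ⟨a, ha⟩ := Submodule.mem_span_singleton.mp (hle (Submodule.mem_top (x := x)))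
  exact ⟨a, ha.symm⟩

section quot

variable (k : Type u) {A : Type u} [Field k] [CommRing A] [Algebra k A] {d : ℕ} (t : Fin d → A)

/-- `Ω_{(A/I)/k}` is generated by the differentials of the images of the coordinates. -/
theorem span_D_quot (b : Module.Basis (Fin d) A (Ω[A⁄k]))
    (hb : ∀ i, b i = KaehlerDifferential.D k A (t i)) (I : Ideal A) :
    Submodule.span (A ⧸ I) (Set.range fun l =>
      KaehlerDifferential.D k (A ⧸ I) (Ideal.Quotient.mk I (t l))) = ⊤ := by
  rw [eq_top_iff, ← KaehlerDifferential.span_range_derivation k (A ⧸ I), Submodule.span_le]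
  rintro _ ⟨x, rfl⟩
  obtain ⟨a, rfl⟩ := Ideal.Quotient.mk_surjective x
  have h1 : KaehlerDifferential.D k (A ⧸ I) (Ideal.Quotient.mk I a) =
      KaehlerDifferential.map k k A (A ⧸ I) (KaehlerDifferential.D k A a) :=
    (KaehlerDifferential.map_D k k A (A ⧸ I) a).symm
  rw [h1, ← b.sum_repr (KaehlerDifferential.D k A a), map_sum]
  apply Submodule.sum_mem
  intro l _
  rw [map_smul, hb, KaehlerDifferential.map_D, ← algebraMap_smul (A ⧸ I)]
  exact Submodule.smul_mem _ _ (Submodule.subset_span ⟨l, rfl⟩)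

/-- The standard `m`-form `a · dt_{f 0} ∧ … ∧ dt_{f (m-1)}` on `A/I`. -/
noncomputable def tau (I : Ideal A) (m : ℕ) (f : Fin m → Fin d) (a : A) :
    ↥(⋀[A ⧸ I]^m (Ω[(A ⧸ I)⁄k])) :=
  DeRham.gen (KaehlerDifferential.D k (A ⧸ I)) m (Ideal.Quotient.mk I a)
    (fun i => Ideal.Quotient.mk I (t (f i)))

theorem tau_cyclic (b : Module.Basis (Fin d) A (Ω[A⁄k]))
    (hb : ∀ i, b i = KaehlerDifferential.D k A (t i)) (I : Ideal A) (m : ℕ) (f : Fin m → Fin d)
    (hf : ∀ l, l ∉ Set.range f → t l ∈ I) (x : ↥(⋀[A ⧸ I]^m (Ω[(A ⧸ I)⁄k]))) :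
    ∃ a : A, x = tau k t I m f a := by
  have hv : Submodule.span (A ⧸ I) (Set.range fun i : Fin m =>
      KaehlerDifferential.D k (A ⧸ I) (Ideal.Quotient.mk I (t (f i)))) = ⊤ := by
    rw [eq_top_iff, ← span_D_quot k t b hb I, Submodule.span_le]
    rintro _ ⟨l, rfl⟩
    by_cases hl : l ∈ Set.range f
    · obtain ⟨i, rfl⟩ := hl
      exact Submodule.subset_span ⟨i, rfl⟩
    · have h0 : Ideal.Quotient.mk I (t l) = 0 := Ideal.Quotient.eq_zero_iff_mem.mpr (hf l hl)
      show KaehlerDifferential.D k (A ⧸ I) (Ideal.Quotient.mk I (t l)) ∈ _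
      rw [h0, map_zero]
      exact Submodule.zero_mem _
  obtain ⟨c, hc⟩ := top_cyclic m _ hv x
  obtain ⟨a, rfl⟩ := Ideal.Quotient.mk_surjective c
  exact ⟨a, hc⟩

theorem tau_eq_zero (I : Ideal A) (m : ℕ) (f : Fin m → Fin d) (a : A)
    (h : ∃ i, t (f i) ∈ I) : tau k t I m f a = 0 := by
  obtain ⟨i, hi⟩ := h
  unfold tau DeRham.gen
  have h0 : Ideal.Quotient.mk I (t (f i)) = 0 := Ideal.Quotient.eq_zero_iff_mem.mpr hi
  rw [(exteriorPower.ιMulti (A ⧸ I) m).map_coord_zero i (by
    show KaehlerDifferential.D k (A ⧸ I) (Ideal.Quotient.mk I (t (f i))) = 0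
    rw [h0, map_zero]), smul_zero]

theorem psi_tau (I I' : Ideal A) (h : I ≤ I')
    (ψ : ∀ p : ℕ, ↥(⋀[A ⧸ I]^p (Ω[(A ⧸ I)⁄k])) →+ ↥(⋀[A ⧸ I']^p (Ω[(A ⧸ I')⁄k])))
    (hψ : DeRham.IsCxMap (KaehlerDifferential.D k (A ⧸ I)) (KaehlerDifferential.D k (A ⧸ I'))
      (Ideal.Quotient.factor h) ψ) (m : ℕ) (f : Fin m → Fin d) (a : A) :
    ψ m (tau k t I m f a) = tau k t I' m f a := by
  unfold tau
  rw [hψ m]
  simp only [Ideal.Quotient.factor_mk]

end quot

/-- enumeration of a finset of `Fin d` of cardinality `m`. -/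
noncomputable def en (d m : ℕ) (hd : 0 < d) (S : Finset (Fin d)) : Fin m → Fin d :=
  if h : S.card = m then S.orderEmbOfFin h else fun _ => ⟨0, hd⟩

theorem en_range (d m : ℕ) (hd : 0 < d) (S : Finset (Fin d)) (h : S.card = m) :
    Set.range (en d m hd S) = ↑S := by
  unfold en
  rw [dif_pos h]
  exact Finset.range_orderEmbOfFin S h

end Groth.Agent.H16.SNC
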