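import Mathlib
import Groth.Agent.H16.SP2

set_option autoImplicit false
set_option linter.style.haveILetI false

/-! Splitting fields of places: the degree-one statement in a tower. -/

namespace Groth.Agent.H16.SP

open FunFld Module
open scoped TensorProduct
open Groth.Agent.Helper17.FF Groth.Agent.Helper16.RH

universe u v w

section C2

variable {k F kb : Type u} {K K' : Type v} {Kb : Type w}
  [Field k] [Field F] [Field kb] [Field K] [Field K'] [Field Kb]
  [Algebra k F] [Algebra k kb] [Algebra F kb] [IsScalarTower k F kb]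
  [Algebra k K] [Algebra k K'] [Algebra K K'] [Algebra F K'] [IsScalarTower k K K']
  [IsScalarTower k F K']
  [Algebra k Kb] [Algebra K Kb] [Algebra kb Kb] [Algebra F Kb] [Algebra K' Kb]
  [IsScalarTower k kb Kb] [IsScalarTower F kb Kb] [IsScalarTower F K' Kb] [IsScalarTower k K Kb]
  [IsScalarTower k K' Kb] [IsScalarTower K K' Kb]

theorem deg_eq_one_of_tower [FiniteDimensional k F] [IsAlgClosed kb] [Algebra.IsAlgebraic k kb]
    (h : Function.Bijective (Algebra.TensorProduct.productMap
      (IsScalarTower.toAlgHom k F K') (IsScalarTower.toAlgHom k K K')))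
    (hb : Function.Bijective (Algebra.TensorProduct.productMap
      (IsScalarTower.toAlgHom k kb Kb) (IsScalarTower.toAlgHom k K Kb)))
    (hK : IsFunctionField k K) (hg : IsGeometric k K) (P : Place k K)
    (hS : ∀ Qb : Place kb Kb, (∀ x : K, Qb.1 (algebraMap K Kb x) ≤ 1 ↔ P.1 x ≤ 1) →
      ∃ t y : K', Qb.1 (algebraMap K' Kb t) = WithZero.exp (-1 : ℤ) ∧
        1 < Qb.1 (algebraMap K' Kb y) ∧
        ∀ R : Place kb Kb, R ≠ Qb → R.1 (algebraMap K' Kb y) ≤ 1)
    (Q : Place F K') (hext : P.1.HasExtension Q.1) : Q.deg = 1 := by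
  classical
  haveI : Algebra.IsAlgebraic F kb := Algebra.IsAlgebraic.tower_top (K := k) F
  have h' := bijective_of_tower h hb
  have hK' : IsFunctionField F K' := isFunctionField_const' h hK hg
  have hKb : IsFunctionField kb Kb := isFunctionField_bar hb hK
  haveI : Algebra.IsAlgebraic K' Kb :=
    isAlgebraic_of_hgen (k := F) (k' := kb) (hgen_of_surjective (k := F) h'.2)
  obtain ⟨Qb, hQb⟩ := exists_place_above (k := F) (kb := kb) (K := K') (Kb := Kb) hKb
    (fun c => hc_of_tower c) Q
  have hQbP : ∀ x : K, Qb.1 (algebraMap K Kb x) ≤ 1 ↔ P.1 x ≤ 1 := by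
    intro x
    rw [IsScalarTower.algebraMap_apply K K' Kb, hQb]
    have := hext.val_isEquiv_comap.le_one_iff_le_one (x := x)
    exact this.symm
  obtain ⟨t, y, ht, hy, hy'⟩ := hS Qb hQbP
  obtain ⟨R₀, e, he⟩ := exists_isOverWith hK' (placeDown F Qb)
  have hR₀ : R₀ = Q := by
    apply place_ext
    intro z
    rw [← isOverWith_le_one_iff he]
    exact hQb z
  subst hR₀
  have he1 : e = 1 := by
    have h1 : Qb.1 (algebraMap K' Kb t) = R₀.1 t ^ e := he t
    rw [ht] at h1
    have ht0 : R₀.1 t ≠ 0 := by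
      intro h0
      rw [h0] at h1
      have hpos := isOverWith_pos he
      rw [zero_pow hpos.ne'] at h1
      exact WithZero.exp_ne_zero h1
    rw [← WithZero.exp_log ht0, ← WithZero.exp_nsmul] at h1
    have h2 := WithZero.exp_injective h1
    have h3 : (e : ℤ) * WithZero.log (R₀.1 t) = -1 := by
      rw [h2]; simp
    have h4 : (e : ℤ) ∣ 1 := ⟨-WithZero.log (R₀.1 t), by linarith⟩
    have h5 := Int.eq_one_of_dvd_one (by positivity) h4
    exact_mod_cast h5
  have hQ : ∀ z : K', Qb.1 (algebraMap K' Kb z) = R₀.1 z := by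
    intro z
    have := he z
    rw [he1, pow_one] at this
    exact this
  exact deg_eq_one_of_bar h' hK' R₀ Qb hQ y (by rw [← hQ]; exact hy) hy'

end C2

end Groth.Agent.H16.SP
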