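import Mathlib
import Groth.Agent.H16.SP3
import Groth.Agent.Lib.Helper17.FF8

set_option autoImplicit false
set_option linter.style.haveILetI false

/-! Splitting fields of places: choice of the finite level. -/

namespace Groth.Agent.H16.SP

open FunFld Module
open scoped TensorProduct
open Groth.Agent.Helper17.FF Groth.Agent.Helper16.RH

universe u v w

section A

variable {k kb : Type u} {K : Type v} {Kb : Type w} [Field k] [Field kb] [Field K] [Field Kb]
  [Algebra k kb] [Algebra k K] [Algebra K Kb] [Algebra kb Kb] [Algebra k Kb]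
  [IsScalarTower k kb Kb] [IsScalarTower k K Kb]

/-- the subalgebra `K·F` of `Kb` -/
def lvl (K : Type v) (Kb : Type w) [Field K] [Field Kb] [Algebra K Kb] [Algebra kb Kb]
    (F : IntermediateField k kb) : Subalgebra K Kb :=
  Algebra.adjoin K (Set.range fun c : F => algebraMap kb Kb c)

theorem lvl_mono {F₁ F₂ : IntermediateField k kb} (h12 : F₁ ≤ F₂) : lvl K Kb F₁ ≤ lvl K Kb F₂ := by
  apply Algebra.adjoin_mono
  rintro _ ⟨c, rfl⟩
  exact ⟨⟨c.1, h12 c.2⟩, rfl⟩

theorem exists_fin_level [Algebra.IsAlgebraic k kb]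
    (hgen : Algebra.adjoin K (Set.range (algebraMap kb Kb)) = ⊤) (z : Kb) :
    ∃ F : IntermediateField k kb, FiniteDimensional k F ∧ z ∈ lvl K Kb F := by
  have hz : z ∈ Algebra.adjoin K (Set.range (algebraMap kb Kb)) := by rw [hgen]; trivial
  induction hz using Algebra.adjoin_induction with
  | mem w hw =>
    obtain ⟨c, rfl⟩ := hw
    have hc : IsIntegral k c := (Algebra.IsAlgebraic.isAlgebraic c).isIntegral
    refine ⟨IntermediateField.adjoin k {c}, IntermediateField.adjoin.finiteDimensional hc, ?_⟩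
    apply Algebra.subset_adjoin
    exact ⟨⟨c, IntermediateField.mem_adjoin_simple_self k c⟩, rfl⟩
  | algebraMap y => exact ⟨⊥, inferInstance, Subalgebra.algebraMap_mem _ y⟩
  | add a b _ _ ha hb =>
    obtain ⟨k₁, hf₁, h₁⟩ := ha
    obtain ⟨k₂, hf₂, h₂⟩ := hb
    haveI := hf₁
    haveI := hf₂
    exact ⟨k₁ ⊔ k₂, IntermediateField.finiteDimensional_sup k₁ k₂,
      Subalgebra.add_mem _ (lvl_mono le_sup_left h₁) (lvl_mono le_sup_right h₂)⟩
  | mul a b _ _ ha hb =>
    obtain ⟨k₁, hf₁, h₁⟩ := ha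
    obtain ⟨k₂, hf₂, h₂⟩ := hb
    haveI := hf₁
    haveI := hf₂
    exact ⟨k₁ ⊔ k₂, IntermediateField.finiteDimensional_sup k₁ k₂,
      Subalgebra.mul_mem _ (lvl_mono le_sup_left h₁) (lvl_mono le_sup_right h₂)⟩

theorem exists_F_of_finite [Algebra.IsAlgebraic k kb] (hKb : IsFunctionField kb Kb)
    (hgen : Algebra.adjoin K (Set.range (algebraMap kb Kb)) = ⊤)
    (S : Set (Place kb Kb)) (hS : S.Finite) :
    ∃ F : IntermediateField k kb, FiniteDimensional k F ∧ ∀ Qb ∈ S,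
      ∃ t ∈ lvl K Kb F, ∃ y ∈ lvl K Kb F, Qb.1 t = WithZero.exp (-1 : ℤ) ∧ 1 < Qb.1 y ∧
        ∀ R : Place kb Kb, R ≠ Qb → R.1 y ≤ 1 := by
  induction S, hS using Set.Finite.induction_on with
  | empty => exact ⟨⊥, inferInstance, fun Qb hQb => absurd hQb (Set.notMem_empty Qb)⟩
  | @insert Qb S _ _ ih =>
    obtain ⟨F₀, hF₀, hF₀S⟩ := ih
    obtain ⟨t, ht⟩ := exists_uniformizer Qb
    obtain ⟨y, -, hyQ', hyQ⟩ := exists_only_pole hKb Qb
    obtain ⟨F₁, hF₁, h₁⟩ := exists_fin_level (k := k) (K := K) hgen t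
    obtain ⟨F₂, hF₂, h₂⟩ := exists_fin_level (k := k) (K := K) hgen y
    haveI := hF₀
    haveI := hF₁
    haveI := hF₂
    haveI : FiniteDimensional k ↥(F₀ ⊔ F₁) := IntermediateField.finiteDimensional_sup F₀ F₁
    refine ⟨F₀ ⊔ F₁ ⊔ F₂, IntermediateField.finiteDimensional_sup (F₀ ⊔ F₁) F₂, ?_⟩
    intro Q' hQ'
    rcases Set.mem_insert_iff.1 hQ' with rfl | hQ'
    · exact ⟨t, lvl_mono (le_sup_right.trans le_sup_left) h₁, y, lvl_mono le_sup_right h₂, ht,
        hyQ, hyQ'⟩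
    · obtain ⟨t', ht', y', hy', h3⟩ := hF₀S Q' hQ'
      exact ⟨t', lvl_mono (le_sup_left.trans le_sup_left) ht', y',
        lvl_mono (le_sup_left.trans le_sup_left) hy', h3⟩

/-- the places of `Kb` above a place of `K` form a finite set. -/
theorem finite_above [Algebra.IsAlgebraic k kb] (hKb : IsFunctionField kb Kb) (P : Place k K) :
    {Qb : Place kb Kb | ∀ x : K, Qb.1 (algebraMap K Kb x) ≤ 1 ↔ P.1 x ≤ 1}.Finite := by
  classical
  rcases Set.eq_empty_or_nonempty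
    {Qb : Place kb Kb | ∀ x : K, Qb.1 (algebraMap K Kb x) ≤ 1 ↔ P.1 x ≤ 1} with h0 | ⟨Q₀, hQ₀⟩
  · rw [h0]; exact Set.finite_empty
  obtain ⟨t, ht⟩ := exists_uniformizer P
  have ht0 : t ≠ 0 := fun h => by
    rw [h, map_zero] at ht; exact WithZero.exp_ne_zero ht.symm
  have hlt : ∀ Qb : Place kb Kb, (∀ x : K, Qb.1 (algebraMap K Kb x) ≤ 1 ↔ P.1 x ≤ 1) →
      Qb.1 (algebraMap K Kb t) < 1 := by
    intro Qb hQb
    by_contra hcon
    push Not at hcon
    have h1 : Qb.1 (algebraMap K Kb t⁻¹) ≤ 1 := by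
      rw [map_inv₀, map_inv₀]
      exact inv_le_one_of_one_le₀ hcon
    have h2 := (hQb t⁻¹).1 h1
    rw [map_inv₀, ht, ← WithZero.exp_neg, neg_neg, ← WithZero.exp_zero, WithZero.exp_le_exp] at h2
    omega
  have htb : algebraMap K Kb t ∉ Set.range (algebraMap kb Kb) := by
    rintro ⟨c, hc⟩
    have h1 := hlt Q₀ hQ₀
    rw [← hc] at h1
    have hc0 : c ≠ 0 := by
      rintro rfl
      rw [map_zero] at hc
      exact ht0 ((algebraMap K Kb).injective (by rw [← hc, map_zero]))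
    rw [CU.val_const_eq_one Q₀ hc0] at h1
    exact lt_irrefl _ h1
  exact (zeros_finite hKb htb).subset (fun Qb hQb => hlt Qb hQb)

end A

end Groth.Agent.H16.SP
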