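import Mathlib
import Groth.Agent.H16.SP4

set_option autoImplicit false
set_option linter.style.haveILetI false

/-! Splitting fields of places: the abstract existence theorem. -/

namespace Groth.Agent.H16.SP

open FunFld Module
open scoped TensorProduct
open Groth.Agent.Helper17.FF Groth.Agent.Helper16.RH

universe u v w

section Main

variable {k kb : Type u} {K : Type v} {Kb : Type w} [Field k] [Field kb] [Field K] [Field Kb]
  [Algebra k kb] [Algebra k K] [Algebra K Kb] [Algebra kb Kb] [Algebra k Kb]
  [IsScalarTower k kb Kb] [IsScalarTower k K Kb]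

theorem exists_splitting_abstract [IsAlgClosed kb] [Algebra.IsAlgebraic k kb]
    (hb : Function.Bijective (Algebra.TensorProduct.productMap
      (IsScalarTower.toAlgHom k kb Kb) (IsScalarTower.toAlgHom k K Kb)))
    (hK : IsFunctionField k K) (hg : IsGeometric k K) (P : Place k K) :
    ∃ F : IntermediateField k kb, FiniteDimensional k F ∧
      ∀ (K' : Type v) [Field K'] [Algebra K K'] [Algebra F K'] [Algebra k K']
        [IsScalarTower k F K'] [IsScalarTower k K K'],
        Function.Bijective (Algebra.TensorProduct.productMap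
          (IsScalarTower.toAlgHom k F K') (IsScalarTower.toAlgHom k K K')) →
        ∀ Q : Place F K', P.1.HasExtension Q.1 → Q.deg = 1 := by
  classical
  have hKb : IsFunctionField kb Kb := isFunctionField_bar hb hK
  have hgen := hgen_of_surjective (k := k) hb.2
  obtain ⟨F, hF, hFS⟩ := exists_F_of_finite (k := k) (K := K) hKb hgen _ (finite_above hKb P)
  refine ⟨F, hF, ?_⟩
  intro K' _ _ _ _ _ _ h Q hext
  haveI := hF
  let J₀ : F ⊗[k] K →ₐ[k] Kb :=
    Algebra.TensorProduct.productMap ((IsScalarTower.toAlgHom k kb Kb).comp F.val)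
      (IsScalarTower.toAlgHom k K Kb)
  let j : K' →+* Kb :=
    (J₀.toRingHom).comp ((CU.constEquivL h).symm.toAlgHom.toRingHom)
  letI algK'Kb : Algebra K' Kb := j.toAlgebra
  have hjF : ∀ c : F, j (algebraMap F K' c) = algebraMap kb Kb (c : kb) := by
    intro c
    have h1 : (CU.constEquivL h).symm (algebraMap F K' c) = c ⊗ₜ[k] (1 : K) := by
      rw [AlgEquiv.symm_apply_eq, CU.constEquivL_tmul, map_one, mul_one]
    show J₀ ((CU.constEquivL h).symm (algebraMap F K' c)) = _
    rw [h1, Algebra.TensorProduct.productMap_apply_tmul, map_one, mul_one]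
    rfl
  have hjK : ∀ x : K, j (algebraMap K K' x) = algebraMap K Kb x := by
    intro x
    have h1 : (CU.constEquivL h).symm (algebraMap K K' x) = (1 : F) ⊗ₜ[k] x := by
      rw [AlgEquiv.symm_apply_eq, CU.constEquivL_tmul, map_one, one_mul]
    show J₀ ((CU.constEquivL h).symm (algebraMap K K' x)) = _
    rw [h1, Algebra.TensorProduct.productMap_apply_tmul, map_one, one_mul]
    rfl
  haveI : IsScalarTower F K' Kb := IsScalarTower.of_algebraMap_eq (fun c => (hjF c).symm)
  haveI : IsScalarTower K K' Kb := IsScalarTower.of_algebraMap_eq (fun x => (hjK x).symm)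
  haveI : IsScalarTower k K' Kb := IsScalarTower.of_algebraMap_eq (fun c => by
    rw [IsScalarTower.algebraMap_apply k K K']
    show algebraMap k Kb c = j _
    rw [hjK, ← IsScalarTower.algebraMap_apply k K Kb])
  refine deg_eq_one_of_tower h hb hK hg P ?_ Q hext
  intro Qb hQb
  obtain ⟨t, ht, y, hy, h3⟩ := hFS Qb hQb
  have hle : lvl K Kb F ≤ (IsScalarTower.toAlgHom K K' Kb).range := by
    apply Algebra.adjoin_le
    rintro _ ⟨c, rfl⟩
    exact ⟨algebraMap F K' c, hjF c⟩
  obtain ⟨t', rfl⟩ := hle ht
  obtain ⟨y', rfl⟩ := hle hy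
  exact ⟨t', y', h3⟩

end Main

end Groth.Agent.H16.SP
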