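import Mathlib
import Groth.Agent.H16.SG7
import Groth.Agent.Lib.Helper17.FFFrob

set_option autoImplicit false
set_option linter.style.haveILetI false
set_option linter.unusedSectionVars false

/-! Places over `P` in a splitting field: the residue embedding of a degree one place. -/

namespace Groth.Agent.H16.SQ

open FunFld Module
open scoped TensorProduct
open Groth.Agent.Helper17.FF Groth.Agent.H16.NS Groth.Agent.Helper16.RH

universe u v w

section Rho

variable {k k' : Type u} {K : Type v} {K' : Type w} [Field k] [Field k'] [Field K] [Field K']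
    [Algebra k k'] [Algebra k K] [Algebra K K'] [Algebra k' K'] [Algebra k K']
    [IsScalarTower k k' K'] [IsScalarTower k K K']

theorem const_unique (Q : Place k' K') {a : K'} {c c' : k'}
    (h1 : Q.1 (a - algebraMap k' K' c) < 1) (h2 : Q.1 (a - algebraMap k' K' c') < 1) : c = c' := by
  by_contra hne
  have h3 : Q.1 (algebraMap k' K' (c' - c)) = 1 := val_const_eq_one' Q (sub_ne_zero.2 (Ne.symm hne))
  have h4 : algebraMap k' K' (c' - c) = (a - algebraMap k' K' c) - (a - algebraMap k' K' c') := by
    rw [map_sub]; ring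
  rw [h4] at h3
  have h5 := Q.1.map_sub (a - algebraMap k' K' c) (a - algebraMap k' K' c')
  rw [h3] at h5
  exact absurd h5 (not_le.2 (max_lt h1 h2))

variable {P : Place k K} (Q : Place k' K') (hQ : Q.deg = 1) (e : ℕ)
    (he : ∀ z : K, Q.1 (algebraMap K K' z) = P.1 z ^ e)

include he in
theorem e_ne_zero : e ≠ 0 := by
  rintro rfl
  have := he 0
  rw [map_zero, map_zero, pow_zero] at this
  exact zero_ne_one this

include he in
theorem val_le_one_of_mem (y : P.O) : Q.1 (algebraMap K K' (y : K)) ≤ 1 := by
  rw [he]
  exact pow_le_one' y.2 e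

include he in
theorem val_lt_one_iff (z : K) : Q.1 (algebraMap K K' z) < 1 ↔ P.1 z < 1 := by
  rw [he]
  constructor
  · intro h
    by_contra hcon
    push Not at hcon
    exact absurd h (not_lt.2 (one_le_pow_of_one_le' hcon e))
  · intro h
    exact pow_lt_one' h (e_ne_zero Q e he)

/-- the residue constant of an element of `O_P` at the degree one place `Q`. -/
noncomputable def rhoFun (y : P.O) : k' :=
  Classical.choose (exists_const_of_deg_one hQ (val_le_one_of_mem Q e he y))

theorem rhoFun_spec (y : P.O) :
    Q.1 (algebraMap K K' (y : K) - algebraMap k' K' (rhoFun Q hQ e he y)) < 1 :=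
  Classical.choose_spec (exists_const_of_deg_one hQ (val_le_one_of_mem Q e he y))

theorem rhoFun_eq (y : P.O) (c : k')
    (h : Q.1 (algebraMap K K' (y : K) - algebraMap k' K' c) < 1) : rhoFun Q hQ e he y = c :=
  const_unique Q (rhoFun_spec Q hQ e he y) h

/-- the residue map `O_P → k'` at the degree one place `Q` over `P`. -/
noncomputable def rho : P.O →+* k' where
  toFun := rhoFun Q hQ e he
  map_one' := by
    apply rhoFun_eq
    show Q.1 (algebraMap K K' 1 - algebraMap k' K' 1) < 1
    rw [map_one, map_one, sub_self, map_zero]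
    exact zero_lt_one
  map_zero' := by
    apply rhoFun_eq
    show Q.1 (algebraMap K K' 0 - algebraMap k' K' 0) < 1
    rw [map_zero, map_zero, sub_self, map_zero]
    exact zero_lt_one
  map_add' x y := by
    apply rhoFun_eq
    show Q.1 (algebraMap K K' ((x : K) + (y : K)) - algebraMap k' K' _) < 1
    have h1 := rhoFun_spec Q hQ e he x
    have h2 := rhoFun_spec Q hQ e he y
    have h3 : algebraMap K K' ((x : K) + (y : K)) -
        algebraMap k' K' (rhoFun Q hQ e he x + rhoFun Q hQ e he y) =
        (algebraMap K K' (x : K) - algebraMap k' K' (rhoFun Q hQ e he x)) +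
        (algebraMap K K' (y : K) - algebraMap k' K' (rhoFun Q hQ e he y)) := by
      rw [map_add, map_add]; ring
    rw [h3]
    exact lt_of_le_of_lt (Q.1.map_add _ _) (max_lt h1 h2)
  map_mul' x y := by
    apply rhoFun_eq
    show Q.1 (algebraMap K K' ((x : K) * (y : K)) - algebraMap k' K' _) < 1
    have h1 := rhoFun_spec Q hQ e he x
    have h2 := rhoFun_spec Q hQ e he y
    have h3 : algebraMap K K' ((x : K) * (y : K)) -
        algebraMap k' K' (rhoFun Q hQ e he x * rhoFun Q hQ e he y) =
        algebraMap K K' (x : K) * (algebraMap K K' (y : K) - algebraMap k' K' (rhoFun Q hQ e he y)) +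
        algebraMap k' K' (rhoFun Q hQ e he y) *
          (algebraMap K K' (x : K) - algebraMap k' K' (rhoFun Q hQ e he x)) := by
      rw [map_mul, map_mul]; ring
    rw [h3]
    refine lt_of_le_of_lt (Q.1.map_add _ _) (max_lt ?_ ?_)
    · rw [map_mul]
      calc Q.1 (algebraMap K K' (x : K)) * Q.1 (algebraMap K K' (y : K) - algebraMap k' K' (rhoFun Q hQ e he y))
          ≤ 1 * Q.1 (algebraMap K K' (y : K) - algebraMap k' K' (rhoFun Q hQ e he y)) :=
            mul_le_mul' (val_le_one_of_mem Q e he x) le_rfl
        _ = Q.1 (algebraMap K K' (y : K) - algebraMap k' K' (rhoFun Q hQ e he y)) := one_mul _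
        _ < 1 := h2
    · rw [map_mul]
      calc Q.1 (algebraMap k' K' (rhoFun Q hQ e he y)) * Q.1 (algebraMap K K' (x : K) - algebraMap k' K' (rhoFun Q hQ e he x))
          ≤ 1 * Q.1 (algebraMap K K' (x : K) - algebraMap k' K' (rhoFun Q hQ e he x)) :=
            mul_le_mul' (Q.2.1 _) le_rfl
        _ = Q.1 (algebraMap K K' (x : K) - algebraMap k' K' (rhoFun Q hQ e he x)) := one_mul _
        _ < 1 := h1

theorem rho_spec (y : P.O) :
    Q.1 (algebraMap K K' (y : K) - algebraMap k' K' (rho Q hQ e he y)) < 1 :=
  rhoFun_spec Q hQ e he y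

theorem rho_eq (y : P.O) (c : k')
    (h : Q.1 (algebraMap K K' (y : K) - algebraMap k' K' c) < 1) : rho Q hQ e he y = c :=
  rhoFun_eq Q hQ e he y c h

theorem rho_eq_zero_iff (y : P.O) : rho Q hQ e he y = 0 ↔ P.1 (y : K) < 1 := by
  rw [← val_lt_one_iff Q e he]
  constructor
  · intro h0
    have := rho_spec Q hQ e he y
    rwa [h0, map_zero, sub_zero] at this
  · intro h
    apply rho_eq
    rwa [map_zero, sub_zero]

theorem rho_algebraMap (c : k) : rho Q hQ e he (algebraMap k P.O c) = algebraMap k k' c := by
  apply rho_eq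
  show Q.1 (algebraMap K K' (algebraMap k K c) - algebraMap k' K' (algebraMap k k' c)) < 1
  rw [← IsScalarTower.algebraMap_apply k K K', ← IsScalarTower.algebraMap_apply k k' K', sub_self,
    map_zero]
  exact zero_lt_one

instance rho_isLocalHom : IsLocalHom (rho Q hQ e he) := by
  constructor
  intro y hy
  have h1 : rho Q hQ e he y ≠ 0 := hy.ne_zero
  rw [Ne, rho_eq_zero_iff] at h1
  by_contra hnu
  have h2 : y ∈ IsLocalRing.maximalIdeal P.O := (IsLocalRing.mem_maximalIdeal _).2 hnu
  exact h1 ((mem_maximalIdeal_iff P y).1 h2)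

/-- the residue embedding `F_P → k'` at the degree one place `Q` over `P`. -/
noncomputable def sigma : IsLocalRing.ResidueField P.O →ₐ[k] k' :=
  { IsLocalRing.ResidueField.lift (rho Q hQ e he) with
    commutes' := fun c => by
      show IsLocalRing.ResidueField.lift (rho Q hQ e he)
        (IsLocalRing.residue P.O (algebraMap k P.O c)) = _
      rw [IsLocalRing.ResidueField.lift_residue_apply, rho_algebraMap] }

theorem sigma_residue (y : P.O) :
    sigma Q hQ e he (IsLocalRing.residue P.O y) = rho Q hQ e he y := rfl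

end Rho

end Groth.Agent.H16.SQ
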