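import Mathlib
import Groth.Agent.H16.SQ1
import Groth.Agent.H16.CD1

set_option autoImplicit false
set_option linter.style.haveILetI false
set_option linter.unusedSectionVars false

/-! Places over a nonsingular `P` in a splitting field: uniformizers and injectivity. -/

namespace Groth.Agent.H16.SQ

open FunFld Module
open scoped TensorProduct
open Groth.Agent.Helper17.FF Groth.Agent.H16.NS Groth.Agent.Helper16.RH Groth.Agent.H16.SG

universe u v w

section NS

variable {k k' : Type u} {K : Type v} {K' : Type w} [Field k] [Field k'] [Field K] [Field K']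
    [Algebra k k'] [FiniteDimensional k k'] [Algebra k K] [Algebra K K'] [Algebra k' K']
    [Algebra k K'] [IsScalarTower k k' K'] [IsScalarTower k K K']

/-- coordinates of an element of `O_P[k']`. -/
theorem exists_coords
    (h : Function.Bijective (Algebra.TensorProduct.productMap
      (IsScalarTower.toAlgHom k k' K') (IsScalarTower.toAlgHom k K K')))
    (P : Place k K) (z : K') (hz : z ∈ adjP k' P) :
    ∃ x : Fin (finrank k k') → P.O,
      z = ∑ i, algebraMap K K' (x i : K) * algebraMap k' K' (Module.finBasis k k' i) := by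
  classical
  let b := Module.finBasis k k'
  let B' := constBasis h b
  have hB' : ∀ i, B' i = algebraMap k' K' (b i) := constBasis_apply h b
  have M1 := (mem_adjoin_iff P.O.toSubring (fun x => P.2.1 x) b B' hB' z).1 hz
  refine ⟨fun i => ⟨B'.repr z i, M1 i⟩, ?_⟩
  conv_lhs => rw [← B'.sum_repr z]
  refine Finset.sum_congr rfl (fun i _ => ?_)
  rw [Algebra.smul_def, hB']

variable {P : Place k K} (Q : Place k' K') (hQ : Q.deg = 1) (e : ℕ)
    (he : ∀ z : K, Q.1 (algebraMap K K' z) = P.1 z ^ e)

theorem val_sub_kappa_lt {ι : Type*} [Fintype ι] (x : ι → P.O) (b : ι → k') :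
    Q.1 ((∑ i, algebraMap K K' (x i : K) * algebraMap k' K' (b i)) -
      algebraMap k' K' (∑ i, rho Q hQ e he (x i) * b i)) < 1 := by
  have h1 : (∑ i, algebraMap K K' (x i : K) * algebraMap k' K' (b i)) -
      algebraMap k' K' (∑ i, rho Q hQ e he (x i) * b i) =
      ∑ i, (algebraMap K K' (x i : K) - algebraMap k' K' (rho Q hQ e he (x i))) *
        algebraMap k' K' (b i) := by
    rw [map_sum, ← Finset.sum_sub_distrib]
    refine Finset.sum_congr rfl (fun i _ => ?_)
    rw [map_mul]; ring
  rw [h1]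
  refine Q.1.map_sum_lt one_ne_zero (fun i _ => ?_)
  rw [map_mul]
  calc Q.1 (algebraMap K K' (x i : K) - algebraMap k' K' (rho Q hQ e he (x i))) *
        Q.1 (algebraMap k' K' (b i))
      ≤ Q.1 (algebraMap K K' (x i : K) - algebraMap k' K' (rho Q hQ e he (x i))) * 1 :=
        mul_le_mul' le_rfl (Q.2.1 _)
    _ = Q.1 (algebraMap K K' (x i : K) - algebraMap k' K' (rho Q hQ e he (x i))) := mul_one _
    _ < 1 := rho_spec Q hQ e he (x i)

theorem const_eq_zero_of_val_lt {c : k'} (hc : Q.1 (algebraMap k' K' c) < 1) : c = 0 := by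
  by_contra h0
  rw [val_const_eq_one' Q h0] at hc
  exact lt_irrefl _ hc

include he in
theorem isOver_placeDown : IsOver (placeDown k Q) P := ⟨e, he⟩

/-- an element of `O_P` whose difference with its residue constant is a uniformizer at `Q`. -/
theorem exists_unif_elt
    (h : Function.Bijective (Algebra.TensorProduct.productMap
      (IsScalarTower.toAlgHom k k' K') (IsScalarTower.toAlgHom k K K')))
    (hK : IsFunctionField k K)
    (hnsP : ∀ z : K', (∀ Q₀ : Place k K', IsOver Q₀ P → Q₀.1 z ≤ 1) → z ∈ adjP k' P) :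
    ∃ y : P.O, Q.1 (algebraMap K K' (y : K) - algebraMap k' K' (rho Q hQ e he y)) =
      WithZero.exp (-1 : ℤ) := by
  classical
  haveI : FiniteDimensional K K' := CU.finite_const h
  have hKw : IsWeakFF k K := IsWeakFF.of_isFunctionField hK
  obtain ⟨hfin, -⟩ := wk_sum_ramIdx_mul_deg (L := K') hKw P
  set T := hfin.toFinset with hT
  have hTmem : ∀ Q₀, Q₀ ∈ T ↔ IsOver Q₀ P := fun Q₀ => by
    rw [hT, Set.Finite.mem_toFinset]; rfl
  obtain ⟨π, hπ⟩ := weak_approx_exact (k := k) (K := K') (fun i : T => (i : Place k K'))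
    Subtype.val_injective (fun _ => 0) (fun i => if (i : Place k K') = placeDown k Q then 1 else 0)
  have hπQ : Q.1 π = WithZero.exp (-1 : ℤ) := by
    have := hπ ⟨placeDown k Q, (hTmem _).2 (isOver_placeDown Q e he)⟩
    simpa using this
  have hπint : ∀ Q₀ : Place k K', IsOver Q₀ P → Q₀.1 π ≤ 1 := by
    intro Q₀ hQ₀
    have := hπ ⟨Q₀, (hTmem _).2 hQ₀⟩
    simp only [sub_zero] at this
    rw [this]
    split_ifs
    · exact exp_neg_one_lt_one.le
    · simp
  obtain ⟨x, hx⟩ := exists_coords h P π (hnsP π hπint)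
  have h1 := val_sub_kappa_lt Q hQ e he x (fun i => Module.finBasis k k' i)
  rw [← hx] at h1
  set κ := ∑ i, rho Q hQ e he (x i) * (Module.finBasis k k' i) with hκ
  have hκ0 : κ = 0 := by
    apply const_eq_zero_of_val_lt Q
    have h2 : algebraMap k' K' κ = π - (π - algebraMap k' K' κ) := by ring
    rw [h2]
    refine lt_of_le_of_lt (Q.1.map_sub _ _) (max_lt ?_ h1)
    rw [hπQ]; exact exp_neg_one_lt_one
  by_contra hcon
  push Not at hcon
  have h3 : ∀ i, Q.1 (algebraMap K K' (x i : K) - algebraMap k' K' (rho Q hQ e he (x i))) <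
      WithZero.exp (-1 : ℤ) := fun i =>
    lt_of_le_of_ne (Groth.Agent.H16.CD.le_exp_neg_one_of_lt_one (rho_spec Q hQ e he (x i))) (hcon (x i))
  have h4 : π = ∑ i, (algebraMap K K' (x i : K) - algebraMap k' K' (rho Q hQ e he (x i))) *
      algebraMap k' K' (Module.finBasis k k' i) := by
    have h5 : π = π - algebraMap k' K' κ := by rw [hκ0, map_zero, sub_zero]
    rw [h5, hκ, map_sum]
    conv_lhs => rw [hx]
    rw [← Finset.sum_sub_distrib]
    refine Finset.sum_congr rfl (fun i _ => ?_)
    rw [map_mul]; ring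
  have h6 : Q.1 π < WithZero.exp (-1 : ℤ) := by
    rw [h4]
    refine Q.1.map_sum_lt WithZero.exp_ne_zero (fun i _ => ?_)
    rw [map_mul]
    calc Q.1 (algebraMap K K' (x i : K) - algebraMap k' K' (rho Q hQ e he (x i))) *
          Q.1 (algebraMap k' K' (Module.finBasis k k' i))
        ≤ Q.1 (algebraMap K K' (x i : K) - algebraMap k' K' (rho Q hQ e he (x i))) * 1 :=
          mul_le_mul' le_rfl (Q.2.1 _)
      _ = Q.1 (algebraMap K K' (x i : K) - algebraMap k' K' (rho Q hQ e he (x i))) := mul_one _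
      _ < WithZero.exp (-1 : ℤ) := h3 i
  rw [hπQ] at h6
  exact lt_irrefl _ h6

/-- distinct degree one places over a nonsingular `P` have distinct residue maps. -/
theorem eq_of_rho_eq
    (h : Function.Bijective (Algebra.TensorProduct.productMap
      (IsScalarTower.toAlgHom k k' K') (IsScalarTower.toAlgHom k K K')))
    (hK : IsFunctionField k K)
    (hnsP : ∀ z : K', (∀ Q₀ : Place k K', IsOver Q₀ P → Q₀.1 z ≤ 1) → z ∈ adjP k' P)
    (Q' : Place k' K') (hQ' : Q'.deg = 1) (e' : ℕ)
    (he' : ∀ z : K, Q'.1 (algebraMap K K' z) = P.1 z ^ e')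
    (hρ : ∀ y : P.O, rho Q hQ e he y = rho Q' hQ' e' he' y) : Q = Q' := by
  classical
  by_contra hne
  have hne0 : placeDown k Q ≠ placeDown k Q' := by
    intro h0
    apply hne
    have h1 : (placeDown k Q).1 = (placeDown k Q').1 := by rw [h0]
    exact Subtype.ext h1
  haveI : FiniteDimensional K K' := CU.finite_const h
  have hKw : IsWeakFF k K := IsWeakFF.of_isFunctionField hK
  obtain ⟨hfin, -⟩ := wk_sum_ramIdx_mul_deg (L := K') hKw P
  set T := hfin.toFinset with hT
  have hTmem : ∀ Q₀, Q₀ ∈ T ↔ IsOver Q₀ P := fun Q₀ => by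
    rw [hT, Set.Finite.mem_toFinset]; rfl
  obtain ⟨z, hz⟩ := weak_approx_exact (k := k) (K := K') (fun i : T => (i : Place k K'))
    Subtype.val_injective (fun i => if (i : Place k K') = placeDown k Q' then 1 else 0)
    (fun i => if (i : Place k K') = placeDown k Q ∨ (i : Place k K') = placeDown k Q' then 1 else 0)
  have hzQ : Q.1 z = WithZero.exp (-1 : ℤ) := by
    have := hz ⟨placeDown k Q, (hTmem _).2 (isOver_placeDown Q e he)⟩
    simp only [if_neg hne0, sub_zero, true_or, if_true] at this
    exact this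
  have hzQ' : Q'.1 (z - 1) = WithZero.exp (-1 : ℤ) := by
    have := hz ⟨placeDown k Q', (hTmem _).2 (isOver_placeDown Q' e' he')⟩
    simp only [if_true, or_true] at this
    exact this
  have hzint : ∀ Q₀ : Place k K', IsOver Q₀ P → Q₀.1 z ≤ 1 := by
    intro Q₀ hQ₀
    have := hz ⟨Q₀, (hTmem _).2 hQ₀⟩
    simp only at this
    by_cases h1 : Q₀ = placeDown k Q'
    · rw [if_pos h1, if_pos (Or.inr h1)] at this
      have h2 : z = (z - 1) + 1 := by ring
      rw [h2]
      refine (Q₀.1.map_add _ _).trans (max_le ?_ (by rw [map_one]))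
      rw [this]; exact exp_neg_one_lt_one.le
    · rw [if_neg h1, sub_zero] at this
      rw [this]
      split_ifs
      · exact exp_neg_one_lt_one.le
      · simp
  obtain ⟨x, hx⟩ := exists_coords h P z (hnsP z hzint)
  have h1 := val_sub_kappa_lt Q hQ e he x (fun i => Module.finBasis k k' i)
  have h1' := val_sub_kappa_lt Q' hQ' e' he' x (fun i => Module.finBasis k k' i)
  simp only [← hρ] at h1'
  rw [← hx] at h1 h1'
  set κ := ∑ i, rho Q hQ e he (x i) * (Module.finBasis k k' i) with hκ
  have hκ0 : κ = 0 := by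
    apply const_eq_zero_of_val_lt Q
    have h2 : algebraMap k' K' κ = z - (z - algebraMap k' K' κ) := by ring
    rw [h2]
    refine lt_of_le_of_lt (Q.1.map_sub _ _) (max_lt ?_ h1)
    rw [hzQ]; exact exp_neg_one_lt_one
  rw [hκ0, map_zero, sub_zero] at h1'
  have h3 : Q'.1 (1 : K') < 1 := by
    have h4 : (1 : K') = z - (z - 1) := by ring
    rw [h4]
    refine lt_of_le_of_lt (Q'.1.map_sub _ _) (max_lt h1' ?_)
    rw [hzQ']; exact exp_neg_one_lt_one
  rw [map_one] at h3
  exact lt_irrefl _ h3

end NS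

end Groth.Agent.H16.SQ
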