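import Mathlib
import Groth.Agent.H16.SQ2

set_option autoImplicit false
set_option linter.style.haveILetI false
set_option linter.unusedSectionVars false

/-! Places over `P` in a splitting field: the ramification index divides the inseparable degree. -/

namespace Groth.Agent.H16.SQ

open FunFld Module Polynomial
open scoped TensorProduct
open Groth.Agent.Helper17.FF Groth.Agent.H16.NS Groth.Agent.Helper16.RH Groth.Agent.H16.SG

universe u v w

theorem pow_finrank_isSeparable (F E : Type*) [Field F] [Field E] [Algebra F E]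
    [FiniteDimensional F E] (p : ℕ) [ExpChar F p] (x : E) :
    IsSeparable F (x ^ finrank (separableClosure F E) E) ∧
      (∃ n : ℕ, finrank (separableClosure F E) E = p ^ n) ∧
      finrank (separableClosure F E) E ≠ 0 := by
  haveI : ExpChar (separableClosure F E) p :=
    expChar_of_injective_algebraMap (algebraMap F (separableClosure F E)).injective p
  refine ⟨?_, IsPurelyInseparable.finrank_eq_pow (separableClosure F E) E p,
    Module.finrank_pos.ne'⟩
  obtain ⟨n, a, hmin⟩ := IsPurelyInseparable.minpoly_eq_X_pow_sub_C (F := separableClosure F E) p x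
  have hint : IsIntegral (separableClosure F E) x := IsIntegral.of_finite _ x
  have hdvd := minpoly.degree_dvd hint
  rw [hmin, natDegree_X_pow_sub_C] at hdvd
  obtain ⟨m, hm⟩ := hdvd
  have hx : x ^ p ^ n = algebraMap (separableClosure F E) E a := by
    have h1 := minpoly.aeval (separableClosure F E) x
    rw [hmin, map_sub, map_pow, aeval_X, aeval_C, sub_eq_zero] at h1
    exact h1
  have h2 : x ^ finrank (separableClosure F E) E = ((a ^ m : separableClosure F E) : E) := by
    rw [hm, pow_mul, hx]
    rfl
  rw [h2]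
  exact (a ^ m).2

section Cong

variable {k' : Type u} {K' : Type w} [Field k'] [Field K'] [Algebra k' K']

/-- polynomial congruence at a place. -/
theorem val_aeval_sub_lt (Q : Place k' K') (f : k'[X]) (u : K') (d : k') (hu : Q.1 u ≤ 1)
    (hud : Q.1 (u - algebraMap k' K' d) < 1) :
    Q.1 (aeval u f - algebraMap k' K' (f.eval d)) < 1 := by
  have hpow : ∀ n : ℕ, Q.1 (u ^ n - algebraMap k' K' d ^ n) < 1 := by
    intro n
    induction n with
    | zero => simp
    | succ n ih =>
      have h1 : u ^ (n + 1) - algebraMap k' K' d ^ (n + 1) =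
          u * (u ^ n - algebraMap k' K' d ^ n) +
            (u - algebraMap k' K' d) * algebraMap k' K' d ^ n := by ring
      rw [h1]
      refine lt_of_le_of_lt (Q.1.map_add _ _) (max_lt ?_ ?_)
      · rw [map_mul]
        calc Q.1 u * Q.1 (u ^ n - algebraMap k' K' d ^ n)
            ≤ 1 * Q.1 (u ^ n - algebraMap k' K' d ^ n) := mul_le_mul' hu le_rfl
          _ = Q.1 (u ^ n - algebraMap k' K' d ^ n) := one_mul _
          _ < 1 := ih
      · rw [map_mul, map_pow]
        calc Q.1 (u - algebraMap k' K' d) * Q.1 (algebraMap k' K' d) ^ n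
            ≤ Q.1 (u - algebraMap k' K' d) * 1 :=
              mul_le_mul' le_rfl (pow_le_one' (Q.2.1 d) n)
          _ = Q.1 (u - algebraMap k' K' d) := mul_one _
          _ < 1 := hud
  induction f using Polynomial.induction_on' with
  | add f g hf hg =>
    have h1 : aeval u (f + g) - algebraMap k' K' ((f + g).eval d) =
        (aeval u f - algebraMap k' K' (f.eval d)) + (aeval u g - algebraMap k' K' (g.eval d)) := by
      rw [map_add, eval_add, map_add]; ring
    rw [h1]
    exact lt_of_le_of_lt (Q.1.map_add _ _) (max_lt hf hg)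
  | monomial n a =>
    have h1 : aeval u (monomial n a) - algebraMap k' K' ((monomial n a).eval d) =
        algebraMap k' K' a * (u ^ n - algebraMap k' K' d ^ n) := by
      rw [aeval_monomial, eval_monomial, map_mul, map_pow]; ring
    rw [h1, map_mul]
    calc Q.1 (algebraMap k' K' a) * Q.1 (u ^ n - algebraMap k' K' d ^ n)
        ≤ 1 * Q.1 (u ^ n - algebraMap k' K' d ^ n) := mul_le_mul' (Q.2.1 a) le_rfl
      _ = Q.1 (u ^ n - algebraMap k' K' d ^ n) := one_mul _
      _ < 1 := hpow n

end Cong

section Ram

variable {k k' : Type u} {K : Type v} {K' : Type w} [Field k] [Field k'] [Field K] [Field K']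
    [Algebra k k'] [Algebra k K] [Algebra K K'] [Algebra k' K'] [Algebra k K']
    [IsScalarTower k k' K'] [IsScalarTower k K K']

theorem ramIdx_dvd (hK : IsFunctionField k K) {P : Place k K} (Q : Place k' K') (hQ : Q.deg = 1)
    (e : ℕ) (he : ∀ z : K, Q.1 (algebraMap K K' z) = P.1 z ^ e) (y : P.O)
    (hy : Q.1 (algebraMap K K' (y : K) - algebraMap k' K' (rho Q hQ e he y)) =
      WithZero.exp (-1 : ℤ)) :
    e ∣ finrank (separableClosure k (IsLocalRing.ResidueField P.O))
      (IsLocalRing.ResidueField P.O) := by
  classical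
  haveI hFPfin : FiniteDimensional k (IsLocalRing.ResidueField P.O) := residue_finite hK P
  obtain ⟨p, hp⟩ := ExpChar.exists k
  obtain ⟨hsep, ⟨n, hqn⟩, hq0'⟩ := @pow_finrank_isSeparable k (IsLocalRing.ResidueField P.O) _ _ _
    (residue_finite hK P) p _ (IsLocalRing.residue P.O y)
  set q := finrank (separableClosure k (IsLocalRing.ResidueField P.O))
    (IsLocalRing.ResidueField P.O) with hq
  set a : IsLocalRing.ResidueField P.O := (IsLocalRing.residue P.O y) ^ q with ha
  set g := minpoly k a with hg
  have hgsep : g.Separable := hsep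
  set c := rho Q hQ e he y with hc
  set d := c ^ q with hd
  have hroot : aeval d g = 0 := by
    have h1 : sigma Q hQ e he a = d := by rw [ha, map_pow, sigma_residue]
    rw [← h1, Polynomial.aeval_algHom_apply, minpoly.aeval, map_zero]
  set w : P.O := aeval (y ^ q) g with hw
  have hwres : IsLocalRing.residue P.O w = 0 := by
    have h1 : IsLocalRing.residue P.O w = aeval ((IsLocalRing.residue P.O y) ^ q) g := by
      rw [hw, aeval_def, aeval_def, Polynomial.hom_eval₂, map_pow]
      rfl
    rw [h1]
    exact minpoly.aeval k a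
  have hPw : P.1 (w : K) < 1 :=
    (mem_maximalIdeal_iff P w).1 ((IsLocalRing.residue_eq_zero_iff _).1 hwres)
  set Y := algebraMap K K' (y : K) with hY
  set u := Y ^ q with hu
  have hwK' : algebraMap K K' (w : K) = aeval u g := by
    let φ : P.O →+* K' := (algebraMap K K').comp P.O.subtype
    show φ w = _
    rw [hw, aeval_def, Polynomial.hom_eval₂, map_pow]
    have h1 : φ.comp (algebraMap k P.O) = algebraMap k K' := by
      ext c'
      exact (IsScalarTower.algebraMap_apply k K K' c').symm
    rw [h1, aeval_def]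
    rfl
  haveI : ExpChar K' p := expChar_of_injective_algebraMap (algebraMap k K').injective p
  have hud : u - algebraMap k' K' d = (Y - algebraMap k' K' c) ^ q := by
    rw [hu, hd, hqn, sub_pow_expChar_pow, map_pow]
  have hQud : Q.1 (u - algebraMap k' K' d) = WithZero.exp (-1 : ℤ) ^ q := by
    rw [hud, map_pow, hy]
  have hq0 : q ≠ 0 := hq0'
  have hQud1 : Q.1 (u - algebraMap k' K' d) < 1 := by
    rw [hQud]
    exact pow_lt_one' exp_neg_one_lt_one hq0
  have hYle : Q.1 Y ≤ 1 := val_le_one_of_mem Q e he y
  have hule : Q.1 u ≤ 1 := by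
    rw [hu, map_pow]
    exact pow_le_one' hYle q
  set gk := g.map (algebraMap k k') with hgk
  have haev : aeval u g = aeval u gk := (aeval_map_algebraMap k' u g).symm
  have hroot' : gk.IsRoot d := by
    show gk.eval d = 0
    rw [hgk, eval_map_algebraMap]
    exact hroot
  set h := gk /ₘ (X - C d) with hh
  have hfac : (X - C d) * h = gk := mul_divByMonic_eq_iff_isRoot.2 hroot'
  have hsepk : gk.Separable := hgsep.map
  have hhd : h.eval d ≠ 0 := by
    intro h0
    have h1 : (X - C d) ∣ h := dvd_iff_isRoot.2 h0
    obtain ⟨h', hh'⟩ := h1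
    have h2 : (X - C d) * (X - C d) ∣ gk := ⟨h', by rw [← hfac, hh']; ring⟩
    exact not_isUnit_X_sub_C d (hsepk.squarefree _ h2)
  have hprod : aeval u gk = (u - algebraMap k' K' d) * aeval u h := by
    rw [← hfac, map_mul, map_sub, aeval_X, aeval_C]
  have hcong := val_aeval_sub_lt Q h u d hule hQud1
  have hQh : Q.1 (aeval u h) = 1 := by
    have h1 : aeval u h = algebraMap k' K' (h.eval d) + (aeval u h - algebraMap k' K' (h.eval d)) := by
      ring
    rw [h1, Valuation.map_add_eq_of_lt_left _ (by rw [val_const_eq_one' Q hhd]; exact hcong),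
      val_const_eq_one' Q hhd]
  have hQw : P.1 (w : K) ^ e = WithZero.exp (-1 : ℤ) ^ q := by
    rw [← he, hwK', haev, hprod, map_mul, hQh, mul_one, hQud]
  have hPw0 : P.1 (w : K) ≠ 0 := by
    intro h0
    rw [h0, zero_pow (e_ne_zero Q e he)] at hQw
    exact (pow_ne_zero q WithZero.exp_ne_zero) hQw.symm
  rw [← WithZero.exp_log hPw0, ← WithZero.exp_nsmul, ← WithZero.exp_nsmul, WithZero.exp_inj] at hQw
  simp only [nsmul_eq_mul, mul_neg, mul_one] at hQw
  have hdvd : (e : ℤ) ∣ (q : ℤ) := ⟨-WithZero.log (P.1 (w : K)), by linarith⟩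
  exact_mod_cast hdvd

end Ram

end Groth.Agent.H16.SQ
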