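import Mathlib
import Groth.Agent.H16.SQ3

set_option autoImplicit false
set_option linter.style.haveILetI false
set_option linter.unusedSectionVars false

/-! Places over a nonsingular `P` in a splitting field: the count. -/

namespace Groth.Agent.H16.SQ

open FunFld Module Polynomial
open scoped TensorProduct
open Groth.Agent.Helper17.FF Groth.Agent.H16.NS Groth.Agent.Helper16.RH Groth.Agent.H16.SG

universe u v w

theorem card_le_finSepDegree (F E L : Type*) [Field F] [Field E] [Field L] [Algebra F E]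
    [Algebra F L] [FiniteDimensional F E] {ι : Type*} [Finite ι] (f : ι → (E →ₐ[F] L))
    (hf : Function.Injective f) : Nat.card ι ≤ Field.finSepDegree F E := by
  haveI : Algebra.IsAlgebraic F E := Algebra.IsAlgebraic.of_finite F E
  rw [Field.finSepDegree_eq_of_isAlgClosed F E (AlgebraicClosure L)]
  let g : ι → (E →ₐ[F] AlgebraicClosure L) :=
    fun i => (IsScalarTower.toAlgHom F L (AlgebraicClosure L)).comp (f i)
  have hg : Function.Injective g := by
    intro i j hij
    apply hf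
    ext x
    have := DFunLike.congr_fun hij x
    exact (algebraMap L (AlgebraicClosure L)).injective this
  exact Nat.card_le_card_of_injective g hg

theorem finSep_mul_finInsep (F E : Type*) [Field F] [Field E] [Algebra F E]
    [FiniteDimensional F E] :
    Field.finSepDegree F E * finrank (separableClosure F E) E = finrank F E ∧
      0 < finrank (separableClosure F E) E :=
  ⟨Field.finSepDegree_mul_finInsepDegree F E, Module.finrank_pos⟩

section Main

variable {k k' : Type u} {K : Type v} {K' : Type w} [Field k] [Field k'] [Field K] [Field K']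
    [Algebra k k'] [FiniteDimensional k k'] [Algebra k K] [Algebra K K'] [Algebra k' K']
    [Algebra k K'] [IsScalarTower k k' K'] [IsScalarTower k K K']

theorem count_main
    (h : Function.Bijective (Algebra.TensorProduct.productMap
      (IsScalarTower.toAlgHom k k' K') (IsScalarTower.toAlgHom k K K')))
    (hK : IsFunctionField k K) (P : Place k K)
    (hnsP : ∀ z : K', (∀ Q₀ : Place k K', IsOver Q₀ P → Q₀.1 z ≤ 1) → z ∈ adjP k' P)
    (hsplit : ∀ Q : Place k' K',
      (∃ e : ℕ, ∀ z : K, Q.1 (algebraMap K K' z) = P.1 z ^ e) → Q.deg = 1) :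
    {Q : Place k' K' | ∃ e : ℕ, ∀ z : K, Q.1 (algebraMap K K' z) = P.1 z ^ e}.Finite ∧
    {Q : Place k' K' | ∃ e : ℕ, ∀ z : K, Q.1 (algebraMap K K' z) = P.1 z ^ e}.ncard =
      Field.finSepDegree k (IsLocalRing.ResidueField P.O) ∧
    ∀ Q : Place k' K', (∃ e : ℕ, ∀ z : K, Q.1 (algebraMap K K' z) = P.1 z ^ e) →
      ∀ z : K, Q.1 (algebraMap K K' z) =
        P.1 z ^ finrank (separableClosure k (IsLocalRing.ResidueField P.O))
          (IsLocalRing.ResidueField P.O) := by
  classical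
  haveI : Algebra.IsAlgebraic k k' := Algebra.IsAlgebraic.of_finite k k'
  haveI : FiniteDimensional K K' := CU.finite_const h
  have hKw : IsWeakFF k K := IsWeakFF.of_isFunctionField hK
  obtain ⟨hfin, hsum⟩ := wk_sum_ramIdx_mul_deg (L := K') hKw P
  set T := hfin.toFinset with hT
  have hTmem : ∀ Q₀, Q₀ ∈ T ↔ IsOver Q₀ P := fun Q₀ => by
    rw [hT, Set.Finite.mem_toFinset]; rfl
  have hsumT := hsum T hTmem
  have hover : ∀ Q₀ ∈ T, IsOverWith Q₀ P (ramIdx Q₀ P) :=
    fun Q₀ hQ₀ => isOverWith_ramIdx ((hTmem Q₀).1 hQ₀)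
  have hdeg1 : ∀ Q₀ ∈ T, (placeUp k' Q₀).deg = 1 :=
    fun Q₀ hQ₀ => hsplit (placeUp k' Q₀) ⟨ramIdx Q₀ P, hover Q₀ hQ₀⟩
  have hdegQ₀ : ∀ Q₀ ∈ T, Q₀.deg = finrank k k' := fun Q₀ hQ₀ => by
    rw [deg_placeUp (k₁ := k') Q₀, hdeg1 Q₀ hQ₀, mul_one]
  have hsum' : ∑ Q₀ ∈ T, ramIdx Q₀ P = P.deg := by
    have h1 : ∑ Q₀ ∈ T, ramIdx Q₀ P * Q₀.deg = (∑ Q₀ ∈ T, ramIdx Q₀ P) * finrank k k' := by
      rw [Finset.sum_mul]
      exact Finset.sum_congr rfl (fun Q₀ hQ₀ => by rw [hdegQ₀ Q₀ hQ₀])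
    rw [h1, CU.finrank_const h] at hsumT
    have hpos : 0 < finrank k k' := Module.finrank_pos
    exact Nat.eq_of_mul_eq_mul_right hpos (by rw [hsumT, mul_comm])
  have hFPfin : FiniteDimensional k (IsLocalRing.ResidueField P.O) := residue_finite hK P
  obtain ⟨hmul, hqipos⟩ := @finSep_mul_finInsep k (IsLocalRing.ResidueField P.O) _ _ _ hFPfin
  have hPdeg : P.deg = Field.finSepDegree k (IsLocalRing.ResidueField P.O) *
      finrank (separableClosure k (IsLocalRing.ResidueField P.O))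
        (IsLocalRing.ResidueField P.O) := hmul.symm
  have hdvd : ∀ Q₀ ∈ T, ramIdx Q₀ P ∣ finrank (separableClosure k (IsLocalRing.ResidueField P.O))
      (IsLocalRing.ResidueField P.O) := by
    intro Q₀ hQ₀
    obtain ⟨y, hy⟩ := exists_unif_elt (placeUp k' Q₀) (hdeg1 Q₀ hQ₀) (ramIdx Q₀ P)
      (hover Q₀ hQ₀) h hK hnsP
    exact ramIdx_dvd hK (placeUp k' Q₀) (hdeg1 Q₀ hQ₀) (ramIdx Q₀ P) (hover Q₀ hQ₀) y hy
  have hle : ∀ Q₀ ∈ T, ramIdx Q₀ P ≤ finrank (separableClosure k (IsLocalRing.ResidueField P.O))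
      (IsLocalRing.ResidueField P.O) := fun Q₀ hQ₀ => Nat.le_of_dvd hqipos (hdvd Q₀ hQ₀)
  have hcard : T.card ≤ Field.finSepDegree k (IsLocalRing.ResidueField P.O) := by
    let f : T → (IsLocalRing.ResidueField P.O →ₐ[k] k') := fun i =>
      sigma (placeUp k' i.1) (hdeg1 i.1 i.2) (ramIdx i.1 P) (hover i.1 i.2)
    have hf : Function.Injective f := by
      intro i j hij
      have hρ : ∀ y : P.O, rho (placeUp k' i.1) (hdeg1 i.1 i.2) (ramIdx i.1 P) (hover i.1 i.2) y =
          rho (placeUp k' j.1) (hdeg1 j.1 j.2) (ramIdx j.1 P) (hover j.1 j.2) y := by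
        intro y
        rw [← sigma_residue, ← sigma_residue]
        exact DFunLike.congr_fun hij _
      have := eq_of_rho_eq (placeUp k' i.1) (hdeg1 i.1 i.2) (ramIdx i.1 P) (hover i.1 i.2) h hK hnsP
        (placeUp k' j.1) (hdeg1 j.1 j.2) (ramIdx j.1 P) (hover j.1 j.2) hρ
      exact Subtype.ext (placeUp_injective this)
    have := @card_le_finSepDegree k (IsLocalRing.ResidueField P.O) k' _ _ _ _ _ hFPfin T _ f hf
    simpa using this
  -- arithmetic
  have hsumle : ∑ Q₀ ∈ T, ramIdx Q₀ P ≤ T.card * finrank (separableClosure k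
      (IsLocalRing.ResidueField P.O)) (IsLocalRing.ResidueField P.O) := by
    have := Finset.sum_le_card_nsmul T (fun Q₀ => ramIdx Q₀ P) _ hle
    simpa using this
  have hcard' : T.card = Field.finSepDegree k (IsLocalRing.ResidueField P.O) := by
    apply le_antisymm hcard
    rw [hsum', hPdeg] at hsumle
    exact Nat.le_of_mul_le_mul_right hsumle hqipos
  have heq : ∀ Q₀ ∈ T, ramIdx Q₀ P = finrank (separableClosure k (IsLocalRing.ResidueField P.O))
      (IsLocalRing.ResidueField P.O) := by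
    intro Q₀ hQ₀
    by_contra hne
    have hlt := lt_of_le_of_ne (hle Q₀ hQ₀) hne
    have h1 : ∑ Q₀ ∈ T, ramIdx Q₀ P < ∑ _Q₀ ∈ T, finrank (separableClosure k
        (IsLocalRing.ResidueField P.O)) (IsLocalRing.ResidueField P.O) :=
      Finset.sum_lt_sum hle ⟨Q₀, hQ₀, hlt⟩
    rw [Finset.sum_const, smul_eq_mul, hsum', hPdeg, hcard'] at h1
    exact lt_irrefl _ h1
  -- the set
  have hΩ : {Q : Place k' K' | ∃ e : ℕ, ∀ z : K, Q.1 (algebraMap K K' z) = P.1 z ^ e} =
      ↑(T.image (placeUp k')) := by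
    ext Q
    simp only [Finset.coe_image, Set.mem_image, Finset.mem_coe]
    constructor
    · rintro ⟨e, he⟩
      exact ⟨placeDown k Q, (hTmem _).2 ⟨e, he⟩, placeUp_placeDown Q⟩
    · rintro ⟨Q₀, hQ₀, rfl⟩
      exact ⟨ramIdx Q₀ P, hover Q₀ hQ₀⟩
  refine ⟨?_, ?_, ?_⟩
  · rw [hΩ]; exact Finset.finite_toSet _
  · rw [hΩ, Set.ncard_coe_finset, Finset.card_image_of_injective _ placeUp_injective, hcard']
  · rintro Q ⟨e, he⟩ z
    have hQ₀ : placeDown k Q ∈ T := (hTmem _).2 ⟨e, he⟩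
    have := hover (placeDown k Q) hQ₀ z
    rw [heq _ hQ₀] at this
    exact this

end Main

end Groth.Agent.H16.SQ
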