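import Groth.Agent.H16.Canon
set_option autoImplicit false
set_option linter.unusedSimpArgs false

namespace Groth.Agent.Helper16.Hasse

open FunFld Module Groth.Agent.Helper17.FF

variable {k K : Type*} [Field k] [Field K] [Algebra k K] {n : ℕ}

/-- (SV1) change of basis matrix between two bases of the same span -/
theorem exists_basis_change (φ φ' : Fin (n + 1) → K) (hφ' : LinearIndependent k φ')
    (hspan : Submodule.span k (Set.range φ') = Submodule.span k (Set.range φ)) :
    ∃ A : Matrix (Fin (n + 1)) (Fin (n + 1)) k, A.det ≠ 0 ∧ ∀ i, φ' i = ∑ j, A i j • φ j := by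
  classical
  have hmem : ∀ i, φ' i ∈ Submodule.span k (Set.range φ) := fun i => by
    rw [← hspan]; exact Submodule.subset_span (Set.mem_range_self i)
  have hex : ∀ i, ∃ c : Fin (n + 1) → k, ∑ j, c j • φ j = φ' i := fun i =>
    (Submodule.mem_span_range_iff_exists_fun k).mp (hmem i)
  choose A hA using hex
  refine ⟨Matrix.of A, ?_, fun i => (hA i).symm⟩
  intro hdet
  obtain ⟨w, hw0, hw⟩ := Matrix.exists_vecMul_eq_zero_iff.mpr hdet
  have hsum : ∑ i, w i • φ' i = 0 := by
    have : ∑ i, w i • φ' i = ∑ j, (Matrix.vecMul w (Matrix.of A)) j • φ j := by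
      simp only [← hA, Finset.smul_sum, smul_smul, Matrix.vecMul, dotProduct, Matrix.of_apply,
        Finset.sum_smul]
      rw [Finset.sum_comm]
    rw [this, hw]
    simp
  have := Fintype.linearIndependent_iff.mp hφ' w hsum
  exact hw0 (funext this)

theorem linearIndependent_of_span_eq (φ φ' : Fin (n + 1) → K) (hφ : LinearIndependent k φ)
    (hspan : Submodule.span k (Set.range φ') = Submodule.span k (Set.range φ)) :
    LinearIndependent k φ' := by
  rw [linearIndependent_iff_card_eq_finrank_span, Set.finrank, hspan, finrank_span_eq_card hφ]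

/-- (SV3) determinant of a matrix with scaled rows and columns -/
theorem det_scale (M N : Matrix (Fin (n + 1)) (Fin (n + 1)) K) (r S : Fin (n + 1) → K)
    (h : ∀ i c, M i c * S c = r i * N i c) :
    M.det * ∏ c, S c = (∏ i, r i) * N.det := by
  have h1 := Matrix.det_mul_row S M
  have h2 := Matrix.det_mul_column r N
  rw [mul_comm, ← h1, ← h2]
  congr 1
  ext i c
  simp only [Matrix.of_apply]
  rw [mul_comm, h]

/-- (SV4) valuation and residue of a determinant with regular entries -/
theorem det_regular (P : Place k K) (N : Matrix (Fin (n + 1)) (Fin (n + 1)) K)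
    (hN : ∀ i c, P.1 (N i c) ≤ 1) :
    P.1 N.det ≤ 1 ∧ evalP P N.det = (Matrix.of fun i c => evalP P (N i c)).det := by
  let N₀ : Matrix (Fin (n + 1)) (Fin (n + 1)) P.O :=
    Matrix.of fun i c => ⟨N i c, (Valuation.mem_valuationSubring_iff P.1 _).mpr (hN i c)⟩
  have h1 : N = (P.O.subtype).mapMatrix N₀ := by
    ext i c
    rfl
  have h2 : N.det = ((N₀.det : P.O) : K) := by
    rw [h1, ← RingHom.map_det]
    rfl
  have hle : P.1 N.det ≤ 1 := by
    rw [h2]
    exact (Valuation.mem_valuationSubring_iff P.1 _).mp N₀.det.2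
  refine ⟨hle, ?_⟩
  rw [evalP_of_le P hle]
  have h3 : (⟨N.det, (Valuation.mem_valuationSubring_iff P.1 _).mpr hle⟩ : P.O) = N₀.det :=
    Subtype.ext h2
  rw [h3, RingHom.map_det]
  congr 1
  ext i c
  simp only [RingHom.mapMatrix_apply, Matrix.map_apply, Matrix.of_apply]
  rw [evalP_of_le P (hN i c)]
  rfl

end Groth.Agent.Helper16.Hasse
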