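import Groth.Agent.H16.SV10
import Groth.Agent.H16.Cond8
set_option autoImplicit false
set_option linter.unusedSimpArgs false

namespace Groth.Agent.Helper16.Hasse

open FunFld Module Groth.Agent.Helper17.FF

variable {k K : Type*} [Field k] [Field K] [Algebra k K] {n : ℕ}

/-- a derivation regular on the affine coordinates preserves the valuation ring at a nonsingular
place -/
theorem deriv_regular (φ : Fin (n + 1) → K) (P : Place k K) (j : Fin (n + 1)) (hφj : φ j ≠ 0)
    (hjP : ∀ i, P.1 (φ i) ≤ P.1 (φ j)) (hns : IsNonsingularAt φ P) (δ : Derivation k K K)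
    (hδ : ∀ i, P.1 (δ (φ i / φ j)) ≤ 1) : ∀ z : K, P.1 z ≤ 1 → P.1 (δ z) ≤ 1 := by
  have hA : ∀ a ∈ Algebra.adjoin k (Set.range fun i => φ i / φ j), P.1 (δ a) ≤ 1 := by
    intro a ha
    induction ha using Algebra.adjoin_induction with
    | mem x hx =>
      obtain ⟨i, rfl⟩ := hx
      exact hδ i
    | algebraMap r =>
      rw [Derivation.map_algebraMap, map_zero]
      exact zero_le
    | add x y _ _ hx hy =>
      rw [map_add]
      exact (P.1.map_add _ _).trans (max_le hx hy)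
    | mul x y hxA hyA hx hy =>
      rw [Derivation.leibniz, smul_eq_mul, smul_eq_mul]
      refine (P.1.map_add _ _).trans (max_le ?_ ?_)
      · rw [map_mul]
        exact mul_le_one' (Groth.Agent.Helper16.Emb.A_le_O P φ hjP hxA) hy
      · rw [map_mul]
        exact mul_le_one' (Groth.Agent.Helper16.Emb.A_le_O P φ hjP hyA) hx
  intro z hz
  obtain ⟨u, hu, w, hw, hPw, hzw⟩ :=
    Groth.Agent.Helper16.Emb.locJ_of_inLocRing hφj hjP (hns z hz)
  have h1 : δ u = z * δ w + w * δ z := by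
    rw [← hzw, Derivation.leibniz, smul_eq_mul, smul_eq_mul]
  have h2 : w * δ z = δ u - z * δ w := by rw [h1]; ring
  have h3 : P.1 (w * δ z) ≤ 1 := by
    rw [h2]
    refine (Valuation.map_sub _ _ _).trans (max_le (hA u hu) ?_)
    rw [map_mul]
    exact mul_le_one' hz (hA w hw)
  rwa [map_mul, hPw, one_mul] at h3

/-- an element of the maximal ideal with derivative `1` under a derivation preserving the
valuation ring is a local parameter -/
theorem uniformizer_of_deriv (P : Place k K) (δ : Derivation k K K)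
    (hδ : ∀ z : K, P.1 z ≤ 1 → P.1 (δ z) ≤ 1) {σ : K} (hσ : P.1 σ < 1) (hδσ : δ σ = 1) :
    P.1 σ = WithZero.exp (-1 : ℤ) := by
  obtain ⟨t, ht⟩ := P.2.2 (WithZero.exp (-1 : ℤ))
  have ht0 : t ≠ 0 := by
    rintro rfl
    rw [map_zero] at ht
    exact WithZero.exp_ne_zero ht.symm
  have h1 : P.1 σ ≤ WithZero.exp (-1 : ℤ) := by
    have : P.1 σ < WithZero.exp (0 : ℤ) := by rw [WithZero.exp_zero]; exact hσ
    rw [val_lt_exp_iff_le] at this
    simpa using this
  by_contra hne
  have h2 : P.1 σ ≤ WithZero.exp (-((2 : ℕ) : ℤ)) := by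
    have : P.1 σ < WithZero.exp (-1 : ℤ) := lt_of_le_of_ne h1 hne
    rw [val_lt_exp_iff_le] at this
    simpa using this
  have hz : P.1 (σ / t ^ 2) ≤ 1 := val_div_pow P ht h2
  have htz : P.1 (t * (σ / t ^ 2)) ≤ WithZero.exp (-1 : ℤ) := by
    rw [map_mul, ht]
    calc WithZero.exp (-1 : ℤ) * P.1 (σ / t ^ 2) ≤ WithZero.exp (-1 : ℤ) * 1 :=
          mul_le_mul' le_rfl hz
      _ = _ := mul_one _
  have htz1 : P.1 (t * (σ / t ^ 2)) ≤ 1 :=
    htz.trans (le_of_lt (exp_neg_pos_lt_one (j := 1) (by norm_num)))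
  have ht1 : P.1 t ≤ 1 := val_t_le_one P ht
  have e : σ = t * (t * (σ / t ^ 2)) := by field_simp
  have h3 : δ σ = t * δ (t * (σ / t ^ 2)) + (t * (σ / t ^ 2)) * δ t := by
    conv_lhs => rw [e]
    rw [Derivation.leibniz, smul_eq_mul, smul_eq_mul]
  have h4 : P.1 (δ σ) ≤ WithZero.exp (-1 : ℤ) := by
    rw [h3]
    refine (P.1.map_add _ _).trans (max_le ?_ ?_)
    · rw [map_mul, ht]
      calc WithZero.exp (-1 : ℤ) * P.1 (δ (t * (σ / t ^ 2))) ≤ WithZero.exp (-1 : ℤ) * 1 :=
            mul_le_mul' le_rfl (hδ _ htz1)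
        _ = _ := mul_one _
    · rw [map_mul]
      calc P.1 (t * (σ / t ^ 2)) * P.1 (δ t) ≤ WithZero.exp (-1 : ℤ) * 1 :=
            mul_le_mul' htz (hδ _ ht1)
        _ = _ := mul_one _
  rw [hδσ, map_one] at h4
  exact absurd h4 (not_le.mpr (exp_neg_pos_lt_one (j := 1) (by norm_num)))

end Groth.Agent.Helper16.Hasse
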