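import Groth.Agent.H16.SV11
set_option autoImplicit false
set_option linter.unusedSimpArgs false

namespace Groth.Agent.Helper16.Hasse

open FunFld Module Groth.Agent.Helper17.FF

variable {k K : Type*} [Field k] [Field K] [Algebra k K] {n : ℕ}

theorem indep_pows {s : K} (hs : Transcendental k s) (a b c : k)
    (h : a • (1 : K) + b • s + c • s ^ 2 = 0) : a = 0 ∧ b = 0 ∧ c = 0 := by
  have h1 := transcendental_iff.mp hs
    (Polynomial.C a + Polynomial.C b * Polynomial.X + Polynomial.C c * Polynomial.X ^ 2) (by
      simp only [map_add, map_mul, map_pow, Polynomial.aeval_C, Polynomial.aeval_X]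
      rw [← h, Algebra.smul_def, Algebra.smul_def, Algebra.smul_def, mul_one])
  have e0 := congrArg (fun p => Polynomial.coeff p 0) h1
  have e1 := congrArg (fun p => Polynomial.coeff p 1) h1
  have e2 := congrArg (fun p => Polynomial.coeff p 2) h1
  simp [Polynomial.coeff_X, Polynomial.coeff_C, Polynomial.coeff_X_pow] at e0 e1 e2
  exact ⟨e0, e1, e2⟩

/-- a separating variable is part of a birational plane model with independent coordinates -/
theorem exists_plane_model (hK : IsFunctionField k K) {s : K} (hs : Transcendental k s)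
    (hsep : Algebra.IsSeparable (IntermediateField.adjoin k ({s} : Set K)) K) :
    ∃ y : K, LinearIndependent k ![(1 : K), s, y] ∧
      IntermediateField.adjoin k (Set.range fun i => ![(1 : K), s, y] i / ![(1 : K), s, y] 0) = ⊤ := by
  classical
  haveI := finite_of_transcendental hK hs
  obtain ⟨α, hα⟩ := Field.exists_primitive_element (IntermediateField.adjoin k ({s} : Set K)) K
  by_cases hli : LinearIndependent k ![(1 : K), s, α]
  · refine ⟨α, hli, ?_⟩
    rw [eq_top_iff]
    have h2 := IntermediateField.adjoin_adjoin_left k ({s} : Set K) ({α} : Set K)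
    rw [hα, IntermediateField.restrictScalars_top] at h2
    rw [h2]
    apply IntermediateField.adjoin.mono
    rintro x (hx | hx)
    · exact ⟨1, by simp [Set.mem_singleton_iff.mp hx]⟩
    · exact ⟨2, by simp [Set.mem_singleton_iff.mp hx]⟩
  · -- degenerate case: `K = k(s)`
    obtain ⟨g, hg, i, hi⟩ := Fintype.not_linearIndependent_iff.mp hli
    rw [Fin.sum_univ_three] at hg
    simp only [Matrix.cons_val_zero, Matrix.cons_val_one, Matrix.cons_val_two,
      Matrix.head_cons, Matrix.tail_cons] at hg
    have hg2 : g 2 ≠ 0 := by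
      intro h2
      rw [h2, zero_smul, add_zero] at hg
      have := indep_pows hs (g 0) (g 1) 0 (by rw [zero_smul, add_zero]; exact hg)
      fin_cases i
      · exact hi this.1
      · exact hi this.2.1
      · exact hi h2
    have hαF : α ∈ IntermediateField.adjoin k ({s} : Set K) := by
      have e : α = -(g 2)⁻¹ • (g 0 • (1 : K) + g 1 • s) := by
        have h3 : g 2 • α = -(g 0 • (1 : K) + g 1 • s) := by
          rw [eq_neg_iff_add_eq_zero, add_comm]; exact hg
        rw [neg_smul, ← smul_neg, ← h3, smul_smul, inv_mul_cancel₀ hg2, one_smul]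
      rw [e]
      apply IntermediateField.smul_mem
      apply add_mem
      · exact IntermediateField.smul_mem _ (one_mem _)
      · exact IntermediateField.smul_mem _
          (IntermediateField.subset_adjoin k _ (Set.mem_singleton s))
    have htop : ∀ x : K, x ∈ IntermediateField.adjoin k ({s} : Set K) := by
      intro x
      have h1 : (IntermediateField.adjoin (IntermediateField.adjoin k ({s} : Set K))
          ({α} : Set K)) = ⊥ := by
        rw [IntermediateField.adjoin_simple_eq_bot_iff]
        exact ⟨⟨α, hαF⟩, rfl⟩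
      rw [hα] at h1
      have h2 : x ∈ (⊤ : IntermediateField (IntermediateField.adjoin k ({s} : Set K)) K) :=
        trivial
      rw [h1, IntermediateField.mem_bot] at h2
      obtain ⟨z, rfl⟩ := h2
      exact z.2
    refine ⟨s ^ 2, ?_, ?_⟩
    · rw [Fintype.linearIndependent_iff]
      intro g' hg' i'
      rw [Fin.sum_univ_three] at hg'
      simp only [Matrix.cons_val_zero, Matrix.cons_val_one, Matrix.cons_val_two,
        Matrix.head_cons, Matrix.tail_cons] at hg'
      have := indep_pows hs (g' 0) (g' 1) (g' 2) hg'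
      fin_cases i'
      · exact this.1
      · exact this.2.1
      · exact this.2.2
    · rw [eq_top_iff]
      intro x _
      have h1 := htop x
      refine IntermediateField.adjoin.mono k _ _ ?_ h1
      rintro z hz
      exact ⟨1, by simp [Set.mem_singleton_iff.mp hz]⟩

/-- the differential `ds` of a separating variable has only finitely many zeros and poles -/
theorem finite_support_ordDiff [IsAlgClosed k] (hK : IsFunctionField k K) {s : K}
    (H : K →ₐ[k] PowerSeries K) (hH : LocRes.IsHasseFamily s H)
    (Φ : Place k K → (K →ₐ[k] LaurentSeries k))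
    (hΦ : ∀ P : Place k K, LocRes.IsExpansionAt P.1 (Φ P)) :
    {P : Place k K | LocRes.ordDiff (Φ P) 1 s ≠ 0}.Finite := by
  classical
  have hsep := sep_of_hasse hK H hH
  have hs : Transcendental k s := by
    apply transcendental_of_not_mem hK
    rintro ⟨c, rfl⟩
    exact Groth.Agent.Helper17.Hasse.D_ne_zero_of_isHasseFamily hH
      (Derivation.map_algebraMap _ c)
  obtain ⟨y, hli, hbir⟩ := exists_plane_model hK hs hsep
  have hφ0 : ∀ i, ![(1 : K), s, y] i ≠ 0 := fun i => hli.ne_zero i
  obtain ⟨δ, hδdef⟩ : ∃ δ : Derivation k K K, δ = Groth.Agent.Helper17.Hasse.derivOne s H hH :=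
    ⟨_, rfl⟩
  have hδs : δ s = 1 := by rw [hδdef]; exact Groth.Agent.Helper17.Hasse.derivOne_self s H hH
  have hfin1 := Groth.Agent.Helper16.Emb.finite_singular hK (by norm_num : 1 ≤ 2)
    ![(1 : K), s, y] hli hbir
  have hfin2 := Groth.Agent.Helper16.Emb.finite_not_top hK ![(1 : K), s, y] hφ0 0
  have hfin3 : {P : Place k K | ¬ P.1 (δ y) ≤ 1}.Finite := by
    by_cases h0 : δ y = 0
    · simp [h0]
    · refine (finite_support_ord hK (δ y)).subset ?_
      intro P hP
      simp only [Set.mem_setOf_eq, not_le] at hP
      rw [Function.mem_support]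
      have := (ord_neg_iff P h0).mpr hP
      omega
  refine ((hfin1.union hfin2).union hfin3).subset ?_
  intro P hP
  by_contra hnot
  simp only [Set.mem_union, Set.mem_setOf_eq, not_or, not_not] at hnot
  obtain ⟨⟨hns, htop⟩, hδy⟩ := hnot
  apply hP
  have hδreg := deriv_regular ![(1 : K), s, y] P 0 (hφ0 0) htop hns δ (by
    intro i
    fin_cases i
    · simp
    · simp [hδs]
    · simpa using hδy)
  have hs1 : P.1 s ≤ 1 := by
    have := htop 1
    simpa using this
  obtain ⟨c₀, hc₀⟩ := Groth.Agent.Helper16.LLS.exists_const_sub_lt hK P hs1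
  have hσ := uniformizer_of_deriv P δ hδreg hc₀ (by
    rw [map_sub, hδs, Derivation.map_algebraMap, sub_zero])
  have e : LocRes.D k (Φ P s) = LocRes.D k (Φ P (s - algebraMap k K c₀)) := by
    rw [map_sub, map_sub, LocRes.map_algebraMap, LocRes.D_apply k (HahnSeries.C _),
      LocRes.derivative_C, sub_zero]
  unfold LocRes.ordDiff LocRes.vDiff
  rw [map_one, one_mul, e, val_D_of_uniformizer _ (by rw [(hΦ P).1, hσ])]
  simp

/-- the divisor of `ds`, evaluated at a place -/
theorem divDiff_apply [IsAlgClosed k] (hK : IsFunctionField k K) {s : K}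
    (H : K →ₐ[k] PowerSeries K) (hH : LocRes.IsHasseFamily s H)
    (Φ : Place k K → (K →ₐ[k] LaurentSeries k))
    (hΦ : ∀ P : Place k K, LocRes.IsExpansionAt P.1 (Φ P)) (P : Place k K) :
    divDiff Φ 1 s P = LocRes.ordDiff (Φ P) 1 s := by
  have hfin : (Function.support fun P : Place k K => LocRes.ordDiff (Φ P) 1 s).Finite :=
    finite_support_ordDiff hK H hH Φ hΦ
  unfold divDiff
  rw [dif_pos hfin]
  rfl

end Groth.Agent.Helper16.Hasse
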