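import Groth.Agent.H16.SV12
set_option autoImplicit false
set_option linter.unusedSimpArgs false

namespace Groth.Agent.Helper16.Hasse

open FunFld Module Groth.Agent.Helper17.FF

variable {k K : Type*} [Field k] [Field K] [Algebra k K] {n : ℕ}

/-- chain rule through an expansion: `(φ x)' = φ(D_t x) · (φ t)'` -/
theorem D_exp_chain (hK : IsFunctionField k K) (hg : IsGeometric k K) {F : Type*} [Field F]
    [Algebra k F] (φ : K →ₐ[k] LaurentSeries F) {t : K} (Ht : K →ₐ[k] PowerSeries K)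
    (hHt : LocRes.IsHasseFamily t Ht) (x : K) :
    LocRes.D F (φ x) = φ (LocRes.hasseD Ht 1 x) * LocRes.D F (φ t) := by
  letI := φ.toRingHom.toAlgebra
  haveI : IsScalarTower k K (LaurentSeries F) := LocRes.isScalarTower_exp φ
  have h1 := congrArg (LocRes.dExp φ).liftKaehlerDifferential (D_eq_smul_D hK hg Ht hHt x)
  rw [map_smul, Derivation.liftKaehlerDifferential_comp_D,
    Derivation.liftKaehlerDifferential_comp_D] at h1
  exact h1

/-- chain rule for first Hasse derivatives: `D_u x = D_t x · D_u t` -/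
theorem hasseD_chain (hK : IsFunctionField k K) (hg : IsGeometric k K) {t u : K}
    (Ht : K →ₐ[k] PowerSeries K) (hHt : LocRes.IsHasseFamily t Ht)
    (Hu : K →ₐ[k] PowerSeries K) (hHu : LocRes.IsHasseFamily u Hu) (x : K) :
    LocRes.hasseD Hu 1 x = LocRes.hasseD Ht 1 x * LocRes.hasseD Hu 1 t := by
  have h1 := congrArg (Derivation.liftKaehlerDifferential
    (Groth.Agent.Helper17.Hasse.derivOne u Hu hHu)) (D_eq_smul_D hK hg Ht hHt x)
  rw [map_smul, Derivation.liftKaehlerDifferential_comp_D,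
    Derivation.liftKaehlerDifferential_comp_D] at h1
  exact h1

/-- the order of `dx` at `P`, read through an expansion, is the order of `dx/du` for a local
parameter `u` -/
theorem ordDiff_eq_ord [IsAlgClosed k] (hK : IsFunctionField k K) (P : Place k K)
    (Φ : K →ₐ[k] LaurentSeries k) (hΦ : LocRes.IsExpansionAt P.1 Φ) {u : K}
    (hu : P.1 u = WithZero.exp (-1 : ℤ)) (Hu : K →ₐ[k] PowerSeries K)
    (hHu : LocRes.IsHasseFamily u Hu) (x : K) :
    LocRes.ordDiff Φ 1 x = P.ord (LocRes.hasseD Hu 1 x) := by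
  have hg := isGeometric_of_perfect k K hK
  unfold LocRes.ordDiff LocRes.vDiff Place.ord
  rw [map_one, one_mul, D_exp_chain hK hg Φ Hu hHu x, map_mul, hΦ.1,
    val_D_of_uniformizer _ (by rw [hΦ.1, hu]), mul_one]

/-- chain rule for orders of differentials -/
theorem ordDiff_chain [IsAlgClosed k] (hK : IsFunctionField k K) (P : Place k K)
    (Φ : K →ₐ[k] LaurentSeries k) (hΦ : LocRes.IsExpansionAt P.1 Φ) {s t : K}
    (Hs : K →ₐ[k] PowerSeries K) (hHs : LocRes.IsHasseFamily s Hs)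
    (Ht : K →ₐ[k] PowerSeries K) (hHt : LocRes.IsHasseFamily t Ht) :
    LocRes.ordDiff Φ 1 s = P.ord (LocRes.hasseD Ht 1 s) + LocRes.ordDiff Φ 1 t := by
  have hg := isGeometric_of_perfect k K hK
  obtain ⟨u, hu⟩ := P.2.2 (WithZero.exp (-1 : ℤ))
  obtain ⟨Hu, hHu⟩ := exists_hasse Ht hHt u (hasseD_one_ne_zero hK P Ht hHt hu)
  rw [ordDiff_eq_ord hK P Φ hΦ hu Hu hHu s, ordDiff_eq_ord hK P Φ hΦ hu Hu hHu t,
    hasseD_chain hK hg Ht hHt Hu hHu s]
  have h1 : LocRes.hasseD Ht 1 s ≠ 0 := by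
    intro h0
    have := Groth.Agent.Helper17.Hasse.hasseD_one_mul hK hg hHs hHt
    rw [h0, mul_zero] at this
    exact zero_ne_one this
  have h2 : LocRes.hasseD Hu 1 t ≠ 0 := by
    intro h0
    have := Groth.Agent.Helper17.Hasse.hasseD_one_mul hK hg hHu hHt
    rw [mul_comm, h0] at this
    simp at this
  exact ord_mul P h1 h2

/-- comparing divisors of maps related by a scalar and a matrix: one inequality -/
theorem mapDiv_le_of_comb (hK : IsFunctionField k K) (P : Place k K) (φ ψ : Fin (n + 1) → K)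
    (hφ0 : ∀ i, φ i ≠ 0) (hψ0 : ∀ i, ψ i ≠ 0) (z : K) (B : Matrix (Fin (n + 1)) (Fin (n + 1)) k)
    (h : ∀ i, ψ i = z * ∑ j, B i j • φ j) :
    WithZero.exp (mapDiv k ψ P) ≤ P.1 z * WithZero.exp (mapDiv k φ P) := by
  obtain ⟨i, hi⟩ := Groth.Agent.Helper16.Emb.exists_val_eq_mapDiv hK ψ hψ0 P
  rw [← hi, h i, map_mul]
  refine mul_le_mul' le_rfl ?_
  apply Valuation.map_sum_le
  intro j _
  rw [Algebra.smul_def, map_mul]
  calc P.1 (algebraMap k K (B i j)) * P.1 (φ j) ≤ 1 * WithZero.exp (mapDiv k φ P) :=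
        mul_le_mul' (P.2.1 _) (Groth.Agent.Helper16.Emb.val_le_mapDiv hK φ hφ0 P j)
    _ = _ := one_mul _

end Groth.Agent.Helper16.Hasse
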