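import Groth.Agent.H16.SV
set_option autoImplicit false
set_option linter.unusedSimpArgs false

namespace Groth.Agent.Helper16.Hasse

open FunFld Module Groth.Agent.Helper17.FF

variable {k K : Type*} [Field k] [Field K] [Algebra k K] {n : ℕ}

theorem evalP_natCast (P : Place k K) (m : ℕ) :
    evalP P (m : K) = (m : IsLocalRing.ResidueField P.O) := by
  have : (m : K) = algebraMap k K (m : k) := by simp
  rw [this, evalP_algebraMap]
  simp

section fixed

variable [IsAlgClosed k] (hK : IsFunctionField k K) {τ : K →ₐ[k] K} {P : Place k K}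

include hK

theorem tau_val_le (hP : IsFixedPt τ P) {z : K} (hz : P.1 z ≤ 1) : P.1 (τ z) ≤ 1 := by
  obtain ⟨c, hc⟩ := Groth.Agent.Helper16.LLS.exists_const_sub_lt hK P hz
  have h1 := hP _ hc
  have e : τ z = τ (z - algebraMap k K c) + algebraMap k K c := by
    rw [map_sub, AlgHom.commutes]; ring
  rw [e]
  exact (P.1.map_add _ _).trans (max_le (le_of_lt h1) (P.2.1 c))

theorem evalP_tau (hP : IsFixedPt τ P) {z : K} (hz : P.1 z ≤ 1) :
    evalP P (τ z) = evalP P z := by
  obtain ⟨c, hc⟩ := Groth.Agent.Helper16.LLS.exists_const_sub_lt hK P hz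
  have h1 := hP _ hc
  apply evalP_eq_of_sub_lt P (tau_val_le hK hP hz) hz
  have e : τ z - z = τ (z - algebraMap k K c) - (z - algebraMap k K c) := by
    rw [map_sub, AlgHom.commutes]; ring
  rw [e]
  exact lt_of_le_of_lt (Valuation.map_sub _ _ _) (max_lt h1 hc)

theorem tau_val_pow_le (hP : IsFixedPt τ P) {t : K} (ht : P.1 t = WithZero.exp (-1 : ℤ)) {z : K}
    {m : ℕ} (hz : P.1 z ≤ WithZero.exp (-(m : ℤ))) : P.1 (τ z) ≤ WithZero.exp (-(m : ℤ)) := by
  have ht0 : t ≠ 0 := by
    rintro rfl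
    rw [map_zero] at ht
    exact WithZero.exp_ne_zero ht.symm
  have hu := val_div_pow P ht hz
  have hze : z = t ^ m * (z / t ^ m) := by field_simp
  have htt : P.1 (τ t) ≤ WithZero.exp (-1 : ℤ) := by
    have h1 : P.1 (τ t) < WithZero.exp (0 : ℤ) := by
      rw [WithZero.exp_zero]
      exact hP t (by rw [ht]; exact exp_neg_pos_lt_one (j := 1) (by norm_num))
    rw [val_lt_exp_iff_le] at h1
    simpa using h1
  rw [hze, map_mul, map_pow, map_mul, map_pow]
  calc P.1 (τ t) ^ m * P.1 (τ (z / t ^ m)) ≤ WithZero.exp (-1 : ℤ) ^ m * 1 :=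
        mul_le_mul' (pow_le_pow_left' htt m) (tau_val_le hK hP hu)
    _ = WithZero.exp (-(m : ℤ)) := by
        rw [mul_one, ← WithZero.exp_nsmul]; congr 1; simp

theorem fixed_of_strong (hS : IsStrongFixedPt τ P) : IsFixedPt τ P := by
  intro z hz
  refine lt_of_le_of_lt (hS z hz) ?_
  exact exp_neg_pos_lt_one (j := 2) (by norm_num)

theorem tau_val_pow_le_strong (hS : IsStrongFixedPt τ P) {t : K}
    (ht : P.1 t = WithZero.exp (-1 : ℤ)) {z : K} {m : ℕ}
    (hz : P.1 z ≤ WithZero.exp (-(m : ℤ))) : P.1 (τ z) ≤ WithZero.exp (-((2 * m : ℕ) : ℤ)) := by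
  have hP := fixed_of_strong hK hS
  have ht0 : t ≠ 0 := by
    rintro rfl
    rw [map_zero] at ht
    exact WithZero.exp_ne_zero ht.symm
  have hu := val_div_pow P ht hz
  have hze : z = t ^ m * (z / t ^ m) := by field_simp
  have htt : P.1 (τ t) ≤ WithZero.exp (-2 : ℤ) :=
    hS t (by rw [ht]; exact exp_neg_pos_lt_one (j := 1) (by norm_num))
  rw [hze, map_mul, map_pow, map_mul, map_pow]
  calc P.1 (τ t) ^ m * P.1 (τ (z / t ^ m)) ≤ WithZero.exp (-2 : ℤ) ^ m * 1 :=
        mul_le_mul' (pow_le_pow_left' htt m) (tau_val_le hK hP hu)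
    _ = WithZero.exp (-((2 * m : ℕ) : ℤ)) := by
        rw [mul_one, ← WithZero.exp_nsmul]; congr 1; simp; ring

end fixed

/-- the normalized entries of the Wronskian matrix at `P` and their residues -/
theorem hasse_entry [IsAlgClosed k] (hK : IsFunctionField k K) (P : Place k K) {t : K}
    (ht : P.1 t = WithZero.exp (-1 : ℤ)) (H : K →ₐ[k] PowerSeries K)
    (hH : LocRes.IsHasseFamily t H) {f : K} {m : ℕ} (hf : P.1 f ≤ WithZero.exp (-(m : ℤ)))
    (i : ℕ) :
    P.1 (LocRes.hasseD H i f * t ^ i / t ^ m) ≤ 1 ∧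
      evalP P (LocRes.hasseD H i f * t ^ i / t ^ m) =
        (m.choose i : IsLocalRing.ResidueField P.O) * evalP P (f / t ^ m) := by
  have ht0 : t ≠ 0 := t_ne_zero hK P ht H hH
  have ht1 : P.1 t ≤ 1 := val_t_le_one P ht
  have hu := val_div_pow P ht hf
  have hfe : f = t ^ m * (f / t ^ m) := by field_simp
  rcases le_or_gt i m with him | him
  · -- `i ≤ m`
    have hF2 := hasseD_leading hK P ht H hH hu him
    rw [← hfe] at hF2
    have e1 : LocRes.hasseD H i f * t ^ i / t ^ m - (m.choose i : K) * (f / t ^ m) =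
        (LocRes.hasseD H i f - (m.choose i : K) * t ^ (m - i) * (f / t ^ m)) / t ^ (m - i) := by
      have : t ^ m = t ^ (m - i) * t ^ i := by rw [← pow_add, Nat.sub_add_cancel him]
      rw [this]
      field_simp
    have hlt : P.1 (LocRes.hasseD H i f * t ^ i / t ^ m - (m.choose i : K) * (f / t ^ m)) < 1 := by
      rw [e1, val_div_pow_eq P ht]
      calc P.1 (LocRes.hasseD H i f - (m.choose i : K) * t ^ (m - i) * (f / t ^ m)) *
            WithZero.exp ((m - i : ℕ) : ℤ)
          ≤ WithZero.exp (-((m - i + 1 : ℕ) : ℤ)) * WithZero.exp ((m - i : ℕ) : ℤ) :=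
            mul_le_mul' hF2 le_rfl
        _ = WithZero.exp (-1 : ℤ) := by
            rw [← WithZero.exp_add]; congr 1; push_cast; ring
        _ < 1 := exp_neg_pos_lt_one (j := 1) (by norm_num)
    have hCu : P.1 ((m.choose i : K) * (f / t ^ m)) ≤ 1 := by
      rw [map_mul]
      calc P.1 (m.choose i : K) * P.1 (f / t ^ m) ≤ 1 * 1 := mul_le_mul' (val_natCast_le P _) hu
        _ = 1 := one_mul _
    have hle : P.1 (LocRes.hasseD H i f * t ^ i / t ^ m) ≤ 1 := by
      have : LocRes.hasseD H i f * t ^ i / t ^ m =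
          (LocRes.hasseD H i f * t ^ i / t ^ m - (m.choose i : K) * (f / t ^ m)) +
            (m.choose i : K) * (f / t ^ m) := by ring
      rw [this]
      exact (P.1.map_add _ _).trans (max_le (le_of_lt hlt) hCu)
    refine ⟨hle, ?_⟩
    rw [evalP_eq_of_sub_lt P hle hCu hlt, evalP_mul P (val_natCast_le P _) hu, evalP_natCast]
  · -- `m < i`
    have e1 : LocRes.hasseD H i f * t ^ i / t ^ m = LocRes.hasseD H i f * t ^ (i - m) := by
      have : t ^ i = t ^ (i - m) * t ^ m := by rw [← pow_add, Nat.sub_add_cancel (le_of_lt him)]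
      rw [this]
      field_simp
    have hfle : P.1 f ≤ 1 := hf.trans (exp_neg_nat_le_one m)
    have hD : P.1 (LocRes.hasseD H i f) ≤ 1 := hasse_mem_SP hK P ht H hH hfle i
    have hlt : P.1 (LocRes.hasseD H i f * t ^ i / t ^ m) < 1 := by
      rw [e1, map_mul, map_pow, ht, ← WithZero.exp_nsmul]
      calc P.1 (LocRes.hasseD H i f) * WithZero.exp ((i - m) • (-1 : ℤ))
          ≤ 1 * WithZero.exp ((i - m) • (-1 : ℤ)) := mul_le_mul' hD le_rfl
        _ = WithZero.exp (-((i - m : ℕ) : ℤ)) := by rw [one_mul]; congr 1; simp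
        _ < 1 := exp_neg_pos_lt_one (by omega)
    refine ⟨le_of_lt hlt, ?_⟩
    rw [(evalP_eq_zero_iff P (le_of_lt hlt)).mpr hlt, Nat.choose_eq_zero_of_lt him, Nat.cast_zero,
      zero_mul]

end Groth.Agent.Helper16.Hasse
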