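import Groth.Agent.H16.SV3
set_option autoImplicit false
set_option linter.unusedSimpArgs false

namespace Groth.Agent.Helper16.Hasse

open FunFld Module Groth.Agent.Helper17.FF

/-- rows `(C(j_i, c))_{c ≤ N}` of binomial coefficients with distinct `j_i ∈ [j₁, j₁ + N]` are
linearly independent over any field -/
theorem binom_indep {F : Type*} [Field F] {ι : Type*} (s : Finset ι) (j : ι → ℕ)
    (hj : Set.InjOn j s) (β : ι → F) (j₁ N : ℕ) (hb : ∀ i ∈ s, j₁ ≤ j i ∧ j i ≤ j₁ + N)
    (hz : ∀ c ≤ N, ∑ i ∈ s, β i * (((j i).choose c : ℕ) : F) = 0) : ∀ i ∈ s, β i = 0 := by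
  classical
  obtain ⟨Q, hQ⟩ : ∃ Q : Polynomial F, Q = ∑ i ∈ s, Polynomial.C (β i) *
      (1 + Polynomial.X) ^ (j i - j₁) := ⟨_, rfl⟩
  have hG : (1 + Polynomial.X) ^ j₁ * Q =
      ∑ i ∈ s, Polynomial.C (β i) * (1 + Polynomial.X) ^ (j i) := by
    rw [hQ, Finset.mul_sum]
    refine Finset.sum_congr rfl fun i hi => ?_
    rw [mul_left_comm, ← pow_add, Nat.add_sub_cancel' (hb i hi).1]
  have hcoeff : ∀ c ≤ N, ((1 + Polynomial.X) ^ j₁ * Q).coeff c = 0 := by
    intro c hc
    rw [hG, Polynomial.finsetSum_coeff]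
    simp only [Polynomial.coeff_C_mul, Polynomial.coeff_one_add_X_pow]
    exact hz c hc
  have hdvd : (Polynomial.X : Polynomial F) ^ (N + 1) ∣ (1 + Polynomial.X) ^ j₁ * Q := by
    rw [Polynomial.X_pow_dvd_iff]
    intro d hd
    exact hcoeff d (by omega)
  have hcop : IsCoprime ((Polynomial.X : Polynomial F) ^ (N + 1)) ((1 + Polynomial.X) ^ j₁) := by
    apply IsCoprime.pow
    exact ⟨-1, 1, by ring⟩
  have hdvdQ : (Polynomial.X : Polynomial F) ^ (N + 1) ∣ Q := hcop.dvd_of_dvd_mul_left hdvd
  have hdeg : Q.natDegree < N + 1 := by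
    rw [hQ]
    refine lt_of_le_of_lt (Polynomial.natDegree_sum_le_of_forall_le s _ (n := N) ?_) (by omega)
    intro i hi
    refine (Polynomial.natDegree_C_mul_le _ _).trans ?_
    have h1 : (1 + Polynomial.X : Polynomial F).natDegree ≤ 1 := by
      rw [add_comm]; exact (Polynomial.natDegree_X_add_C (1 : F)).le
    refine (Polynomial.natDegree_pow_le_of_le (j i - j₁) h1).trans ?_
    have := (hb i hi).2
    omega
  have hQ0 : Q = 0 := Polynomial.eq_zero_of_dvd_of_natDegree_lt hdvdQ (by
    rw [Polynomial.natDegree_X_pow]; exact hdeg)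
  have hcomp : ∑ i ∈ s, Polynomial.C (β i) * (Polynomial.X : Polynomial F) ^ (j i - j₁) = 0 := by
    have h1 := congrArg (fun p => Polynomial.comp p (Polynomial.X - 1)) hQ0
    simp only [hQ, Polynomial.zero_comp] at h1
    rw [Polynomial.sum_comp] at h1
    rw [← h1]
    refine Finset.sum_congr rfl fun i _ => ?_
    simp
  intro i hi
  have h2 := congrArg (fun p => Polynomial.coeff p (j i - j₁)) hcomp
  simp only [Polynomial.finsetSum_coeff, Polynomial.coeff_C_mul, Polynomial.coeff_X_pow,
    Polynomial.coeff_zero] at h2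
  rw [Finset.sum_eq_single i] at h2
  · simpa using h2
  · intro i' hi' hne
    have : j i - j₁ ≠ j i' - j₁ := by
      intro h
      apply hne
      apply hj hi' hi
      have h1 := (hb i hi).1
      have h2 := (hb i' hi').1
      omega
    rw [if_neg this, mul_zero]
  · intro h; exact absurd hi h

variable {k K : Type*} [Field k] [Field K] [Algebra k K] {n : ℕ}

/-- a matrix with entries in the valuation ring whose residue rows are independent has
independent rows -/
theorem rows_indep_of_residue (P : Place k K) {ι κ : Type*} [Fintype ι]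
    (N : Matrix ι κ K) (hN : ∀ i c, P.1 (N i c) ≤ 1)
    (hres : LinearIndependent (IsLocalRing.ResidueField P.O)
      (fun i : ι => fun c : κ => evalP P (N i c))) :
    LinearIndependent K (fun i : ι => fun c : κ => N i c) := by
  classical
  rw [Fintype.linearIndependent_iff]
  intro a ha
  by_contra hne
  push Not at hne
  obtain ⟨i₁, hi₁⟩ := hne
  obtain ⟨i₀, -, hmax⟩ := Finset.exists_max_image Finset.univ (fun i => P.1 (a i))
    ⟨i₁, Finset.mem_univ _⟩
  have ha0 : a i₀ ≠ 0 := by
    intro h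
    have h1 := hmax i₁ (Finset.mem_univ _)
    rw [h, map_zero] at h1
    exact hi₁ ((map_eq_zero P.1).mp (le_antisymm h1 zero_le))
  have hpos : 0 < P.1 (a i₀) := zero_lt_iff.mpr ((map_ne_zero P.1).mpr ha0)
  have hb : ∀ i, P.1 (a i / a i₀) ≤ 1 := by
    intro i
    rw [map_div₀, div_le_one₀ hpos]
    exact hmax i (Finset.mem_univ _)
  have hsum : ∀ c, ∑ i, (a i / a i₀) * N i c = 0 := by
    intro c
    have h1 := congrFun ha c
    simp only [Finset.sum_apply, Pi.smul_apply, smul_eq_mul, Pi.zero_apply] at h1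
    have h2 : ∑ i, (a i / a i₀) * N i c = (∑ i, a i * N i c) / a i₀ := by
      rw [Finset.sum_div]
      refine Finset.sum_congr rfl fun i _ => ?_
      ring
    rw [h2, h1, zero_div]
  have hres2 := Fintype.linearIndependent_iff.mp hres (fun i => evalP P (a i / a i₀)) (by
    funext c
    simp only [Finset.sum_apply, Pi.smul_apply, smul_eq_mul, Pi.zero_apply]
    have h1 := congrArg (evalP P) (hsum c)
    rw [evalP_sum P _ _ (fun i _ => by
      rw [map_mul]
      calc P.1 (a i / a i₀) * P.1 (N i c) ≤ 1 * 1 := mul_le_mul' (hb i) (hN i c)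
        _ = 1 := one_mul _), evalP_zero] at h1
    rw [← h1]
    refine Finset.sum_congr rfl fun i _ => ?_
    rw [evalP_mul P (hb i) (hN i c)]) i₀
  rw [div_self ha0, evalP_one] at hres2
  exact one_ne_zero hres2

end Groth.Agent.Helper16.Hasse
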