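import Groth.Agent.H16.SV5
import Groth.Agent.Lib.Helper17.Wr
set_option autoImplicit false
set_option linter.unusedSimpArgs false

namespace Groth.Agent.Helper16.Hasse

open FunFld Module Groth.Agent.Helper17.FF

/-- the derivative of a Laurent series of valuation `exp (-1)` is a unit -/
theorem val_D_of_uniformizer {F : Type*} [Field F] (f : LaurentSeries F)
    (hf : Valued.v f = WithZero.exp (-1 : ℤ)) : Valued.v (LocRes.D F f) = 1 := by
  have h1 : ∀ n : ℤ, n < 1 → f.coeff n = 0 :=
    (LaurentSeries.valuation_le_iff_coeff_lt_eq_zero F (D := 1)).mp (le_of_eq hf)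
  have h2 : f.coeff 1 ≠ 0 := by
    intro h0
    have h3 : Valued.v f ≤ WithZero.exp (-(2 : ℤ)) := by
      rw [LaurentSeries.valuation_le_iff_coeff_lt_eq_zero F]
      intro n hn
      rcases lt_or_eq_of_le (show n ≤ 1 by omega) with h | h
      · exact h1 n h
      · rw [h]; exact h0
    rw [hf, WithZero.exp_le_exp] at h3
    omega
  have h4 : Valued.v (LocRes.D F f) ≤ WithZero.exp (-(0 : ℤ)) := by
    rw [LaurentSeries.valuation_le_iff_coeff_lt_eq_zero F]
    intro n hn
    rw [LocRes.D_coeff, h1 (n + 1) (by omega), smul_zero]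
  have h5 : ¬ Valued.v (LocRes.D F f) ≤ WithZero.exp (-(1 : ℤ)) := by
    rw [LaurentSeries.valuation_le_iff_coeff_lt_eq_zero F]
    intro h
    have h6 := h 0 (by norm_num)
    rw [LocRes.D_coeff] at h6
    apply h2
    simpa using h6
  have hne : Valued.v (LocRes.D F f) ≠ 0 := by
    intro h0
    apply h5
    rw [h0]
    exact zero_le
  obtain ⟨a, ha⟩ : ∃ a : ℤ, Valued.v (LocRes.D F f) = WithZero.exp a :=
    ⟨_, (WithZero.exp_log hne).symm⟩
  rw [ha, WithZero.exp_le_exp] at h4 h5
  rw [ha, ← WithZero.exp_zero]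
  congr 1
  omega

variable {k K : Type*} [Field k] [Field K] [Algebra k K] {n : ℕ}

/-- the divisor of `dt` has coefficient `0` at a place where `t` is a local parameter -/
theorem divDiff_param (Φ : Place k K → (K →ₐ[k] LaurentSeries k)) (P : Place k K)
    (hΦ : LocRes.IsExpansionAt P.1 (Φ P)) {t : K} (ht : P.1 t = WithZero.exp (-1 : ℤ)) :
    divDiff Φ 1 t P = 0 := by
  unfold divDiff
  split_ifs with h
  · show LocRes.ordDiff (Φ P) 1 t = 0
    unfold LocRes.ordDiff LocRes.vDiff
    rw [map_one, one_mul, val_D_of_uniformizer _ (by rw [hΦ.1, ht])]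
    simp
  · rfl

/-- the binomial matrix of a strictly increasing sequence against itself is unitriangular -/
theorem det_binomMat_self (R : Type*) [CommRing R] (J : Fin n → ℕ) (hJ : StrictMono J) :
    (binomMat R J J).det = 1 := by
  rw [Matrix.det_of_lowerTriangular]
  · apply Finset.prod_eq_one
    intro i _
    unfold binomMat
    rw [Matrix.of_apply, Nat.choose_self, Nat.cast_one]
  · intro r s hrs
    unfold binomMat
    have hlt : r < s := OrderDual.toDual_lt_toDual.mp hrs
    rw [Matrix.of_apply, Nat.choose_eq_zero_of_lt (hJ hlt), Nat.cast_zero]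

theorem wrMat_col (τ : K →ₐ[k] K) (H : K →ₐ[k] PowerSeries K) (φ : Fin (n + 1) → K)
    (J : Fin n → ℕ) (m : Fin (n + 1)) :
    (wrMat τ H φ J).col m = Groth.Agent.Helper17.Wr.jcol (hcol τ H φ) J m := by
  refine Fin.cases ?_ (fun l => ?_) m
  · rfl
  · rfl

/-- if some generalized Wronskian is nonzero, so is the one at the order sequence -/
theorem det_wrMat_ne_zero (τ : K →ₐ[k] K) (H : K →ₐ[k] PowerSeries K) (φ : Fin (n + 1) → K)
    (J : Fin n → ℕ) (hJ : IsOrders K (hcol τ H φ) J) (J' : Fin n → ℕ)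
    (hdet : (wrMat τ H φ J').det ≠ 0) : (wrMat τ H φ J).det ≠ 0 := by
  classical
  have hu : IsUnit (wrMat τ H φ J') :=
    (Matrix.isUnit_iff_isUnit_det _).mpr (isUnit_iff_ne_zero.mpr hdet)
  have hcols : LinearIndependent K (wrMat τ H φ J').col :=
    Matrix.linearIndependent_cols_of_isUnit hu
  have htop : Submodule.span K (Set.range (wrMat τ H φ J').col) = ⊤ :=
    hcols.span_eq_top_of_card_eq_finrank' (by simp)
  obtain ⟨N, hN⟩ : ∃ N : ℕ, ∀ m, Groth.Agent.Helper17.Wr.jidx J' m < N :=
    ⟨(Finset.univ.sup (Groth.Agent.Helper17.Wr.jidx J')) + 1, fun m =>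
      Nat.lt_succ_of_le (Finset.le_sup (f := Groth.Agent.Helper17.Wr.jidx J')
        (Finset.mem_univ m))⟩
  have h1 : Submodule.span K (Set.range (wrMat τ H φ J').col) ≤
      Submodule.span K (hcol τ H φ '' Set.Iio N) := by
    apply Submodule.span_mono
    rintro _ ⟨m, rfl⟩
    rw [wrMat_col, Groth.Agent.Helper17.Wr.jcol_eq]
    exact ⟨_, hN m, rfl⟩
  have h2 := Groth.Agent.Helper17.Wr.span_le_of_isOrders (hcol τ H φ) J hJ N
  have h3 : Submodule.span K (Groth.Agent.Helper17.Wr.jcol (hcol τ H φ) J ''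
      {m | Groth.Agent.Helper17.Wr.jidx J m < N}) ≤
      Submodule.span K (Set.range (wrMat τ H φ J).col) := by
    apply Submodule.span_mono
    rintro _ ⟨m, -, rfl⟩
    exact ⟨m, wrMat_col τ H φ J m⟩
  have h4 : ⊤ ≤ Submodule.span K (Set.range (wrMat τ H φ J).col) := by
    rw [← htop]
    exact h1.trans (h2.trans h3)
  have hli : LinearIndependent K (wrMat τ H φ J).col :=
    linearIndependent_of_top_le_span_of_card_eq_finrank h4 (by simp)
  have hu2 : IsUnit (wrMat τ H φ J) := Matrix.linearIndependent_cols_iff_isUnit.mp hli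
  exact isUnit_iff_ne_zero.mp ((Matrix.isUnit_iff_isUnit_det _).mp hu2)

end Groth.Agent.Helper16.Hasse
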