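import Groth.Agent.H16.SV6
import Groth.Agent.Lib.Helper17.Hasse
set_option autoImplicit false
set_option linter.unusedSimpArgs false

namespace Groth.Agent.Helper16.Hasse

open FunFld Module Groth.Agent.Helper17.FF

variable {k K : Type*} [Field k] [Field K] [Algebra k K] {n : ℕ}

/-- a Hasse family for `s` gives one for every `t` with `D_s t ≠ 0` -/
theorem exists_hasse {s : K} (Hs : K →ₐ[k] PowerSeries K) (hHs : LocRes.IsHasseFamily s Hs)
    (t : K) (hD : LocRes.hasseD Hs 1 t ≠ 0) :
    ∃ Ht : K →ₐ[k] PowerSeries K, LocRes.IsHasseFamily t Ht := by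
  obtain ⟨b, hb⟩ : ∃ b : PowerSeries K, b = Hs t - PowerSeries.C t := ⟨_, rfl⟩
  have hb0 : PowerSeries.constantCoeff b = 0 := by
    rw [hb, map_sub, hHs.2, PowerSeries.constantCoeff_C, sub_self]
  have hb1 : PowerSeries.coeff 1 b = LocRes.hasseD Hs 1 t := by
    rw [hb, map_sub, PowerSeries.coeff_C, if_neg one_ne_zero, sub_zero]
    rfl
  haveI : Invertible (PowerSeries.coeff 1 b) := invertibleOfNonzero (by rw [hb1]; exact hD)
  have hc0 : PowerSeries.constantCoeff (PowerSeries.substInv b) = 0 :=
    PowerSeries.constantCoeff_substInv b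
  have hs : PowerSeries.HasSubst (PowerSeries.substInv b) :=
    PowerSeries.HasSubst.of_constantCoeff_zero' hc0
  let G : K →ₐ[k] PowerSeries K :=
    ((PowerSeries.substAlgHom hs : PowerSeries K →ₐ[K] PowerSeries K).restrictScalars k).comp Hs
  have hG : ∀ z, G z = PowerSeries.subst (PowerSeries.substInv b) (Hs z) := by
    intro z
    show (PowerSeries.substAlgHom hs) (Hs z) = _
    rw [PowerSeries.coe_substAlgHom]
  refine ⟨G, ?_, ?_⟩
  · have e : Hs t = PowerSeries.C t + b := by rw [hb]; ring
    rw [hG, e, PowerSeries.subst_add hs, PowerSeries.subst_C]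
    congr 1
    exact PowerSeries.subst_substInv_right b hb0
  · intro y
    rw [hG, Groth.Agent.Helper17.Hasse.constantCoeff_subst_of_constantCoeff_eq_zero hc0, hHs.2]

end Groth.Agent.Helper16.Hasse
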