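import Groth.Agent.H16.SV8
import Groth.Agent.H21.Orders2
set_option autoImplicit false
set_option linter.unusedSimpArgs false

namespace Groth.Agent.Helper16.Hasse

open FunFld Module Groth.Agent.Helper17.FF

section abstract

variable {K V : Type*} [Field K] [AddCommGroup V] [Module K V]

theorem exists_bound_of_mem_span (c : ℕ → V) {v : V} (hv : v ∈ Submodule.span K (Set.range c)) :
    ∃ N, v ∈ Submodule.span K (c '' Set.Iio N) := by
  induction hv using Submodule.span_induction with
  | mem x hx =>
    obtain ⟨j, rfl⟩ := hx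
    exact ⟨j + 1, Submodule.subset_span ⟨j, Nat.lt_succ_self j, rfl⟩⟩
  | zero => exact ⟨0, Submodule.zero_mem _⟩
  | add x y _ _ hx hy =>
    obtain ⟨N₁, h₁⟩ := hx
    obtain ⟨N₂, h₂⟩ := hy
    exact ⟨max N₁ N₂, Submodule.add_mem _
      (Groth.Agent.H21.Orders.span_Iio_mono c (le_max_left _ _) h₁)
      (Groth.Agent.H21.Orders.span_Iio_mono c (le_max_right _ _) h₂)⟩
  | smul a x _ hx =>
    obtain ⟨N, h⟩ := hx
    exact ⟨N, Submodule.smul_mem _ a h⟩

theorem exists_bound_top [FiniteDimensional K V] (c : ℕ → V)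
    (hspan : Submodule.span K (Set.range c) = ⊤) :
    ∃ N, Submodule.span K (c '' Set.Iio N) = ⊤ := by
  classical
  obtain ⟨s, hs⟩ := (Module.Finite.fg_top : (⊤ : Submodule K V).FG)
  have hex : ∀ v ∈ s, ∃ N, v ∈ Submodule.span K (c '' Set.Iio N) := fun v _ =>
    exists_bound_of_mem_span c (by rw [hspan]; trivial)
  choose! Nf hNf using hex
  refine ⟨s.sup Nf, ?_⟩
  rw [eq_top_iff, ← hs, Submodule.span_le]
  intro v hv
  exact Groth.Agent.H21.Orders.span_Iio_mono c (Finset.le_sup (f := Nf) hv) (hNf v hv)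

/-- a spanning column sequence with nonzero leading column has an order sequence -/
theorem exists_isOrders [FiniteDimensional K V] (c : ℕ → V) {n : ℕ}
    (hdim : finrank K V = n + 1) (hc0 : c 0 ≠ 0)
    (hspan : Submodule.span K (Set.range c) = ⊤) : ∃ J : Fin n → ℕ, IsOrders K c J := by
  classical
  obtain ⟨N₀, hN₀⟩ := exists_bound_top c hspan
  have hcard : ((Finset.range N₀).filter (fun j => IsJump K c j)).card = n + 1 := by
    apply le_antisymm
    · have := Groth.Agent.H21.Orders.card_jumps_le_finrank_span (R := K) c N₀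
      rw [hN₀, finrank_top, hdim] at this
      exact this
    · have := Groth.Agent.H21.Orders.finrank_span_le_card_jumps (R := K) c N₀
      rw [hN₀, finrank_top, hdim] at this
      exact this
  have hlate : ∀ j, IsJump K c j → j < N₀ := by
    intro j hj
    by_contra hge
    push Not at hge
    apply hj
    exact Groth.Agent.H21.Orders.span_Iio_mono c hge (by rw [hN₀]; trivial)
  have hj0 : IsJump K c 0 := by
    unfold IsJump
    simp [hc0]
  obtain ⟨T, hT⟩ : ∃ T : Finset ℕ, T = (Finset.range N₀).filter (fun j => IsJump K c (j + 1)) :=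
    ⟨_, rfl⟩
  have hTmem : ∀ j, j ∈ T ↔ IsJump K c (j + 1) := by
    intro j
    rw [hT, Finset.mem_filter, Finset.mem_range]
    constructor
    · exact fun h => h.2
    · intro h
      have := hlate _ h
      exact ⟨by omega, h⟩
  have himage : T.image (· + 1) = ((Finset.range N₀).filter (fun j => IsJump K c j)).erase 0 := by
    ext j
    rw [Finset.mem_image, Finset.mem_erase, Finset.mem_filter, Finset.mem_range]
    constructor
    · rintro ⟨j', hj', rfl⟩
      have h := (hTmem j').mp hj'
      exact ⟨Nat.succ_ne_zero _, hlate _ h, h⟩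
    · rintro ⟨hne, -, hjump⟩
      obtain ⟨j', rfl⟩ : ∃ j', j = j' + 1 := ⟨j - 1, by omega⟩
      exact ⟨j', (hTmem j').mpr hjump, rfl⟩
  have hTcard : T.card = n := by
    have h1 : (T.image (· + 1)).card = T.card :=
      Finset.card_image_of_injective _ (fun a b h => by simpa using h)
    have h2 : (((Finset.range N₀).filter (fun j => IsJump K c j)).erase 0).card = n := by
      rw [Finset.card_erase_of_mem, hcard]
      · rfl
      · rw [Finset.mem_filter, Finset.mem_range]
        exact ⟨hlate 0 hj0, hj0⟩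
    rw [← h1, himage, h2]
  refine ⟨T.orderEmbOfFin hTcard, (T.orderEmbOfFin hTcard).strictMono, ?_⟩
  intro j
  rw [← hTmem j]
  have := Finset.range_orderEmbOfFin T hTcard
  rw [← Finset.mem_coe, ← this]

end abstract

variable {k K : Type*} [Field k] [Field K] [Algebra k K] {n : ℕ}

/-- if the columns span, the Wronskian at the order sequence is nonzero -/
theorem det_wrMat_ne_zero_of_span (τ : K →ₐ[k] K) (H : K →ₐ[k] PowerSeries K)
    (φ : Fin (n + 1) → K) (J : Fin n → ℕ) (hJ : IsOrders K (hcol τ H φ) J)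
    (hspan : Submodule.span K (Set.range (hcol τ H φ)) = ⊤) : (wrMat τ H φ J).det ≠ 0 := by
  classical
  have h4 : ⊤ ≤ Submodule.span K (Set.range (wrMat τ H φ J).col) := by
    rw [← hspan, Submodule.span_le]
    rintro _ ⟨j, rfl⟩
    have h1 : hcol τ H φ j ∈ Submodule.span K (hcol τ H φ '' Set.Iio (j + 1)) :=
      Submodule.subset_span ⟨j, Nat.lt_succ_self j, rfl⟩
    have h2 := Groth.Agent.Helper17.Wr.span_le_of_isOrders (hcol τ H φ) J hJ (j + 1) h1
    refine Submodule.span_mono ?_ h2
    rintro _ ⟨m, -, rfl⟩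
    exact ⟨m, wrMat_col τ H φ J m⟩
  have hli : LinearIndependent K (wrMat τ H φ J).col :=
    linearIndependent_of_top_le_span_of_card_eq_finrank h4 (by simp)
  have hu2 : IsUnit (wrMat τ H φ J) := Matrix.linearIndependent_cols_iff_isUnit.mp hli
  exact isUnit_iff_ne_zero.mp ((Matrix.isUnit_iff_isUnit_det _).mp hu2)

end Groth.Agent.Helper16.Hasse
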