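import Mathlib
import Groth.Prelude.Def_W4c3cyccovratcurvTree

/-! S16206: marked trees with the same number of vertices are connected by conic deformations.
Slide move: all neighbours (and marks) of `w` other than `c` are moved to the neighbour `c`. -/

namespace Groth.Agent.H16.TR

open W4c3cyccovratcurv

variable {n : ℕ}

/-- The relation generating the slid graph. -/
def slideRel (G : SimpleGraph (Fin n)) (c w : Fin n) (a b : Fin n) : Prop :=
  (G.Adj a b ∧ a ≠ w ∧ b ≠ w) ∨ (a = c ∧ (b = w ∨ G.Adj w b))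

/-- The slid graph: neighbours of `w` are moved to `c`, and `w` becomes a leaf at `c`. -/
def slide (G : SimpleGraph (Fin n)) (c w : Fin n) : SimpleGraph (Fin n) :=
  SimpleGraph.fromRel (slideRel G c w)

theorem slide_adj (G : SimpleGraph (Fin n)) (c w a b : Fin n) :
    (slide G c w).Adj a b ↔ a ≠ b ∧ (slideRel G c w a b ∨ slideRel G c w b a) := Iff.rfl

theorem slide_adj_cw (G : SimpleGraph (Fin n)) {c w : Fin n} (hcw : c ≠ w) :
    (slide G c w).Adj c w := by
  rw [slide_adj]
  exact ⟨hcw, Or.inl (Or.inr ⟨rfl, Or.inl rfl⟩)⟩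

theorem slide_adj_c_of_adj_w (G : SimpleGraph (Fin n)) {c w b : Fin n} (h : G.Adj w b)
    (hb : b ≠ c) : (slide G c w).Adj c b := by
  rw [slide_adj]
  exact ⟨hb.symm, Or.inl (Or.inr ⟨rfl, Or.inr h⟩)⟩

theorem slide_adj_of_adj (G : SimpleGraph (Fin n)) {c w a b : Fin n} (h : G.Adj a b)
    (ha : a ≠ w) (hb : b ≠ w) : (slide G c w).Adj a b := by
  rw [slide_adj]
  exact ⟨h.ne, Or.inl (Or.inl ⟨h, ha, hb⟩)⟩

/-- For `a, b ≠ w`. -/
theorem slide_adj_iff (G : SimpleGraph (Fin n)) {c w a b : Fin n} (hcw : c ≠ w) (ha : a ≠ w)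
    (hb : b ≠ w) :
    (slide G c w).Adj a b ↔
      a ≠ b ∧ (G.Adj a b ∨ (a = c ∧ G.Adj w b) ∨ (b = c ∧ G.Adj w a)) := by
  rw [slide_adj]
  unfold slideRel
  have hs : G.Adj b a ↔ G.Adj a b := G.adj_comm b a
  constructor
  · rintro ⟨hne, h⟩
    refine ⟨hne, ?_⟩
    rcases h with (⟨h, _, _⟩ | ⟨h1, h2 | h2⟩) | (⟨h, _, _⟩ | ⟨h1, h2 | h2⟩)
    · exact Or.inl h
    · exact absurd h2 hb
    · exact Or.inr (Or.inl ⟨h1, h2⟩)
    · exact Or.inl (hs.mp h)
    · exact absurd h2 ha
    · exact Or.inr (Or.inr ⟨h1, h2⟩)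
  · rintro ⟨hne, h⟩
    refine ⟨hne, ?_⟩
    rcases h with h | ⟨h1, h2⟩ | ⟨h1, h2⟩
    · exact Or.inl (Or.inl ⟨h, ha, hb⟩)
    · exact Or.inl (Or.inr ⟨h1, Or.inr h2⟩)
    · exact Or.inr (Or.inr ⟨h1, Or.inr h2⟩)

theorem slide_adj_w_iff (G : SimpleGraph (Fin n)) {c w b : Fin n} (hcw : c ≠ w) :
    (slide G c w).Adj w b ↔ b = c := by
  rw [slide_adj]
  unfold slideRel
  constructor
  · rintro ⟨hne, h⟩
    rcases h with (⟨_, h, _⟩ | ⟨h1, _⟩) | (⟨_, _, h⟩ | ⟨h1, _⟩)
    · exact absurd rfl h
    · exact absurd h1.symm hcw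
    · exact absurd rfl h
    · exact h1
  · rintro rfl
    exact ⟨hcw.symm, Or.inr (Or.inr ⟨rfl, Or.inl rfl⟩)⟩

theorem reachable_of_adj_reachable {V : Type*} {G G' : SimpleGraph V}
    (h : ∀ a b, G.Adj a b → G'.Reachable a b) {x y : V} (hr : G.Reachable x y) :
    G'.Reachable x y := by
  obtain ⟨p⟩ := hr
  induction p with
  | nil => exact SimpleGraph.Reachable.refl _
  | cons hab _ ih => exact (h _ _ hab).trans ih

theorem slide_connected (G : SimpleGraph (Fin n)) (hG : G.Connected) {c w : Fin n}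
    (hcw : G.Adj c w) : (slide G c w).Connected := by
  have hne : c ≠ w := hcw.ne
  have key : ∀ a b, G.Adj a b → (slide G c w).Reachable a b := by
    intro a b hab
    by_cases ha : a = w
    · by_cases hb : b = c
      · rw [ha, hb]
        exact (slide_adj_cw G hne).symm.reachable
      · rw [ha] at hab ⊢
        exact (slide_adj_cw G hne).symm.reachable.trans
          (slide_adj_c_of_adj_w G hab hb).reachable
    · by_cases hb : b = w
      · by_cases hac : a = c
        · rw [hac, hb]
          exact (slide_adj_cw G hne).reachable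
        · rw [hb] at hab ⊢
          exact (slide_adj_c_of_adj_w G hab.symm hac).symm.reachable.trans
            (slide_adj_cw G hne).reachable
      · exact (slide_adj_of_adj G hab ha hb).reachable
  haveI : Nonempty (Fin n) := hG.nonempty
  exact ⟨fun x y => reachable_of_adj_reachable key (hG.preconnected x y)⟩

open Classical in
theorem slide_card_le (G : SimpleGraph (Fin n)) {c w : Fin n} (hcw : c ≠ w) (hG : G.Adj c w) :
    Nat.card (slide G c w).edgeSet ≤ Nat.card G.edgeSet := by
  rw [Nat.card_eq_fintype_card, Nat.card_eq_fintype_card, ← SimpleGraph.edgeFinset_card,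
    ← SimpleGraph.edgeFinset_card]
  let σ : Fin n → Fin n := fun v => if v = w then c else v
  let f : Sym2 (Fin n) → Sym2 (Fin n) := fun e => if e = s(c, w) then e else Sym2.map σ e
  have hsub : (slide G c w).edgeFinset ⊆ G.edgeFinset.image f := by
    have hrel : ∀ a b, a ≠ b → slideRel G c w a b → s(a, b) ∈ G.edgeFinset.image f := by
      intro a b hab h
      rw [Finset.mem_image]
      rcases h with ⟨h, ha, hb⟩ | ⟨h1, h2 | h2⟩
      · refine ⟨s(a, b), by simpa using h, ?_⟩
        have : s(a, b) ≠ s(c, w) := by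
          intro he
          rw [Sym2.eq_iff] at he
          rcases he with ⟨_, h⟩ | ⟨h, _⟩
          · exact hb h
          · exact ha h
        simp only [f, if_neg this, Sym2.map_mk, σ, if_neg ha, if_neg hb]
      · refine ⟨s(c, w), by simpa using hG, ?_⟩
        simp only [f, if_true, h1, h2]
      · have hbc : b ≠ c := fun h => hab (h1.trans h.symm)
        have hbw : b ≠ w := fun h => by rw [h] at h2; exact G.loopless.irrefl _ h2
        refine ⟨s(w, b), by simpa using h2, ?_⟩
        have : s(w, b) ≠ s(c, w) := by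
          intro he
          rw [Sym2.eq_iff] at he
          rcases he with ⟨h, _⟩ | ⟨_, h⟩
          · exact hcw h.symm
          · exact hbc h
        simp only [f, if_neg this, Sym2.map_mk, σ, if_true, if_neg hbw, h1]
    intro e he
    induction e using Sym2.ind with
    | h a b =>
      rw [SimpleGraph.mem_edgeFinset, SimpleGraph.mem_edgeSet, slide_adj] at he
      obtain ⟨hab, h | h⟩ := he
      · exact hrel a b hab h
      · rw [Sym2.eq_swap]
        exact hrel b a hab.symm h
  exact (Finset.card_le_card hsub).trans Finset.card_image_le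

theorem slide_isTree (G : SimpleGraph (Fin n)) (hG : G.IsTree) {c w : Fin n}
    (hcw : G.Adj c w) : (slide G c w).IsTree := by
  rw [SimpleGraph.isTree_iff_connected_and_card] at hG ⊢
  have hc := slide_connected G hG.1 hcw
  refine ⟨hc, ?_⟩
  have h1 := hc.card_vert_le_card_edgeSet_add_one
  have h2 := slide_card_le G hcw.ne hcw
  omega

theorem contract_slide (G : SimpleGraph (Fin n)) {c w : Fin n} (hcw : c ≠ w) :
    contract (slide G c w) c w = contract G c w := by
  ext ⟨a, ha⟩ ⟨b, hb⟩
  simp only [contract, SimpleGraph.fromRel_adj]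
  rw [slide_adj_iff G hcw ha hb, slide_adj_iff G hcw hb ha, slide_adj_w_iff G hcw,
    slide_adj_w_iff G hcw]
  have hs : G.Adj b a ↔ G.Adj a b := G.adj_comm b a
  have hne : (⟨a, ha⟩ : {v : Fin n // v ≠ w}) ≠ ⟨b, hb⟩ ↔ a ≠ b := by
    simp [Subtype.ext_iff]
  rw [hne, hs]
  have hab : a = c → b = c → a = b := fun h1 h2 => h1.trans h2.symm
  have hba : b ≠ a ↔ a ≠ b := ne_comm
  rw [hba]
  tauto

/-- Marks after the slide. -/
def slideMark {k : ℕ} (mk : Fin k → Fin n) (c w : Fin n) (i : Fin k) : Fin n :=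
  if mk i = w then c else mk i

theorem conicAdj_slide {k : ℕ} (G : SimpleGraph (Fin n)) (hG : G.IsTree) (mk : Fin k → Fin n)
    {c w : Fin n} (hcw : G.Adj c w) :
    ConicAdj (⟨n, G, hG, mk⟩ : MarkedTree k)
      ⟨n, slide G c w, slide_isTree G hG hcw, slideMark mk c w⟩ := by
  have hne : c ≠ w := hcw.ne
  refine ⟨c, w, c, w, hcw, slide_adj_cw G hne,
    { toEquiv := Equiv.refl _
      map_rel_iff' := ?_ }, ?_, ?_⟩
  · intro a b
    simp only [Equiv.refl_apply]
    show (contract (slide G c w) c w).Adj a b ↔ _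
    rw [contract_slide G hne]
  · rfl
  · intro i
    show contractMark mk c w hne i = contractMark (slideMark mk c w) c w hne i
    unfold contractMark slideMark
    by_cases h : mk i = w
    · simp [h, hne]
    · simp [h]

end Groth.Agent.H16.TR
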