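import Groth.Agent.H16.TR1

/-! S16206, part 2: reduction to the star and conclusion. -/

namespace Groth.Agent.H16.TR

open W4c3cyccovratcurv

variable {m k : ℕ}

open Classical in
/-- The measure: vertices not adjacent to the centre `0` plus marks not at the centre. -/
noncomputable def mu (G : SimpleGraph (Fin (m + 1))) (mk : Fin k → Fin (m + 1)) : ℕ :=
  (Finset.univ.filter (fun v : Fin (m + 1) => v ≠ 0 ∧ ¬ G.Adj 0 v)).card +
    (Finset.univ.filter (fun i : Fin k => mk i ≠ 0)).card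

/-- Star with centre `0`, all marks at the centre. -/
def IsStar (G : SimpleGraph (Fin (m + 1))) (mk : Fin k → Fin (m + 1)) : Prop :=
  (∀ v, v ≠ 0 → G.Adj 0 v) ∧ ∀ i, mk i = 0

theorem exists_far (G : SimpleGraph (Fin (m + 1))) :
    ∀ {a v : Fin (m + 1)} (_ : G.Walk a v), (a = 0 ∨ G.Adj 0 a) → v ≠ 0 → ¬ G.Adj 0 v →
      ∃ w x, G.Adj 0 w ∧ G.Adj w x ∧ x ≠ 0 ∧ ¬ G.Adj 0 x := by
  intro a v p
  induction p with
  | nil =>
    intro h h1 h2
    rcases h with h | h
    · exact absurd h h1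
    · exact absurd h h2
  | @cons a b v hab q ih =>
    intro h h1 h2
    by_cases hb : b = 0 ∨ G.Adj 0 b
    · exact ih hb h1 h2
    · push Not at hb
      rcases h with h | h
      · rw [h] at hab
        exact absurd hab hb.2
      · exact ⟨a, b, h, hab, hb.1, hb.2⟩

open Classical in
theorem filter_adj_subset (G : SimpleGraph (Fin (m + 1))) {w : Fin (m + 1)} (hw : G.Adj 0 w) :
    (Finset.univ.filter (fun v : Fin (m + 1) => v ≠ 0 ∧ ¬ (slide G 0 w).Adj 0 v)) ⊆
      (Finset.univ.filter (fun v : Fin (m + 1) => v ≠ 0 ∧ ¬ G.Adj 0 v)) := by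
  intro v hv
  rw [Finset.mem_filter] at hv ⊢
  refine ⟨hv.1, hv.2.1, fun h => hv.2.2 ?_⟩
  by_cases hvw : v = w
  · rw [hvw]; exact slide_adj_cw G hw.ne
  · exact slide_adj_of_adj G h hw.ne hvw

open Classical in
theorem filter_mark_subset (mk : Fin k → Fin (m + 1)) (w : Fin (m + 1)) :
    (Finset.univ.filter (fun i : Fin k => slideMark mk 0 w i ≠ 0)) ⊆
      (Finset.univ.filter (fun i : Fin k => mk i ≠ 0)) := by
  intro i hi
  rw [Finset.mem_filter] at hi ⊢
  refine ⟨hi.1, fun h => hi.2 ?_⟩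
  unfold slideMark
  rw [h]
  split_ifs <;> rfl

open Classical in
theorem exists_step (G : SimpleGraph (Fin (m + 1))) (hG : G.IsTree) (mk : Fin k → Fin (m + 1))
    (hns : ¬ IsStar G mk) :
    ∃ w, G.Adj 0 w ∧ mu (slide G 0 w) (slideMark mk 0 w) < mu G mk := by
  by_cases hA : ∀ v, v ≠ 0 → G.Adj 0 v
  · -- some mark is not at the centre
    have : ∃ i, mk i ≠ 0 := by
      by_contra hc
      push Not at hc
      exact hns ⟨hA, hc⟩
    obtain ⟨i, hi⟩ := this
    refine ⟨mk i, hA _ hi, ?_⟩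
    unfold mu
    have h1 := Finset.card_le_card (filter_adj_subset G (hA _ hi))
    have h2 : (Finset.univ.filter (fun j : Fin k => slideMark mk 0 (mk i) j ≠ 0)).card <
        (Finset.univ.filter (fun j : Fin k => mk j ≠ 0)).card := by
      apply Finset.card_lt_card
      rw [Finset.ssubset_iff_of_subset (filter_mark_subset mk (mk i))]
      refine ⟨i, by simp [hi], ?_⟩
      simp [slideMark]
    omega
  · push Not at hA
    obtain ⟨v, hv0, hv⟩ := hA
    obtain ⟨p⟩ := hG.connected.preconnected 0 v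
    obtain ⟨w, x, hw, hwx, hx0, hx⟩ := exists_far G p (Or.inl rfl) hv0 hv
    refine ⟨w, hw, ?_⟩
    unfold mu
    have h2 := Finset.card_le_card (filter_mark_subset mk w)
    have h1 : (Finset.univ.filter
        (fun v : Fin (m + 1) => v ≠ 0 ∧ ¬ (slide G 0 w).Adj 0 v)).card <
        (Finset.univ.filter (fun v : Fin (m + 1) => v ≠ 0 ∧ ¬ G.Adj 0 v)).card := by
      apply Finset.card_lt_card
      rw [Finset.ssubset_iff_of_subset (filter_adj_subset G hw)]
      refine ⟨x, by simp [hx0, hx], ?_⟩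
      simp [hx0, slide_adj_c_of_adj_w G hwx hx0]
    omega

theorem reduce : ∀ (N : ℕ) (G : SimpleGraph (Fin (m + 1))) (hG : G.IsTree)
    (mk : Fin k → Fin (m + 1)), mu G mk = N →
    ∃ (G' : SimpleGraph (Fin (m + 1))) (hG' : G'.IsTree) (mk' : Fin k → Fin (m + 1)),
      Relation.ReflTransGen ConicAdj (⟨m + 1, G, hG, mk⟩ : MarkedTree k) ⟨m + 1, G', hG', mk'⟩ ∧
        IsStar G' mk' := by
  intro N
  induction N using Nat.strong_induction_on with
  | _ N ih =>
    intro G hG mk hN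
    by_cases hs : IsStar G mk
    · exact ⟨G, hG, mk, Relation.ReflTransGen.refl, hs⟩
    · obtain ⟨w, hw, hlt⟩ := exists_step G hG mk hs
      obtain ⟨G', hG', mk', hr, hs'⟩ :=
        ih _ (hN ▸ hlt) (slide G 0 w) (slide_isTree G hG hw) (slideMark mk 0 w) rfl
      exact ⟨G', hG', mk', Relation.ReflTransGen.head (conicAdj_slide G hG mk hw) hr, hs'⟩

theorem star_adj_iff (G : SimpleGraph (Fin (m + 1))) (hG : G.IsTree) (mk : Fin k → Fin (m + 1))
    (hs : IsStar G mk) (a b : Fin (m + 1)) : G.Adj a b ↔ a ≠ b ∧ (a = 0 ∨ b = 0) := by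
  constructor
  · intro hab
    refine ⟨hab.ne, ?_⟩
    by_contra hc
    push Not at hc
    have hbr := (SimpleGraph.isAcyclic_iff_forall_adj_isBridge.mp hG.isAcyclic) hab
    rw [SimpleGraph.isBridge_iff] at hbr
    apply hbr
    have h1 : (G.deleteEdges {s(a, b)}).Adj a 0 := by
      rw [SimpleGraph.deleteEdges_adj]
      refine ⟨(hs.1 a hc.1).symm, ?_⟩
      simp only [Set.mem_singleton_iff, Sym2.eq_iff, not_or, not_and]
      exact ⟨fun _ h => hc.2 h.symm, fun h _ => hab.ne h⟩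
    have h2 : (G.deleteEdges {s(a, b)}).Adj 0 b := by
      rw [SimpleGraph.deleteEdges_adj]
      refine ⟨hs.1 b hc.2, ?_⟩
      simp only [Set.mem_singleton_iff, Sym2.eq_iff, not_or, not_and]
      exact ⟨fun h _ => hc.1 h.symm, fun h _ => hc.2 h.symm⟩
    exact h1.reachable.trans h2.reachable
  · rintro ⟨hne, h | h⟩
    · rw [h] at hne ⊢
      exact hs.1 b hne.symm
    · rw [h] at hne ⊢
      exact (hs.1 a hne).symm

theorem conicAdj_symm {k : ℕ} (T₁ T₂ : MarkedTree k) : ConicAdj T₁ T₂ → ConicAdj T₂ T₁ := by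
  rintro ⟨u₁, w₁, u₂, w₂, h₁, h₂, φ, hu, hm⟩
  refine ⟨u₂, w₂, u₁, w₁, h₂, h₁, φ.symm, ?_, ?_⟩
  · rw [← hu]; exact φ.symm_apply_apply _
  · intro i
    rw [← hm i]; exact φ.symm_apply_apply _

theorem main (k : ℕ) (T₁ T₂ : MarkedTree k) (h : T₁.n = T₂.n) :
    Relation.ReflTransGen ConicAdj T₁ T₂ := by
  obtain ⟨n₁, G₁, hG₁, mk₁⟩ := T₁
  obtain ⟨n₂, G₂, hG₂, mk₂⟩ := T₂
  simp only at h
  subst h
  have hne : n₁ ≠ 0 := by
    rintro rfl
    exact (hG₁.connected.nonempty.some).elim0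
  obtain ⟨m, rfl⟩ := Nat.exists_eq_succ_of_ne_zero hne
  obtain ⟨G₁', hG₁', mk₁', hr₁, hs₁⟩ := reduce _ G₁ hG₁ mk₁ rfl
  obtain ⟨G₂', hG₂', mk₂', hr₂, hs₂⟩ := reduce _ G₂ hG₂ mk₂ rfl
  have hG : G₁' = G₂' := by
    ext a b
    rw [star_adj_iff G₁' hG₁' mk₁' hs₁, star_adj_iff G₂' hG₂' mk₂' hs₂]
  have hmk : mk₁' = mk₂' := by
    funext i
    rw [hs₁.2 i, hs₂.2 i]
  subst hG
  subst hmk
  haveI : Std.Symm (ConicAdj (k := k)) := ⟨conicAdj_symm⟩
  exact hr₁.trans (Std.Symm.symm _ _ hr₂)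

end Groth.Agent.H16.TR
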