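import Groth.Agent.H16.Plane7
import Groth.Agent.H16.EvalP
set_option autoImplicit false
set_option linter.unusedSimpArgs false

namespace Groth.Agent.Helper16.Plane

open FunFld Module Groth.Agent.Helper17.FF Groth.Agent.Helper16.Emb

variable {k K : Type*} [Field k] [Field K] [Algebra k K]

theorem val_aeval_le_one {σ : Type*} [Fintype σ] (P : Place k K) (f : MvPolynomial σ k)
    (a : σ → K) (ha : ∀ l, P.1 (a l) ≤ 1) : P.1 (MvPolynomial.aeval a f) ≤ 1 := by
  induction f using MvPolynomial.induction_on with
  | C c => rw [MvPolynomial.aeval_C]; exact P.2.1 c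
  | add p q hp hq => rw [map_add]; exact (P.1.map_add _ _).trans (max_le hp hq)
  | mul_X p i hp =>
    rw [map_mul, MvPolynomial.aeval_X, map_mul]
    calc P.1 _ * P.1 (a i) ≤ 1 * 1 := mul_le_mul' hp (ha i)
      _ = 1 := one_mul _

/-- first order Taylor expansion with a valuation bound on the remainder -/
theorem taylor_val {σ : Type*} [Fintype σ] [DecidableEq σ] (P : Place k K)
    (f : MvPolynomial σ k) (γ : σ → k) (ξ : σ → K) (ε : WithZero (Multiplicative ℤ)) (hε : ε ≤ 1)
    (hξ : ∀ l, P.1 (ξ l) ≤ ε) :
    P.1 (MvPolynomial.aeval (fun l => algebraMap k K (γ l) + ξ l) f -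
        algebraMap k K (MvPolynomial.eval γ f) -
        ∑ l, algebraMap k K (MvPolynomial.eval γ (MvPolynomial.pderiv l f)) * ξ l) ≤ ε * ε := by
  have hlin : ∀ p : MvPolynomial σ k,
      P.1 (∑ l, algebraMap k K (MvPolynomial.eval γ (MvPolynomial.pderiv l p)) * ξ l) ≤ ε := by
    intro p
    apply Valuation.map_sum_le
    intro l _
    rw [map_mul]
    calc P.1 (algebraMap k K _) * P.1 (ξ l) ≤ 1 * ε := mul_le_mul' (P.2.1 _) (hξ l)
      _ = ε := one_mul _
  induction f using MvPolynomial.induction_on with
  | C c =>
    simp only [MvPolynomial.aeval_C, MvPolynomial.eval_C, sub_self, MvPolynomial.pderiv_C,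
      map_zero, zero_mul, Finset.sum_const_zero]
    exact zero_le
  | add p q hp hq =>
    have e : MvPolynomial.aeval (fun l => algebraMap k K (γ l) + ξ l) (p + q) -
        algebraMap k K (MvPolynomial.eval γ (p + q)) -
        ∑ l, algebraMap k K (MvPolynomial.eval γ (MvPolynomial.pderiv l (p + q))) * ξ l =
        (MvPolynomial.aeval (fun l => algebraMap k K (γ l) + ξ l) p -
          algebraMap k K (MvPolynomial.eval γ p) -
          ∑ l, algebraMap k K (MvPolynomial.eval γ (MvPolynomial.pderiv l p)) * ξ l) +
        (MvPolynomial.aeval (fun l => algebraMap k K (γ l) + ξ l) q -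
          algebraMap k K (MvPolynomial.eval γ q) -
          ∑ l, algebraMap k K (MvPolynomial.eval γ (MvPolynomial.pderiv l q)) * ξ l) := by
      simp only [map_add, add_mul, Finset.sum_add_distrib]
      ring
    rw [e]
    exact (P.1.map_add _ _).trans (max_le hp hq)
  | mul_X p i hp =>
    have e : MvPolynomial.aeval (fun l => algebraMap k K (γ l) + ξ l) (p * MvPolynomial.X i) -
        algebraMap k K (MvPolynomial.eval γ (p * MvPolynomial.X i)) -
        ∑ l, algebraMap k K (MvPolynomial.eval γ
          (MvPolynomial.pderiv l (p * MvPolynomial.X i))) * ξ l =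
        (MvPolynomial.aeval (fun l => algebraMap k K (γ l) + ξ l) p -
          algebraMap k K (MvPolynomial.eval γ p) -
          ∑ l, algebraMap k K (MvPolynomial.eval γ (MvPolynomial.pderiv l p)) * ξ l) *
          (algebraMap k K (γ i) + ξ i) +
        (∑ l, algebraMap k K (MvPolynomial.eval γ (MvPolynomial.pderiv l p)) * ξ l) * ξ i := by
      have hs : ∑ l, algebraMap k K (MvPolynomial.eval γ
          (MvPolynomial.pderiv l (p * MvPolynomial.X i))) * ξ l =
          algebraMap k K (γ i) *
            (∑ l, algebraMap k K (MvPolynomial.eval γ (MvPolynomial.pderiv l p)) * ξ l) +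
          algebraMap k K (MvPolynomial.eval γ p) * ξ i := by
        have h1 : ∀ l, algebraMap k K (MvPolynomial.eval γ
            (MvPolynomial.pderiv l (p * MvPolynomial.X i))) * ξ l =
            algebraMap k K (γ i) *
              (algebraMap k K (MvPolynomial.eval γ (MvPolynomial.pderiv l p)) * ξ l) +
            (if l = i then algebraMap k K (MvPolynomial.eval γ p) * ξ l else 0) := by
          intro l
          rw [Derivation.leibniz, MvPolynomial.pderiv_X]
          by_cases hli : l = i
          · subst hli
            simp only [Pi.single_eq_same, if_true, smul_eq_mul, map_add, map_mul,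
              MvPolynomial.eval_X, map_one, mul_one]
            ring
          · have : (Pi.single l 1 : σ → MvPolynomial σ k) i = 0 := Pi.single_eq_of_ne (Ne.symm hli) _
            simp only [this, if_neg hli, smul_eq_mul, map_add, map_mul, MvPolynomial.eval_X,
              map_zero, mul_zero, zero_mul, add_zero]
            ring
        rw [Finset.sum_congr rfl (fun l _ => h1 l), Finset.sum_add_distrib, ← Finset.mul_sum,
          Finset.sum_ite_eq' Finset.univ i]
        simp
      rw [hs]
      simp only [map_mul, MvPolynomial.aeval_X, MvPolynomial.eval_X]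
      ring
    rw [e]
    refine (P.1.map_add _ _).trans (max_le ?_ ?_)
    · rw [map_mul]
      have h1 : P.1 (algebraMap k K (γ i) + ξ i) ≤ 1 :=
        (P.1.map_add _ _).trans (max_le (P.2.1 _) ((hξ i).trans hε))
      calc _ ≤ ε * ε * 1 := mul_le_mul' hp h1
        _ = ε * ε := mul_one _
    · rw [map_mul]
      exact mul_le_mul' (hlin p) (hξ i)

end Groth.Agent.Helper16.Plane
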