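import Groth.Agent.H16.Tangent
set_option autoImplicit false
set_option linter.unusedSimpArgs false

namespace Groth.Agent.Helper16.Plane

open FunFld Module Groth.Agent.Helper17.FF Groth.Agent.Helper16.Emb Groth.Agent.Helper16.Hasse

variable {k K : Type*} [Field k] [Field K] [Algebra k K]

/-- coordinates of the image point of a place -/
theorem exists_point [IsAlgClosed k] (hK : IsFunctionField k K) {n : ℕ} (φ : Fin (n + 1) → K)
    (j : Fin (n + 1)) (hj0 : φ j ≠ 0) (P : Place k K) (hjP : ∀ i, P.1 (φ i) ≤ P.1 (φ j)) :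
    ∃ γ : Fin (n + 1) → k, ∀ i, P.1 (φ i / φ j - algebraMap k K (γ i)) < 1 := by
  have h : ∀ i, ∃ c : k, P.1 (φ i / φ j - algebraMap k K c) < 1 := by
    intro i
    apply Groth.Agent.Helper16.LLS.exists_const_sub_lt hK P
    rw [map_div₀]
    exact div_le_one_of_le₀ (hjP i) zero_le
  choose γ hγ using h
  exact ⟨γ, hγ⟩

theorem exp_neg_one_le_one : (WithZero.exp (-1 : ℤ) : WithZero (Multiplicative ℤ)) ≤ 1 := by
  rw [← WithZero.exp_zero, WithZero.exp_le_exp]; norm_num

/-- Taylor expansion of a homogeneous relation at the image point of a place -/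
theorem taylor_at_point (hK : IsFunctionField k K) {n : ℕ} (φ : Fin (n + 1) → K)
    (j : Fin (n + 1)) (hj0 : φ j ≠ 0) (P : Place k K)
    (γ : Fin (n + 1) → k) (hγ : ∀ i, P.1 (φ i / φ j - algebraMap k K (γ i)) < 1)
    (f : MvPolynomial (Fin (n + 1)) k) (e : ℕ) (hhom : f.IsHomogeneous e)
    (hfφ : MvPolynomial.aeval φ f = 0) :
    MvPolynomial.eval γ f = 0 ∧
      P.1 (∑ l, algebraMap k K (MvPolynomial.eval γ (MvPolynomial.pderiv l f)) *
        (φ l / φ j - algebraMap k K (γ l))) ≤ WithZero.exp (-2) ∧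
      ∑ l, γ l * MvPolynomial.eval γ (MvPolynomial.pderiv l f) = 0 := by
  classical
  obtain ⟨ξ, hξdef⟩ : ∃ ξ : Fin (n + 1) → K, ξ = fun l => φ l / φ j - algebraMap k K (γ l) :=
    ⟨_, rfl⟩
  have hξ : ∀ l, P.1 (ξ l) ≤ WithZero.exp (-1 : ℤ) := by
    intro l
    have h : P.1 (φ l / φ j - algebraMap k K (γ l)) < WithZero.exp (0 : ℤ) := by
      rw [WithZero.exp_zero]; exact hγ l
    rw [val_lt_exp_iff_le] at h
    rw [hξdef]
    simpa using h
  have hfa : MvPolynomial.aeval (fun l => algebraMap k K (γ l) + ξ l) f = 0 := by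
    have e1 : (fun l => algebraMap k K (γ l) + ξ l) = fun l => (φ j)⁻¹ * φ l := by
      funext l
      rw [hξdef]
      simp only
      rw [div_eq_inv_mul]; ring
    rw [e1, aeval_smul_of_homogeneous f hhom φ, hfφ, mul_zero]
  have hT := taylor_val P f γ ξ (WithZero.exp (-1 : ℤ)) exp_neg_one_le_one hξ
  rw [hfa, zero_sub] at hT
  have hL : P.1 (∑ l, algebraMap k K (MvPolynomial.eval γ (MvPolynomial.pderiv l f)) * ξ l) ≤
      WithZero.exp (-1 : ℤ) := by
    apply Valuation.map_sum_le
    intro l _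
    rw [map_mul]
    calc P.1 (algebraMap k K _) * P.1 (ξ l) ≤ 1 * WithZero.exp (-1 : ℤ) :=
          mul_le_mul' (P.2.1 _) (hξ l)
      _ = WithZero.exp (-1 : ℤ) := one_mul _
  have h22 : (WithZero.exp (-1 : ℤ) * WithZero.exp (-1 : ℤ) : WithZero (Multiplicative ℤ)) =
      WithZero.exp (-2 : ℤ) := by
    rw [← WithZero.exp_add]; norm_num
  have h21 : (WithZero.exp (-2 : ℤ) : WithZero (Multiplicative ℤ)) ≤ WithZero.exp (-1 : ℤ) := by
    rw [WithZero.exp_le_exp]; norm_num
  have hfγ : MvPolynomial.eval γ f = 0 := by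
    by_contra hne
    have h1 : P.1 (algebraMap k K (MvPolynomial.eval γ f)) = 1 := val_const P hne
    have e2 : algebraMap k K (MvPolynomial.eval γ f) =
        -(-algebraMap k K (MvPolynomial.eval γ f) -
          ∑ l, algebraMap k K (MvPolynomial.eval γ (MvPolynomial.pderiv l f)) * ξ l) -
        ∑ l, algebraMap k K (MvPolynomial.eval γ (MvPolynomial.pderiv l f)) * ξ l := by ring
    have h2 : P.1 (algebraMap k K (MvPolynomial.eval γ f)) ≤ WithZero.exp (-1 : ℤ) := by
      rw [e2]
      refine (Valuation.map_sub _ _ _).trans (max_le ?_ hL)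
      rw [Valuation.map_neg]
      exact (hT.trans (le_of_eq h22)).trans h21
    rw [h1] at h2
    have h3 : (WithZero.exp (0 : ℤ) : WithZero (Multiplicative ℤ)) ≤ WithZero.exp (-1 : ℤ) := by
      rw [WithZero.exp_zero]; exact h2
    rw [WithZero.exp_le_exp] at h3
    omega
  refine ⟨hfγ, ?_, ?_⟩
  · rw [hfγ, map_zero, neg_zero, zero_sub, Valuation.map_neg, h22] at hT
    rw [hξdef] at hT
    exact hT
  · have hE := hhom.sum_X_mul_pderiv
    have := congrArg (MvPolynomial.eval γ) hE
    rw [map_sum, map_nsmul, hfγ, smul_zero] at this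
    rw [← this]
    refine Finset.sum_congr rfl fun l _ => ?_
    rw [map_mul, MvPolynomial.eval_X]

/-- the residue of a ratio is the corresponding coordinate of the image point -/
theorem residue_eq_point (P : Place k K) {z : K} (a : P.O) (ha : (a : K) = z) (c : k)
    (hc : P.1 (z - algebraMap k K c) < 1) :
    IsLocalRing.residue P.O a = algebraMap k (IsLocalRing.ResidueField P.O) c := by
  have hz : P.1 z ≤ 1 := by
    rw [← ha]; exact (Valuation.mem_valuationSubring_iff P.1 _).mp a.2
  have h1 : IsLocalRing.residue P.O a = evalP P z := by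
    rw [evalP_of_le P hz]
    congr 1
    exact Subtype.ext ha
  rw [h1, evalP_eq_of_sub_lt P hz (P.2.1 c) hc, evalP_algebraMap]

theorem aeval_residue_eq (P : Place k K) {σ : Type*} (γ : σ → k) (p : MvPolynomial σ k) :
    MvPolynomial.aeval (fun l => algebraMap k (IsLocalRing.ResidueField P.O) (γ l)) p =
      algebraMap k (IsLocalRing.ResidueField P.O) (MvPolynomial.eval γ p) := by
  have := MvPolynomial.eval₂_comp_left (algebraMap k (IsLocalRing.ResidueField P.O))
    (RingHom.id k) γ p
  rw [MvPolynomial.aeval_def]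
  exact this.symm

end Groth.Agent.Helper16.Plane
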