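import Mathlib

/-! Tate's finite-potent trace (part I): definition and basic properties. -/

namespace Groth.Agent.Helper16.Tate

universe u v v'
variable {k : Type u} [Field k] {V : Type v} [AddCommGroup V] [Module k V]
  {V' : Type v'} [AddCommGroup V'] [Module k V']

/-- trace of `θ` on an invariant subspace `W` (`0` if not invariant). -/
noncomputable def trOn (θ : V →ₗ[k] V) (W : Submodule k V) : k :=
  open Classical in
  if h : ∀ w ∈ W, θ w ∈ W then LinearMap.trace k W (θ.restrict h) else 0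

lemma trOn_eq (θ : V →ₗ[k] V) (W : Submodule k V) (h : ∀ w ∈ W, θ w ∈ W) :
    trOn θ W = LinearMap.trace k W (θ.restrict h) := dif_pos h

/-- one step: if `θ` maps `Q` into `P ≤ Q` then the traces on `Q` and `P` agree. -/
lemma trOn_step (θ : V →ₗ[k] V) {P Q : Submodule k V} (hPQ : P ≤ Q) [FiniteDimensional k Q]
    (h : ∀ w ∈ Q, θ w ∈ P) : trOn θ Q = trOn θ P := by
  have hQ : ∀ w ∈ Q, θ w ∈ Q := fun w hw => hPQ (h w hw)
  have hP : ∀ w ∈ P, θ w ∈ P := fun w hw => h w (hPQ hw)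
  haveI : FiniteDimensional k P := Submodule.finiteDimensional_of_le hPQ
  rw [trOn_eq θ Q hQ, trOn_eq θ P hP]
  have e1 : θ.restrict hQ = (Submodule.inclusion hPQ) ∘ₗ (θ.restrict h) := by
    ext x; rfl
  have e2 : θ.restrict hP = (θ.restrict h) ∘ₗ (Submodule.inclusion hPQ) := by
    ext x; rfl
  rw [e1, e2, LinearMap.trace_comp_comm']

/-- `W` carries the trace of `θ`. -/
structure Carrier (θ : V →ₗ[k] V) (W : Submodule k V) : Prop where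
  fin : FiniteDimensional k W
  inv : ∀ w ∈ W, θ w ∈ W
  pow : ∃ n : ℕ, ∀ v, (θ ^ n) v ∈ W

lemma pow_mem_of_inv {θ : V →ₗ[k] V} {W : Submodule k V} (inv : ∀ w ∈ W, θ w ∈ W)
    (j : ℕ) {w : V} (hw : w ∈ W) : (θ ^ j) w ∈ W := by
  induction j with
  | zero => simpa using hw
  | succ j ih => rw [pow_succ', Module.End.mul_apply]; exact inv _ ih

lemma Carrier.pow_mem {θ : V →ₗ[k] V} {W : Submodule k V} (h : Carrier θ W) :
    ∃ n : ℕ, ∀ m, n ≤ m → ∀ v, (θ ^ m) v ∈ W := by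
  obtain ⟨n, hn⟩ := h.pow
  refine ⟨n, fun m hm v => ?_⟩
  obtain ⟨j, rfl⟩ := Nat.exists_eq_add_of_le hm
  rw [add_comm, pow_add, Module.End.mul_apply]
  exact pow_mem_of_inv h.inv j (hn v)

lemma trOn_eq_of_le (θ : V →ₗ[k] V) {W₁ W₂ : Submodule k V} (h12 : W₁ ≤ W₂)
    [FiniteDimensional k W₂] (inv₁ : ∀ w ∈ W₁, θ w ∈ W₁) (inv₂ : ∀ w ∈ W₂, θ w ∈ W₂)
    (n : ℕ) (hn : ∀ w ∈ W₂, (θ ^ n) w ∈ W₁) : trOn θ W₂ = trOn θ W₁ := by
  have key : ∀ i : ℕ, trOn θ W₂ = trOn θ (W₁ ⊔ W₂.map (θ ^ i)) := by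
    intro i
    induction i with
    | zero =>
      have : W₁ ⊔ W₂.map (θ ^ 0) = W₂ := by
        rw [pow_zero, Module.End.one_eq_id, Submodule.map_id]; exact sup_eq_right.mpr h12
      rw [this]
    | succ i ih =>
      rw [ih]
      have hle : W₁ ⊔ W₂.map (θ ^ i) ≤ W₂ := by
        refine sup_le h12 ?_
        rintro _ ⟨w, hw, rfl⟩
        exact pow_mem_of_inv inv₂ i hw
      haveI : FiniteDimensional k ↥(W₁ ⊔ W₂.map (θ ^ i)) := Submodule.finiteDimensional_of_le hle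
      have hsub : W₁ ⊔ W₂.map (θ ^ (i + 1)) ≤ W₁ ⊔ W₂.map (θ ^ i) := by
        refine sup_le le_sup_left ?_
        rintro _ ⟨w, hw, rfl⟩
        refine Submodule.mem_sup_right ⟨θ w, inv₂ w hw, ?_⟩
        rw [pow_succ, Module.End.mul_apply]
      refine trOn_step θ hsub ?_
      intro w hw
      obtain ⟨a, ha, b, hb, rfl⟩ := Submodule.mem_sup.mp hw
      obtain ⟨c, hc, rfl⟩ := hb
      rw [map_add]
      refine Submodule.add_mem _ (Submodule.mem_sup_left (inv₁ a ha)) (Submodule.mem_sup_right ⟨c, hc, ?_⟩)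
      rw [pow_succ', Module.End.mul_apply]
  rw [key n]
  congr 1
  refine sup_eq_left.mpr ?_
  rintro _ ⟨w, hw, rfl⟩
  exact hn w hw

lemma trOn_eq_of_carrier {θ : V →ₗ[k] V} {W W' : Submodule k V} (h : Carrier θ W)
    (h' : Carrier θ W') : trOn θ W = trOn θ W' := by
  have := h.fin
  have := h'.fin
  obtain ⟨n, hn⟩ := h.pow_mem
  obtain ⟨n', hn'⟩ := h'.pow_mem
  have inv : ∀ w ∈ W ⊓ W', θ w ∈ W ⊓ W' := fun w hw => ⟨h.inv w hw.1, h'.inv w hw.2⟩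
  have hp : ∀ v, (θ ^ (max n n')) v ∈ W ⊓ W' := fun v =>
    ⟨hn _ (le_max_left _ _) v, hn' _ (le_max_right _ _) v⟩
  rw [trOn_eq_of_le θ (inf_le_left : W ⊓ W' ≤ W) inv h.inv (max n n') (fun w _ => hp w),
    trOn_eq_of_le θ (inf_le_right : W ⊓ W' ≤ W') inv h'.inv (max n n') (fun w _ => hp w)]

/-- finite potent -/
def IsFP (θ : V →ₗ[k] V) : Prop := ∃ W, Carrier θ W

open Classical in
/-- Tate's trace of a finite-potent endomorphism (`0` otherwise). -/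
noncomputable def fpTr (θ : V →ₗ[k] V) : k :=
  if h : IsFP θ then trOn θ h.choose else 0

lemma fpTr_eq {θ : V →ₗ[k] V} {W : Submodule k V} (h : Carrier θ W) : fpTr θ = trOn θ W := by
  have hfp : IsFP θ := ⟨W, h⟩
  rw [fpTr, dif_pos hfp]
  exact trOn_eq_of_carrier hfp.choose_spec h

lemma fpTr_of_not {θ : V →ₗ[k] V} (h : ¬ IsFP θ) : fpTr θ = 0 := by
  rw [fpTr, dif_neg h]

lemma carrier_bot {θ : V →ₗ[k] V} (n : ℕ) (h : θ ^ n = 0) : Carrier θ ⊥ where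
  fin := inferInstance
  inv := fun w hw => by rw [(Submodule.mem_bot k).mp hw, map_zero]; exact Submodule.zero_mem _
  pow := ⟨n, fun v => by rw [h]; exact Submodule.zero_mem _⟩

lemma trOn_bot (θ : V →ₗ[k] V) : trOn θ ⊥ = 0 := by
  have inv : ∀ w ∈ (⊥ : Submodule k V), θ w ∈ (⊥ : Submodule k V) :=
    fun w hw => by rw [(Submodule.mem_bot k).mp hw, map_zero]; exact Submodule.zero_mem _
  rw [trOn_eq θ ⊥ inv]
  have : θ.restrict inv = 0 := Subsingleton.elim _ _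
  rw [this, map_zero]

/-- (T3) nilpotent endomorphisms have trace zero. -/
lemma fpTr_of_pow_eq_zero {θ : V →ₗ[k] V} (n : ℕ) (h : θ ^ n = 0) : fpTr θ = 0 := by
  rw [fpTr_eq (carrier_bot n h), trOn_bot]

lemma fpTr_zero : fpTr (0 : V →ₗ[k] V) = 0 := fpTr_of_pow_eq_zero 1 (pow_one _)

/-- additivity on a common carrier -/
lemma fpTr_add_of_carrier {θ₁ θ₂ : V →ₗ[k] V} {W : Submodule k V} (h1 : Carrier θ₁ W)
    (h2 : Carrier θ₂ W) (h12 : Carrier (θ₁ + θ₂) W) : fpTr (θ₁ + θ₂) = fpTr θ₁ + fpTr θ₂ := by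
  have := h1.fin
  rw [fpTr_eq h1, fpTr_eq h2, fpTr_eq h12, trOn_eq _ _ h1.inv, trOn_eq _ _ h2.inv, trOn_eq _ _ h12.inv,
    ← map_add]
  congr 1

/-- carrier from the range of a power -/
lemma carrier_range_pow {θ : V →ₗ[k] V} (n : ℕ) (h : FiniteDimensional k (LinearMap.range (θ ^ n))) :
    Carrier θ (LinearMap.range (θ ^ n)) where
  fin := h
  inv := by
    rintro _ ⟨v, rfl⟩
    refine ⟨θ v, ?_⟩
    rw [← Module.End.mul_apply, ← Module.End.mul_apply, ← pow_succ, ← pow_succ']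
  pow := ⟨n, fun v => ⟨v, rfl⟩⟩

/-- a common carrier for two endomorphisms whose pairwise products have finite rank -/
lemma exists_common_carrier (θ₁ θ₂ : V →ₗ[k] V)
    (h1 : FiniteDimensional k ((LinearMap.range θ₁ ⊔ LinearMap.range θ₂).map θ₁))
    (h2 : FiniteDimensional k ((LinearMap.range θ₁ ⊔ LinearMap.range θ₂).map θ₂)) :
    ∃ W, Carrier θ₁ W ∧ Carrier θ₂ W ∧ Carrier (θ₁ + θ₂) W := by
  obtain ⟨R, hR⟩ : ∃ R, R = LinearMap.range θ₁ ⊔ LinearMap.range θ₂ := ⟨_, rfl⟩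
  rw [← hR] at h1 h2
  have hWR : R.map θ₁ ⊔ R.map θ₂ ≤ R := by
    rw [hR]
    refine sup_le ?_ ?_
    · rintro _ ⟨w, -, rfl⟩; exact Submodule.mem_sup_left ⟨w, rfl⟩
    · rintro _ ⟨w, -, rfl⟩; exact Submodule.mem_sup_right ⟨w, rfl⟩
  have r1 : ∀ v, θ₁ v ∈ R := fun v => by rw [hR]; exact Submodule.mem_sup_left ⟨v, rfl⟩
  have r2 : ∀ v, θ₂ v ∈ R := fun v => by rw [hR]; exact Submodule.mem_sup_right ⟨v, rfl⟩
  refine ⟨R.map θ₁ ⊔ R.map θ₂, ⟨inferInstance, ?_, 2, ?_⟩, ⟨inferInstance, ?_, 2, ?_⟩,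
    ⟨inferInstance, ?_, 2, ?_⟩⟩
  · intro w hw; exact Submodule.mem_sup_left ⟨w, hWR hw, rfl⟩
  · intro v; rw [pow_two, Module.End.mul_apply]; exact Submodule.mem_sup_left ⟨θ₁ v, r1 v, rfl⟩
  · intro w hw; exact Submodule.mem_sup_right ⟨w, hWR hw, rfl⟩
  · intro v; rw [pow_two, Module.End.mul_apply]; exact Submodule.mem_sup_right ⟨θ₂ v, r2 v, rfl⟩
  · intro w hw
    rw [LinearMap.add_apply]
    exact Submodule.add_mem _ (Submodule.mem_sup_left ⟨w, hWR hw, rfl⟩)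
      (Submodule.mem_sup_right ⟨w, hWR hw, rfl⟩)
  · intro v
    rw [pow_two, Module.End.mul_apply, LinearMap.add_apply]
    have hv : (θ₁ + θ₂) v ∈ R := by
      rw [LinearMap.add_apply]; exact Submodule.add_mem _ (r1 v) (r2 v)
    exact Submodule.add_mem _ (Submodule.mem_sup_left ⟨_, hv, rfl⟩)
      (Submodule.mem_sup_right ⟨_, hv, rfl⟩)

lemma comp_pow_succ (f : V' →ₗ[k] V) (g : V →ₗ[k] V') (n : ℕ) (v : V') :
    ((g ∘ₗ f) ^ (n + 1)) v = g (((f ∘ₗ g) ^ n) (f v)) := by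
  induction n generalizing v with
  | zero => simp
  | succ n ih =>
    rw [pow_succ, Module.End.mul_apply, ih, pow_succ, Module.End.mul_apply]
    rfl

lemma carrier_comp_comm {f : V' →ₗ[k] V} {g : V →ₗ[k] V'} {W : Submodule k V}
    (h : Carrier (f ∘ₗ g) W) : Carrier (g ∘ₗ f) (W.map g) where
  fin := by have := h.fin; infer_instance
  inv := by
    rintro _ ⟨w, hw, rfl⟩
    exact ⟨(f ∘ₗ g) w, h.inv w hw, rfl⟩
  pow := by
    obtain ⟨n, hn⟩ := h.pow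
    refine ⟨n + 1, fun v => ?_⟩
    rw [comp_pow_succ]
    exact ⟨_, hn _, rfl⟩

/-- (T5) `Tr(fg) = Tr(gf)`. -/
lemma fpTr_comp_comm (f : V' →ₗ[k] V) (g : V →ₗ[k] V') : fpTr (f ∘ₗ g) = fpTr (g ∘ₗ f) := by
  by_cases hfp : IsFP (f ∘ₗ g)
  · obtain ⟨W, h⟩ := hfp
    have h' := carrier_comp_comm h
    have := h.fin
    have := h'.fin
    rw [fpTr_eq h, fpTr_eq h', trOn_eq _ _ h.inv, trOn_eq _ _ h'.inv]
    have ha : ∀ w ∈ W, g w ∈ W.map g := fun w hw => ⟨w, hw, rfl⟩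
    have hb : ∀ w ∈ W.map g, f w ∈ W := by
      rintro _ ⟨w, hw, rfl⟩; exact h.inv w hw
    have e1 : (f ∘ₗ g).restrict h.inv = (f.restrict hb) ∘ₗ (g.restrict ha) := by
      ext x; rfl
    have e2 : (g ∘ₗ f).restrict h'.inv = (g.restrict ha) ∘ₗ (f.restrict hb) := by
      ext x; rfl
    rw [e1, e2, LinearMap.trace_comp_comm']
  · have hfp' : ¬ IsFP (g ∘ₗ f) := by
      rintro ⟨W, h⟩
      exact hfp ⟨_, carrier_comp_comm h⟩
    rw [fpTr_of_not hfp, fpTr_of_not hfp']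

lemma isFP_comp_comm {f : V' →ₗ[k] V} {g : V →ₗ[k] V'} (h : IsFP (f ∘ₗ g)) : IsFP (g ∘ₗ f) := by
  obtain ⟨W, h⟩ := h
  exact ⟨_, carrier_comp_comm h⟩

/-- on a finite-dimensional space the finite-potent trace is the trace -/
lemma fpTr_eq_trace [FiniteDimensional k V] (θ : V →ₗ[k] V) : fpTr θ = LinearMap.trace k V θ := by
  have hc : Carrier θ ⊤ := ⟨inferInstance, fun _ _ => Submodule.mem_top, 0, fun _ => Submodule.mem_top⟩
  rw [fpTr_eq hc, trOn_eq _ _ hc.inv, ← LinearMap.trace_conj' (θ.restrict hc.inv) Submodule.topEquiv]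
  congr 1

lemma mul_pow_succ_eq_zero {θ₁ θ₂ : V →ₗ[k] V} (h12 : θ₁ * θ₂ = 0) (m : ℕ) :
    θ₁ * θ₂ ^ (m + 1) = 0 := by
  rw [pow_succ', ← mul_assoc, h12, zero_mul]

lemma add_pow_of_orth {θ₁ θ₂ : V →ₗ[k] V} (h12 : θ₁ * θ₂ = 0) (h21 : θ₂ * θ₁ = 0) (m : ℕ) :
    (θ₁ + θ₂) ^ (m + 1) = θ₁ ^ (m + 1) + θ₂ ^ (m + 1) := by
  induction m with
  | zero => simp
  | succ m ih =>
    rw [pow_succ' (θ₁ + θ₂), ih, add_mul, mul_add, mul_add, mul_pow_succ_eq_zero h12,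
      mul_pow_succ_eq_zero h21, add_zero, zero_add, ← pow_succ', ← pow_succ']

/-- (T2, direct-sum form) orthogonal endomorphisms -/
lemma fpTr_add_of_orth {θ₁ θ₂ : V →ₗ[k] V} (h12 : θ₁ * θ₂ = 0) (h21 : θ₂ * θ₁ = 0)
    (hfp1 : IsFP θ₁) (hfp2 : IsFP θ₂) :
    IsFP (θ₁ + θ₂) ∧ fpTr (θ₁ + θ₂) = fpTr θ₁ + fpTr θ₂ := by
  obtain ⟨W₁, c₁⟩ := hfp1
  obtain ⟨W₂, c₂⟩ := hfp2
  obtain ⟨n₁, hn₁⟩ := c₁.pow_mem
  obtain ⟨n₂, hn₂⟩ := c₂.pow_mem
  obtain ⟨n, hn⟩ : ∃ n, n = max n₁ n₂ := ⟨_, rfl⟩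
  have hU1 : LinearMap.range (θ₁ ^ (n + 1)) ≤ W₁ := by
    rintro _ ⟨v, rfl⟩; exact hn₁ _ (by omega) v
  have hU2 : LinearMap.range (θ₂ ^ (n + 1)) ≤ W₂ := by
    rintro _ ⟨v, rfl⟩; exact hn₂ _ (by omega) v
  have := c₁.fin
  have := c₂.fin
  have f1 : FiniteDimensional k (LinearMap.range (θ₁ ^ (n + 1))) := Submodule.finiteDimensional_of_le hU1
  have f2 : FiniteDimensional k (LinearMap.range (θ₂ ^ (n + 1))) := Submodule.finiteDimensional_of_le hU2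
  have i1 : ∀ w ∈ LinearMap.range (θ₁ ^ (n + 1)) ⊔ LinearMap.range (θ₂ ^ (n + 1)),
      θ₁ w ∈ LinearMap.range (θ₁ ^ (n + 1)) ⊔ LinearMap.range (θ₂ ^ (n + 1)) := by
    intro w hw
    obtain ⟨a, ⟨x, rfl⟩, b, ⟨y, rfl⟩, rfl⟩ := Submodule.mem_sup.mp hw
    rw [map_add, ← Module.End.mul_apply θ₁ (θ₂ ^ (n + 1)), mul_pow_succ_eq_zero h12,
      LinearMap.zero_apply, add_zero]
    refine Submodule.mem_sup_left ⟨θ₁ x, ?_⟩
    rw [← Module.End.mul_apply, ← Module.End.mul_apply, ← pow_succ, ← pow_succ']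
  have i2 : ∀ w ∈ LinearMap.range (θ₁ ^ (n + 1)) ⊔ LinearMap.range (θ₂ ^ (n + 1)),
      θ₂ w ∈ LinearMap.range (θ₁ ^ (n + 1)) ⊔ LinearMap.range (θ₂ ^ (n + 1)) := by
    intro w hw
    obtain ⟨a, ⟨x, rfl⟩, b, ⟨y, rfl⟩, rfl⟩ := Submodule.mem_sup.mp hw
    rw [map_add, ← Module.End.mul_apply θ₂ (θ₁ ^ (n + 1)), mul_pow_succ_eq_zero h21,
      LinearMap.zero_apply, zero_add]
    refine Submodule.mem_sup_right ⟨θ₂ y, ?_⟩
    rw [← Module.End.mul_apply, ← Module.End.mul_apply, ← pow_succ, ← pow_succ']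
  have C1 : Carrier θ₁ (LinearMap.range (θ₁ ^ (n + 1)) ⊔ LinearMap.range (θ₂ ^ (n + 1))) :=
    ⟨inferInstance, i1, n + 1, fun v => Submodule.mem_sup_left ⟨v, rfl⟩⟩
  have C2 : Carrier θ₂ (LinearMap.range (θ₁ ^ (n + 1)) ⊔ LinearMap.range (θ₂ ^ (n + 1))) :=
    ⟨inferInstance, i2, n + 1, fun v => Submodule.mem_sup_right ⟨v, rfl⟩⟩
  have C12 : Carrier (θ₁ + θ₂) (LinearMap.range (θ₁ ^ (n + 1)) ⊔ LinearMap.range (θ₂ ^ (n + 1))) := by
    refine ⟨inferInstance, fun w hw => ?_, n + 1, fun v => ?_⟩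
    · rw [LinearMap.add_apply]; exact Submodule.add_mem _ (i1 w hw) (i2 w hw)
    · rw [add_pow_of_orth h12 h21, LinearMap.add_apply]
      exact Submodule.add_mem _ (Submodule.mem_sup_left ⟨v, rfl⟩) (Submodule.mem_sup_right ⟨v, rfl⟩)
  exact ⟨⟨_, C12⟩, fpTr_add_of_carrier C1 C2 C12⟩

lemma isFP_zero : IsFP (0 : V →ₗ[k] V) := ⟨⊥, carrier_bot 1 (pow_one _)⟩

lemma fpTr_sum_of_orth {ι : Type*} (s : Finset ι) (θ : ι → (V →ₗ[k] V))
    (hfp : ∀ i ∈ s, IsFP (θ i)) (horth : ∀ i ∈ s, ∀ j ∈ s, i ≠ j → θ i * θ j = 0) :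
    IsFP (∑ i ∈ s, θ i) ∧ fpTr (∑ i ∈ s, θ i) = ∑ i ∈ s, fpTr (θ i) := by
  classical
  induction s using Finset.induction_on with
  | empty => simp [isFP_zero, fpTr_zero]
  | insert a s ha ih =>
    have ih' := ih (fun i hi => hfp i (Finset.mem_insert_of_mem hi))
      (fun i hi j hj hij => horth i (Finset.mem_insert_of_mem hi) j (Finset.mem_insert_of_mem hj) hij)
    rw [Finset.sum_insert ha, Finset.sum_insert ha]
    have h12 : θ a * ∑ i ∈ s, θ i = 0 := by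
      rw [Finset.mul_sum]
      refine Finset.sum_eq_zero fun i hi => ?_
      exact horth a (Finset.mem_insert_self _ _) i (Finset.mem_insert_of_mem hi)
        (fun h => ha (h ▸ hi))
    have h21 : (∑ i ∈ s, θ i) * θ a = 0 := by
      rw [Finset.sum_mul]
      refine Finset.sum_eq_zero fun i hi => ?_
      exact horth i (Finset.mem_insert_of_mem hi) a (Finset.mem_insert_self _ _)
        (fun h => ha (h ▸ hi))
    obtain ⟨r1, r2⟩ := fpTr_add_of_orth h12 h21 (hfp a (Finset.mem_insert_self _ _)) ih'.1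
    exact ⟨r1, by rw [r2, ih'.2]⟩

end Groth.Agent.Helper16.Tate
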