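import Groth.Agent.H16.Tate9

/-! Residues and Weil differentials: every Weil differential is `u dv`; dimension counts. -/

namespace Groth.Agent.Helper16.Tate

open FunFld LaurentSeries Groth.Agent.Helper17.FF

universe u v w
variable {k : Type u} {K : Type v} [Field k] [Field K] [Algebra k K]
variable {F : Place k K → Type w} [∀ P, Field (F P)] [∀ P, Algebra k (F P)]
variable (hK : IsFunctionField k K) (φ : ∀ P, K →ₐ[k] (F P)⸨X⸩)
  (hφ : ∀ P, LocRes.IsExpansionAt P.1 (φ P))

lemma mulWLin_resW (u v x : K) : mulWLin hK (resW hK φ hφ u v) x = resW hK φ hφ (x * u) v := by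
  ext a
  rw [mulWLin_apply, resW_apply, resW_apply]
  refine finsum_congr fun P => ?_
  show LocRes.locRes (φ P) (x * (a : Place k K → K) P * u) v = _
  congr 1
  ring

/-- the space of `y` with `div(y dv) ≥ D` -/
def MD (φ : ∀ P, K →ₐ[k] (F P)⸨X⸩) (v : K) (D : Divisor k K) : Submodule k K where
  carrier := {y | ∀ P, LocRes.vDiff (φ P) y v ≤ WithZero.exp (-(D P))}
  add_mem' {a b} ha hb P := by
    unfold LocRes.vDiff at *
    rw [map_add, add_mul]
    exact (Valuation.map_add _ _ _).trans (max_le (ha P) (hb P))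
  zero_mem' P := by
    unfold LocRes.vDiff
    rw [map_zero, zero_mul, map_zero]
    exact zero_le
  smul_mem' c a ha P := by
    have h1 : LocRes.vDiff (φ P) (c • a) v = Valued.v (φ P (algebraMap k K c)) * LocRes.vDiff (φ P) a v := by
      rw [Algebra.smul_def, vDiff_mul]
    rw [h1]
    have h2 : Valued.v (φ P (algebraMap k K c)) ≤ 1 := by
      rw [LocRes.map_algebraMap]
      by_cases hc : algebraMap k (F P) c = 0
      · rw [hc, map_zero, map_zero]; exact zero_le
      · have : Valued.v (HahnSeries.C (algebraMap k (F P) c) : (F P)⸨X⸩) ≤ WithZero.exp (-(0 : ℤ)) := by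
          rw [lval_le_exp_iff_coeff]
          intro m hm
          rw [HahnSeries.C_apply, HahnSeries.coeff_single_of_ne (ne_of_lt hm)]
        simpa using this
    calc _ ≤ 1 * WithZero.exp (-(D P)) := mul_le_mul' h2 (ha P)
      _ = _ := one_mul _


variable [∀ P, FiniteDimensional k (F P)] (hg : IsGeometric k K)
include hK hφ hg

lemma resW_injective {v : K} (hv : KaehlerDifferential.D k K v ≠ 0) :
    Function.Injective fun u => resW hK φ hφ u v := by
  intro u u' h
  have h1 : mulWLin hK (resW hK φ hφ 1 v) u = mulWLin hK (resW hK φ hφ 1 v) u' := by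
    rw [mulWLin_resW, mulWLin_resW, mul_one, mul_one]; exact h
  exact mulWLin_injective hK (resW_ne_zero hK φ hφ hg one_ne_zero hv) h1

/-- every Weil differential is the residue differential of `u dv` for some `u` -/
theorem exists_resW_eq {v : K} (hv : KaehlerDifferential.D k K v ≠ 0)
    {ω : Module.Dual k (adele k K)} (hω : IsWeil ω) : ∃ u : K, resW hK φ hφ u v = ω := by
  obtain ⟨x, hx⟩ := exists_mulWLin_eq hK (resW_isWeil hK φ hφ 1 v)
    (resW_ne_zero hK φ hφ hg one_ne_zero hv) hω
  refine ⟨x, ?_⟩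
  rw [← hx, mulWLin_resW, mul_one]

/-- **S12628** -/
theorem existsUnique_of_weil {v : K} (hv : KaehlerDifferential.D k K v ≠ 0)
    {ω : Module.Dual k (adele k K)} (hω : IsWeil ω) :
    ∃! u : K, ∀ a : adele k K,
      (Function.support fun P => LocRes.locRes (φ P) ((a : Place k K → K) P * u) v).Finite ∧
        ω a = ∑ᶠ P, LocRes.locRes (φ P) ((a : Place k K → K) P * u) v := by
  obtain ⟨u, hu⟩ := exists_resW_eq hK φ hφ hg hv hω
  refine ⟨u, fun a => ⟨support_locRes_finite hK φ hφ u v a, by rw [← hu]; rfl⟩, fun u' hu' => ?_⟩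
  apply resW_injective hK φ hφ hg hv
  show resW hK φ hφ u' v = resW hK φ hφ u v
  rw [hu]
  ext a
  exact ((hu' a).2).symm

theorem mem_MD_of_mem_WD {v : K} (hv : KaehlerDifferential.D k K v ≠ 0) {D : Divisor k K} {y : K}
    (h : resW hK φ hφ y v ∈ WD D) : y ∈ MD φ v D := by
  by_cases hy : y = 0
  · rw [hy]; exact Submodule.zero_mem _
  · have hW := resW_isWeil hK φ hφ y v
    have h0 := resW_ne_zero hK φ hφ hg hy hv
    obtain ⟨C, hC⟩ := exists_isDivOf hK _ hW h0
    have hle := (hC D).1 h
    intro P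
    rw [vDiff_eq_exp hK φ hφ hg hy hv P, WithZero.exp_le_exp, ← isDivOf_resW_apply hK φ hφ hg hy hv hC P]
    have := hle P
    omega

/-- **S12629** -/
theorem finrank_MD {v : K} (hv : KaehlerDifferential.D k K v ≠ 0) (D : Divisor k K) :
    Module.finrank k (MD φ v D) = Module.finrank k (WD D) := by
  let f : ↥(MD φ v D) →ₗ[k] ↥(WD D) :=
    (mulWLin hK (resW hK φ hφ 1 v)).restrict (p := MD φ v D) (q := WD D)
      (fun y hy => by
        rw [mulWLin_resW, mul_one]
        exact resW_mem_WD hK φ hφ y v D hy)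
  have hf : Function.Bijective f := by
    constructor
    · intro x y hxy
      have h1 : mulWLin hK (resW hK φ hφ 1 v) x = mulWLin hK (resW hK φ hφ 1 v) y :=
        congrArg Subtype.val hxy
      exact Subtype.ext (mulWLin_injective hK (resW_ne_zero hK φ hφ hg one_ne_zero hv) h1)
    · rintro ⟨ω', hω'⟩
      obtain ⟨y, hy⟩ := exists_resW_eq hK φ hφ hg hv ⟨D, hω'⟩
      have hyM : y ∈ MD φ v D := mem_MD_of_mem_WD hK φ hφ hg hv (by rw [hy]; exact hω')
      refine ⟨⟨y, hyM⟩, Subtype.ext ?_⟩
      show mulWLin hK (resW hK φ hφ 1 v) y = ω'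
      rw [mulWLin_resW, mul_one, hy]
  exact (LinearEquiv.ofBijective f hf).finrank_eq

end Groth.Agent.Helper16.Tate
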