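import Groth.Agent.H16.Tate1

/-! Tate's residue (part II): the calculus of subspaces up to finite dimension, the abstract residue. -/

namespace Groth.Agent.Helper16.Tate

universe u v
variable {k : Type u} [Field k] {V : Type v} [AddCommGroup V] [Module k V]

/-- `X ≲ Y`: `X` is contained in `Y` up to a finite-dimensional subspace. -/
def Near (X Y : Submodule k V) : Prop := ∃ W : Submodule k V, FiniteDimensional k W ∧ X ≤ Y ⊔ W

lemma Near.of_le {X Y : Submodule k V} (h : X ≤ Y) : Near X Y :=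
  ⟨⊥, inferInstance, h.trans le_sup_left⟩

lemma Near.mono_left {X X' Y : Submodule k V} (h : X' ≤ X) (hX : Near X Y) : Near X' Y := by
  obtain ⟨W, hW, hXW⟩ := hX
  exact ⟨W, hW, h.trans hXW⟩

lemma Near.sup {X X' Y : Submodule k V} (hX : Near X Y) (hX' : Near X' Y) : Near (X ⊔ X') Y := by
  obtain ⟨W, hW, hXW⟩ := hX
  obtain ⟨W', hW', hXW'⟩ := hX'
  refine ⟨W ⊔ W', inferInstance, sup_le (hXW.trans ?_) (hXW'.trans ?_)⟩
  · exact sup_le_sup_left le_sup_left _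
  · exact sup_le_sup_left le_sup_right _

variable (A : Submodule k V)

/-- `g A ≲ A` -/
def InE (g : V →ₗ[k] V) : Prop := Near (A.map g) A
/-- `θ V ≲ A` -/
def InE1 (θ : V →ₗ[k] V) : Prop := Near (LinearMap.range θ) A
/-- `θ A` finite-dimensional -/
def InE2 (θ : V →ₗ[k] V) : Prop := FiniteDimensional k (A.map θ)
/-- `θ V ≲ A` and `θ A ≲ 0` -/
def InE0 (θ : V →ₗ[k] V) : Prop := InE1 A θ ∧ InE2 A θ

variable {A}

lemma InE.of_le {g : V →ₗ[k] V} (h : ∀ a ∈ A, g a ∈ A) : InE A g :=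
  Near.of_le (by rintro _ ⟨a, ha, rfl⟩; exact h a ha)

lemma InE.map_near {g : V →ₗ[k] V} (hg : InE A g) {X : Submodule k V} (hX : Near X A) :
    Near (X.map g) A := by
  obtain ⟨W, hW, hXW⟩ := hX
  obtain ⟨W', hW', hAW'⟩ := hg
  refine ⟨W' ⊔ W.map g, inferInstance, ?_⟩
  calc X.map g ≤ (A ⊔ W).map g := Submodule.map_mono hXW
    _ = A.map g ⊔ W.map g := Submodule.map_sup _ _ _
    _ ≤ (A ⊔ W') ⊔ W.map g := sup_le_sup_right hAW' _
    _ = A ⊔ (W' ⊔ W.map g) := sup_assoc _ _ _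

lemma InE.add {f g : V →ₗ[k] V} (hf : InE A f) (hg : InE A g) : InE A (f + g) := by
  have h : A.map (f + g) ≤ A.map f ⊔ A.map g := by
    rintro _ ⟨a, ha, rfl⟩
    exact Submodule.add_mem _ (Submodule.mem_sup_left ⟨a, ha, rfl⟩) (Submodule.mem_sup_right ⟨a, ha, rfl⟩)
  exact (Near.sup hf hg).mono_left h

lemma InE.mul {f g : V →ₗ[k] V} (hf : InE A f) (hg : InE A g) : InE A (f * g) := by
  have h : A.map (f * g) ≤ (A.map g).map f := by
    rintro _ ⟨a, ha, rfl⟩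
    exact ⟨g a, ⟨a, ha, rfl⟩, rfl⟩
  exact (hf.map_near hg).mono_left h

lemma InE1.add {θ₁ θ₂ : V →ₗ[k] V} (h1 : InE1 A θ₁) (h2 : InE1 A θ₂) : InE1 A (θ₁ + θ₂) := by
  have h : LinearMap.range (θ₁ + θ₂) ≤ LinearMap.range θ₁ ⊔ LinearMap.range θ₂ := by
    rintro _ ⟨v, rfl⟩
    exact Submodule.add_mem _ (Submodule.mem_sup_left ⟨v, rfl⟩) (Submodule.mem_sup_right ⟨v, rfl⟩)
  exact (Near.sup h1 h2).mono_left h

lemma InE1.neg {θ : V →ₗ[k] V} (h : InE1 A θ) : InE1 A (-θ) := by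
  have : LinearMap.range (-θ) ≤ LinearMap.range θ := by
    rintro _ ⟨v, rfl⟩
    exact ⟨-v, by simp⟩
  exact Near.mono_left this h

lemma InE1.sub {θ₁ θ₂ : V →ₗ[k] V} (h1 : InE1 A θ₁) (h2 : InE1 A θ₂) : InE1 A (θ₁ - θ₂) := by
  rw [sub_eq_add_neg]; exact h1.add h2.neg

lemma InE1.mul_right {θ : V →ₗ[k] V} (h : InE1 A θ) (g : V →ₗ[k] V) : InE1 A (θ * g) := by
  have : LinearMap.range (θ * g) ≤ LinearMap.range θ := by
    rintro _ ⟨v, rfl⟩
    exact ⟨g v, rfl⟩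
  exact Near.mono_left this h

lemma InE1.mul_left {θ : V →ₗ[k] V} (h : InE1 A θ) {g : V →ₗ[k] V} (hg : InE A g) : InE1 A (g * θ) := by
  have : LinearMap.range (g * θ) ≤ (LinearMap.range θ).map g := by
    rintro _ ⟨v, rfl⟩
    exact ⟨θ v, ⟨v, rfl⟩, rfl⟩
  exact Near.mono_left this (hg.map_near h)

lemma InE1.of_mem {θ : V →ₗ[k] V} (h : ∀ v, θ v ∈ A) : InE1 A θ :=
  Near.of_le (by rintro _ ⟨v, rfl⟩; exact h v)

lemma InE2.add {θ₁ θ₂ : V →ₗ[k] V} (h1 : InE2 A θ₁) (h2 : InE2 A θ₂) : InE2 A (θ₁ + θ₂) := by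
  have h : A.map (θ₁ + θ₂) ≤ A.map θ₁ ⊔ A.map θ₂ := by
    rintro _ ⟨a, ha, rfl⟩
    exact Submodule.add_mem _ (Submodule.mem_sup_left ⟨a, ha, rfl⟩) (Submodule.mem_sup_right ⟨a, ha, rfl⟩)
  unfold InE2 at h1 h2 ⊢
  exact Submodule.finiteDimensional_of_le h

lemma InE2.neg {θ : V →ₗ[k] V} (h : InE2 A θ) : InE2 A (-θ) := by
  have : A.map (-θ) ≤ A.map θ := by
    rintro _ ⟨a, ha, rfl⟩
    exact ⟨-a, Submodule.neg_mem _ ha, by simp⟩
  unfold InE2 at h ⊢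
  exact Submodule.finiteDimensional_of_le this

lemma InE2.sub {θ₁ θ₂ : V →ₗ[k] V} (h1 : InE2 A θ₁) (h2 : InE2 A θ₂) : InE2 A (θ₁ - θ₂) := by
  rw [sub_eq_add_neg]; exact h1.add h2.neg

lemma InE2.mul_left {θ : V →ₗ[k] V} (h : InE2 A θ) (g : V →ₗ[k] V) : InE2 A (g * θ) := by
  have : A.map (g * θ) ≤ (A.map θ).map g := by
    rintro _ ⟨a, ha, rfl⟩
    exact ⟨θ a, ⟨a, ha, rfl⟩, rfl⟩
  unfold InE2 at h ⊢
  exact Submodule.finiteDimensional_of_le this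

lemma InE2.map_fin {θ : V →ₗ[k] V} (h : InE2 A θ) {X : Submodule k V} (hX : Near X A) :
    FiniteDimensional k (X.map θ) := by
  obtain ⟨W, hW, hXW⟩ := hX
  unfold InE2 at h
  have : X.map θ ≤ A.map θ ⊔ W.map θ := by
    rw [← Submodule.map_sup]; exact Submodule.map_mono hXW
  exact Submodule.finiteDimensional_of_le this

lemma InE2.mul_right {θ : V →ₗ[k] V} (h : InE2 A θ) {g : V →ₗ[k] V} (hg : InE A g) : InE2 A (θ * g) := by
  have : A.map (θ * g) ≤ (A.map g).map θ := by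
    rintro _ ⟨a, ha, rfl⟩
    exact ⟨g a, ⟨a, ha, rfl⟩, rfl⟩
  have h' := h.map_fin hg
  unfold InE2
  exact Submodule.finiteDimensional_of_le this

lemma InE2.of_eq_zero {θ : V →ₗ[k] V} (h : ∀ a ∈ A, θ a = 0) : InE2 A θ := by
  have : A.map θ ≤ ⊥ := by
    rintro _ ⟨a, ha, rfl⟩
    rw [h a ha]; exact Submodule.zero_mem _
  unfold InE2
  exact Submodule.finiteDimensional_of_le this

lemma InE0.add {θ₁ θ₂ : V →ₗ[k] V} (h1 : InE0 A θ₁) (h2 : InE0 A θ₂) : InE0 A (θ₁ + θ₂) :=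
  ⟨h1.1.add h2.1, h1.2.add h2.2⟩
lemma InE0.sub {θ₁ θ₂ : V →ₗ[k] V} (h1 : InE0 A θ₁) (h2 : InE0 A θ₂) : InE0 A (θ₁ - θ₂) :=
  ⟨h1.1.sub h2.1, h1.2.sub h2.2⟩
lemma InE0.neg {θ : V →ₗ[k] V} (h : InE0 A θ) : InE0 A (-θ) := ⟨h.1.neg, h.2.neg⟩
lemma InE0.mul_left {θ g : V →ₗ[k] V} (h : InE0 A θ) (hg : InE A g) : InE0 A (g * θ) :=
  ⟨h.1.mul_left hg, h.2.mul_left g⟩
lemma InE0.mul_right {θ g : V →ₗ[k] V} (h : InE0 A θ) (hg : InE A g) : InE0 A (θ * g) :=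
  ⟨h.1.mul_right g, h.2.mul_right hg⟩

lemma InE0.common_carrier {θ₁ θ₂ : V →ₗ[k] V} (h1 : InE0 A θ₁) (h2 : InE0 A θ₂) :
    ∃ W, Carrier θ₁ W ∧ Carrier θ₂ W ∧ Carrier (θ₁ + θ₂) W := by
  have hR : Near (LinearMap.range θ₁ ⊔ LinearMap.range θ₂) A := Near.sup h1.1 h2.1
  exact exists_common_carrier θ₁ θ₂ (h1.2.map_fin hR) (h2.2.map_fin hR)

lemma InE0.isFP {θ : V →ₗ[k] V} (h : InE0 A θ) : IsFP θ := by
  obtain ⟨W, hW, -, -⟩ := h.common_carrier h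
  exact ⟨W, hW⟩

/-- (T4) additivity of the trace on `E₀(A)` -/
lemma fpTr_add_E0 {θ₁ θ₂ : V →ₗ[k] V} (h1 : InE0 A θ₁) (h2 : InE0 A θ₂) :
    fpTr (θ₁ + θ₂) = fpTr θ₁ + fpTr θ₂ := by
  obtain ⟨W, c1, c2, c12⟩ := h1.common_carrier h2
  exact fpTr_add_of_carrier c1 c2 c12

lemma fpTr_sub_E0 {θ₁ θ₂ : V →ₗ[k] V} (h1 : InE0 A θ₁) (h2 : InE0 A θ₂) :
    fpTr (θ₁ - θ₂) = fpTr θ₁ - fpTr θ₂ := by
  have := fpTr_add_E0 (h1.sub h2) h2
  rw [sub_add_cancel] at this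
  rw [this, add_sub_cancel_right]

/-- the trace of a commutator `[δ, g]` with `δ ∈ E₀`, `g ∈ E` vanishes -/
lemma fpTr_commutator {δ g : V →ₗ[k] V} (hδ : InE0 A δ) (hg : InE A g) :
    fpTr (δ * g - g * δ) = 0 := by
  rw [fpTr_sub_E0 (hδ.mul_right hg) (hδ.mul_left hg), Module.End.mul_eq_comp, Module.End.mul_eq_comp,
    fpTr_comp_comm, sub_self]

/-- near-projections onto `A` -/
def IsNP (A : Submodule k V) (π : V →ₗ[k] V) : Prop := InE1 A π ∧ InE2 A (1 - π)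

lemma IsNP.of_isProj {π : V →ₗ[k] V} (h : LinearMap.IsProj A π) : IsNP A π :=
  ⟨InE1.of_mem h.map_mem, InE2.of_eq_zero fun a ha => by
    rw [LinearMap.sub_apply, Module.End.one_apply, h.map_id a ha, sub_self]⟩

/-- the commutator `[π f, g]` -/
def comm (π f g : V →ₗ[k] V) : V →ₗ[k] V := π * f * g - g * π * f

/-- Tate's abstract residue of `f dg` with respect to the (near-)projection `π`. -/
noncomputable def rs (π f g : V →ₗ[k] V) : k := fpTr (comm π f g)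

lemma comm_eq {π f g : V →ₗ[k] V} (hc : f * g = g * f) :
    comm π f g = g * (1 - π) * f - (1 - π) * f * g := by
  unfold comm
  have : g * (1 - π) * f - (1 - π) * f * g = π * f * g - g * π * f + (g * f - f * g) := by
    noncomm_ring
  rw [this, hc, sub_self, add_zero]

lemma comm_mem_E0 {π f g : V →ₗ[k] V} (hπ : IsNP A π) (hf : InE A f) (hg : InE A g)
    (hc : f * g = g * f) : InE0 A (comm π f g) := by
  refine ⟨?_, ?_⟩
  · unfold comm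
    exact ((hπ.1.mul_right f).mul_right g).sub (by
      rw [mul_assoc]; exact (hπ.1.mul_right f).mul_left hg)
  · rw [comm_eq hc]
    refine InE2.sub ?_ ((hπ.2.mul_right hf).mul_right hg)
    rw [mul_assoc]
    exact (hπ.2.mul_right hf).mul_left g

/-- independence of the near-projection -/
theorem rs_indep {π π' f g : V →ₗ[k] V} (hπ : IsNP A π) (hπ' : IsNP A π') (hf : InE A f)
    (hg : InE A g) (hc : f * g = g * f) : rs π f g = rs π' f g := by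
  have hδ : InE0 A ((π - π') * f) := by
    refine ⟨(hπ.1.sub hπ'.1).mul_right f, ?_⟩
    have : π - π' = (1 - π') - (1 - π) := by abel
    rw [this]
    exact (hπ'.2.sub hπ.2).mul_right hf
  have e : comm π f g = comm π' f g + ((π - π') * f * g - g * ((π - π') * f)) := by
    unfold comm; noncomm_ring
  unfold rs
  rw [e, fpTr_add_E0 (comm_mem_E0 hπ' hf hg hc) ((hδ.mul_right hg).sub (hδ.mul_left hg)),
    fpTr_commutator hδ hg, add_zero]

theorem rs_add_left {π f₁ f₂ g : V →ₗ[k] V} (hπ : IsNP A π) (hf₁ : InE A f₁) (hf₂ : InE A f₂)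
    (hg : InE A g) (hc₁ : f₁ * g = g * f₁) (hc₂ : f₂ * g = g * f₂) :
    rs π (f₁ + f₂) g = rs π f₁ g + rs π f₂ g := by
  unfold rs
  have e : comm π (f₁ + f₂) g = comm π f₁ g + comm π f₂ g := by
    unfold comm; noncomm_ring
  rw [e, fpTr_add_E0 (comm_mem_E0 hπ hf₁ hg hc₁) (comm_mem_E0 hπ hf₂ hg hc₂)]

theorem rs_add_right {π f g₁ g₂ : V →ₗ[k] V} (hπ : IsNP A π) (hf : InE A f) (hg₁ : InE A g₁)
    (hg₂ : InE A g₂) (hc₁ : f * g₁ = g₁ * f) (hc₂ : f * g₂ = g₂ * f) :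
    rs π f (g₁ + g₂) = rs π f g₁ + rs π f g₂ := by
  unfold rs
  have e : comm π f (g₁ + g₂) = comm π f g₁ + comm π f g₂ := by
    unfold comm; noncomm_ring
  rw [e, fpTr_add_E0 (comm_mem_E0 hπ hf hg₁ hc₁) (comm_mem_E0 hπ hf hg₂ hc₂)]

lemma comm_apply (π f g : V →ₗ[k] V) (v : V) : comm π f g v = π (f (g v)) - g (π (f v)) := rfl

/-- (R2) `fA + fgA + fg²A ⊆ A` implies `[πf,g]² = 0`. -/
lemma comm_sq_eq_zero {π f g : V →ₗ[k] V} (hπ : LinearMap.IsProj A π) (hc : f * g = g * f)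
    (H1 : ∀ a ∈ A, f a ∈ A) (H2 : ∀ a ∈ A, f (g a) ∈ A) (H3 : ∀ a ∈ A, f (g (g a)) ∈ A) :
    comm π f g ^ 2 = 0 := by
  have hcv : ∀ v, f (g v) = g (f v) := fun v => by
    rw [← Module.End.mul_apply, hc, Module.End.mul_apply]
  have hA : ∀ a ∈ A, comm π f g a = 0 := by
    intro a ha
    rw [comm_apply, hπ.map_id _ (H2 a ha), hπ.map_id _ (H1 a ha), hcv, sub_self]
  have hgA : ∀ a ∈ A, comm π f g (g a) = 0 := by
    intro a ha
    rw [comm_apply, hπ.map_id _ (H3 a ha), hπ.map_id _ (H2 a ha), hcv, sub_self]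
  ext v
  rw [pow_two, Module.End.mul_apply, LinearMap.zero_apply, comm_apply π f g v, map_sub,
    hA _ (hπ.map_mem _), hgA _ (hπ.map_mem _), sub_self]

theorem rs_eq_zero_R2 {π f g : V →ₗ[k] V} (hπ : LinearMap.IsProj A π) (hc : f * g = g * f)
    (H1 : ∀ a ∈ A, f a ∈ A) (H2 : ∀ a ∈ A, f (g a) ∈ A) (H3 : ∀ a ∈ A, f (g (g a)) ∈ A) :
    rs π f g = 0 :=
  fpTr_of_pow_eq_zero 2 (comm_sq_eq_zero hπ hc H1 H2 H3)

/-- (R2') `gA + fgA + f²gA ⊆ A` implies `[πf,g]³ = 0`. -/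
lemma comm_cube_eq_zero {π f g : V →ₗ[k] V} (hπ : LinearMap.IsProj A π) (hc : f * g = g * f)
    (G1 : ∀ a ∈ A, g a ∈ A) (G2 : ∀ a ∈ A, f (g a) ∈ A) (G3 : ∀ a ∈ A, f (f (g a)) ∈ A) :
    comm π f g ^ 3 = 0 := by
  have hcv : ∀ v, f (g v) = g (f v) := fun v => by
    rw [← Module.End.mul_apply, hc, Module.End.mul_apply]
  have hV : ∀ v, comm π f g v ∈ A := fun v => by
    rw [comm_apply]
    exact Submodule.sub_mem _ (hπ.map_mem _) (G1 _ (hπ.map_mem _))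
  have hA : ∀ a ∈ A, comm π f g (comm π f g a) = 0 := by
    intro a ha
    have e1 : comm π f g a = g (f a - π (f a)) := by
      rw [comm_apply, hπ.map_id _ (G2 a ha), hcv, map_sub]
    have hz : f (g (f a - π (f a))) ∈ A := by
      rw [map_sub, map_sub, ← hcv a]
      exact Submodule.sub_mem _ (G3 a ha) (G2 _ (hπ.map_mem _))
    rw [e1, comm_apply, hπ.map_id _ hz]
    have hz2 : f (g (g (f a - π (f a)))) ∈ A := by
      rw [hcv]; exact G1 _ hz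
    rw [hπ.map_id _ hz2, hcv, sub_self]
  ext v
  rw [pow_succ, pow_two, Module.End.mul_apply, Module.End.mul_apply, LinearMap.zero_apply]
  exact hA _ (hV v)

theorem rs_eq_zero_R2' {π f g : V →ₗ[k] V} (hπ : LinearMap.IsProj A π) (hc : f * g = g * f)
    (G1 : ∀ a ∈ A, g a ∈ A) (G2 : ∀ a ∈ A, f (g a) ∈ A) (G3 : ∀ a ∈ A, f (f (g a)) ∈ A) :
    rs π f g = 0 :=
  fpTr_of_pow_eq_zero 3 (comm_cube_eq_zero hπ hc G1 G2 G3)

end Groth.Agent.Helper16.Tate
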