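import Groth.Agent.H16.Tate2

/-! Tate's residue (part III): the special case of (R4) used for the global residue theorem. -/

namespace Groth.Agent.Helper16.Tate

universe u v
variable {k : Type u} [Field k] {V : Type v} [AddCommGroup V] [Module k V]

lemma exists_rel_compl (X W : Submodule k V) :
    ∃ C : Submodule k V, C ≤ W ∧ Disjoint C X ∧ X ⊔ W ≤ X ⊔ C := by
  obtain ⟨Y, hY⟩ := Submodule.exists_isCompl (X ⊓ W)
  refine ⟨W ⊓ Y, inf_le_left, ?_, ?_⟩
  · rw [Submodule.disjoint_def]
    intro x hx hxX
    have h1 : x ∈ X ⊓ W := ⟨hxX, hx.1⟩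
    exact (Submodule.disjoint_def.mp hY.disjoint) x h1 hx.2
  · refine sup_le le_sup_left ?_
    intro w hw
    have hw' : w ∈ (X ⊓ W) ⊔ Y := by rw [hY.sup_eq_top]; exact Submodule.mem_top
    obtain ⟨u, hu, y, hy, rfl⟩ := Submodule.mem_sup.mp hw'
    have hyW : y ∈ W := by
      have : y = (u + y) - u := by abel
      rw [this]; exact Submodule.sub_mem _ hw hu.2
    exact Submodule.add_mem _ (Submodule.mem_sup_left hu.1) (Submodule.mem_sup_right ⟨hyW, hy⟩)

theorem exists_compl_near (A B : Submodule k V) (hfin : FiniteDimensional k ↥(A ⊓ B))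
    (hcof : ∃ W : Submodule k V, FiniteDimensional k W ∧ A ⊔ B ⊔ W = ⊤) :
    ∃ (N : Submodule k V) (hc : IsCompl N B), IsNP A (N.projection B hc) := by
  obtain ⟨A', hA'A, hdisj, hsup⟩ := exists_rel_compl (A ⊓ B) A
  obtain ⟨W, hW, hWtop⟩ := hcof
  obtain ⟨C, hCW, hCdisj, hCsup⟩ := exists_rel_compl (A ⊔ B) W
  have hCfin : FiniteDimensional k C := Submodule.finiteDimensional_of_le hCW
  have hAle : A ≤ (A ⊓ B) ⊔ A' := le_sup_right.trans hsup
  have hc : IsCompl (A' ⊔ C) B := by
    refine ⟨?_, ?_⟩
    · rw [Submodule.disjoint_def]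
      intro x hx hxB
      obtain ⟨a', ha', c, hc, rfl⟩ := Submodule.mem_sup.mp hx
      have hc0 : c = 0 := by
        refine (Submodule.disjoint_def.mp hCdisj) c hc ?_
        have : c = (a' + c) - a' := by abel
        rw [this]
        exact Submodule.sub_mem _ (Submodule.mem_sup_right hxB) (Submodule.mem_sup_left (hA'A ha'))
      subst hc0
      rw [add_zero] at hxB ⊢
      exact (Submodule.disjoint_def.mp hdisj) a' ha' ⟨hA'A ha', hxB⟩
    · rw [codisjoint_iff, eq_top_iff, ← hWtop]
      refine hCsup.trans ?_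
      refine sup_le (sup_le ?_ le_sup_right) (le_sup_left.trans' le_sup_right)
      refine hAle.trans (sup_le (inf_le_right.trans le_sup_right) (le_sup_left.trans' le_sup_left))
  refine ⟨A' ⊔ C, hc, ?_, ?_⟩
  · refine ⟨C, hCfin, ?_⟩
    rw [Submodule.range_projection]
    exact sup_le_sup_right hA'A _
  · have : A.map (1 - (A' ⊔ C).projection B hc) ≤ A ⊓ B := by
      rintro _ ⟨a, ha, rfl⟩
      obtain ⟨d, hd, a', ha', rfl⟩ := Submodule.mem_sup.mp (hAle ha)
      have e : (1 - (A' ⊔ C).projection B hc) (d + a') = d := by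
        rw [LinearMap.sub_apply, Module.End.one_apply, map_add,
          Submodule.projection_apply_of_mem_right hc hd.2,
          Submodule.projection_apply_of_mem_left hc (Submodule.mem_sup_left ha')]
        abel
      rw [SetLike.mem_coe] at *
      rw [e]; exact hd
    unfold InE2
    exact Submodule.finiteDimensional_of_le this

/-- special case of Tate's (R4): if `f, g` preserve `B`, `A ∩ B` is finite-dimensional and `A + B` has
finite codimension, then the residue with respect to `A` vanishes. -/
theorem rs_eq_zero_of_compl {A B : Submodule k V} (hfin : FiniteDimensional k ↥(A ⊓ B))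
    (hcof : ∃ W : Submodule k V, FiniteDimensional k W ∧ A ⊔ B ⊔ W = ⊤)
    {π f g : V →ₗ[k] V} (hπ : IsNP A π) (hf : InE A f) (hg : InE A g) (hc : f * g = g * f)
    (hfB : ∀ b ∈ B, f b ∈ B) (hgB : ∀ b ∈ B, g b ∈ B) : rs π f g = 0 := by
  obtain ⟨N, hN, hq⟩ := exists_compl_near A B hfin hcof
  rw [rs_indep hπ hq hf hg hc]
  have hp : LinearMap.IsProj B (B.projection N hN.symm) :=
    ⟨fun x => Submodule.projection_apply_mem _ _, fun x hx => Submodule.projection_apply_of_mem_left _ hx⟩
  have e : comm (N.projection B hN) f g = - comm (B.projection N hN.symm) f g := by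
    have e1 : N.projection B hN = 1 - B.projection N hN.symm := by
      rw [Submodule.projection_eq_id_sub_projection hN.symm]; rfl
    rw [e1]
    unfold comm
    have : (1 - B.projection N hN.symm) * f * g - g * (1 - B.projection N hN.symm) * f =
        -(B.projection N hN.symm * f * g - g * B.projection N hN.symm * f) + (f * g - g * f) := by
      noncomm_ring
    rw [this, hc, sub_self, add_zero]
  unfold rs
  rw [e]
  refine fpTr_of_pow_eq_zero 2 ?_
  rw [neg_pow, comm_sq_eq_zero hp hc hfB (fun b hb => hfB _ (hgB b hb))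
    (fun b hb => hfB _ (hgB _ (hgB b hb))), mul_zero]

/-- commutators with finite-rank operators have trace zero -/
lemma fpTr_commutator_of_finrank {δ g : V →ₗ[k] V} (hδ : FiniteDimensional k (LinearMap.range δ)) :
    fpTr (δ * g - g * δ) = 0 := by
  have h0 : InE0 (⊥ : Submodule k V) δ :=
    ⟨⟨LinearMap.range δ, hδ, le_sup_right⟩, InE2.of_eq_zero fun a ha => by
      rw [(Submodule.mem_bot k).mp ha, map_zero]⟩
  have hg : InE (⊥ : Submodule k V) g := InE.of_le fun a ha => by
    rw [(Submodule.mem_bot k).mp ha, map_zero]; exact Submodule.zero_mem _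
  exact fpTr_commutator h0 hg

end Groth.Agent.Helper16.Tate
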