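import Groth.Agent.H16.Tate3
import Groth.Prelude.Def_LocRes

/-! Tate's residue (part IV): Laurent series; the subspaces of bounded order, truncation. -/

namespace Groth.Agent.Helper16.Tate

open LaurentSeries HahnSeries

universe u w
variable (k : Type u) [Field k] (F : Type w) [Field F] [Algebra k F]

/-- Laurent series of order at least `n`, as a `k`-subspace. -/
def Lz (n : ℤ) : Submodule k F⸨X⸩ where
  carrier := {s | ∀ i < n, s.coeff i = 0}
  add_mem' {a b} ha hb i hi := by rw [HahnSeries.coeff_add, ha i hi, hb i hi, add_zero]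
  zero_mem' i _ := rfl
  smul_mem' c a ha i hi := by rw [HahnSeries.coeff_smul, ha i hi, smul_zero]

variable {k F}

lemma mem_Lz {n : ℤ} {s : F⸨X⸩} : s ∈ Lz k F n ↔ ∀ i < n, s.coeff i = 0 := Iff.rfl

lemma mem_Lz_iff_val {n : ℤ} {s : F⸨X⸩} : s ∈ Lz k F n ↔ Valued.v s ≤ WithZero.exp (-n) :=
  (LaurentSeries.valuation_le_iff_coeff_lt_eq_zero F).symm

lemma Lz_mono {a b : ℤ} (h : b ≤ a) : Lz k F a ≤ Lz k F b := fun _ hs i hi => hs i (lt_of_lt_of_le hi h)

lemma mul_mem_Lz {a b : ℤ} {f s : F⸨X⸩} (hf : f ∈ Lz k F a) (hs : s ∈ Lz k F b) :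
    f * s ∈ Lz k F (a + b) := by
  rw [mem_Lz_iff_val] at hf hs ⊢
  rw [map_mul, neg_add, WithZero.exp_add]
  exact mul_le_mul' hf hs

lemma exists_mem_Lz (f : F⸨X⸩) : ∃ m : ℕ, f ∈ Lz k F (-(m : ℤ)) := by
  refine ⟨(-f.order).toNat, fun i hi => HahnSeries.coeff_eq_zero_of_lt_order ?_⟩
  have := Int.self_le_toNat (-f.order)
  omega

lemma single_mem_Lz (i : ℤ) (c : F) : HahnSeries.single i c ∈ Lz k F i := by
  intro n hn
  exact HahnSeries.coeff_single_of_ne (ne_of_lt hn)

variable (k F)

/-- truncation to the power-series part -/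
noncomputable def trunc : F⸨X⸩ →ₗ[k] F⸨X⸩ where
  toFun s := HahnSeries.ofPowerSeries ℤ F (PowerSeries.mk fun n => s.coeff n)
  map_add' a b := by
    ext i
    rw [HahnSeries.coeff_add, PowerSeries.coeff_coe, PowerSeries.coeff_coe, PowerSeries.coeff_coe]
    split_ifs
    · rw [add_zero]
    · simp [PowerSeries.coeff_mk]
  map_smul' c a := by
    ext i
    rw [RingHom.id_apply, HahnSeries.coeff_smul, PowerSeries.coeff_coe, PowerSeries.coeff_coe]
    split_ifs
    · rw [smul_zero]
    · simp [PowerSeries.coeff_mk]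

variable {k F}

lemma trunc_coeff (s : F⸨X⸩) (i : ℤ) : (trunc k F s).coeff i = if 0 ≤ i then s.coeff i else 0 := by
  show (HahnSeries.ofPowerSeries ℤ F (PowerSeries.mk fun n => s.coeff n)).coeff i = _
  rw [PowerSeries.coeff_coe]
  by_cases h : i < 0
  · rw [if_pos h, if_neg (not_le.mpr h)]
  · rw [if_neg h, if_pos (not_lt.mp h), PowerSeries.coeff_mk]
    congr 1
    omega

lemma trunc_isProj : LinearMap.IsProj (Lz k F 0) (trunc k F) where
  map_mem s i hi := by rw [trunc_coeff, if_neg (not_le.mpr hi)]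
  map_id s hs := by
    ext i
    rw [trunc_coeff]
    split_ifs with h
    · rfl
    · exact (hs i (not_le.mp h)).symm

lemma Near.trans_le {V : Type*} [AddCommGroup V] [Module k V] {X Y Z W : Submodule k V}
    (hW : FiniteDimensional k W) (hX : X ≤ Y ⊔ W) (hY : Near Y Z) : Near X Z := by
  obtain ⟨W', hW', hYW'⟩ := hY
  refine ⟨W' ⊔ W, inferInstance, hX.trans ?_⟩
  rw [← sup_assoc]
  exact sup_le_sup_right hYW' _

lemma near_Lz [FiniteDimensional k F] (m : ℕ) : Near (Lz k F (-(m : ℤ))) (Lz k F 0) := by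
  induction m with
  | zero => exact Near.of_le (by simp)
  | succ m ih =>
    refine Near.trans_le (W := LinearMap.range (HahnSeries.single.linearMap (R := k) (V := F) (-((m : ℤ) + 1))))
      inferInstance ?_ ih
    intro s hs
    have h1 : s - HahnSeries.single (-((m : ℤ) + 1)) (s.coeff (-((m : ℤ) + 1))) ∈ Lz k F (-(m : ℤ)) := by
      intro i hi
      rw [HahnSeries.coeff_sub]
      by_cases h : i = -((m : ℤ) + 1)
      · rw [h, HahnSeries.coeff_single_same, sub_self]
      · rw [HahnSeries.coeff_single_of_ne h, sub_zero]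
        refine hs i ?_
        push_cast
        omega
    have h2 : s = (s - HahnSeries.single (-((m : ℤ) + 1)) (s.coeff (-((m : ℤ) + 1)))) +
        HahnSeries.single (-((m : ℤ) + 1)) (s.coeff (-((m : ℤ) + 1))) := by abel
    rw [h2]
    exact Submodule.add_mem _ (Submodule.mem_sup_left h1) (Submodule.mem_sup_right ⟨_, rfl⟩)

/-- multiplication by a Laurent series as a `k`-linear endomorphism (coefficientwise scalars) -/
noncomputable def mulL (f : F⸨X⸩) : F⸨X⸩ →ₗ[k] F⸨X⸩ where
  toFun s := f * s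
  map_add' := mul_add f
  map_smul' c s := by
    rw [RingHom.id_apply, ← algebraMap_smul F c s, ← algebraMap_smul F c (f * s),
      ← HahnSeries.C_mul_eq_smul, ← HahnSeries.C_mul_eq_smul, mul_left_comm]

@[simp] lemma mulL_apply (f s : F⸨X⸩) : mulL (k := k) f s = f * s := rfl

lemma mulL_add (f g : F⸨X⸩) : mulL (k := k) (f + g) = mulL f + mulL g := by
  ext s; simp [add_mul]

lemma mulL_inE [FiniteDimensional k F] (f : F⸨X⸩) : InE (Lz k F 0) (mulL (k := k) f) := by
  obtain ⟨m, hm⟩ := exists_mem_Lz (k := k) f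
  refine Near.mono_left ?_ (near_Lz (k := k) (F := F) m)
  rintro _ ⟨a, ha, rfl⟩
  have := mul_mem_Lz hm ha
  rwa [add_zero] at this

lemma mulL_comm (f g : F⸨X⸩) : mulL (k := k) f * mulL g = mulL g * mulL f := by
  ext s
  simp only [Module.End.mul_apply, mulL_apply]
  exact congrArg (fun t => HahnSeries.coeff t _) (mul_left_comm _ _ _)

end Groth.Agent.Helper16.Tate
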