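import Groth.Agent.H16.Tate4

/-! Tate's residue (part V): the local computation on Laurent series. -/

namespace Groth.Agent.Helper16.Tate

open LaurentSeries HahnSeries

universe u w
variable {k : Type u} [Field k] {F : Type w} [Field F] [Algebra k F]

/-- Tate's residue of `f dg` on `F((X))` with respect to `F[[X]]` -/
noncomputable def T (k : Type u) [Field k] {F : Type w} [Field F] [Algebra k F] (f g : F⸨X⸩) : k :=
  rs (trunc k F) (mulL f) (mulL g)

/-- the classical residue, traced down to `k` -/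
noncomputable def R (k : Type u) [Field k] {F : Type w} [Field F] [Algebra k F] (f g : F⸨X⸩) : k :=
  Algebra.trace k F ((f * LocRes.D F g).coeff (-1))

lemma trunc_isNP : IsNP (Lz k F 0) (trunc k F) := IsNP.of_isProj trunc_isProj

variable [FiniteDimensional k F]

lemma T_add_left (f₁ f₂ g : F⸨X⸩) : T k (f₁ + f₂) g = T k f₁ g + T k f₂ g := by
  unfold T
  rw [mulL_add]
  exact rs_add_left trunc_isNP (mulL_inE f₁) (mulL_inE f₂) (mulL_inE g) (mulL_comm _ _) (mulL_comm _ _)

lemma T_add_right (f g₁ g₂ : F⸨X⸩) : T k f (g₁ + g₂) = T k f g₁ + T k f g₂ := by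
  unfold T
  rw [mulL_add]
  exact rs_add_right trunc_isNP (mulL_inE f) (mulL_inE g₁) (mulL_inE g₂) (mulL_comm _ _) (mulL_comm _ _)

omit [FiniteDimensional k F] in
lemma R_add_left (f₁ f₂ g : F⸨X⸩) : R k (f₁ + f₂) g = R k f₁ g + R k f₂ g := by
  unfold R
  rw [add_mul, HahnSeries.coeff_add, map_add]

omit [FiniteDimensional k F] in
lemma R_add_right (f g₁ g₂ : F⸨X⸩) : R k f (g₁ + g₂) = R k f g₁ + R k f g₂ := by
  unfold R
  rw [map_add, mul_add, HahnSeries.coeff_add, map_add]

omit [FiniteDimensional k F] in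
lemma T_deep_left {f g : F⸨X⸩} {N : ℤ} {m : ℕ} (hf : f ∈ Lz k F N) (hg : g ∈ Lz k F (-(m : ℤ)))
    (hN : 2 * (m : ℤ) ≤ N) : T k f g = 0 := by
  refine rs_eq_zero_R2 trunc_isProj (mulL_comm _ _) ?_ ?_ ?_
  · intro a ha
    exact Lz_mono (by omega) (mul_mem_Lz hf ha)
  · intro a ha
    exact Lz_mono (by omega) (mul_mem_Lz hf (mul_mem_Lz hg ha))
  · intro a ha
    exact Lz_mono (by omega) (mul_mem_Lz hf (mul_mem_Lz hg (mul_mem_Lz hg ha)))

omit [FiniteDimensional k F] in
lemma T_deep_right {f g : F⸨X⸩} {N : ℤ} {m : ℕ} (hg : g ∈ Lz k F N) (hf : f ∈ Lz k F (-(m : ℤ)))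
    (hN : 2 * (m : ℤ) ≤ N) : T k f g = 0 := by
  refine rs_eq_zero_R2' trunc_isProj (mulL_comm _ _) ?_ ?_ ?_
  · intro a ha
    exact Lz_mono (by omega) (mul_mem_Lz hg ha)
  · intro a ha
    exact Lz_mono (by omega) (mul_mem_Lz hf (mul_mem_Lz hg ha))
  · intro a ha
    exact Lz_mono (by omega) (mul_mem_Lz hf (mul_mem_Lz hf (mul_mem_Lz hg ha)))

omit [FiniteDimensional k F] in
lemma D_mem_Lz {g : F⸨X⸩} {a : ℤ} (hg : g ∈ Lz k F a) : LocRes.D F g ∈ Lz k F (a - 1) := by
  intro i hi
  rw [LocRes.D_coeff, hg (i + 1) (by omega), smul_zero]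

omit [FiniteDimensional k F] in
lemma R_deep {f g : F⸨X⸩} {a b : ℤ} (hf : f ∈ Lz k F a) (hg : g ∈ Lz k F b) (hab : 0 < a + b) :
    R k f g = 0 := by
  unfold R
  have h1 : f * LocRes.D F g ∈ Lz k F (a + (b - 1)) := mul_mem_Lz hf (D_mem_Lz hg)
  have h2 : (f * LocRes.D F g).coeff (-1) = 0 := h1 (-1) (by omega)
  rw [h2, map_zero]

section monomial

omit [FiniteDimensional k F]

/-- the sign function of the window -/
noncomputable def eps (F : Type w) [Field F] (j n : ℤ) : F := (if 0 ≤ n then 1 else 0) - (if j ≤ n then 1 else 0)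

lemma eps_ne_zero {j n : ℤ} (h : eps F j n ≠ 0) : (0 ≤ n ∧ n < j) ∨ (j ≤ n ∧ n < 0) := by
  unfold eps at h
  by_cases h0 : 0 ≤ n <;> by_cases hj : j ≤ n
  · simp [h0, hj] at h
  · left; exact ⟨h0, not_le.mp hj⟩
  · right; exact ⟨hj, not_le.mp h0⟩
  · simp [h0, hj] at h

lemma comm_single_coeff (i j : ℤ) (c c' : F) (s : F⸨X⸩) (n : ℤ) :
    (comm (trunc k F) (mulL (HahnSeries.single i c)) (mulL (HahnSeries.single j c')) s).coeff n =
      c * c' * eps F j n * s.coeff (n - (i + j)) := by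
  rw [comm_apply, HahnSeries.coeff_sub, trunc_coeff, mulL_apply, mulL_apply, mulL_apply, mulL_apply,
    HahnSeries.coeff_single_mul, HahnSeries.coeff_single_mul, HahnSeries.coeff_single_mul, trunc_coeff,
    HahnSeries.coeff_single_mul]
  have e1 : n - i - j = n - (i + j) := by ring
  have e2 : n - j - i = n - (i + j) := by ring
  rw [e1, e2]
  unfold eps
  by_cases h0 : 0 ≤ n <;> by_cases hj : j ≤ n
  · have : 0 ≤ n - j := by omega
    simp only [h0, hj, this, if_true]; ring
  · have : ¬ 0 ≤ n - j := by omega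
    simp only [h0, hj, this, if_true, if_false]; ring
  · have : 0 ≤ n - j := by omega
    simp only [h0, hj, this, if_true, if_false]; ring
  · have : ¬ 0 ≤ n - j := by omega
    simp only [h0, hj, this, if_false]; ring

lemma comm_single_pow_coeff (i j : ℤ) (c c' : F) :
    ∀ (r : ℕ) (s : F⸨X⸩) (n : ℤ),
      ((comm (trunc k F) (mulL (HahnSeries.single i c)) (mulL (HahnSeries.single j c')) ^ r) s).coeff n ≠ 0 →
        ∀ l : ℕ, l < r → eps F j (n - l * (i + j)) ≠ 0 := by
  intro r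
  induction r with
  | zero => intro s n _ l hl; omega
  | succ r ih =>
    intro s n h l hl
    rw [pow_succ', Module.End.mul_apply, comm_single_coeff] at h
    have h1 : eps F j n ≠ 0 := fun h0 => h (by rw [h0]; ring)
    have h2 := ih s (n - (i + j)) (fun h0 => h (by rw [h0]; ring))
    rcases l with _ | l
    · simpa using h1
    · have := h2 l (by omega)
      have e : n - (i + j) - (l : ℤ) * (i + j) = n - ((l + 1 : ℕ) : ℤ) * (i + j) := by
        push_cast; ring
      rwa [e] at this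

lemma T_single_of_ne (i j : ℤ) (c c' : F) (hij : i + j ≠ 0) :
    T k (HahnSeries.single i c) (HahnSeries.single j c') = 0 := by
  refine fpTr_of_pow_eq_zero (j.natAbs + 1) ?_
  ext s n
  rw [LinearMap.zero_apply, HahnSeries.coeff_zero]
  by_contra h
  have h' := comm_single_pow_coeff (k := k) i j c c' (j.natAbs + 1) s n h
  have w0 := eps_ne_zero (h' 0 (by omega))
  have w1 := eps_ne_zero (h' j.natAbs (by omega))
  have hd : (1 : ℤ) ≤ i + j ∨ i + j ≤ -1 := by omega
  have ha : (0 : ℤ) ≤ (j.natAbs : ℤ) := Int.natCast_nonneg _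
  have habs : ((j.natAbs : ℕ) : ℤ) = j ∨ ((j.natAbs : ℕ) : ℤ) = -j := by omega
  rcases hd with hd | hd
  · have hm : (j.natAbs : ℤ) ≤ (j.natAbs : ℤ) * (i + j) := le_mul_of_one_le_right ha hd
    simp only [Nat.cast_zero, zero_mul, sub_zero] at w0
    rcases habs with e | e <;> omega
  · have hm : (j.natAbs : ℤ) * (i + j) ≤ -(j.natAbs : ℤ) := by nlinarith
    simp only [Nat.cast_zero, zero_mul, sub_zero] at w0
    rcases habs with e | e <;> omega

end monomial

lemma isFP_of_finiteDimensional {V : Type*} [AddCommGroup V] [Module k V] [FiniteDimensional k V]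
    (θ : V →ₗ[k] V) : IsFP θ :=
  ⟨⊤, inferInstance, fun _ _ => Submodule.mem_top, 0, fun _ => Submodule.mem_top⟩

/-- the rank-one (over `F`) piece `s ↦ a s_n Xⁿ` -/
noncomputable def piece (k : Type u) [Field k] {F : Type w} [Field F] [Algebra k F] (a : F) (n : ℤ) :
    F⸨X⸩ →ₗ[k] F⸨X⸩ :=
  (HahnSeries.single.linearMap (R := k) (V := F) n) ∘ₗ (LinearMap.mulLeft k a) ∘ₗ
    (HahnSeries.coeff.linearMap (R := k) (V := F) n)

omit [FiniteDimensional k F] in
lemma piece_apply (a : F) (n : ℤ) (s : F⸨X⸩) : piece k a n s = HahnSeries.single n (a * s.coeff n) := rfl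

lemma piece_isFP (a : F) (n : ℤ) : IsFP (piece k a n) := by
  unfold piece
  refine isFP_comp_comm (f := (LinearMap.mulLeft k a) ∘ₗ (HahnSeries.coeff.linearMap (R := k) (V := F) n))
    (g := HahnSeries.single.linearMap (R := k) (V := F) n) (isFP_of_finiteDimensional _)

lemma piece_fpTr (a : F) (n : ℤ) : fpTr (piece k a n) = Algebra.trace k F a := by
  unfold piece
  rw [fpTr_comp_comm]
  have e : ((LinearMap.mulLeft k a) ∘ₗ (HahnSeries.coeff.linearMap (R := k) (V := F) n)) ∘ₗ
      (HahnSeries.single.linearMap (R := k) (V := F) n) = LinearMap.mulLeft k a := by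
    ext x
    simp
  rw [e, fpTr_eq_trace, Algebra.trace_apply]
  rfl

omit [FiniteDimensional k F] in
lemma piece_orth (a b : F) {n m : ℤ} (h : n ≠ m) : piece k a n * piece k b m = 0 := by
  ext s i
  rw [Module.End.mul_apply, piece_apply, piece_apply, HahnSeries.coeff_single_of_ne h, mul_zero]
  simp

omit [FiniteDimensional k F] in
lemma comm_single_diag (i j : ℤ) (c c' : F) (hij : i + j = 0) :
    comm (trunc k F) (mulL (HahnSeries.single i c)) (mulL (HahnSeries.single j c')) =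
      ∑ n ∈ Finset.Ico (min 0 j) (max 0 j), piece k (c * c' * eps F j n) n := by
  ext s n'
  rw [comm_single_coeff, hij, sub_zero, LinearMap.sum_apply, HahnSeries.coeff_sum]
  simp only [piece_apply, HahnSeries.coeff_single]
  by_cases h : n' ∈ Finset.Ico (min 0 j) (max 0 j)
  · rw [Finset.sum_eq_single_of_mem n' h]
    · rw [if_pos rfl]
    · intro b _ hb; exact if_neg (Ne.symm hb)
  · have : eps F j n' = 0 := by
      by_contra h0
      apply h
      rw [Finset.mem_Ico]
      rcases eps_ne_zero h0 with h1 | h1 <;> omega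
    rw [this, mul_zero, zero_mul]
    refine (Finset.sum_eq_zero fun b hb => if_neg ?_).symm
    rintro rfl
    exact h hb

omit [FiniteDimensional k F] [Algebra k F] in
lemma sum_eps (j : ℤ) : ∑ n ∈ Finset.Ico (min 0 j) (max 0 j), eps F j n = (j : F) := by
  rcases le_or_gt 0 j with hj | hj
  · rw [min_eq_left hj, max_eq_right hj]
    have : ∀ n ∈ Finset.Ico 0 j, eps F j n = 1 := by
      intro n hn
      rw [Finset.mem_Ico] at hn
      unfold eps
      rw [if_pos hn.1, if_neg (not_le.mpr hn.2), sub_zero]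
    rw [Finset.sum_congr rfl this, Finset.sum_const, Int.card_Ico, sub_zero, nsmul_eq_mul, mul_one]
    have : ((j.toNat : ℕ) : ℤ) = j := Int.toNat_of_nonneg hj
    rw [← Int.cast_natCast, this]
  · rw [min_eq_right hj.le, max_eq_left hj.le]
    have : ∀ n ∈ Finset.Ico j 0, eps F j n = -1 := by
      intro n hn
      rw [Finset.mem_Ico] at hn
      unfold eps
      rw [if_neg (not_le.mpr hn.2), if_pos hn.1, zero_sub]
    rw [Finset.sum_congr rfl this, Finset.sum_const, Int.card_Ico, zero_sub, nsmul_eq_mul, mul_neg, mul_one]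
    have : (((-j).toNat : ℕ) : ℤ) = -j := Int.toNat_of_nonneg (by omega)
    rw [← Int.cast_natCast, this, Int.cast_neg, neg_neg]

lemma T_single_diag (i j : ℤ) (c c' : F) (hij : i + j = 0) :
    T k (HahnSeries.single i c) (HahnSeries.single j c') = Algebra.trace k F (c * c' * (j : F)) := by
  unfold T rs
  rw [comm_single_diag i j c c' hij]
  have := fpTr_sum_of_orth (Finset.Ico (min 0 j) (max 0 j)) (fun n => piece k (c * c' * eps F j n) n)
    (fun n _ => piece_isFP _ _) (fun n _ m _ hnm => piece_orth _ _ hnm)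
  rw [this.2]
  simp only [piece_fpTr]
  rw [← map_sum, ← Finset.mul_sum, sum_eps]

omit [FiniteDimensional k F] [Algebra k F] in
lemma D_single (j : ℤ) (c' : F) :
    LocRes.D F (HahnSeries.single j c') = HahnSeries.single (j - 1) (j • c') := by
  ext n
  rw [LocRes.D_coeff, HahnSeries.coeff_single, HahnSeries.coeff_single]
  by_cases h : n + 1 = j
  · have h' : n = j - 1 := by omega
    rw [if_pos h, if_pos h', h]
  · have h' : ¬ n = j - 1 := by omega
    rw [if_neg h, if_neg h', smul_zero]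

omit [FiniteDimensional k F] in
lemma R_single (i j : ℤ) (c c' : F) :
    R k (HahnSeries.single i c) (HahnSeries.single j c') =
      if i + j = 0 then Algebra.trace k F (c * c' * (j : F)) else 0 := by
  unfold R
  rw [D_single, HahnSeries.single_mul_single, HahnSeries.coeff_single]
  by_cases h : i + j = 0
  · have h' : (-1 : ℤ) = i + (j - 1) := by omega
    rw [if_pos h, if_pos h', zsmul_eq_mul]
    congr 1
    ring
  · have h' : ¬ (-1 : ℤ) = i + (j - 1) := by omega
    rw [if_neg h, if_neg h', map_zero]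

lemma T_single (i j : ℤ) (c c' : F) :
    T k (HahnSeries.single i c) (HahnSeries.single j c') =
      R k (HahnSeries.single i c) (HahnSeries.single j c') := by
  rw [R_single]
  by_cases h : i + j = 0
  · rw [if_pos h, T_single_diag i j c c' h]
  · rw [if_neg h, T_single_of_ne i j c c' h]

omit [FiniteDimensional k F] in
lemma sub_lo_mem {h : F⸨X⸩} {m : ℕ} (hh : h ∈ Lz k F (-(m : ℤ))) (N : ℤ) :
    h - ∑ i ∈ Finset.Ico (-(m : ℤ)) N, HahnSeries.single i (h.coeff i) ∈ Lz k F N := by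
  intro n hn
  rw [HahnSeries.coeff_sub, HahnSeries.coeff_sum]
  simp only [HahnSeries.coeff_single]
  by_cases hmem : n ∈ Finset.Ico (-(m : ℤ)) N
  · rw [Finset.sum_eq_single_of_mem n hmem]
    · rw [if_pos rfl, sub_self]
    · intro b _ hb; exact if_neg (Ne.symm hb)
  · have h0 : h.coeff n = 0 := by
      refine hh n ?_
      rw [Finset.mem_Ico] at hmem
      omega
    rw [h0, zero_sub, neg_eq_zero]
    refine Finset.sum_eq_zero fun b hb => if_neg ?_
    rintro rfl
    exact hmem hb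

omit [FiniteDimensional k F] in
lemma lo_mem (h : F⸨X⸩) (m : ℕ) (N : ℤ) :
    ∑ i ∈ Finset.Ico (-(m : ℤ)) N, HahnSeries.single i (h.coeff i) ∈ Lz k F (-(m : ℤ)) := by
  refine Submodule.sum_mem _ fun i hi => ?_
  rw [Finset.mem_Ico] at hi
  exact Lz_mono hi.1 (single_mem_Lz i _)

omit [FiniteDimensional k F] in
lemma biadd_ext (Φ : F⸨X⸩ → F⸨X⸩ → k)
    (hl : ∀ f₁ f₂ g, Φ (f₁ + f₂) g = Φ f₁ g + Φ f₂ g)
    (hr : ∀ f g₁ g₂, Φ f (g₁ + g₂) = Φ f g₁ + Φ f g₂)
    (hs : ∀ (i j : ℤ) (c c' : F), Φ (HahnSeries.single i c) (HahnSeries.single j c') = 0)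
    (hdl : ∀ (f g : F⸨X⸩) (N : ℤ) (m : ℕ), f ∈ Lz k F N → g ∈ Lz k F (-(m : ℤ)) → 2 * (m : ℤ) + 1 ≤ N →
      Φ f g = 0)
    (hdr : ∀ (f g : F⸨X⸩) (N : ℤ) (m : ℕ), g ∈ Lz k F N → f ∈ Lz k F (-(m : ℤ)) → 2 * (m : ℤ) + 1 ≤ N →
      Φ f g = 0) : ∀ f g, Φ f g = 0 := by
  have h0l : ∀ y, Φ 0 y = 0 := fun y => by
    have := hl 0 0 y
    rw [add_zero] at this
    exact left_eq_add.mp this
  have h0r : ∀ x, Φ x 0 = 0 := fun x => by
    have := hr x 0 0
    rw [add_zero] at this
    exact left_eq_add.mp this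
  intro f g
  obtain ⟨m₁, hm₁⟩ := exists_mem_Lz (k := k) f
  obtain ⟨m₂, hm₂⟩ := exists_mem_Lz (k := k) g
  obtain ⟨m, hm⟩ : ∃ m, m = max m₁ m₂ := ⟨_, rfl⟩
  have hf : f ∈ Lz k F (-(m : ℤ)) := Lz_mono (by omega) hm₁
  have hg : g ∈ Lz k F (-(m : ℤ)) := Lz_mono (by omega) hm₂
  obtain ⟨N, hN⟩ : ∃ N : ℤ, N = 2 * (m : ℤ) + 1 := ⟨_, rfl⟩
  have ef : f = ∑ i ∈ Finset.Ico (-(m : ℤ)) N, HahnSeries.single i (f.coeff i) +
      (f - ∑ i ∈ Finset.Ico (-(m : ℤ)) N, HahnSeries.single i (f.coeff i)) := by abel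
  have eg : g = ∑ i ∈ Finset.Ico (-(m : ℤ)) N, HahnSeries.single i (g.coeff i) +
      (g - ∑ i ∈ Finset.Ico (-(m : ℤ)) N, HahnSeries.single i (g.coeff i)) := by abel
  rw [ef, hl, hdl _ g N m (sub_lo_mem hf N) hg hN.ge, add_zero, eg, hr,
    hdr _ _ N m (sub_lo_mem hg N) (lo_mem f m N) hN.ge, add_zero]
  refine Finset.sum_induction _ (fun x => Φ x _ = 0) (fun a b ha hb => by rw [hl, ha, hb, add_zero])
    (h0l _) fun i _ => ?_
  refine Finset.sum_induction _ (fun y => Φ _ y = 0) (fun a b ha hb => by rw [hr, ha, hb, add_zero])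
    (h0r _) fun j _ => ?_
  exact hs _ _ _ _

/-- **Local computation** of Tate's residue on Laurent series. -/
theorem T_eq_R (f g : F⸨X⸩) : T k f g = R k f g := by
  have := biadd_ext (k := k) (fun f g => T k f g - R k f g)
    (fun f₁ f₂ g => by simp only [T_add_left, R_add_left]; ring)
    (fun f g₁ g₂ => by simp only [T_add_right, R_add_right]; ring)
    (fun i j c c' => by simp only [T_single, sub_self])
    (fun f g N m hf hg hN => by
      simp only [T_deep_left hf hg (by omega), R_deep hf hg (by omega), sub_self])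
    (fun f g N m hg hf hN => by
      simp only [T_deep_right hg hf (by omega), R_deep hf hg (by omega), sub_self]) f g
  exact sub_eq_zero.mp this

end Groth.Agent.Helper16.Tate
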