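import Groth.Agent.H16.Tate3

/-! Tate's residue (part VI): restricted products. -/

namespace Groth.Agent.Helper16.Tate

universe u v w
variable {k : Type u} [Field k] {ι : Type v} {V : ι → Type w} [∀ i, AddCommGroup (V i)]
  [∀ i, Module k (V i)] (A : ∀ i, Submodule k (V i))

/-- the restricted product of the `V i` with respect to the `A i` -/
def Vr : Submodule k (∀ i, V i) where
  carrier := {v | {i | v i ∉ A i}.Finite}
  add_mem' {a b} ha hb := by
    refine (ha.union hb).subset fun i hi => ?_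
    by_contra h
    rw [Set.mem_union, not_or] at h
    simp only [Set.mem_setOf_eq, not_not] at h
    exact hi (Submodule.add_mem _ h.1 h.2)
  zero_mem' := by
    have : {i | (0 : ∀ i, V i) i ∉ A i} = ∅ := by
      ext i; simp
    rw [Set.mem_setOf_eq, this]; exact Set.finite_empty
  smul_mem' c a ha := ha.subset fun i hi h => hi (Submodule.smul_mem _ c h)

lemma mem_Vr {v : ∀ i, V i} : v ∈ Vr A ↔ {i | v i ∉ A i}.Finite := Iff.rfl

/-- the product of the `A i` inside the restricted product -/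
def AV : Submodule k (Vr A) where
  carrier := {v | ∀ i, v.1 i ∈ A i}
  add_mem' {a b} ha hb i := Submodule.add_mem _ (ha i) (hb i)
  zero_mem' i := Submodule.zero_mem _
  smul_mem' c a ha i := Submodule.smul_mem _ c (ha i)

lemma mem_AV {v : Vr A} : v ∈ AV A ↔ ∀ i, v.1 i ∈ A i := Iff.rfl

variable {A}

lemma preserves_of_finset (h : ∀ i, V i →ₗ[k] V i) (S : Finset ι)
    (hS : ∀ i, i ∉ S → ∀ a ∈ A i, h i a ∈ A i) : ∀ v ∈ Vr A, (fun i => h i (v i)) ∈ Vr A := by
  intro v hv
  refine (hv.union S.finite_toSet).subset fun i hi => ?_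
  by_contra hn
  rw [Set.mem_union, not_or] at hn
  simp only [Set.mem_setOf_eq, not_not, Finset.mem_coe] at hn
  exact hi (hS i hn.2 _ hn.1)

/-- componentwise operators on the restricted product -/
def piMap (h : ∀ i, V i →ₗ[k] V i) (hh : ∀ v ∈ Vr A, (fun i => h i (v i)) ∈ Vr A) :
    Vr A →ₗ[k] Vr A :=
  (LinearMap.pi fun i => h i ∘ₗ LinearMap.proj i).restrict hh

@[simp] lemma piMap_apply (h : ∀ i, V i →ₗ[k] V i) (hh) (v : Vr A) (i : ι) :
    (piMap h hh v).1 i = h i (v.1 i) := rfl

lemma comm_piMap (π f g : ∀ i, V i →ₗ[k] V i) (hπ hf hg hθ) :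
    comm (piMap (A := A) π hπ) (piMap f hf) (piMap g hg) =
      piMap (fun i => comm (π i) (f i) (g i)) hθ := by
  ext v i
  rfl

variable [DecidableEq ι]

/-- the inclusion of a factor -/
def inj (i : ι) : V i →ₗ[k] Vr A :=
  (LinearMap.single k V i).codRestrict (Vr A) (fun x => by
    refine (Set.finite_singleton i).subset fun j hj => ?_
    by_contra hne
    apply hj
    rw [LinearMap.single_apply, Pi.single_eq_of_ne hne]
    exact Submodule.zero_mem _)

/-- the projection to a factor -/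
def ev (i : ι) : Vr A →ₗ[k] V i := (LinearMap.proj i) ∘ₗ (Vr A).subtype

lemma inj_apply_same (i : ι) (x : V i) : (inj (A := A) i x).1 i = x := by
  show Pi.single i x i = x
  exact Pi.single_eq_same i x

lemma inj_apply_ne {i j : ι} (h : j ≠ i) (x : V i) : (inj (A := A) i x).1 j = 0 := by
  show Pi.single i x j = 0
  exact Pi.single_eq_of_ne h x

lemma ev_apply (i : ι) (v : Vr A) : ev i v = v.1 i := rfl

/-- the trace of a componentwise operator whose components outside `S` have square zero -/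
theorem fpTr_piMap (θ : ∀ i, V i →ₗ[k] V i) (S : Finset ι)
    (hS : ∀ i, i ∉ S → ∀ x, θ i (θ i x) = 0) (hfp : ∀ i ∈ S, IsFP (θ i))
    (hh : ∀ v ∈ Vr A, (fun i => θ i (v i)) ∈ Vr A) :
    fpTr (piMap θ hh) = ∑ i ∈ S, fpTr (θ i) := by
  have hh' : ∀ v ∈ Vr A, (fun i => (if i ∈ S then (0 : V i →ₗ[k] V i) else θ i) (v i)) ∈ Vr A := by
    intro v hv
    refine (hh v hv).subset fun i hi => ?_
    by_cases hiS : i ∈ S
    · exfalso
      apply hi
      show (if i ∈ S then (0 : V i →ₗ[k] V i) else θ i) (v i) ∈ A i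
      rw [if_pos hiS, LinearMap.zero_apply]
      exact Submodule.zero_mem _
    · have hi' : (if i ∈ S then (0 : V i →ₗ[k] V i) else θ i) (v i) ∉ A i := hi
      rw [if_neg hiS] at hi'
      exact hi'
  -- the decomposition
  have hdec : piMap θ hh = ∑ i ∈ S, (inj (A := A) i ∘ₗ θ i ∘ₗ ev (A := A) i) +
      piMap (fun i => if i ∈ S then (0 : V i →ₗ[k] V i) else θ i) hh' := by
    ext v j
    rw [LinearMap.add_apply, LinearMap.sum_apply, Submodule.coe_add, Pi.add_apply, Submodule.coe_sum,
      Finset.sum_apply, piMap_apply, piMap_apply]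
    by_cases hj : j ∈ S
    · rw [if_pos hj, LinearMap.zero_apply, add_zero, Finset.sum_eq_single_of_mem j hj]
      · rw [LinearMap.comp_apply, LinearMap.comp_apply, inj_apply_same, ev_apply]
      · intro b _ hb
        rw [LinearMap.comp_apply, inj_apply_ne (Ne.symm hb)]
    · rw [if_neg hj, Finset.sum_eq_zero, zero_add]
      intro b hb
      have hne : j ≠ b := fun h => hj (h ▸ hb)
      rw [LinearMap.comp_apply, inj_apply_ne hne]
  -- the tail has square zero
  have htail : piMap (fun i => if i ∈ S then (0 : V i →ₗ[k] V i) else θ i) hh' ^ 2 = 0 := by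
    ext v j
    rw [pow_two, Module.End.mul_apply, piMap_apply, piMap_apply]
    by_cases hj : j ∈ S
    · rw [if_pos hj]; rfl
    · rw [if_neg hj]; exact hS j hj _
  have hfpS : ∀ i ∈ S, IsFP (inj (A := A) i ∘ₗ θ i ∘ₗ ev (A := A) i) := by
    intro i hi
    refine isFP_comp_comm (f := θ i ∘ₗ ev (A := A) i) (g := inj (A := A) i) ?_
    have : (θ i ∘ₗ ev (A := A) i) ∘ₗ inj (A := A) i = θ i := by
      ext x
      rw [LinearMap.comp_apply, LinearMap.comp_apply, ev_apply, inj_apply_same]
    rw [this]; exact hfp i hi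
  have htrS : ∀ i ∈ S, fpTr (inj (A := A) i ∘ₗ θ i ∘ₗ ev (A := A) i) = fpTr (θ i) := by
    intro i _
    rw [fpTr_comp_comm]
    congr 1
    ext x
    rw [LinearMap.comp_apply, LinearMap.comp_apply, ev_apply, inj_apply_same]
  have horth : ∀ i ∈ S, ∀ j ∈ S, i ≠ j →
      (inj (A := A) i ∘ₗ θ i ∘ₗ ev (A := A) i) * (inj (A := A) j ∘ₗ θ j ∘ₗ ev (A := A) j) = 0 := by
    intro i _ j _ hij
    ext v l
    rw [Module.End.mul_apply, LinearMap.comp_apply, LinearMap.comp_apply, LinearMap.comp_apply,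
      LinearMap.comp_apply, ev_apply, inj_apply_ne hij, map_zero, map_zero]
    rfl
  obtain ⟨hfpsum, htrsum⟩ := fpTr_sum_of_orth S (fun i => inj (A := A) i ∘ₗ θ i ∘ₗ ev (A := A) i) hfpS horth
  have h12 : (∑ i ∈ S, (inj (A := A) i ∘ₗ θ i ∘ₗ ev (A := A) i)) *
      piMap (fun i => if i ∈ S then (0 : V i →ₗ[k] V i) else θ i) hh' = 0 := by
    rw [Finset.sum_mul]
    refine Finset.sum_eq_zero fun i hi => ?_
    ext v l
    rw [Module.End.mul_apply, LinearMap.comp_apply, LinearMap.comp_apply, ev_apply, piMap_apply,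
      if_pos hi, LinearMap.zero_apply, map_zero, map_zero]
    rfl
  have h21 : piMap (fun i => if i ∈ S then (0 : V i →ₗ[k] V i) else θ i) hh' *
      (∑ i ∈ S, (inj (A := A) i ∘ₗ θ i ∘ₗ ev (A := A) i)) = 0 := by
    rw [Finset.mul_sum]
    refine Finset.sum_eq_zero fun i hi => ?_
    ext v l
    rw [Module.End.mul_apply, piMap_apply, LinearMap.comp_apply, LinearMap.comp_apply]
    by_cases hl : l = i
    · subst hl
      rw [if_pos hi]; rfl
    · rw [inj_apply_ne hl, map_zero]; rfl
  have htailfp : IsFP (piMap (fun i => if i ∈ S then (0 : V i →ₗ[k] V i) else θ i) hh') :=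
    ⟨⊥, carrier_bot 2 htail⟩
  rw [hdec, (fpTr_add_of_orth h12 h21 hfpsum htailfp).2, htrsum, fpTr_of_pow_eq_zero 2 htail, add_zero]
  exact Finset.sum_congr rfl htrS

omit [DecidableEq ι] in
lemma near_trans_le {V : Type*} [AddCommGroup V] [Module k V] {X Y Z W : Submodule k V}
    (hW : FiniteDimensional k W) (hX : X ≤ Y ⊔ W) (hY : Near Y Z) : Near X Z := by
  obtain ⟨W', hW', hYW'⟩ := hY
  refine ⟨W' ⊔ W, inferInstance, hX.trans ?_⟩
  rw [← sup_assoc]
  exact sup_le_sup_right hYW' _

/-- elements of the restricted product with components in given subspaces `A' i` -/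
def AVp (A : ∀ i, Submodule k (V i)) (A' : ∀ i, Submodule k (V i)) : Submodule k (Vr A) where
  carrier := {v | ∀ i, v.1 i ∈ A' i}
  add_mem' {a b} ha hb i := Submodule.add_mem _ (ha i) (hb i)
  zero_mem' i := Submodule.zero_mem _
  smul_mem' c a ha i := Submodule.smul_mem _ c (ha i)

theorem near_pi (S : Finset ι) : ∀ (A' : ∀ i, Submodule k (V i)),
    (∀ i, i ∉ S → A' i ≤ A i) → (∀ i ∈ S, Near (A' i) (A i)) → Near (AVp A A') (AV A) := by
  induction S using Finset.induction_on with
  | empty =>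
    intro A' h1 _
    exact Near.of_le fun v hv i => h1 i (Finset.notMem_empty i) (hv i)
  | insert a S ha ih =>
    intro A' h1 h2
    obtain ⟨W, hW, hAW⟩ := h2 a (Finset.mem_insert_self _ _)
    have h1' : ∀ i, i ∉ S → Function.update A' a (A a) i ≤ A i := by
      intro i hi
      by_cases hia : i = a
      · subst hia; rw [Function.update_self]
      · rw [Function.update_of_ne hia]
        exact h1 i (fun h => by rcases Finset.mem_insert.mp h with h | h; exacts [hia h, hi h])
    have h2' : ∀ i ∈ S, Near (Function.update A' a (A a) i) (A i) := by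
      intro i hi
      have hia : i ≠ a := fun h => ha (h ▸ hi)
      rw [Function.update_of_ne hia]
      exact h2 i (Finset.mem_insert_of_mem hi)
    refine near_trans_le (W := W.map (inj (A := A) a)) inferInstance ?_ (ih _ h1' h2')
    intro v hv
    obtain ⟨x, hx, u, hu, hxu⟩ := Submodule.mem_sup.mp (hAW (hv a))
    have e : v = (v - inj (A := A) a u) + inj (A := A) a u := by abel
    rw [e]
    refine Submodule.add_mem _ (Submodule.mem_sup_left ?_) (Submodule.mem_sup_right ⟨u, hu, rfl⟩)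
    intro i
    by_cases hia : i = a
    · subst hia
      rw [Function.update_self]
      show v.1 i - (inj (A := A) i u).1 i ∈ A i
      rw [inj_apply_same, ← hxu, add_sub_cancel_right]
      exact hx
    · rw [Function.update_of_ne hia]
      show v.1 i - (inj (A := A) a u).1 i ∈ A' i
      rw [inj_apply_ne hia, sub_zero]
      exact hv i

/-- **abstract global residue theorem** -/
theorem sum_rs_eq_zero (π f g : ∀ i, V i →ₗ[k] V i) (S : Finset ι)
    (hπ : ∀ i, LinearMap.IsProj (A i) (π i)) (hc : ∀ i, f i * g i = g i * f i)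
    (hfE : ∀ i, InE (A i) (f i)) (hgE : ∀ i, InE (A i) (g i))
    (hfS : ∀ i, i ∉ S → ∀ a ∈ A i, f i a ∈ A i) (hgS : ∀ i, i ∉ S → ∀ a ∈ A i, g i a ∈ A i)
    (B : Submodule k (Vr A))
    (hfB : ∀ b ∈ B, piMap f (preserves_of_finset f S hfS) b ∈ B)
    (hgB : ∀ b ∈ B, piMap g (preserves_of_finset g S hgS) b ∈ B)
    (hfin : FiniteDimensional k ↥(AV A ⊓ B))
    (hcof : ∃ W : Submodule k (Vr A), FiniteDimensional k W ∧ AV A ⊔ B ⊔ W = ⊤) :
    ∑ i ∈ S, rs (π i) (f i) (g i) = 0 := by
  have hπS : ∀ i, i ∉ (∅ : Finset ι) → ∀ a ∈ A i, π i a ∈ A i := fun i _ a _ => (hπ i).map_mem a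
  have hθS : ∀ i, i ∉ S → ∀ a ∈ A i, comm (π i) (f i) (g i) a ∈ A i := by
    intro i hi a _
    rw [comm_apply]
    exact Submodule.sub_mem _ ((hπ i).map_mem _) (hgS i hi _ ((hπ i).map_mem _))
  have hNP : IsNP (AV A) (piMap π (preserves_of_finset π ∅ hπS)) := by
    refine IsNP.of_isProj ⟨fun v i => (hπ i).map_mem _, fun v hv => ?_⟩
    apply Subtype.ext
    funext i
    exact (hπ i).map_id _ (hv i)
  have hFE : InE (AV A) (piMap f (preserves_of_finset f S hfS)) := by
    refine Near.mono_left ?_ (near_pi S (fun i => (A i).map (f i)) ?_ (fun i _ => hfE i))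
    · rintro _ ⟨v, hv, rfl⟩ i
      exact ⟨v.1 i, hv i, rfl⟩
    · rintro i hi _ ⟨a, ha, rfl⟩
      exact hfS i hi a ha
  have hGE : InE (AV A) (piMap g (preserves_of_finset g S hgS)) := by
    refine Near.mono_left ?_ (near_pi S (fun i => (A i).map (g i)) ?_ (fun i _ => hgE i))
    · rintro _ ⟨v, hv, rfl⟩ i
      exact ⟨v.1 i, hv i, rfl⟩
    · rintro i hi _ ⟨a, ha, rfl⟩
      exact hgS i hi a ha
  have hcomm : piMap f (preserves_of_finset f S hfS) * piMap g (preserves_of_finset g S hgS) =
      piMap g (preserves_of_finset g S hgS) * piMap f (preserves_of_finset f S hfS) := by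
    ext v i
    show (f i * g i) (v.1 i) = (g i * f i) (v.1 i)
    rw [hc i]
  have h0 := rs_eq_zero_of_compl hfin hcof hNP hFE hGE hcomm hfB hgB
  unfold rs at h0
  rw [comm_piMap π f g _ _ _ (preserves_of_finset _ S hθS), fpTr_piMap _ S ?_ ?_] at h0
  · exact h0
  · intro i hi x
    have := comm_sq_eq_zero (hπ i) (hc i) (hfS i hi) (fun a ha => hfS i hi _ (hgS i hi a ha))
      (fun a ha => hfS i hi _ (hgS i hi _ (hgS i hi a ha)))
    have h2 := LinearMap.congr_fun this x
    rwa [pow_two, Module.End.mul_apply, LinearMap.zero_apply] at h2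
  · intro i _
    exact (comm_mem_E0 (IsNP.of_isProj (hπ i)) (hfE i) (hgE i) (hc i)).isFP

end Groth.Agent.Helper16.Tate
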