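import Groth.Agent.H16.Tate5
import Groth.Agent.H16.Tate6
import Groth.Agent.Lib.Helper17.FF14
import Groth.Agent.Lib.Helper17.FF16

/-! Tate's residue (part VII): the residue theorem for function fields. -/

namespace Groth.Agent.Helper16.Tate

open FunFld LaurentSeries Groth.Agent.Helper17.FF

universe u v w
variable {k : Type u} {K : Type v} [Field k] [Field K] [Algebra k K]

section local1
variable {F : Type w} [Field F] [Algebra k F]

lemma phi_smul (φ : K →ₐ[k] F⸨X⸩) (c : k) (x : K) : φ (c • x) = c • φ x := by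
  rw [Algebra.smul_def, map_mul, LocRes.map_algebraMap, HahnSeries.C_mul_eq_smul, algebraMap_smul]

lemma phi_mem_Lz_iff {w : Valuation K (WithZero (Multiplicative ℤ))} {φ : K →ₐ[k] F⸨X⸩}
    (hφ : LocRes.IsExpansionAt w φ) (x : K) (n : ℤ) :
    φ x ∈ Lz k F n ↔ w x ≤ WithZero.exp (-n) := by
  rw [mem_Lz_iff_val, hφ.1]

lemma polar_approx {w : Valuation K (WithZero (Multiplicative ℤ))} {φ : K →ₐ[k] F⸨X⸩}
    (hφ : LocRes.IsExpansionAt w φ) :
    ∀ (m : ℕ) (s : F⸨X⸩), s ∈ Lz k F (-(m : ℤ)) → ∃ y : K, s - φ y ∈ Lz k F 0 := by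
  intro m
  induction m with
  | zero =>
    intro s hs
    exact ⟨0, by simpa using hs⟩
  | succ m ih =>
    intro s hs
    obtain ⟨t, ht⟩ := hφ.2.2
    have ht0 : t ≠ 0 := by
      rintro rfl
      rw [map_zero] at ht
      exact WithZero.exp_ne_zero ht.symm
    have hφt0 : φ t ≠ 0 := fun h => ht0 ((map_eq_zero φ).mp h)
    have h1 : (φ t) ^ (m + 1) ∈ Lz k F ((m : ℤ) + 1) := by
      rw [← map_pow, phi_mem_Lz_iff hφ, map_pow, ht, ← WithZero.exp_nsmul]
      apply le_of_eq
      congr 1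
      simp
    have h2 : ((φ t)⁻¹) ^ (m + 1) ∈ Lz k F (-((m : ℤ) + 1)) := by
      rw [← map_inv₀, ← map_pow, phi_mem_Lz_iff hφ, map_pow, map_inv₀, ht, ← WithZero.exp_neg,
        ← WithZero.exp_nsmul]
      apply le_of_eq
      congr 1
      simp
    have hs' : s * (φ t) ^ (m + 1) ∈ Lz k F 0 := by
      have := mul_mem_Lz hs h1
      have e : -((m + 1 : ℕ) : ℤ) + ((m : ℤ) + 1) = 0 := by push_cast; ring
      rwa [e] at this
    obtain ⟨u, hu1, hu2⟩ := hφ.2.1 ((s * (φ t) ^ (m + 1)).coeff 0)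
    have hφu : φ u ∈ Lz k F 0 := by
      rw [phi_mem_Lz_iff hφ, neg_zero, WithZero.exp_zero]; exact hu1
    have h3 : s * (φ t) ^ (m + 1) - φ u ∈ Lz k F 1 := by
      intro i hi
      rw [HahnSeries.coeff_sub]
      rcases lt_or_eq_of_le (show i ≤ 0 by omega) with h | h
      · rw [hs' i h, hφu i h, sub_zero]
      · rw [h, hu2, sub_self]
    have h4 : s - φ (u * (t⁻¹) ^ (m + 1)) = (s * (φ t) ^ (m + 1) - φ u) * ((φ t)⁻¹) ^ (m + 1) := by
      rw [map_mul, map_pow, map_inv₀, sub_mul, mul_assoc, ← mul_pow, mul_inv_cancel₀ hφt0, one_pow,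
        mul_one]
    have h5 : s - φ (u * (t⁻¹) ^ (m + 1)) ∈ Lz k F (-(m : ℤ)) := by
      rw [h4]
      have := mul_mem_Lz h3 h2
      have e : (1 : ℤ) + -((m : ℤ) + 1) = -(m : ℤ) := by ring
      rwa [e] at this
    obtain ⟨y', hy'⟩ := ih _ h5
    refine ⟨u * (t⁻¹) ^ (m + 1) + y', ?_⟩
    rw [map_add, ← sub_sub]
    exact hy'

end local1

variable {F : Place k K → Type w} [∀ P, Field (F P)] [∀ P, Algebra k (F P)]

/-- the family of subspaces `F_P[[X]]` -/
abbrev AA (k : Type u) {K : Type v} [Field k] [Field K] [Algebra k K]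
    (F : Place k K → Type w) [∀ P, Field (F P)] [∀ P, Algebra k (F P)] :
    ∀ P : Place k K, Submodule k (F P)⸨X⸩ := fun P => Lz k (F P) 0

/-- the diagonal embedding of `K` into the restricted product of the Laurent series fields -/
noncomputable def emb (hK : IsFunctionField k K) (φ : ∀ P, K →ₐ[k] (F P)⸨X⸩)
    (hφ : ∀ P, LocRes.IsExpansionAt P.1 (φ P)) : K →ₗ[k] Vr (AA k F) where
  toFun x := ⟨fun P => φ P x, by
    have hx := diag_mem_adele hK x
    rw [mem_adele] at hx
    refine Set.Finite.subset hx fun P hP => ?_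
    intro h
    apply hP
    rw [phi_mem_Lz_iff (hφ P), neg_zero, WithZero.exp_zero]
    exact h⟩
  map_add' x y := by
    apply Subtype.ext
    funext P
    exact map_add (φ P) x y
  map_smul' c x := by
    apply Subtype.ext
    funext P
    exact phi_smul (φ P) c x

lemma emb_apply (hK : IsFunctionField k K) (φ : ∀ P, K →ₐ[k] (F P)⸨X⸩)
    (hφ : ∀ P, LocRes.IsExpansionAt P.1 (φ P)) (x : K) (P : Place k K) :
    (emb hK φ hφ x).1 P = φ P x := rfl

variable [∀ P, FiniteDimensional k (F P)]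

omit [∀ P, FiniteDimensional k (F P)] in
lemma mulL_preserves {P : Place k K} {φ : K →ₐ[k] (F P)⸨X⸩} (hφ : LocRes.IsExpansionAt P.1 φ) {x : K}
    (hx : P.1 x ≤ 1) : ∀ a ∈ Lz k (F P) 0, mulL (k := k) (φ x) a ∈ Lz k (F P) 0 := by
  intro a ha
  have h1 : φ x ∈ Lz k (F P) 0 := by
    rw [phi_mem_Lz_iff hφ, neg_zero, WithZero.exp_zero]; exact hx
  have := mul_mem_Lz h1 ha
  rwa [add_zero] at this

lemma locRes_eq_rs {P : Place k K} (φ : K →ₐ[k] (F P)⸨X⸩) (x y : K) :
    LocRes.locRes φ x y = rs (trunc k (F P)) (mulL (φ x)) (mulL (φ y)) := by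
  have := T_eq_R (k := k) (φ x) (φ y)
  unfold T R at this
  rw [this]
  rfl

/-- **The residue theorem** for function fields of one variable (via Tate's traces). -/
theorem residue_theorem (hK : IsFunctionField k K) (φ : ∀ P, K →ₐ[k] (F P)⸨X⸩)
    (hφ : ∀ P, LocRes.IsExpansionAt P.1 (φ P)) (x y : K) :
    (Function.support fun P => LocRes.locRes (φ P) x y).Finite ∧
      ∑ᶠ P, LocRes.locRes (φ P) x y = 0 := by
  classical
  -- the finite set of poles
  have hxfin : {P : Place k K | ¬ P.1 x ≤ 1}.Finite := by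
    have := diag_mem_adele hK x
    rw [mem_adele] at this
    exact this
  have hyfin : {P : Place k K | ¬ P.1 y ≤ 1}.Finite := by
    have := diag_mem_adele hK y
    rw [mem_adele] at this
    exact this
  obtain ⟨S, hS⟩ : ∃ S : Finset (Place k K), ∀ P, P ∈ S ↔ (¬ P.1 x ≤ 1 ∨ ¬ P.1 y ≤ 1) :=
    ⟨(hxfin.union hyfin).toFinset, fun P => by simp⟩
  have hfS : ∀ P, P ∉ S → ∀ a ∈ AA k F P, mulL (k := k) (φ P x) a ∈ AA k F P := by
    intro P hP
    rw [hS, not_or, not_not, not_not] at hP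
    exact mulL_preserves (hφ P) hP.1
  have hgS : ∀ P, P ∉ S → ∀ a ∈ AA k F P, mulL (k := k) (φ P y) a ∈ AA k F P := by
    intro P hP
    rw [hS, not_or, not_not, not_not] at hP
    exact mulL_preserves (hφ P) hP.2
  -- vanishing of the residues outside `S`
  have hout : ∀ P, P ∉ S → LocRes.locRes (φ P) x y = 0 := by
    intro P hP
    rw [locRes_eq_rs]
    exact rs_eq_zero_R2 trunc_isProj (mulL_comm _ _) (hfS P hP)
      (fun a ha => hfS P hP _ (hgS P hP a ha)) (fun a ha => hfS P hP _ (hgS P hP _ (hgS P hP a ha)))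
  have hsupp : (Function.support fun P => LocRes.locRes (φ P) x y) ⊆ (S : Set (Place k K)) := by
    intro P hP
    by_contra h
    exact hP (hout P h)
  refine ⟨S.finite_toSet.subset hsupp, ?_⟩
  rw [finsum_eq_sum_of_support_subset _ hsupp]
  simp only [locRes_eq_rs]
  -- apply the abstract theorem
  refine sum_rs_eq_zero (A := AA k F) (fun P => trunc k (F P)) (fun P => mulL (φ P x))
    (fun P => mulL (φ P y)) S (fun P => trunc_isProj) (fun P => mulL_comm _ _)
    (fun P => mulL_inE _) (fun P => mulL_inE _) hfS hgS (LinearMap.range (emb hK φ hφ)) ?_ ?_ ?_ ?_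
  · rintro _ ⟨z, rfl⟩
    refine ⟨x * z, ?_⟩
    apply Subtype.ext
    funext P
    show φ P (x * z) = φ P x * φ P z
    exact map_mul _ _ _
  · rintro _ ⟨z, rfl⟩
    refine ⟨y * z, ?_⟩
    apply Subtype.ext
    funext P
    show φ P (y * z) = φ P y * φ P z
    exact map_mul _ _ _
  · -- `A ∩ K` is finite-dimensional
    have hL := (L_zero_finite hK).1
    have hle : AV (AA k F) ⊓ LinearMap.range (emb hK φ hφ) ≤ (L (0 : Divisor k K)).map (emb hK φ hφ) := by
      rintro _ ⟨hA, ⟨z, rfl⟩⟩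
      refine ⟨z, ?_, rfl⟩
      rw [SetLike.mem_coe, mem_L]
      intro P
      have := hA P
      rw [emb_apply, phi_mem_Lz_iff (hφ P)] at this
      simpa using this
    exact Submodule.finiteDimensional_of_le hle
  · -- `A + K` has finite codimension
    obtain ⟨D₁, hD₁, hδ⟩ := exists_ge_delta_eq_genus hK (0 : Divisor k K)
    have hnear : Near (AVp (AA k F) (fun P => Lz k (F P) (-(D₁ P)))) (AV (AA k F)) := by
      refine near_pi D₁.support _ ?_ ?_
      · intro P hP
        rw [Finsupp.notMem_support_iff] at hP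
        rw [hP, neg_zero]
      · intro P _
        have h0 : 0 ≤ D₁ P := hD₁ P
        have := near_Lz (k := k) (F := F P) (D₁ P).toNat
        rwa [Int.toNat_of_nonneg h0] at this
    obtain ⟨W, hW, hWle⟩ := hnear
    refine ⟨W, hW, eq_top_iff.mpr ?_⟩
    rintro ⟨v, hv⟩ -
    -- approximate the polar parts
    have hex : ∀ P, ∃ a : K, v P - φ P a ∈ Lz k (F P) 0 ∧ (v P ∈ Lz k (F P) 0 → a = 0) := by
      intro P
      by_cases h : v P ∈ Lz k (F P) 0
      · exact ⟨0, by simpa using h, fun _ => rfl⟩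
      · obtain ⟨m, hm⟩ := exists_mem_Lz (k := k) (v P)
        obtain ⟨a, ha⟩ := polar_approx (hφ P) m (v P) hm
        exact ⟨a, ha, fun h' => absurd h' h⟩
    choose a ha1 ha2 using hex
    have haad : a ∈ adele k K := by
      rw [mem_adele]
      refine Set.Finite.subset hv fun P hP => ?_
      intro h
      apply hP
      show P.1 (a P) ≤ 1
      rw [ha2 P h, map_zero]
      exact zero_le'
    rw [← AD_sup_eq_adele hK hδ] at haad
    obtain ⟨d, hd, _, ⟨z, rfl⟩, hdz⟩ := Submodule.mem_sup.mp haad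
    have hmem : (⟨v, hv⟩ : Vr (AA k F)) - emb hK φ hφ z ∈ AVp (AA k F) (fun P => Lz k (F P) (-(D₁ P))) := by
      intro P
      show v P - φ P z ∈ Lz k (F P) (-(D₁ P))
      have e : v P - φ P z = (v P - φ P (a P)) + φ P (d P) := by
        have : a P = d P + z := by
          have := congrFun hdz P
          rw [Pi.add_apply, diag_apply] at this
          exact this.symm
        rw [this, map_add]; abel
      rw [e]
      refine Submodule.add_mem _ (Lz_mono ?_ (ha1 P)) ?_
      · have h0 : 0 ≤ D₁ P := hD₁ P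
        omega
      · rw [phi_mem_Lz_iff (hφ P), neg_neg]
        exact hd P
    have e2 : (⟨v, hv⟩ : Vr (AA k F)) = ((⟨v, hv⟩ : Vr (AA k F)) - emb hK φ hφ z) + emb hK φ hφ z := by abel
    rw [e2]
    have h3 := hWle hmem
    obtain ⟨p, hp, q, hq, hpq⟩ := Submodule.mem_sup.mp h3
    rw [← hpq]
    have : p + q + emb hK φ hφ z = p + emb hK φ hφ z + q := by abel
    rw [this]
    exact Submodule.add_mem _ (Submodule.add_mem _ (Submodule.mem_sup_left (Submodule.mem_sup_left hp))
      (Submodule.mem_sup_left (Submodule.mem_sup_right ⟨z, rfl⟩))) (Submodule.mem_sup_right hq)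

end Groth.Agent.Helper16.Tate
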