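import Groth.Agent.H16.Tate7
import Groth.Agent.Lib.Helper17.FFLoc
import Groth.Agent.Lib.Helper17.FF16

/-! Residues and Weil differentials: the Weil differential attached to `u dv`. -/

namespace Groth.Agent.Helper16.Tate

open FunFld LaurentSeries Groth.Agent.Helper17.FF

universe u v w
variable {k : Type u} {K : Type v} [Field k] [Field K] [Algebra k K]

section loc
variable {F : Type w} [Field F] [Algebra k F]

lemma resExp_add (φ : K →ₐ[k] F⸨X⸩) (x x' y : K) :
    LocRes.resExp φ (x + x') y = LocRes.resExp φ x y + LocRes.resExp φ x' y := by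
  unfold LocRes.resExp
  rw [map_add, add_mul, map_add]

lemma resExp_smul (φ : K →ₐ[k] F⸨X⸩) (c : k) (x y : K) :
    LocRes.resExp φ (c • x) y = c • LocRes.resExp φ x y := by
  unfold LocRes.resExp
  rw [phi_smul, LocRes.res_apply, LocRes.res_apply, ← algebraMap_smul F c (φ x),
    ← HahnSeries.C_mul_eq_smul, mul_assoc, HahnSeries.C_mul_eq_smul, HahnSeries.coeff_smul,
    algebraMap_smul]

lemma locRes_add (φ : K →ₐ[k] F⸨X⸩) (x x' y : K) :
    LocRes.locRes φ (x + x') y = LocRes.locRes φ x y + LocRes.locRes φ x' y := by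
  unfold LocRes.locRes
  rw [resExp_add, map_add]

lemma locRes_smul (φ : K →ₐ[k] F⸨X⸩) (c : k) (x y : K) :
    LocRes.locRes φ (c • x) y = c • LocRes.locRes φ x y := by
  unfold LocRes.locRes
  rw [resExp_smul, map_smul]

lemma locRes_zero (φ : K →ₐ[k] F⸨X⸩) (y : K) : LocRes.locRes φ 0 y = 0 := by
  unfold LocRes.locRes LocRes.resExp
  rw [map_zero, zero_mul, map_zero, map_zero]

lemma locRes_eq_zero_of_vDiff_le (φ : K →ₐ[k] F⸨X⸩) {x y : K} (h : LocRes.vDiff φ x y ≤ 1) :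
    LocRes.locRes φ x y = 0 := by
  unfold LocRes.locRes LocRes.resExp
  unfold LocRes.vDiff at h
  rw [← WithZero.exp_zero, ← neg_zero, lval_le_exp_iff_coeff] at h
  rw [LocRes.res_apply, h (-1) (by norm_num), map_zero]

lemma vDiff_mul (φ : K →ₐ[k] F⸨X⸩) (a x y : K) :
    LocRes.vDiff φ (a * x) y = Valued.v (φ a) * LocRes.vDiff φ x y := by
  unfold LocRes.vDiff
  rw [map_mul φ, mul_assoc, map_mul]

end loc

section loc2
variable {F : Type w} [Field F] [Algebra k F] {w : Valuation K (WithZero (Multiplicative ℤ))}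
  {φ : K →ₐ[k] F⸨X⸩}

open Module in
/-- a differential with a simple pole and nonzero residue -/
theorem exists_locRes_ne_zero' (hfr : finrank K (Ω[K⁄k]) = 1)
    (hφ : LocRes.IsExpansionAt w φ) [FiniteDimensional k F] {x : K}
    (hx : KaehlerDifferential.D k K x ≠ 0) :
    ∃ y : K, LocRes.vDiff φ y x ≤ WithZero.exp 1 ∧ LocRes.locRes φ y x ≠ 0 := by
  haveI := isSeparable_of_expansion hfr hφ
  obtain ⟨b, hb⟩ : ∃ b : F, Algebra.trace k F b ≠ 0 := by
    by_contra hcon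
    push Not at hcon
    exact Algebra.trace_ne_zero k F (LinearMap.ext hcon)
  obtain ⟨g, hg⟩ : ∃ g, g = LocRes.D F (φ x) := ⟨_, rfl⟩
  have hg0 : g ≠ 0 := by rw [hg]; exact D_expansion_ne_zero hfr hφ hx
  obtain ⟨t, ht⟩ := hφ.2.2
  have hvg0 : Valued.v g ≠ 0 := (Valuation.ne_zero_iff _).2 hg0
  obtain ⟨m, hm⟩ : ∃ m : ℤ, Valued.v g = WithZero.exp (-m) :=
    ⟨-WithZero.log (Valued.v g), by rw [neg_neg, WithZero.exp_log hvg0]⟩
  obtain ⟨u, hu⟩ : ∃ u, u = t ^ (-1 - m) := ⟨_, rfl⟩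
  obtain ⟨ψ, hψdef⟩ : ∃ ψ, ψ = φ u * g := ⟨_, rfl⟩
  have hψ : Valued.v ψ = WithZero.exp (-(-1 : ℤ)) := by
    rw [hψdef, map_mul, hφ.1, hu, map_zpow₀, ht, hm, ← WithZero.exp_zsmul, ← WithZero.exp_add]
    congr 1
    simp only [smul_eq_mul]
    ring
  obtain ⟨hψ1, hψ2⟩ := lval_eq_exp_iff.1 hψ
  obtain ⟨z, hz1, hza⟩ := hφ.2.1 (b / ψ.coeff (-1))
  refine ⟨z * u, ?_, ?_⟩
  · rw [vDiff_mul]
    unfold LocRes.vDiff
    rw [← hg, ← hψdef, hψ, hφ.1, neg_neg]
    calc w z * WithZero.exp 1 ≤ 1 * WithZero.exp 1 := mul_le_mul' hz1 le_rfl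
      _ = WithZero.exp 1 := one_mul _
  · have hres : LocRes.resExp φ (z * u) x = b := by
      unfold LocRes.resExp
      rw [LocRes.res_apply, map_mul, mul_assoc, ← hg, ← hψdef]
      have h1 := coeff_mul_of_val_le (a := 0) (b := -1) (f := φ z) (g := ψ)
        (by rw [hφ.1, neg_zero, WithZero.exp_zero]; exact hz1) hψ.le
      rw [zero_add] at h1
      rw [h1, hza, div_mul_cancel₀ _ hψ2]
    unfold LocRes.locRes
    rw [hres]
    exact hb

end loc2

variable {F : Place k K → Type w} [∀ P, Field (F P)] [∀ P, Algebra k (F P)]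

lemma locRes_eq_zero_of_le_one {P : Place k K} {φ : K →ₐ[k] (F P)⸨X⸩}
    (hφ : LocRes.IsExpansionAt P.1 φ) {x y : K} (hx : P.1 x ≤ 1) (hy : P.1 y ≤ 1) :
    LocRes.locRes φ x y = 0 := by
  apply locRes_eq_zero_of_vDiff_le
  unfold LocRes.vDiff
  rw [map_mul]
  have h1 : Valued.v (φ x) ≤ 1 := by rw [hφ.1]; exact hx
  have h2 : Valued.v (LocRes.D (F P) (φ y)) ≤ 1 := val_D_le_one (by rw [hφ.1]; exact hy)
  calc _ ≤ (1 : WithZero (Multiplicative ℤ)) * 1 := mul_le_mul' h1 h2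
    _ = 1 := one_mul _

lemma support_locRes_finite (hK : IsFunctionField k K) (φ : ∀ P, K →ₐ[k] (F P)⸨X⸩)
    (hφ : ∀ P, LocRes.IsExpansionAt P.1 (φ P)) (u v : K) (a : adele k K) :
    (Function.support fun P => LocRes.locRes (φ P) ((a : Place k K → K) P * u) v).Finite := by
  have ha : {P : Place k K | ¬ P.1 ((a : Place k K → K) P) ≤ 1}.Finite := a.2
  have hu : {P : Place k K | ¬ P.1 u ≤ 1}.Finite := by
    have := diag_mem_adele hK u
    rw [mem_adele] at this
    exact this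
  have hv : {P : Place k K | ¬ P.1 v ≤ 1}.Finite := by
    have := diag_mem_adele hK v
    rw [mem_adele] at this
    exact this
  refine ((ha.union hu).union hv).subset fun P hP => ?_
  by_contra hn
  simp only [Set.mem_union, Set.mem_ofPred_eq, not_or, not_not] at hn
  apply hP
  refine locRes_eq_zero_of_le_one (hφ P) ?_ hn.2
  rw [map_mul]
  calc _ ≤ (1 : WithZero (Multiplicative ℤ)) * 1 := mul_le_mul' hn.1.1 hn.1.2
    _ = 1 := one_mul _

/-- the Weil differential `a ↦ ∑_P Res_P(a_P u dv)` -/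
noncomputable def resW (hK : IsFunctionField k K) (φ : ∀ P, K →ₐ[k] (F P)⸨X⸩)
    (hφ : ∀ P, LocRes.IsExpansionAt P.1 (φ P)) (u v : K) : adele k K →ₗ[k] k where
  toFun a := ∑ᶠ P, LocRes.locRes (φ P) ((a : Place k K → K) P * u) v
  map_add' a b := by
    rw [← finsum_add_distrib (support_locRes_finite hK φ hφ u v a) (support_locRes_finite hK φ hφ u v b)]
    refine finsum_congr fun P => ?_
    rw [← locRes_add, ← add_mul]
    rfl
  map_smul' c a := by
    rw [RingHom.id_apply, smul_finsum' c (support_locRes_finite hK φ hφ u v a)]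
    refine finsum_congr fun P => ?_
    rw [← locRes_smul, ← smul_mul_assoc]
    rfl

lemma resW_apply (hK : IsFunctionField k K) (φ : ∀ P, K →ₐ[k] (F P)⸨X⸩)
    (hφ : ∀ P, LocRes.IsExpansionAt P.1 (φ P)) (u v : K) (a : adele k K) :
    resW hK φ hφ u v a = ∑ᶠ P, LocRes.locRes (φ P) ((a : Place k K → K) P * u) v := rfl

end Groth.Agent.Helper16.Tate
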