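import Groth.Agent.H16.Tate8

/-! Residues and Weil differentials: the divisor of the Weil differential attached to `u dv`. -/

namespace Groth.Agent.Helper16.Tate

open FunFld LaurentSeries Groth.Agent.Helper17.FF

universe u v w
variable {k : Type u} {K : Type v} [Field k] [Field K] [Algebra k K]
variable {F : Place k K → Type w} [∀ P, Field (F P)] [∀ P, Algebra k (F P)]

open Classical in
/-- the adele supported at one place -/
noncomputable def sgl (P : Place k K) (x : K) : adele k K :=
  ⟨(Pi.single P x : Place k K → K), by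
    rw [mem_adele]
    refine (Set.finite_singleton P).subset fun Q hQ => ?_
    by_contra hne
    apply hQ
    show Q.1 ((Pi.single P x : Place k K → K) Q) ≤ 1
    rw [Pi.single_eq_of_ne (M := fun _ : Place k K => K) hne, map_zero]
    exact zero_le⟩

lemma sgl_apply_same (P : Place k K) (x : K) : (sgl P x : Place k K → K) P = x := by
  classical
  show (Pi.single P x : Place k K → K) P = x
  exact Pi.single_eq_same (M := fun _ : Place k K => K) P x

lemma sgl_apply_ne {P Q : Place k K} (h : Q ≠ P) (x : K) : (sgl P x : Place k K → K) Q = 0 := by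
  classical
  show (Pi.single P x : Place k K → K) Q = 0
  exact Pi.single_eq_of_ne (M := fun _ : Place k K => K) h x

variable (hK : IsFunctionField k K) (φ : ∀ P, K →ₐ[k] (F P)⸨X⸩)
  (hφ : ∀ P, LocRes.IsExpansionAt P.1 (φ P)) (u v : K)

lemma resW_sgl (P : Place k K) (x : K) :
    resW hK φ hφ u v (sgl P x) = LocRes.locRes (φ P) (x * u) v := by
  rw [resW_apply, finsum_eq_single _ P, sgl_apply_same]
  intro Q hQ
  rw [sgl_apply_ne hQ, zero_mul, locRes_zero]

variable [∀ P, FiniteDimensional k (F P)]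

lemma resW_diag (x : K) : resW hK φ hφ u v ⟨diag k K x, diag_mem_adele hK x⟩ = 0 :=
  (residue_theorem hK φ hφ (x * u) v).2

omit [∀ P, FiniteDimensional k (F P)] in
lemma resW_AD (D : Divisor k K) (hD : ∀ P, LocRes.vDiff (φ P) u v ≤ WithZero.exp (-(D P)))
    (a : Place k K → K) (ha : a ∈ AD D) : resW hK φ hφ u v ⟨a, AD_le_adele D ha⟩ = 0 := by
  rw [resW_apply]
  refine finsum_eq_zero_of_forall_eq_zero fun P => ?_
  apply locRes_eq_zero_of_vDiff_le
  rw [vDiff_mul, (hφ P).1]
  calc _ ≤ WithZero.exp (D P) * WithZero.exp (-(D P)) := mul_le_mul' (ha P) (hD P)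
    _ = 1 := by rw [← WithZero.exp_add, add_neg_cancel, WithZero.exp_zero]

lemma resW_mem_WD (D : Divisor k K) (hD : ∀ P, LocRes.vDiff (φ P) u v ≤ WithZero.exp (-(D P))) :
    resW hK φ hφ u v ∈ WD D := by
  rw [mem_WD_iff' hK]
  exact ⟨fun a ha => resW_AD hK φ hφ u v D hD a ha, fun x => resW_diag hK φ hφ u v x⟩

lemma resW_isWeil : IsWeil (resW hK φ hφ u v) := by
  classical
  have hu : {P : Place k K | ¬ P.1 u ≤ 1}.Finite := by
    have := diag_mem_adele hK u
    rw [mem_adele] at this
    exact this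
  have hv : {P : Place k K | ¬ P.1 v ≤ 1}.Finite := by
    have := diag_mem_adele hK v
    rw [mem_adele] at this
    exact this
  obtain ⟨S, hS⟩ : ∃ S : Finset (Place k K), ∀ P, P ∈ S ↔ (¬ P.1 u ≤ 1 ∨ ¬ P.1 v ≤ 1) :=
    ⟨(hu.union hv).toFinset, fun P => by simp⟩
  refine ⟨Finsupp.onFinset S
    (fun P => if P ∈ S then min (LocRes.ordDiff (φ P) u v) 0 else 0) (fun P hP => ?_), ?_⟩
  · by_contra h
    exact hP (if_neg h)
  · apply resW_mem_WD
    intro P
    rw [Finsupp.onFinset_apply]
    by_cases hPS : P ∈ S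
    · rw [if_pos hPS]
      by_cases h0 : LocRes.vDiff (φ P) u v = 0
      · rw [h0]; exact zero_le
      · have : LocRes.vDiff (φ P) u v = WithZero.exp (-(LocRes.ordDiff (φ P) u v)) := by
          unfold LocRes.ordDiff
          rw [neg_neg, WithZero.exp_log h0]
        rw [this, WithZero.exp_le_exp]
        have := min_le_left (LocRes.ordDiff (φ P) u v) 0
        omega
    · rw [if_neg hPS, neg_zero, WithZero.exp_zero]
      rw [hS, not_or, not_not, not_not] at hPS
      unfold LocRes.vDiff
      rw [map_mul]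
      have h1 : Valued.v (φ P u) ≤ 1 := by rw [(hφ P).1]; exact hPS.1
      have h2 : Valued.v (LocRes.D (F P) (φ P v)) ≤ 1 :=
        val_D_le_one (by rw [(hφ P).1]; exact hPS.2)
      calc _ ≤ (1 : WithZero (Multiplicative ℤ)) * 1 := mul_le_mul' h1 h2
        _ = 1 := one_mul _

variable (hg : IsGeometric k K)
include hK hφ hg

lemma vDiff_ne_zero {u v : K} (hu : u ≠ 0) (hv : KaehlerDifferential.D k K v ≠ 0) (P : Place k K) :
    LocRes.vDiff (φ P) u v ≠ 0 := by
  unfold LocRes.vDiff
  rw [map_mul]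
  refine mul_ne_zero ?_ ?_
  · rw [(hφ P).1]
    exact (Valuation.ne_zero_iff _).2 hu
  · exact (Valuation.ne_zero_iff _).2 (D_expansion_ne_zero (finrank_kaehler hK hg) (hφ P) hv)

lemma vDiff_eq_exp {u v : K} (hu : u ≠ 0) (hv : KaehlerDifferential.D k K v ≠ 0) (P : Place k K) :
    LocRes.vDiff (φ P) u v = WithZero.exp (-(LocRes.ordDiff (φ P) u v)) := by
  unfold LocRes.ordDiff
  rw [neg_neg, WithZero.exp_log (vDiff_ne_zero hK φ hφ hg hu hv P)]

lemma resW_ne_zero {u v : K} (hu : u ≠ 0) (hv : KaehlerDifferential.D k K v ≠ 0) :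
    resW hK φ hφ u v ≠ 0 := by
  obtain ⟨P⟩ := exists_place hK
  obtain ⟨y, hy⟩ := exists_locRes_ne_zero (finrank_kaehler hK hg) (hφ P) hv
  intro h0
  have h1 := resW_sgl hK φ hφ u v P (y / u)
  rw [h0, LinearMap.zero_apply, div_mul_cancel₀ _ hu] at h1
  exact hy h1.symm

/-- the divisor of the Weil differential of `u dv` is the divisor of orders of `u dv` -/
theorem isDivOf_resW_apply {u v : K} (hu : u ≠ 0) (hv : KaehlerDifferential.D k K v ≠ 0)
    {C : Divisor k K} (hC : IsDivOf (resW hK φ hφ u v) C) (P : Place k K) :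
    C P = LocRes.ordDiff (φ P) u v := by
  classical
  have hfr := finrank_kaehler hK hg
  have hvd := vDiff_eq_exp hK φ hφ hg hu hv P
  have hmem := (mem_WD_iff' hK).1 (IsDivOf.mem hC)
  apply le_antisymm
  · -- `C P ≤ ord`
    by_contra hlt
    push Not at hlt
    obtain ⟨y, hy1, hy2⟩ := exists_locRes_ne_zero' hfr (hφ P) hv
    have hyu : LocRes.vDiff (φ P) y v = P.1 (y / u) * LocRes.vDiff (φ P) u v := by
      rw [← (hφ P).1, ← vDiff_mul, div_mul_cancel₀ _ hu]
    have hval : P.1 (y / u) ≤ WithZero.exp (C P) := by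
      have h1 : P.1 (y / u) = LocRes.vDiff (φ P) y v * WithZero.exp (LocRes.ordDiff (φ P) u v) := by
        rw [hyu, hvd, mul_assoc, ← WithZero.exp_add, neg_add_cancel, WithZero.exp_zero, mul_one]
      rw [h1]
      calc _ ≤ WithZero.exp 1 * WithZero.exp (LocRes.ordDiff (φ P) u v) := mul_le_mul' hy1 le_rfl
        _ = WithZero.exp (1 + LocRes.ordDiff (φ P) u v) := by rw [← WithZero.exp_add]
        _ ≤ WithZero.exp (C P) := by rw [WithZero.exp_le_exp]; omega
    have hAD : (sgl P (y / u) : Place k K → K) ∈ AD C := by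
      intro Q
      by_cases hQ : Q = P
      · subst hQ; rw [sgl_apply_same]; exact hval
      · rw [sgl_apply_ne hQ, map_zero]; exact zero_le
    have h0 := hmem.1 _ hAD
    have h1 := resW_sgl hK φ hφ u v P (y / u)
    rw [div_mul_cancel₀ _ hu] at h1
    apply hy2
    rw [← h1]
    exact h0
  · -- `ord ≤ C P`
    by_contra hlt
    push Not at hlt
    obtain ⟨E, hE⟩ : ∃ E : Divisor k K, E = C + Finsupp.single P (LocRes.ordDiff (φ P) u v - C P) :=
      ⟨_, rfl⟩
    have hEP : E P = LocRes.ordDiff (φ P) u v := by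
      rw [hE, Finsupp.add_apply, Finsupp.single_eq_same]; ring
    have hEQ : ∀ Q, Q ≠ P → E Q = C Q := by
      intro Q hQ
      rw [hE, Finsupp.add_apply, Finsupp.single_eq_of_ne hQ, add_zero]
    have hWE : resW hK φ hφ u v ∈ WD E := by
      rw [mem_WD_iff' hK]
      refine ⟨fun a ha => ?_, fun x => resW_diag hK φ hφ u v x⟩
      have hb1 : Function.update a P 0 ∈ AD C := by
        intro Q
        by_cases hQ : Q = P
        · subst hQ; rw [Function.update_self, map_zero]; exact zero_le
        · rw [Function.update_of_ne hQ, ← hEQ Q hQ]; exact ha Q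
      have hsplit : (⟨a, AD_le_adele E ha⟩ : adele k K) =
          ⟨Function.update a P 0, AD_le_adele C hb1⟩ + sgl P (a P) := by
        apply Subtype.ext
        funext Q
        show a Q = Function.update a P 0 Q + (sgl P (a P) : Place k K → K) Q
        by_cases hQ : Q = P
        · subst hQ; rw [Function.update_self, sgl_apply_same, zero_add]
        · rw [Function.update_of_ne hQ, sgl_apply_ne hQ, add_zero]
      rw [hsplit, map_add, hmem.1 _ hb1, zero_add, resW_sgl]
      apply locRes_eq_zero_of_vDiff_le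
      rw [vDiff_mul, (hφ P).1, hvd]
      calc _ ≤ WithZero.exp (E P) * WithZero.exp (-(LocRes.ordDiff (φ P) u v)) := mul_le_mul' (ha P) le_rfl
        _ = 1 := by rw [hEP, ← WithZero.exp_add, add_neg_cancel, WithZero.exp_zero]
    have hle := (hC E).1 hWE P
    rw [hEP] at hle
    omega

/-- **S12581**: the Weil differential of `u dv`. -/
theorem weil_of_differential {u v : K} (hu : u ≠ 0) (hv : KaehlerDifferential.D k K v ≠ 0) :
    ∃ ω : Module.Dual k (adele k K),
      (∀ a : adele k K,
        (Function.support fun P => LocRes.locRes (φ P) ((a : Place k K → K) P * u) v).Finite ∧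
          ω a = ∑ᶠ P, LocRes.locRes (φ P) ((a : Place k K → K) P * u) v) ∧
      IsWeil ω ∧ ω ≠ 0 ∧
      (Function.support fun P => LocRes.ordDiff (φ P) u v).Finite ∧
      ∀ C : Divisor k K, (∀ P, C P = LocRes.ordDiff (φ P) u v) → IsDivOf ω C := by
  have hW := resW_isWeil hK φ hφ u v
  have h0 := resW_ne_zero hK φ hφ hg hu hv
  obtain ⟨C₀, hC₀⟩ := exists_isDivOf hK _ hW h0
  have hC₀P := isDivOf_resW_apply hK φ hφ hg hu hv hC₀
  refine ⟨resW hK φ hφ u v, fun a => ⟨support_locRes_finite hK φ hφ u v a, rfl⟩, hW, h0, ?_, ?_⟩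
  · refine C₀.support.finite_toSet.subset fun P hP => ?_
    rw [Finset.mem_coe, Finsupp.mem_support_iff, hC₀P P]
    exact hP
  · intro C hC
    have : C = C₀ := Finsupp.ext fun P => by rw [hC P, hC₀P P]
    rw [this]; exact hC₀

end Groth.Agent.Helper16.Tate
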