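import Groth.Agent.H16.Hasse4
set_option autoImplicit false
set_option linter.unusedSimpArgs false

namespace Groth.Agent.Helper16.Hasse

open FunFld Module Groth.Agent.Helper17.FF

variable {k K : Type*} [Field k] [Field K] [Algebra k K]

theorem exp_neg_nat_le_one (j : ℕ) : WithZero.exp (-(j : ℤ)) ≤ (1 : WithZero (Multiplicative ℤ)) := by
  calc WithZero.exp (-(j : ℤ)) ≤ WithZero.exp (0 : ℤ) :=
        WithZero.exp_le_exp.mpr (by linarith [Int.natCast_nonneg j])
    _ = 1 := WithZero.exp_zero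

theorem exp_neg_pos_lt_one {j : ℕ} (hj : 0 < j) :
    WithZero.exp (-(j : ℤ)) < (1 : WithZero (Multiplicative ℤ)) := by
  calc WithZero.exp (-(j : ℤ)) < WithZero.exp (0 : ℤ) :=
        WithZero.exp_lt_exp.mpr (by
          have : (0 : ℤ) < (j : ℤ) := by exact_mod_cast hj
          linarith)
    _ = 1 := WithZero.exp_zero

variable [IsAlgClosed k] (hK : IsFunctionField k K) (P : Place k K) {t : K}
  (ht : P.1 t = WithZero.exp (-1 : ℤ)) (H : K →ₐ[k] PowerSeries K)
  (hH : LocRes.IsHasseFamily t H)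

include hK ht hH

/-- low Taylor coefficients vanish -/
theorem taylor_zero_of_le {f : K} {j : ℕ} (hf : P.1 f ≤ WithZero.exp (-(j : ℤ))) {m : ℕ}
    (hm : m < j) : evalP P (LocRes.hasseD H m f) = 0 := by
  have h1 := val_hasseD_le hK P ht H hH hf (le_of_lt hm)
  have h2 : P.1 (LocRes.hasseD H m f) < 1 :=
    lt_of_le_of_lt h1 (exp_neg_pos_lt_one (by omega))
  exact (evalP_eq_zero_iff P (le_of_lt h2)).mpr h2

/-- the leading Taylor coefficient -/
theorem taylor_lead {u : K} (hu : P.1 u ≤ 1) (j : ℕ) :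
    evalP P (LocRes.hasseD H j (t ^ j * u)) = evalP P u := by
  have h := hasseD_leading hK P ht H hH hu (le_refl j)
  rw [Nat.choose_self, Nat.sub_self, pow_zero, Nat.cast_one, one_mul, one_mul] at h
  have hlt : P.1 (LocRes.hasseD H j (t ^ j * u) - u) < 1 :=
    lt_of_le_of_lt h (exp_neg_pos_lt_one (by omega))
  have htu : P.1 (t ^ j * u) ≤ 1 := by
    rw [map_mul, map_pow]
    calc P.1 t ^ j * P.1 u ≤ 1 * 1 := mul_le_mul' (pow_le_one' (val_t_le_one P ht) j) hu
      _ = 1 := one_mul _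
  exact evalP_eq_of_sub_lt P (hasse_mem_SP hK P ht H hH htu j) hu hlt

theorem t_ne_zero : t ≠ 0 := by
  rintro rfl
  rw [map_zero] at ht
  exact WithZero.exp_ne_zero ht.symm

omit [IsAlgClosed k] hK hH in
theorem val_div_pow {f : K} {j : ℕ} (hf : P.1 f ≤ WithZero.exp (-(j : ℤ))) :
    P.1 (f / t ^ j) ≤ 1 := by
  rw [map_div₀, map_pow, ht, ← WithZero.exp_nsmul,
    div_le_one₀ (zero_lt_iff.mpr WithZero.exp_ne_zero)]
  convert hf using 2
  simp

omit [IsAlgClosed k] hK hH in
theorem val_div_pow_eq (f : K) (j : ℕ) :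
    P.1 (f / t ^ j) = P.1 f * WithZero.exp (j : ℤ) := by
  rw [map_div₀, map_pow, ht, ← WithZero.exp_nsmul, div_eq_mul_inv, ← WithZero.exp_neg]
  congr 2
  simp

/-- vanishing of the low Taylor coefficients forces vanishing order -/
theorem val_le_of_taylor_zero {f : K} (hf : P.1 f ≤ 1) (j : ℕ)
    (h : ∀ m < j, evalP P (LocRes.hasseD H m f) = 0) : P.1 f ≤ WithZero.exp (-(j : ℤ)) := by
  have ht0 : t ≠ 0 := t_ne_zero hK P ht H hH
  induction j with
  | zero => simpa using hf
  | succ j ih =>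
    have hj := ih (fun m hm => h m (by omega))
    have hu := val_div_pow P ht hj
    have hfe : f = t ^ j * (f / t ^ j) := by field_simp
    have h1 := h j (by omega)
    rw [hfe, taylor_lead hK P ht H hH hu j, evalP_eq_zero_iff P hu] at h1
    have h2 : P.1 (f / t ^ j) < WithZero.exp (0 : ℤ) := by rw [WithZero.exp_zero]; exact h1
    rw [val_lt_exp_iff_le, val_div_pow_eq P ht] at h2
    have h3 : P.1 f = (P.1 f * WithZero.exp (j : ℤ)) * WithZero.exp (-(j : ℤ)) := by
      rw [mul_assoc, ← WithZero.exp_add, add_neg_cancel, WithZero.exp_zero, mul_one]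
    rw [h3]
    calc P.1 f * WithZero.exp (j : ℤ) * WithZero.exp (-(j : ℤ))
        ≤ WithZero.exp (0 - 1 : ℤ) * WithZero.exp (-(j : ℤ)) := mul_le_mul' h2 le_rfl
      _ = WithZero.exp (-((j + 1 : ℕ) : ℤ)) := by
        rw [← WithZero.exp_add]; congr 1; push_cast; ring

/-- the `j`-th Taylor coefficient is nonzero exactly when the order is `j` -/
theorem taylor_ne_zero_iff {f : K} {j : ℕ} (hf : P.1 f ≤ WithZero.exp (-(j : ℤ))) :
    evalP P (LocRes.hasseD H j f) ≠ 0 ↔ P.1 f = WithZero.exp (-(j : ℤ)) := by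
  have ht0 : t ≠ 0 := t_ne_zero hK P ht H hH
  have hu := val_div_pow P ht hf
  have hfe : f = t ^ j * (f / t ^ j) := by field_simp
  have h3 : P.1 f = (P.1 f * WithZero.exp (j : ℤ)) * WithZero.exp (-(j : ℤ)) := by
    rw [mul_assoc, ← WithZero.exp_add, add_neg_cancel, WithZero.exp_zero, mul_one]
  conv_lhs => rw [hfe, taylor_lead hK P ht H hH hu j]
  rw [Ne, evalP_eq_zero_iff P hu, not_lt]
  constructor
  · intro h
    have h1 := le_antisymm hu h
    rw [val_div_pow_eq P ht] at h1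
    rw [h3, h1, one_mul]
  · intro h
    rw [val_div_pow_eq P ht, h, ← WithZero.exp_add, neg_add_cancel, WithZero.exp_zero]

end Groth.Agent.Helper16.Hasse
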