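import Groth.Agent.H16.LLS9
import Groth.Agent.H16.PolyPl
set_option autoImplicit false
set_option linter.unusedSimpArgs false

namespace Groth.Agent.Helper16.LLS

open FunFld Module Groth.Agent.Helper17.FF Polynomial

variable {k K : Type*} [Field k] [Field K] [Algebra k K]

theorem L_mul {E1 E2 : Divisor k K} {x y : K} (hx : x ∈ L E1) (hy : y ∈ L E2) :
    x * y ∈ L (E1 + E2) := by
  intro P
  rw [map_mul, Finsupp.add_apply, WithZero.exp_add]
  exact mul_le_mul' (hx P) (hy P)

theorem mem_L_neg_div (hK : IsFunctionField k K) {x : K} (hx : x ≠ 0) :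
    x ∈ L (-(FunFld.div k x)) := by
  intro P
  rw [Finsupp.neg_apply, div_apply hK, val_eq_exp_neg_ord P hx]

theorem one_mem_L_zero : (1 : K) ∈ L (0 : Divisor k K) := by
  intro P
  simp

theorem pow_mem_L {E : Divisor k K} {x : K} (hx : x ∈ L E) (n : ℕ) : x ^ n ∈ L (n • E) := by
  induction n with
  | zero => simpa using one_mem_L_zero
  | succ n ih =>
    rw [pow_succ, succ_nsmul]
    exact L_mul ih hx

/-- if `s` has divisor `X - Y`, `Q ≠ Y` and `s ≡ c` at `Q`, then `s - c` has divisor `Q - Y`. -/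
theorem div_sub_const [IsAlgClosed k] (hK : IsFunctionField k K) {s : K} {X Y Q : Place k K}
    (hXY : X ≠ Y) (hQY : Q ≠ Y)
    (hs : FunFld.div k s = Finsupp.single X 1 - Finsupp.single Y 1) {c : k}
    (hc : Q.1 (s - algebraMap k K c) < 1) :
    s - algebraMap k K c ≠ 0 ∧
    FunFld.div k (s - algebraMap k K c) = Finsupp.single Q 1 - Finsupp.single Y 1 := by
  classical
  obtain ⟨hX, hY, hR⟩ := ord_of_div_eq hK hXY hs
  have hs0 : s ≠ 0 := by
    rintro rfl
    rw [ord_zero] at hX
    exact absurd hX (by norm_num)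
  set π := s - algebraMap k K c with hπ
  have hπ0 : π ≠ 0 := by
    intro h
    have : s = algebraMap k K c := sub_eq_zero.mp h
    rw [this, ord_const] at hX
    exact absurd hX (by norm_num)
  have hmem : π ∈ L (Finsupp.single Y 1 - Finsupp.single Q 1 : Divisor k K) := by
    intro R
    have hcR : R.1 (algebraMap k K c) ≤ 1 := R.2.1 c
    have hsub : R.1 π ≤ max (R.1 s) 1 := by
      have := Valuation.map_sub R.1 s (algebraMap k K c)
      exact this.trans (max_le_max le_rfl hcR)
    by_cases hRQ : R = Q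
    · subst hRQ
      have e : (Finsupp.single Y 1 - Finsupp.single R 1 : Divisor k K) R = 0 - 1 := by
        simp [Finsupp.single_apply, hQY, Ne.symm hQY]
      rw [e, ← val_lt_exp_iff_le, WithZero.exp_zero]
      exact hc
    · by_cases hRY : R = Y
      · subst hRY
        have e : (Finsupp.single R 1 - Finsupp.single Q 1 : Divisor k K) R = 1 := by
          simp [Finsupp.single_apply, hRQ, Ne.symm hRQ]
        rw [e]
        have hvs : R.1 s = WithZero.exp (1 : ℤ) := by
          rw [val_eq_exp_neg_ord R hs0, hY]; rfl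
        refine hsub.trans ?_
        rw [hvs]
        apply max_le le_rfl
        rw [← WithZero.exp_zero]
        exact WithZero.exp_le_exp.mpr (by norm_num)
      · have e : (Finsupp.single Y 1 - Finsupp.single Q 1 : Divisor k K) R = 0 := by
          simp [Finsupp.single_apply, hRQ, hRY, Ne.symm hRQ, Ne.symm hRY]
        rw [e, WithZero.exp_zero]
        refine hsub.trans (max_le ?_ le_rfl)
        by_cases hRX : R = X
        · subst hRX
          rw [← ord_nonneg_iff R hs0, hX]; norm_num
        · rw [(ord_eq_zero_iff R hs0).mp (hR R hRX hRY)]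
  have hdiv := div_eq_of_mem hK hπ0 hmem (by
    rw [deg_single, deg_single, deg_eq_one hK Y, deg_eq_one hK Q])
  exact ⟨hπ0, hdiv⟩

/-- polynomials in `t` of degree `≤ m` lie in `L(m·B)` when `t` has divisor `A - B` -/
theorem aeval_mem_L (hK : IsFunctionField k K) {t : K} {A B : Place k K} (hAB : A ≠ B)
    (ht : FunFld.div k t = Finsupp.single A 1 - Finsupp.single B 1) (p : k[X]) (m : ℕ)
    (hp : p.natDegree ≤ m) : aeval t p ∈ L (Finsupp.single B (m : ℤ) : Divisor k K) := by
  classical
  obtain ⟨hX, hY, hR⟩ := ord_of_div_eq hK hAB ht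
  have ht0 : t ≠ 0 := by
    rintro rfl
    rw [ord_zero] at hX
    exact absurd hX (by norm_num)
  intro R
  by_cases hRB : R = B
  · subst hRB
    rw [Finsupp.single_eq_same, aeval_eq_sum_range]
    apply Valuation.map_sum_le
    intro i hi
    rw [Finset.mem_range] at hi
    rw [Algebra.smul_def, map_mul, map_pow]
    have hvs : R.1 t = WithZero.exp (1 : ℤ) := by
      rw [val_eq_exp_neg_ord R ht0, hY]; rfl
    rw [hvs, ← WithZero.exp_nsmul]
    calc R.1 (algebraMap k K (p.coeff i)) * WithZero.exp (i • (1 : ℤ))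
        ≤ 1 * WithZero.exp (i • (1 : ℤ)) := mul_le_mul' (R.2.1 _) le_rfl
      _ = WithZero.exp (i • (1 : ℤ)) := one_mul _
      _ ≤ WithZero.exp (m : ℤ) := WithZero.exp_le_exp.mpr (by
          have : i ≤ m := by omega
          simpa using this)
  · rw [Finsupp.single_eq_of_ne hRB, WithZero.exp_zero]
    apply val_aeval_le_one R.1 R.2.1
    by_cases hRA : R = A
    · subst hRA
      rw [← ord_nonneg_iff R ht0, hX]; norm_num
    · rw [(ord_eq_zero_iff R ht0).mp (hR R hRA hRB)]


open Groth.Agent.Helper16.Wron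

/-- abstract dimension count -/
theorem comap_eq_of_finrank {ψ : k[X] →ₗ[k] K} (hψ : Function.Injective ψ)
    (M : Submodule k k[X]) (T : Submodule k K) [FiniteDimensional k T]
    (hMT : M ≤ Submodule.comap ψ T) (hdim : finrank k T ≤ finrank k M) :
    Submodule.comap ψ T = M ∧ T ≤ LinearMap.range ψ := by
  have h1 : Submodule.map ψ M ≤ T := Submodule.map_le_iff_le_comap.mpr hMT
  have h2 : finrank k ↥(Submodule.map ψ M) = finrank k M :=
    (Submodule.equivMapOfInjective ψ hψ M).finrank_eq.symm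
  have h3 : Submodule.map ψ M = T :=
    Submodule.eq_of_le_of_finrank_le h1 (by rw [h2]; exact hdim)
  refine ⟨?_, ?_⟩
  · rw [← h3, Submodule.comap_map_eq_of_injective hψ]
  · rw [← h3]
    exact LinearMap.map_le_range

theorem finrank_comap {ψ : k[X] →ₗ[k] K} (hψ : Function.Injective ψ) (W : Submodule k K)
    (hW : W ≤ LinearMap.range ψ) : finrank k ↥(Submodule.comap ψ W) = finrank k W := by
  have h1 : Submodule.map ψ (Submodule.comap ψ W) = W := by
    rw [Submodule.map_comap_eq, inf_eq_right.mpr hW]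
  have h2 := (Submodule.equivMapOfInjective ψ hψ (Submodule.comap ψ W)).finrank_eq
  rw [h2, h1]

theorem finrank_degreeLT (m : ℕ) : finrank k (degreeLT k m) = m := by
  rw [(degreeLTEquiv k m).finrank_eq]
  simp

theorem finrank_Gc_inf_ge (c : k) (d n : ℕ) (hn : n ≤ d + 1) :
    d + 1 - n ≤ finrank k ↥(Gc c n ⊓ degreeLT k (d + 1)) := by
  have hne : (X - C c) ^ n ≠ 0 := pow_ne_zero _ (X_sub_C_ne_zero c)
  have hmem : ∀ q ∈ degreeLT k (d + 1 - n),
      (LinearMap.mulLeft k ((X - C c) ^ n)) q ∈ Gc c n ⊓ degreeLT k (d + 1) := by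
    intro q hq
    rw [LinearMap.mulLeft_apply, Submodule.mem_inf, mem_Gc]
    refine ⟨dvd_mul_right _ _, ?_⟩
    rw [mem_degreeLT] at hq ⊢
    rcases eq_or_ne q 0 with rfl | hq0
    · simp [WithBot.bot_lt_coe]
    · rw [degree_mul, degree_pow, degree_X_sub_C, degree_eq_natDegree hq0] at *
      have : q.natDegree < d + 1 - n := by exact_mod_cast hq
      have h2 : (n : WithBot ℕ) + (q.natDegree : WithBot ℕ) < ((d + 1 : ℕ) : WithBot ℕ) := by
        rw [← Nat.cast_add, Nat.cast_lt]; omega
      simpa using h2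
  let f : degreeLT k (d + 1 - n) →ₗ[k] ↥(Gc c n ⊓ degreeLT k (d + 1)) :=
    (LinearMap.mulLeft k ((X - C c) ^ n)).restrict hmem
  have hf : Function.Injective f := by
    intro q1 q2 h
    have h' := congrArg Subtype.val h
    simp only [f, LinearMap.restrict_coe_apply, LinearMap.mulLeft_apply] at h'
    exact Subtype.ext (mul_left_cancel₀ hne h')
  have := LinearMap.finrank_le_finrank_of_injective hf
  rwa [finrank_degreeLT] at this


/-- the coordinate map `p ↦ z · p(t)` -/
noncomputable def psi (t z : K) : k[X] →ₗ[k] K :=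
  (LinearMap.mulLeft k z).comp (aeval t : k[X] →ₐ[k] K).toLinearMap

theorem psi_apply (t z : K) (p : k[X]) : psi (k := k) t z p = z * aeval t p := rfl

theorem finrank_L_le [IsAlgClosed k] (hK : IsFunctionField k K) {d : ℕ} {D : Divisor k K}
    (hD : D.deg = d) (P : Place k K) (n : ℕ) (hn : n ≤ d + 1) :
    finrank k (L (D - Finsupp.single P (n : ℤ))) ≤ d + 1 - n := by
  have h1 := fdim_le_add hK (V := (⊤ : Submodule k K)) (D := D) P (n : ℤ) (d + 1 - n)
  have h2 := fdim_eq_zero hK (V := (⊤ : Submodule k K)) (D := D) P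
    (n := (n : ℤ) + ((d + 1 - n : ℕ) : ℤ)) (by rw [hD]; push_cast [Nat.cast_sub hn]; linarith)
  rw [h2, zero_add] at h1
  unfold fdim at h1
  rwa [top_inf_eq] at h1

section setup

variable [IsAlgClosed k] (hK : IsFunctionField k K) {d : ℕ} {D : Divisor k K}
  (hD : D.deg = d) {A B : Place k K} (hAB : A ≠ B) {t z : K}
  (ht : FunFld.div k t = Finsupp.single A 1 - Finsupp.single B 1) (hz0 : z ≠ 0)
  (hz : FunFld.div k z = Finsupp.single B (d : ℤ) - D)

include hK hAB ht hz0 in
theorem psi_injective : Function.Injective (psi (k := k) t z) := by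
  have htr : Transcendental k t := by
    intro halg
    obtain ⟨c, hc⟩ := hK.2 t halg
    obtain ⟨hX, -, -⟩ := ord_of_div_eq hK hAB ht
    rw [← hc, ord_const] at hX
    exact absurd hX (by norm_num)
  have hinj : Function.Injective (aeval t : k[X] →ₐ[k] K) := transcendental_iff_injective.mp htr
  intro p q hpq
  rw [psi_apply, psi_apply] at hpq
  exact hinj (mul_left_cancel₀ hz0 hpq)

include hK hAB ht hz0 hz in
theorem psi_mem_of_dvd {P : Place k K} {c : k}
    (hcP : FunFld.div k (t - algebraMap k K c) = Finsupp.single P 1 - Finsupp.single B 1)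
    (hc0 : t - algebraMap k K c ≠ 0) (n : ℕ) :
    Gc c n ⊓ degreeLT k (d + 1) ≤
      Submodule.comap (psi (k := k) t z) (L (D - Finsupp.single P (n : ℤ))) := by
  classical
  intro p hp
  rw [Submodule.mem_comap, psi_apply]
  obtain ⟨hp1, hp2⟩ := Submodule.mem_inf.mp hp
  rw [mem_Gc] at hp1
  rw [mem_degreeLT] at hp2
  rcases eq_or_ne p 0 with rfl | hp0
  · simp
  obtain ⟨q, rfl⟩ := hp1
  have hq0 : q ≠ 0 := right_ne_zero_of_mul hp0
  have hdeg : n + q.natDegree < d + 1 := by
    rw [degree_eq_natDegree hp0, natDegree_mul (left_ne_zero_of_mul hp0) hq0, natDegree_pow,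
      natDegree_X_sub_C, mul_one] at hp2
    exact_mod_cast hp2
  have h1 : z ∈ L (-(FunFld.div k z)) := mem_L_neg_div hK hz0
  have h2 : (t - algebraMap k K c) ^ n ∈
      L (n • (-(FunFld.div k (t - algebraMap k K c)))) := pow_mem_L (mem_L_neg_div hK hc0) n
  have h3 := aeval_mem_L hK hAB ht q (d - n) (by omega)
  have h4 := L_mul h1 (L_mul h2 h3)
  have e1 : aeval t ((X - C c) ^ n * q) = (t - algebraMap k K c) ^ n * aeval t q := by
    simp [map_mul, map_pow, map_sub, aeval_X, aeval_C]
  rw [e1]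
  have e2 : -(FunFld.div k z) + (n • (-(FunFld.div k (t - algebraMap k K c))) +
      Finsupp.single B (((d - n : ℕ)) : ℤ)) = D - Finsupp.single P (n : ℤ) := by
    rw [hz, hcP]
    have hn : n ≤ d := by omega
    ext R
    simp only [Finsupp.add_apply, Finsupp.neg_apply, Finsupp.sub_apply, Finsupp.smul_apply,
      Finsupp.single_apply, Nat.cast_sub hn]
    split_ifs <;> simp <;> ring
  rw [e2] at h4
  exact h4

include hK hAB ht hz0 hz in
theorem psi_mem_of_deg (n : ℕ) :
    (Ginf d n : Submodule k k[X]) ≤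
      Submodule.comap (psi (k := k) t z) (L (D - Finsupp.single B (n : ℤ))) := by
  classical
  intro p hp
  rw [Submodule.mem_comap, psi_apply]
  unfold Ginf at hp
  rw [mem_degreeLT] at hp
  rcases eq_or_ne p 0 with rfl | hp0
  · simp
  have hdeg : p.natDegree < d + 1 - n := by
    rw [degree_eq_natDegree hp0] at hp
    exact_mod_cast hp
  have h1 : z ∈ L (-(FunFld.div k z)) := mem_L_neg_div hK hz0
  have h3 := aeval_mem_L hK hAB ht p (d - n) (by omega)
  have h4 := L_mul h1 h3
  have e2 : -(FunFld.div k z) + Finsupp.single B (((d - n : ℕ)) : ℤ) =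
      D - Finsupp.single B (n : ℤ) := by
    rw [hz]
    have hn : n ≤ d := by omega
    ext R
    simp only [Finsupp.add_apply, Finsupp.neg_apply, Finsupp.sub_apply,
      Finsupp.single_apply, Nat.cast_sub hn]
    split_ifs <;> simp
  rw [e2] at h4
  exact h4

include hK hD hAB ht hz0 hz in
theorem comap_L_point {P : Place k K} {c : k}
    (hcP : FunFld.div k (t - algebraMap k K c) = Finsupp.single P 1 - Finsupp.single B 1)
    (hc0 : t - algebraMap k K c ≠ 0) (n : ℕ) (hn : n ≤ d + 1) :
    Submodule.comap (psi (k := k) t z) (L (D - Finsupp.single P (n : ℤ))) =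
      Gc c n ⊓ degreeLT k (d + 1) ∧
    L (D - Finsupp.single P (n : ℤ)) ≤ LinearMap.range (psi (k := k) t z) := by
  haveI := L_finite hK (D - Finsupp.single P (n : ℤ))
  exact comap_eq_of_finrank (psi_injective hK hAB ht hz0) _ _
    (psi_mem_of_dvd hK hAB ht hz0 hz hcP hc0 n)
    ((finrank_L_le hK hD P n hn).trans (finrank_Gc_inf_ge c d n hn))

include hK hD hAB ht hz0 hz in
theorem comap_L_inf (n : ℕ) (hn : n ≤ d + 1) :
    Submodule.comap (psi (k := k) t z) (L (D - Finsupp.single B (n : ℤ))) = Ginf d n ∧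
    L (D - Finsupp.single B (n : ℤ)) ≤ LinearMap.range (psi (k := k) t z) := by
  haveI := L_finite hK (D - Finsupp.single B (n : ℤ))
  refine comap_eq_of_finrank (psi_injective hK hAB ht hz0) _ _
    (psi_mem_of_deg hK hAB ht hz0 hz n) ?_
  unfold Ginf
  rw [finrank_degreeLT]
  exact finrank_L_le hK hD B n hn

include hK hD hAB ht hz0 hz in
theorem L_le_range : L D ≤ LinearMap.range (psi (k := k) t z) := by
  have := (comap_L_inf hK hD hAB ht hz0 hz 0 (by omega)).2
  simpa using this

include hK hD hAB ht hz0 hz in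
theorem comap_V_le {V : Submodule k K} (hV : V ≤ L D) :
    Submodule.comap (psi (k := k) t z) V ≤ degreeLT k (d + 1) := by
  have h1 := (comap_L_inf hK hD hAB ht hz0 hz 0 (by omega)).1
  have h2 : Submodule.comap (psi (k := k) t z) V ≤
      Submodule.comap (psi (k := k) t z) (L (D - Finsupp.single B ((0 : ℕ) : ℤ))) := by
    apply Submodule.comap_mono
    simpa using hV
  rw [h1] at h2
  exact h2

include hK hD hAB ht hz0 hz in
theorem finrank_comap_V {V : Submodule k K} (hV : V ≤ L D) :
    finrank k ↥(Submodule.comap (psi (k := k) t z) V) = finrank k V :=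
  finrank_comap (psi_injective hK hAB ht hz0) V (hV.trans (L_le_range hK hD hAB ht hz0 hz))

include hK hD hAB ht hz0 hz in
theorem fdim_eq_point {V : Submodule k K} (hV : V ≤ L D) {P : Place k K} {c : k}
    (hcP : FunFld.div k (t - algebraMap k K c) = Finsupp.single P 1 - Finsupp.single B 1)
    (hc0 : t - algebraMap k K c ≠ 0) (n : ℕ) (hn : n ≤ d + 1) :
    fdim V D P (n : ℤ) = finrank k ↥(Submodule.comap (psi (k := k) t z) V ⊓ Gc c n) := by
  obtain ⟨h1, h2⟩ := comap_L_point hK hD hAB ht hz0 hz hcP hc0 n hn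
  unfold fdim
  rw [← finrank_comap (psi_injective hK hAB ht hz0) _ (inf_le_right.trans h2),
    Submodule.comap_inf, h1, inf_comm (Gc c n), ← inf_assoc,
    inf_eq_left.mpr (comap_V_le hK hD hAB ht hz0 hz hV)]

include hK hD hAB ht hz0 hz in
theorem fdim_eq_inf {V : Submodule k K} (hV : V ≤ L D) (n : ℕ) (hn : n ≤ d + 1) :
    fdim V D B (n : ℤ) = finrank k ↥(Submodule.comap (psi (k := k) t z) V ⊓ Ginf d n) := by
  obtain ⟨h1, h2⟩ := comap_L_inf hK hD hAB ht hz0 hz n hn
  unfold fdim
  rw [← finrank_comap (psi_injective hK hAB ht hz0) _ (inf_le_right.trans h2),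
    Submodule.comap_inf, h1]

end setup

end Groth.Agent.Helper16.LLS
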