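import Mathlib
import Groth.Prelude.Def_W4bk4grassmannianPl
import Groth.Agent.H16.NR4

set_option autoImplicit false
set_option linter.unusedSectionVars false
set_option linter.style.haveILetI false

/-! Unique factorization in the cone over a Schubert variety: the top coordinate. -/

namespace Groth.Agent.H16.SM

open W4bk4grassmannian MvPolynomial

universe u

section Tsub

variable (K : Type u) [Field K] (σ : Type*)

/-- polynomials all of whose monomials have degree divisible by `d`. -/
def Tsub (d : ℕ) : Subalgebra K (MvPolynomial σ K) where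
  carrier := {f | ∀ m ∈ f.support, d ∣ m.sum fun _ e => e}
  mul_mem' := by
    classical
    intro f g hf hg m hm
    obtain ⟨a, ha, b, hb, rfl⟩ := Finset.mem_add.mp (MvPolynomial.support_mul f g hm)
    rw [Finsupp.sum_add_index' (fun _ => rfl) (fun _ _ _ => rfl)]
    exact dvd_add (hf a ha) (hg b hb)
  add_mem' := by
    classical
    intro f g hf hg m hm
    rcases Finset.mem_union.mp (MvPolynomial.support_add hm) with h | h
    · exact hf m h
    · exact hg m h
  algebraMap_mem' := by
    classical
    intro c m hm
    have h1 : m = 0 := by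
      by_contra hne
      rw [mem_support_iff, MvPolynomial.algebraMap_eq, coeff_C, if_neg (Ne.symm hne)] at hm
      exact hm rfl
    rw [h1, Finsupp.sum_zero_index]
    exact dvd_zero _

theorem dvd_totalDegree_of_mem (d : ℕ) (f : MvPolynomial σ K) (hf : f ∈ Tsub K σ d) :
    d ∣ f.totalDegree := by
  by_cases h0 : f = 0
  · rw [h0, totalDegree_zero]; exact dvd_zero _
  · have hne : f.support.Nonempty := by
      rw [Finset.nonempty_iff_ne_empty]
      intro h
      exact h0 (MvPolynomial.support_eq_empty.mp h)
    obtain ⟨m, hm, hsup⟩ := Finset.exists_mem_eq_sup f.support hne (fun s => s.sum fun _ e => e)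
    unfold totalDegree
    rw [hsup]
    exact hf m hm

end Tsub

variable (K : Type u) [Field K] {d n : ℕ}

theorem sum_Eexp (θ : Idx d n) (σ : Equiv.Perm (Fin d)) :
    ((Eexp θ σ).sum fun _ e => e) = d := by
  unfold Eexp
  have h : ∀ (s : Finset (Fin d)),
      ((∑ t ∈ s, Finsupp.single (toLex (θ.1 (σ t), t)) 1 : Var d n →₀ ℕ).sum fun _ e => e) =
        s.card := by
    intro s
    induction s using Finset.induction_on with
    | empty => rw [Finset.sum_empty, Finsupp.sum_zero_index, Finset.card_empty]
    | insert a s ha ih =>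
      rw [Finset.sum_insert ha, Finsupp.sum_add_index' (fun _ => rfl) (fun _ _ _ => rfl), ih,
        Finsupp.sum_single_index rfl, Finset.card_insert_of_notMem ha, add_comm]
  rw [h, Finset.card_univ, Fintype.card_fin]

theorem mem_support_gminor (τ θ : Idx d n) (m : Var d n →₀ ℕ)
    (hm : m ∈ (gminor K τ θ).support) : ∃ σ : Equiv.Perm (Fin d), m = Eexp θ σ := by
  rw [mem_support_iff] at hm
  unfold gminor at hm
  rw [Matrix.det_apply, coeff_sum] at hm
  obtain ⟨σ, -, hσ⟩ := Finset.exists_ne_zero_of_sum_ne_zero hm
  refine ⟨σ, ?_⟩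
  by_contra hne
  exact hσ (coeff_term K τ θ σ m hne)

theorem gminor_mem_Tsub (τ θ : Idx d n) : gminor K τ θ ∈ Tsub K (Var d n) d := by
  intro m hm
  obtain ⟨σ, rfl⟩ := mem_support_gminor K τ θ m hm
  rw [sum_Eexp]

theorem Phi_mem_Tsub (τ : Idx d n) (f : PlRing K d n) : Phi K τ f ∈ Tsub K (Var d n) d := by
  induction f using MvPolynomial.induction_on with
  | C c =>
    have : Phi K τ (C c) = algebraMap K _ c := by
      unfold Phi; rw [aeval_C]
    rw [this]
    exact Subalgebra.algebraMap_mem _ c
  | add p q hp hq => rw [map_add]; exact Subalgebra.add_mem _ hp hq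
  | mul_X p θ hp =>
    rw [map_mul, Phi_X]
    exact Subalgebra.mul_mem _ hp (gminor_mem_Tsub K τ θ)

theorem gminor_self_ne_zero (τ : Idx d n) : gminor K τ τ ≠ 0 := by
  intro h
  have := coeff_Dexp_gminor K τ τ le_rfl
  rw [h, coeff_zero] at this
  exact zero_ne_one this

theorem totalDegree_gminor_self (τ : Idx d n) : (gminor K τ τ).totalDegree = d := by
  have hne : (gminor K τ τ).support.Nonempty := by
    rw [Finset.nonempty_iff_ne_empty]
    intro h
    exact gminor_self_ne_zero K τ (MvPolynomial.support_eq_empty.mp h)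
  obtain ⟨m, hm, hsup⟩ := Finset.exists_mem_eq_sup (gminor K τ τ).support hne
    (fun s => s.sum fun _ e => e)
  unfold totalDegree
  rw [hsup]
  obtain ⟨σ, rfl⟩ := mem_support_gminor K τ τ m hm
  exact sum_Eexp τ σ

section

variable [Infinite K] {e : ℕ} (w : Idx (e + 1) n)

theorem mk_eq_of_Phi_eq (f g : PlRing K (e + 1) n) (h : Phi K w f = Phi K w g) :
    Ideal.Quotient.mk (schubertVanishing K (e + 1) n w) f =
      Ideal.Quotient.mk (schubertVanishing K (e + 1) n w) g := by
  rw [Ideal.Quotient.eq, ← ker_Phi_eq K (Nat.succ_pos e) w]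
  refine RingHom.mem_ker.mpr ?_
  show Phi K w (f - g) = 0
  rw [map_sub, h, sub_self]

theorem Phi_eq_of_mk_eq (f g : PlRing K (e + 1) n)
    (h : Ideal.Quotient.mk (schubertVanishing K (e + 1) n w) f =
      Ideal.Quotient.mk (schubertVanishing K (e + 1) n w) g) : Phi K w f = Phi K w g := by
  have h2 := Phi_eq_zero_of_mem K w _ (Ideal.Quotient.eq.mp h)
  rw [map_sub] at h2
  exact sub_eq_zero.mp h2

theorem isUnit_of_totalDegree_eq_zero (a' : PlRing K (e + 1) n) (h0 : Phi K w a' ≠ 0)
    (hdeg : (Phi K w a').totalDegree = 0) :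
    IsUnit (Ideal.Quotient.mk (schubertVanishing K (e + 1) n w) a') := by
  have hC := totalDegree_eq_zero_iff_eq_C.mp hdeg
  obtain ⟨c, hc⟩ : ∃ c, c = coeff 0 (Phi K w a') := ⟨_, rfl⟩
  rw [← hc] at hC
  have hc0 : c ≠ 0 := by
    intro hc0
    apply h0
    rw [hC, hc0, C_0]
  have h1 : Ideal.Quotient.mk (schubertVanishing K (e + 1) n w) a' =
      Ideal.Quotient.mk (schubertVanishing K (e + 1) n w) (C c) := by
    apply mk_eq_of_Phi_eq
    rw [hC]
    unfold Phi
    rw [aeval_C]
    rfl
  rw [h1]
  exact ((isUnit_iff_ne_zero.mpr hc0).map C).map (Ideal.Quotient.mk _)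

theorem irreducible_top :
    Irreducible (Ideal.Quotient.mk (schubertVanishing K (e + 1) n w) (X w)) := by
  refine ⟨?_, ?_⟩
  · intro hu
    have h1 : Ideal.Quotient.mk (schubertVanishing K (e + 1) n w) (X w) ∣
        Ideal.Quotient.mk (schubertVanishing K (e + 1) n w) 1 := hu.dvd
    rw [dvd_iff] at h1
    exact sup_span_ne_top K (Nat.succ_pos e) w w ((Ideal.eq_top_iff_one _).mpr h1)
  · intro a b hab
    obtain ⟨a', rfl⟩ := Ideal.Quotient.mk_surjective a
    obtain ⟨b', rfl⟩ := Ideal.Quotient.mk_surjective b
    rw [← map_mul] at hab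
    have h1 := Phi_eq_of_mk_eq K w _ _ hab
    rw [Phi_X, map_mul] at h1
    have hfg : Phi K w a' * Phi K w b' ≠ 0 := by
      rw [← h1]; exact gminor_self_ne_zero K w
    have hf0 := left_ne_zero_of_mul hfg
    have hg0 := right_ne_zero_of_mul hfg
    have h2 := totalDegree_mul_of_isDomain hf0 hg0
    rw [← h1, totalDegree_gminor_self] at h2
    obtain ⟨k, hk⟩ := dvd_totalDegree_of_mem K _ (e + 1) _ (Phi_mem_Tsub K w a')
    obtain ⟨l, hl⟩ := dvd_totalDegree_of_mem K _ (e + 1) _ (Phi_mem_Tsub K w b')
    rw [hk, hl] at h2
    have hkl : k = 0 ∨ l = 0 := by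
      rcases Nat.eq_zero_or_pos k with h | h
      · exact Or.inl h
      · right
        have h3 : (e + 1) * 1 = (e + 1) * (k + l) := by rw [mul_one, mul_add]; exact h2
        have h4 := Nat.eq_of_mul_eq_mul_left (Nat.succ_pos e) h3
        omega
    rcases hkl with h | h
    · left
      exact isUnit_of_totalDegree_eq_zero K w a' hf0 (by rw [hk, h, mul_zero])
    · right
      exact isUnit_of_totalDegree_eq_zero K w b' hg0 (by rw [hl, h, mul_zero])

theorem prime_of_ufd (h : UniqueFactorizationMonoid (BB K w)) :
    Prime (Ideal.Quotient.mk (schubertVanishing K (e + 1) n w) (X w)) := by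
  haveI := isDomain_BB K w
  exact UniqueFactorizationMonoid.irreducible_iff_prime.mp (irreducible_top K w)

section

variable [IsDomain (BB K w)]

theorem exists_poly (b : BB K w) : ∃ p : MvPolynomial (Option (Gam w)) K,
    aeval (gen w K (FractionRing (BB K w))) p = algebraMap (BB K w) (FractionRing (BB K w)) b := by
  have h := algebraMap_mem w K (FractionRing (BB K w)) b
  unfold CC at h
  exact (AlgHom.mem_range _).mp h

/-- the polynomial in the cell coordinates representing an element of the cone. -/
noncomputable def toPoly (b : BB K w) : MvPolynomial (Option (Gam w)) K :=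
  Classical.choose (exists_poly K w b)

theorem aeval_toPoly (b : BB K w) :
    aeval (gen w K (FractionRing (BB K w))) (toPoly K w b) =
      algebraMap (BB K w) (FractionRing (BB K w)) b :=
  Classical.choose_spec (exists_poly K w b)

/-- the embedding of the cone into the polynomial ring on the cell coordinates. -/
noncomputable def toPolyHom (hdn : e + 1 < n) : BB K w →+* MvPolynomial (Option (Gam w)) K where
  toFun := toPoly K w
  map_one' := aeval_gen_injective K w hdn (by rw [aeval_toPoly, map_one, map_one])
  map_mul' := fun a b => aeval_gen_injective K w hdn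
    (by rw [aeval_toPoly, map_mul, map_mul, aeval_toPoly, aeval_toPoly])
  map_zero' := aeval_gen_injective K w hdn (by rw [aeval_toPoly, map_zero, map_zero])
  map_add' := fun a b => aeval_gen_injective K w hdn
    (by rw [aeval_toPoly, map_add, map_add, aeval_toPoly, aeval_toPoly])

theorem ufd_of_prime (hdn : e + 1 < n)
    (hp : Prime (Ideal.Quotient.mk (schubertVanishing K (e + 1) n w) (X w))) :
    UniqueFactorizationMonoid (BB K w) := by
  classical
  haveI : Finite (Idx (e + 1) n) := Subtype.finite
  haveI : Finite (Gam w) := Subtype.finite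
  have hinj := aeval_gen_injective K w hdn
  have hφ : ∀ b, aeval (gen w K (FractionRing (BB K w))) (toPolyHom K w hdn b) =
      algebraMap (BB K w) (FractionRing (BB K w)) b := aeval_toPoly K w
  have hφinj : Function.Injective (toPolyHom K w hdn) := by
    intro a b hab
    apply IsFractionRing.injective (BB K w) (FractionRing (BB K w))
    rw [← hφ, ← hφ, hab]
  have hφx : toPolyHom K w hdn (Ideal.Quotient.mk (schubertVanishing K (e + 1) n w) (X w)) =
      X none := by
    apply hinj
    rw [hφ, aeval_X]
    rfl
  have hX0 : (X none : MvPolynomial (Option (Gam w)) K) ≠ 0 := X_ne_zero _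
  have hle : Submonoid.powers (X none : MvPolynomial (Option (Gam w)) K) ≤
      nonZeroDivisors (MvPolynomial (Option (Gam w)) K) :=
    powers_le_nonZeroDivisors_of_noZeroDivisors hX0
  have hinjL : Function.Injective (algebraMap (MvPolynomial (Option (Gam w)) K)
      (Localization.Away (X none : MvPolynomial (Option (Gam w)) K))) :=
    IsLocalization.injective _ hle
  letI : Algebra (BB K w) (Localization.Away (X none : MvPolynomial (Option (Gam w)) K)) :=
    ((algebraMap (MvPolynomial (Option (Gam w)) K)
      (Localization.Away (X none : MvPolynomial (Option (Gam w)) K))).comp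
        (toPolyHom K w hdn)).toAlgebra
  have halg : ∀ b, algebraMap (BB K w)
      (Localization.Away (X none : MvPolynomial (Option (Gam w)) K)) b =
      algebraMap (MvPolynomial (Option (Gam w)) K) _ (toPolyHom K w hdn b) := fun b => rfl
  have hloc : IsLocalization
      (Submonoid.powers (Ideal.Quotient.mk (schubertVanishing K (e + 1) n w) (X w)))
      (Localization.Away (X none : MvPolynomial (Option (Gam w)) K)) := by
    rw [isLocalization_iff]
    refine ⟨?_, ?_, ?_⟩
    · rintro ⟨_, k, rfl⟩
      rw [halg, map_pow, hφx, map_pow]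
      exact (IsLocalization.map_units _ (⟨X none, Submonoid.mem_powers _⟩ :
        Submonoid.powers (X none : MvPolynomial (Option (Gam w)) K))).pow k
    · intro z
      obtain ⟨⟨p, ⟨_, k, rfl⟩⟩, hz⟩ := IsLocalization.surj
        (Submonoid.powers (X none : MvPolynomial (Option (Gam w)) K)) z
      have hpC : aeval (gen w K (FractionRing (BB K w))) p ∈ CC w K (FractionRing (BB K w)) := by
        unfold CC
        exact (AlgHom.mem_range _).mpr ⟨p, rfl⟩
      obtain ⟨b, m, hbm⟩ := CC_le_DD' w K (FractionRing (BB K w)) hpC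
      have h1 : p * (X none) ^ m = toPolyHom K w hdn b := by
        apply hinj
        rw [map_mul, map_pow, aeval_X, hφ]
        exact hbm
      refine ⟨(b, ⟨Ideal.Quotient.mk (schubertVanishing K (e + 1) n w) (X w) ^ (k + m),
        k + m, rfl⟩), ?_⟩
      show z * algebraMap (BB K w) _
        (Ideal.Quotient.mk (schubertVanishing K (e + 1) n w) (X w) ^ (k + m)) =
          algebraMap (BB K w) _ b
      rw [halg, halg, map_pow, hφx, ← h1, pow_add, map_mul, map_mul, ← mul_assoc]
      have hz' : z * algebraMap (MvPolynomial (Option (Gam w)) K) _ ((X none) ^ k) =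
          algebraMap (MvPolynomial (Option (Gam w)) K) _ p := hz
      rw [hz']
    · intro a b hab
      refine ⟨1, ?_⟩
      rw [halg, halg] at hab
      rw [hφinj (hinjL hab)]
  haveI : UniqueFactorizationMonoid
      (Localization.Away (X none : MvPolynomial (Option (Gam w)) K)) := inferInstance
  haveI : IsLocalization.Away (Ideal.Quotient.mk (schubertVanishing K (e + 1) n w) (X w))
      (Localization.Away (X none : MvPolynomial (Option (Gam w)) K)) := hloc
  exact (UniqueFactorizationMonoid.iff_of_isLocalizationAway_of_prime hp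
    (Localization.Away (X none : MvPolynomial (Option (Gam w)) K))).mpr inferInstance

end

theorem ufd_iff_prime (hdn : e + 1 < n) :
    UniqueFactorizationMonoid (BB K w) ↔
      Prime (Ideal.Quotient.mk (schubertVanishing K (e + 1) n w) (X w)) := by
  haveI := isDomain_BB K w
  exact ⟨prime_of_ufd K w, ufd_of_prime K w hdn⟩

end

end Groth.Agent.H16.SM
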