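import Mathlib
import Groth.Prelude.Def_W4bk4grassmannianPl
import Groth.Agent.H16.UF1
import Groth.Agent.S11268

set_option autoImplicit false
set_option linter.unusedSectionVars false
set_option linter.style.haveILetI false

/-! The top coordinate is prime iff there is at most one Schubert divisor. -/

namespace Groth.Agent.H16.SM

open W4bk4grassmannian MvPolynomial

universe u

variable {d n : ℕ}

theorem eq_of_le_of_codeg_eq (φ ψ : Idx d n) (hle : φ ≤ ψ) (hc : codeg φ = codeg ψ) : φ = ψ := by
  have hle' : ∀ t, φ.1 t ≤ ψ.1 t := hle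
  by_contra hne
  have hex : ∃ t, φ.1 t < ψ.1 t := by
    by_contra hcon
    push Not at hcon
    apply hne
    apply Subtype.ext
    funext t
    exact le_antisymm (hle' t) (hcon t)
  obtain ⟨t₀, ht₀⟩ := hex
  have hlt : codeg φ < codeg ψ := by
    unfold codeg
    apply Finset.sum_lt_sum
    · intro t _
      have := hle' t
      exact Nat.sub_le_sub_right (Fin.le_def.mp this) _
    · refine ⟨t₀, Finset.mem_univ _, ?_⟩
      have h1 := ST.val_le_of_strictMono φ.1 φ.2 t₀
      have h2 : (φ.1 t₀).val < (ψ.1 t₀).val := Fin.lt_def.mp ht₀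
      omega
  omega

variable (K : Type u) [Field K] [Infinite K] {e : ℕ} (w : Idx (e + 1) n)

theorem prime_iff_isPrime :
    Prime (Ideal.Quotient.mk (schubertVanishing K (e + 1) n w) (X w)) ↔
      (schubertVanishing K (e + 1) n w ⊔ Ideal.span {(X w : PlRing K (e + 1) n)}).IsPrime := by
  constructor
  · intro hp
    refine ⟨sup_span_ne_top K (Nat.succ_pos e) w w, ?_⟩
    intro a b hab
    rw [← dvd_iff, map_mul] at hab
    rw [← dvd_iff, ← dvd_iff]
    exact hp.dvd_or_dvd hab
  · intro hP
    refine ⟨?_, ?_, ?_⟩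
    · intro h
      exact X_not_mem K w w le_rfl (Ideal.Quotient.eq_zero_iff_mem.mp h)
    · intro hu
      have h1 : Ideal.Quotient.mk (schubertVanishing K (e + 1) n w) (X w) ∣
          Ideal.Quotient.mk (schubertVanishing K (e + 1) n w) 1 := hu.dvd
      rw [dvd_iff] at h1
      exact hP.ne_top ((Ideal.eq_top_iff_one _).mpr h1)
    · intro a b hab
      obtain ⟨a', rfl⟩ := Ideal.Quotient.mk_surjective a
      obtain ⟨b', rfl⟩ := Ideal.Quotient.mk_surjective b
      rw [← map_mul, dvd_iff] at hab
      rw [dvd_iff, dvd_iff]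
      exact hP.mem_or_mem hab

theorem isPrime_iff_subsingleton (hdn : e + 1 < n) :
    (schubertVanishing K (e + 1) n w ⊔ Ideal.span {(X w : PlRing K (e + 1) n)}).IsPrime ↔
      (divisors w).Subsingleton := by
  classical
  by_cases hex : ∃ φ : Idx (e + 1) n, φ < w
  · rw [sup_span_eq_iInf_divisors K (Nat.succ_pos e) w hex]
    obtain ⟨φ₁, hφ₁⟩ := hex
    obtain ⟨φ₀, hφ₀, -⟩ := Groth.Agent.S11268.result (e + 1) n φ₁ w hφ₁
    constructor
    · intro hP
      haveI : Fintype (Idx (e + 1) n) := Fintype.ofFinite _
      have hfin : (⨅ φ ∈ divisors w, schubertVanishing K (e + 1) n φ) =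
          (Finset.univ.filter (fun φ => φ ∈ divisors w)).inf
            (fun φ => schubertVanishing K (e + 1) n φ) := by
        rw [Finset.inf_eq_iInf]
        apply le_antisymm
        · refine le_iInf₂ (fun φ hφ => ?_)
          exact iInf₂_le φ (Finset.mem_filter.mp hφ).2
        · refine le_iInf₂ (fun φ hφ => ?_)
          exact iInf₂_le φ (Finset.mem_filter.mpr ⟨Finset.mem_univ _, hφ⟩)
      obtain ⟨ψ, hψ, hψle⟩ := (Ideal.IsPrime.inf_le' hP).mp (le_of_eq hfin.symm)
      have hψd : ψ ∈ divisors w := (Finset.mem_filter.mp hψ).2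
      have key : ∀ φ ∈ divisors w, φ = ψ := by
        intro φ hφ
        have h1 : schubertVanishing K (e + 1) n ψ ≤ schubertVanishing K (e + 1) n φ :=
          hψle.trans (iInf₂_le φ hφ)
        have h2 : φ ≤ ψ := by
          by_contra hnle
          exact X_not_mem K φ φ le_rfl (h1 (X_mem_schubertVanishing K ψ φ hnle))
        apply eq_of_le_of_codeg_eq φ ψ h2
        have := hφ.2
        have := hψd.2
        omega
      intro a ha b hb
      rw [key a ha, key b hb]
    · intro hsub
      have hset : divisors w = {φ₀} := by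
        ext φ
        constructor
        · intro hφ; exact hsub hφ hφ₀
        · intro hφ; rw [Set.mem_singleton_iff.mp hφ]; exact hφ₀
      rw [hset]
      rw [iInf_singleton]
      exact isPrime_schubertVanishing K (Nat.succ_pos e) φ₀
  · have hw' : w = iota hdn := by
      by_contra hne
      exact hex ⟨iota hdn, lt_of_le_of_ne (iota_le hdn w) (Ne.symm hne)⟩
    constructor
    · intro _ a ha
      exact absurd ⟨a, ha.1⟩ hex
    · intro _
      rw [hw', sup_eq_ker K (Nat.succ_pos e) hdn (iota hdn)]
      exact RingHom.ker_isPrime _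

end Groth.Agent.H16.SM
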