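import Mathlib
import Groth.Prelude.Def_W4bk4grassmannianPl
import Groth.Agent.H16.ST1

set_option autoImplicit false
set_option linter.unusedSectionVars false
set_option linter.style.haveILetI false

/-! Combinatorics of Schubert divisors: at most one divisor iff a single run after an initial
segment. -/

namespace Groth.Agent.H16.SM

open W4bk4grassmannian

variable {d n : ℕ}

/-- a position where the entry can be lowered. -/
def Jump (τ : Idx d n) (t : Fin d) : Prop :=
  t.val < (τ.1 t).val ∧ ∀ t' : Fin d, t'.val + 1 = t.val → (τ.1 t').val + 1 < (τ.1 t).val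

theorem exists_divisor_of_jump (τ : Idx d n) (t : Fin d) (hj : Jump τ t) :
    ∃ φ ∈ divisors τ, φ.1 t ≠ τ.1 t ∧ ∀ t' : Fin d, t' ≠ t → φ.1 t' = τ.1 t' := by
  classical
  obtain ⟨hj1, hj2⟩ := hj
  have hlt : (τ.1 t).val - 1 < n := lt_of_le_of_lt (Nat.sub_le _ _) (τ.1 t).isLt
  set f : Fin d → Fin n := Function.update τ.1 t ⟨(τ.1 t).val - 1, hlt⟩ with hf
  have hft : f t = ⟨(τ.1 t).val - 1, hlt⟩ := Function.update_self _ _ _
  have hfne : ∀ t', t' ≠ t → f t' = τ.1 t' := fun t' h => Function.update_of_ne h _ _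
  have hmono : StrictMono f := by
    intro a b hab
    by_cases ha : a = t
    · have hb : b ≠ t := by rintro rfl; exact absurd hab (by rw [ha]; exact lt_irrefl _)
      rw [ha, hft, hfne b hb, Fin.lt_def]
      have : (τ.1 t).val < (τ.1 b).val := Fin.lt_def.mp (τ.2 (by rw [← ha]; exact hab))
      show (τ.1 t).val - 1 < (τ.1 b).val
      omega
    · by_cases hb : b = t
      · rw [hb, hft, hfne a ha, Fin.lt_def]
        show (τ.1 a).val < (τ.1 t).val - 1
        have hat : a.val < t.val := by rw [← hb]; exact Fin.lt_def.mp hab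
        have h1 := hj2 ⟨t.val - 1, by omega⟩ (by show t.val - 1 + 1 = t.val; omega)
        have h2 : (τ.1 a).val ≤ (τ.1 ⟨t.val - 1, by omega⟩).val := by
          apply Fin.le_def.mp
          apply τ.2.monotone
          apply Fin.le_def.mpr
          show a.val ≤ t.val - 1
          omega
        omega
      · rw [hfne a ha, hfne b hb]
        exact τ.2 hab
  refine ⟨⟨f, hmono⟩, ⟨?_, ?_⟩, ?_, ?_⟩
  · apply lt_of_le_of_ne
    · intro t'
      show f t' ≤ τ.1 t'
      by_cases ht' : t' = t
      · rw [ht', hft, Fin.le_def]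
        exact Nat.sub_le _ _
      · rw [hfne t' ht']
    · intro h
      have h1 : f t = τ.1 t := congrArg (fun φ : Idx d n => φ.1 t) h
      rw [hft] at h1
      have h2 := congrArg Fin.val h1
      simp only at h2
      omega
  · unfold codeg
    show ∑ t' : Fin d, ((f t').val - t'.val) + 1 = ∑ t' : Fin d, ((τ.1 t').val - t'.val)
    rw [← Finset.add_sum_erase _ _ (Finset.mem_univ t),
      ← Finset.add_sum_erase (f := fun t' => (τ.1 t').val - t'.val) _ (Finset.mem_univ t)]
    have h1 : ∑ x ∈ Finset.univ.erase t, ((f x).val - x.val) =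
        ∑ x ∈ Finset.univ.erase t, ((τ.1 x).val - x.val) := by
      refine Finset.sum_congr rfl (fun x hx => ?_)
      rw [hfne x (Finset.ne_of_mem_erase hx)]
    rw [h1, hft]
    show (τ.1 t).val - 1 - t.val + _ + 1 = _
    omega
  · show f t ≠ τ.1 t
    rw [hft]
    intro h1
    have h2 := congrArg Fin.val h1
    simp only at h2
    omega
  · exact hfne

theorem jump_unique (τ : Idx d n) (hsub : (divisors τ).Subsingleton) (t t' : Fin d)
    (ht : Jump τ t) (ht' : Jump τ t') : t = t' := by
  obtain ⟨φ, hφ, hφ1, hφ2⟩ := exists_divisor_of_jump τ t ht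
  obtain ⟨φ', hφ', hφ1', hφ2'⟩ := exists_divisor_of_jump τ t' ht'
  by_contra hne
  have := hsub hφ hφ'
  apply hφ1
  rw [this]
  exact hφ2' t hne

theorem eq_of_no_jump (τ : Idx d n) (s : ℕ) (h : ∀ t : Fin d, t.val < s → ¬ Jump τ t) :
    ∀ t : Fin d, t.val < s → (τ.1 t).val = t.val := by
  intro t
  obtain ⟨t, ht⟩ := t
  induction t using Nat.strong_induction_on with
  | _ t ih =>
    intro hts
    have hnj := h ⟨t, ht⟩ hts
    have hge := ST.val_le_of_strictMono τ.1 τ.2 ⟨t, ht⟩
    have hge' : t ≤ (τ.1 ⟨t, ht⟩).val := hge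
    unfold Jump at hnj
    rw [not_and_or] at hnj
    show (τ.1 ⟨t, ht⟩).val = t
    rcases hnj with h1 | h1
    · have h1' : ¬ t < (τ.1 ⟨t, ht⟩).val := h1
      omega
    · push Not at h1
      obtain ⟨t', ht', hle⟩ := h1
      have ht'' : t'.val + 1 = t := ht'
      have h3 : (τ.1 ⟨t'.val, t'.isLt⟩).val = t'.val :=
        ih t'.val (by omega) t'.isLt (by show t'.val < s; omega)
      have h4 : (⟨t'.val, t'.isLt⟩ : Fin d) = t' := rfl
      rw [h4] at h3
      omega

theorem run_of_subsingleton (τ : Idx d n) (hsub : (divisors τ).Subsingleton) :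
    ∃ s : ℕ, (∀ t : Fin d, t.val < s → (τ.1 t).val = t.val) ∧
      ∀ t t' : Fin d, s ≤ t.val → t.val + 1 = t'.val → (τ.1 t).val + 1 = (τ.1 t').val := by
  by_cases hex : ∃ t, Jump τ t
  · obtain ⟨t₀, ht₀⟩ := hex
    refine ⟨t₀.val, ?_, ?_⟩
    · apply eq_of_no_jump
      intro t htt hj
      have := jump_unique τ hsub t t₀ hj ht₀
      rw [this] at htt
      exact lt_irrefl _ htt
    · intro t t' hst htt'
      have hnj : ¬ Jump τ t' := by
        intro hj
        have := jump_unique τ hsub t' t₀ hj ht₀
        rw [this] at htt'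
        omega
      have hlt : (τ.1 t).val < (τ.1 t').val := Fin.lt_def.mp (τ.2 (Fin.lt_def.mpr (by omega)))
      have hge := ST.val_le_of_strictMono τ.1 τ.2 t
      unfold Jump at hnj
      rw [not_and_or] at hnj
      rcases hnj with h1 | h1
      · omega
      · push Not at h1
        obtain ⟨t'', ht'', hle⟩ := h1
        have : t'' = t := Fin.ext (by omega)
        rw [this] at hle
        omega
  · push Not at hex
    refine ⟨d, ?_, ?_⟩
    · apply eq_of_no_jump
      intro t _
      exact hex t
    · intro t t' hst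
      exact absurd t.isLt (by omega)

theorem subsingleton_of_run (τ : Idx d n) (s : ℕ)
    (h1 : ∀ t : Fin d, t.val < s → (τ.1 t).val = t.val)
    (h2 : ∀ t t' : Fin d, s ≤ t.val → t.val + 1 = t'.val → (τ.1 t).val + 1 = (τ.1 t').val) :
    (divisors τ).Subsingleton := by
  classical
  have key : ∀ φ ∈ divisors τ, ∀ t : Fin d,
      (φ.1 t).val = if t.val = s then (τ.1 t).val - 1 else (τ.1 t).val := by
    intro φ hφ
    obtain ⟨hlt, hcd⟩ := hφ
    have hle : ∀ t, (φ.1 t).val ≤ (τ.1 t).val := fun t => Fin.le_def.mp (hlt.le t)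
    have hge : ∀ t, t.val ≤ (φ.1 t).val := fun t => ST.val_le_of_strictMono φ.1 φ.2 t
    have hsum : ∑ t : Fin d, ((τ.1 t).val - (φ.1 t).val) = 1 := by
      unfold codeg at hcd
      have : ∑ t : Fin d, ((φ.1 t).val - t.val) + ∑ t : Fin d, ((τ.1 t).val - (φ.1 t).val) =
          ∑ t : Fin d, ((τ.1 t).val - t.val) := by
        rw [← Finset.sum_add_distrib]
        refine Finset.sum_congr rfl (fun t _ => ?_)
        have := hle t
        have := hge t
        omega
      omega
    have hlow : ∀ t : Fin d, t.val < s → (τ.1 t).val - (φ.1 t).val = 0 := by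
      intro t hts
      have := h1 t hts
      have := hle t
      have := hge t
      omega
    have hhigh : ∀ t : Fin d, s < t.val → (τ.1 t).val - (φ.1 t).val = 0 := by
      intro t hts
      by_contra hne
      have htpos : 0 < t.val := by omega
      set t' : Fin d := ⟨t.val - 1, by omega⟩ with ht'
      have ht'v : t'.val + 1 = t.val := by show t.val - 1 + 1 = t.val; omega
      have hc := h2 t' t (by show s ≤ t.val - 1; omega) ht'v
      have hφlt : (φ.1 t').val < (φ.1 t).val :=
        Fin.lt_def.mp (φ.2 (Fin.lt_def.mpr (by omega)))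
      have hne' : t' ≠ t := by
        intro h
        have := congrArg Fin.val h
        omega
      have hpair : ∑ x ∈ ({t', t} : Finset (Fin d)), ((τ.1 x).val - (φ.1 x).val) ≤
          ∑ x : Fin d, ((τ.1 x).val - (φ.1 x).val) :=
        Finset.sum_le_sum_of_subset (Finset.subset_univ _)
      rw [Finset.sum_pair hne', hsum] at hpair
      have := hle t
      have := hle t'
      omega
    intro t
    by_cases hts : t.val = s
    · rw [if_pos hts]
      have hsingle : ∑ x : Fin d, ((τ.1 x).val - (φ.1 x).val) = (τ.1 t).val - (φ.1 t).val := by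
        apply Finset.sum_eq_single t
        · intro x _ hx
          have hxv : x.val ≠ t.val := fun h => hx (Fin.ext h)
          rcases Nat.lt_or_gt_of_ne hxv with h | h
          · exact hlow x (by omega)
          · exact hhigh x (by omega)
        · intro h; exact absurd (Finset.mem_univ t) h
      rw [hsum] at hsingle
      have := hle t
      omega
    · rw [if_neg hts]
      have h0 : (τ.1 t).val - (φ.1 t).val = 0 := by
        rcases Nat.lt_or_gt_of_ne hts with h | h
        · exact hlow t h
        · exact hhigh t h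
      have := hle t
      omega
  intro φ hφ φ' hφ'
  apply Subtype.ext
  funext t
  apply Fin.ext
  rw [key φ hφ t, key φ' hφ' t]

theorem subsingleton_iff_run (τ : Idx d n) :
    (divisors τ).Subsingleton ↔
      ∃ s : ℕ, (∀ t : Fin d, t.val < s → (τ.1 t).val = t.val) ∧
        ∀ t t' : Fin d, s ≤ t.val → t.val + 1 = t'.val → (τ.1 t).val + 1 = (τ.1 t').val :=
  ⟨run_of_subsingleton τ, fun ⟨s, h1, h2⟩ => subsingleton_of_run τ s h1 h2⟩

end Groth.Agent.H16.SM
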