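import Groth.Agent.H16.Cond8
import Groth.Agent.H16.Embed3
set_option autoImplicit false
set_option linter.unusedSimpArgs false

namespace Groth.Agent.Helper16.Emb

open FunFld Module Groth.Agent.Helper17.FF

variable {k K : Type*} [Field k] [Field K] [Algebra k K] {n : ℕ}

theorem mul_mem_L {D E : Divisor k K} {a b : K} (ha : a ∈ L D) (hb : b ∈ L E) :
    a * b ∈ L (D + E) := by
  intro P
  rw [map_mul, Finsupp.add_apply, WithZero.exp_add]
  exact mul_le_mul' (ha P) (hb P)

theorem pow_le_L {D : Divisor k K} {W : Submodule k K} (hW : W ≤ L D) (m : ℕ) :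
    W ^ m ≤ L (m • D) := by
  induction m with
  | zero =>
    rw [pow_zero, zero_smul, Submodule.one_eq_span, Submodule.span_le]
    rintro z rfl
    intro P
    rw [map_one, Finsupp.zero_apply, WithZero.exp_zero]
  | succ m ih =>
    rw [pow_succ, Submodule.mul_le, succ_nsmul]
    intro a ha b hb
    exact mul_mem_L (ih ha) (hW hb)

/-- homogenization: an element of the affine ring times a high power of `φ j` is a form -/
theorem hom_mem (φ : Fin (n + 1) → K) (j : Fin (n + 1)) (hj0 : φ j ≠ 0) {a : K}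
    (ha : a ∈ Algebra.adjoin k (Set.range fun i => φ i / φ j)) :
    ∃ r : ℕ, ∀ r', r ≤ r' → a * φ j ^ r' ∈ (Submodule.span k (Set.range φ)) ^ r' := by
  have hjW : φ j ∈ Submodule.span k (Set.range φ) := Submodule.subset_span ⟨j, rfl⟩
  induction ha using Algebra.adjoin_induction with
  | mem x hx =>
    obtain ⟨i, rfl⟩ := hx
    refine ⟨1, fun r' hr' => ?_⟩
    obtain ⟨l, rfl⟩ : ∃ l, r' = l + 1 := ⟨r' - 1, by omega⟩
    have e : φ i / φ j * φ j ^ (l + 1) = φ i * φ j ^ l := by rw [pow_succ]; field_simp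
    rw [e, pow_succ']
    exact Submodule.mul_mem_mul (Submodule.subset_span ⟨i, rfl⟩) (Submodule.pow_mem_pow _ hjW l)
  | algebraMap c =>
    refine ⟨0, fun r' _ => ?_⟩
    rw [← Algebra.smul_def]
    exact Submodule.smul_mem _ c (Submodule.pow_mem_pow _ hjW r')
  | add x y _ _ hx hy =>
    obtain ⟨r₁, h₁⟩ := hx
    obtain ⟨r₂, h₂⟩ := hy
    refine ⟨max r₁ r₂, fun r' hr' => ?_⟩
    rw [add_mul]
    exact Submodule.add_mem _ (h₁ r' (le_trans (le_max_left _ _) hr'))
      (h₂ r' (le_trans (le_max_right _ _) hr'))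
  | mul x y _ _ hx hy =>
    obtain ⟨r₁, h₁⟩ := hx
    obtain ⟨r₂, h₂⟩ := hy
    refine ⟨r₁ + r₂, fun r' hr' => ?_⟩
    obtain ⟨l, rfl⟩ : ∃ l, r' = r₁ + l := ⟨r' - r₁, by omega⟩
    have e : x * y * φ j ^ (r₁ + l) = (x * φ j ^ r₁) * (y * φ j ^ l) := by rw [pow_add]; ring
    rw [e, pow_add]
    exact Submodule.mul_mem_mul (h₁ r₁ le_rfl) (h₂ l (by omega))

theorem span_le_L_mapDiv' (hK : IsFunctionField k K) (φ : Fin (n + 1) → K) (hφ0 : ∀ i, φ i ≠ 0) :
    Submodule.span k (Set.range φ) ≤ L (mapDiv k φ) := span_le_L_mapDiv hK φ hφ0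

/-- if the `m`-th power of the span of `φ` is a complete linear system of large degree, then `φ`
is nonsingular everywhere -/
theorem nonsingular_of_pow_eq [IsAlgClosed k] (hK : IsFunctionField k K) (φ : Fin (n + 1) → K)
    (hφ0 : ∀ i, φ i ≠ 0) (m : ℕ)
    (hdeg : 2 * (genus k K : ℤ) + 1 ≤ (m • mapDiv k φ).deg)
    (hWL : L (m • mapDiv k φ) ≤ (Submodule.span k (Set.range φ)) ^ m) (P : Place k K) :
    IsNonsingularAt φ P := by
  classical
  obtain ⟨D, hD⟩ : ∃ D : Divisor k K, D = mapDiv k φ := ⟨_, rfl⟩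
  rw [← hD] at hdeg hWL
  haveI := L_finite hK (m • D)
  have hγ : (0 : ℤ) ≤ (genus k K : ℤ) := Int.natCast_nonneg _
  have hell := ell_eq_of_deg_ge hK (m • D) (by linarith)
  obtain ⟨q, hq⟩ : ∃ q, q = finrank k (L (m • D)) := ⟨_, rfl⟩
  have hqpos : 1 ≤ q := by
    unfold ell at hell
    rw [← hq] at hell
    have : (1 : ℤ) ≤ q := by rw [hell]; linarith
    exact_mod_cast this
  obtain ⟨N, hN⟩ : ∃ N, q = N + 1 := ⟨q - 1, by omega⟩
  let b : Basis (Fin (N + 1)) k (L (m • D)) :=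
    (Module.finBasis k (L (m • D))).reindex (finCongr (by rw [← hq, hN]))
  obtain ⟨ψ, hψ⟩ : ∃ ψ : Fin (N + 1) → K, ψ = fun i => ((b i : L (m • D)) : K) := ⟨_, rfl⟩
  have hψspan : Submodule.span k (Set.range ψ) = L (m • D) := by
    have h1 : Set.range ψ = (L (m • D)).subtype '' Set.range b := by
      rw [hψ, ← Set.range_comp]; rfl
    rw [h1, Submodule.span_image, b.span_eq, Submodule.map_top, Submodule.range_subtype]
  have hns := nonsingular_of_deg_ge hK hdeg ψ hψspan P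
  obtain ⟨j, hj⟩ := exists_val_eq_mapDiv hK φ hφ0 P
  have hjP : ∀ i, P.1 (φ i) ≤ P.1 (φ j) := fun i => by
    rw [hj]; exact val_le_mapDiv hK φ hφ0 P i
  rw [← hD] at hj
  have hψL : ∀ i, ψ i ∈ L (m • D) := fun i => by rw [hψ]; exact (b i).2
  have hWD : Submodule.span k (Set.range φ) ≤ L D := by
    rw [hD]; exact span_le_L_mapDiv hK φ hφ0
  have hφjm : φ j ^ m ∈ L (m • D) :=
    pow_le_L hWD m (Submodule.pow_mem_pow _ (Submodule.subset_span (Set.mem_range_self j)) m)
  have hvalm : P.1 (φ j ^ m) = WithZero.exp ((m • D) P) := by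
    rw [map_pow, hj, ← WithZero.exp_nsmul, Finsupp.smul_apply]
  intro z hz
  obtain ⟨j', hj'0, hj'P, u, hu, w, hw, hPw, hzw⟩ := hns z hz
  have hj'val : P.1 (ψ j') = P.1 (φ j ^ m) := by
    apply le_antisymm
    · rw [hvalm]; exact hψL j' P
    · have : φ j ^ m ∈ Submodule.span k (Set.range ψ) := by rw [hψspan]; exact hφjm
      exact val_span_le P ψ hj'P this
  have hφjm0 : φ j ^ m ≠ 0 := pow_ne_zero _ (hφ0 j)
  have hkey : ∀ a ∈ Algebra.adjoin k (Set.range fun i => ψ i / ψ j'), LocJ φ j P a := by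
    intro a ha
    induction ha using Algebra.adjoin_induction with
    | mem x hx =>
      obtain ⟨i, rfl⟩ := hx
      have e : ψ i / ψ j' = (ψ i / φ j ^ m) * (ψ j' / φ j ^ m)⁻¹ := by
        field_simp
      show LocJ φ j P (ψ i / ψ j')
      rw [e]
      have h1 : LocJ φ j P (ψ i / φ j ^ m) :=
        LocJ.of_mem (pow_div_mem_A φ j m (hWL (hψL i)))
      have h2 : LocJ φ j P (ψ j' / φ j ^ m) :=
        LocJ.of_mem (pow_div_mem_A φ j m (hWL (hψL j')))
      have h3 : P.1 (ψ j' / φ j ^ m) = 1 := by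
        rw [map_div₀, hj'val]
        exact div_self ((map_ne_zero P.1).mpr hφjm0)
      exact h1.mul (h2.inv h3)
    | algebraMap c => exact LocJ.of_mem (Subalgebra.algebraMap_mem _ c)
    | add x y _ _ hx hy => exact hx.add hy
    | mul x y _ _ hx hy => exact hx.mul hy
  have hu' := hkey u hu
  have hw' := hkey w hw
  have hw0 : w ≠ 0 := by
    rintro rfl
    rw [map_zero] at hPw
    exact zero_ne_one hPw
  have e : z = u * w⁻¹ := by rw [← hzw]; field_simp
  rw [e]
  exact (hu'.mul (hw'.inv hPw)).inLocRing (hφ0 j) hjP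

end Groth.Agent.Helper16.Emb
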