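import Groth.Agent.H16.Veronese
set_option autoImplicit false
set_option linter.unusedSimpArgs false

namespace Groth.Agent.Helper16.Emb

open FunFld Module Groth.Agent.Helper17.FF

variable {k K : Type*} [Field k] [Field K] [Algebra k K] {n : ℕ}

/-- at a nonsingular place, some form not vanishing there multiplies `L(m₀ D)` into forms -/
theorem exists_local_cond (hK : IsFunctionField k K) (φ : Fin (n + 1) → K)
    (hφ0 : ∀ i, φ i ≠ 0) (P : Place k K) (hns : IsNonsingularAt φ P) (m₀ M : ℕ) :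
    ∃ (e : ℕ) (v : K), M ≤ e ∧ 1 ≤ e ∧ v ∈ (Submodule.span k (Set.range φ)) ^ e ∧
      P.1 v = WithZero.exp ((e • mapDiv k φ) P) ∧
      ∀ t ∈ L (m₀ • mapDiv k φ), v * t ∈ (Submodule.span k (Set.range φ)) ^ (e + m₀) := by
  classical
  obtain ⟨D, hD⟩ : ∃ D : Divisor k K, D = mapDiv k φ := ⟨_, rfl⟩
  obtain ⟨W, hW⟩ : ∃ W : Submodule k K, W = Submodule.span k (Set.range φ) := ⟨_, rfl⟩
  rw [← hD, ← hW]
  obtain ⟨j, hj⟩ := exists_val_eq_mapDiv hK φ hφ0 P
  have hjP : ∀ i, P.1 (φ i) ≤ P.1 (φ j) := fun i => by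
    rw [hj]; exact val_le_mapDiv hK φ hφ0 P i
  rw [← hD] at hj
  have hjW : φ j ∈ W := by rw [hW]; exact Submodule.subset_span (Set.mem_range_self j)
  have hφj0 : P.1 (φ j) ≠ 0 := (map_ne_zero P.1).mpr (hφ0 j)
  haveI := L_finite hK (m₀ • D)
  -- a single element
  have hsingle : ∀ t ∈ L (m₀ • D), ∃ (r : ℕ) (v : K), v ∈ W ^ r ∧ P.1 v = P.1 (φ j) ^ r ∧
      v * t ∈ W ^ (r + m₀) := by
    intro t ht
    have hz : P.1 (t / φ j ^ m₀) ≤ 1 := by
      rw [map_div₀, map_pow, hj]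
      apply div_le_one_of_le₀ _ zero_le
      have := ht P
      rw [Finsupp.smul_apply, WithZero.exp_nsmul] at this
      exact this
    obtain ⟨u, hu, w, hw, hPw, hzw⟩ := locJ_of_inLocRing (hφ0 j) hjP (hns _ hz)
    obtain ⟨r₁, h₁⟩ := hom_mem φ j (hφ0 j) hu
    obtain ⟨r₂, h₂⟩ := hom_mem φ j (hφ0 j) hw
    rw [← hW] at h₁ h₂
    refine ⟨max r₁ r₂, w * φ j ^ (max r₁ r₂), h₂ _ (le_max_right _ _), ?_, ?_⟩
    · rw [map_mul, hPw, one_mul, map_pow]
    · have e : w * φ j ^ (max r₁ r₂) * t = (u * φ j ^ (max r₁ r₂)) * φ j ^ m₀ := by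
        rw [← hzw]
        have hne : φ j ≠ 0 := hφ0 j
        field_simp
      rw [e, pow_add]
      exact Submodule.mul_mem_mul (h₁ _ (le_max_left _ _)) (Submodule.pow_mem_pow _ hjW m₀)
  -- finitely many elements
  have hfin : ∀ (ι : Type) (s : Finset ι) (b : ι → L (m₀ • D)),
      ∃ (e : ℕ) (v : K), v ∈ W ^ e ∧ P.1 v = P.1 (φ j) ^ e ∧
        ∀ l ∈ s, v * (b l : K) ∈ W ^ (e + m₀) := by
    intro ι s b
    induction s using Finset.induction_on with
    | empty =>
      exact ⟨0, 1, by rw [pow_zero]; exact Submodule.one_le.mp le_rfl, by rw [map_one, pow_zero],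
        fun l hl => absurd hl (Finset.notMem_empty l)⟩
    | insert l s hl ih =>
      obtain ⟨e, v, hv, hPv, hvs⟩ := ih
      obtain ⟨r, v', hv', hPv', hvl⟩ := hsingle (b l) (b l).2
      refine ⟨e + r, v * v', ?_, ?_, ?_⟩
      · rw [pow_add]; exact Submodule.mul_mem_mul hv hv'
      · rw [map_mul, hPv, hPv', pow_add]
      · intro l' hl'
        rw [Finset.mem_insert] at hl'
        rcases hl' with rfl | hl'
        · have e1 : v * v' * (b l' : K) = v * (v' * (b l' : K)) := by ring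
          have e2 : e + r + m₀ = e + (r + m₀) := by omega
          rw [e1, e2, pow_add]
          exact Submodule.mul_mem_mul hv hvl
        · have e1 : v * v' * (b l' : K) = v' * (v * (b l' : K)) := by ring
          have e2 : e + r + m₀ = r + (e + m₀) := by omega
          rw [e1, e2, pow_add]
          exact Submodule.mul_mem_mul hv' (hvs l' hl')
  obtain ⟨e, v, hv, hPv, hvb⟩ := hfin _ Finset.univ (Module.finBasis k (L (m₀ • D)))
  have hvT : ∀ t ∈ L (m₀ • D), v * t ∈ W ^ (e + m₀) := by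
    obtain ⟨μ, hμ⟩ : ∃ μ : L (m₀ • D) →ₗ[k] K, μ = (LinearMap.mulLeft k v).comp
      (L (m₀ • D)).subtype := ⟨_, rfl⟩
    have h1 : (⊤ : Submodule k (L (m₀ • D))) ≤ (W ^ (e + m₀)).comap μ := by
      rw [← (Module.finBasis k (L (m₀ • D))).span_eq, Submodule.span_le]
      rintro _ ⟨l, rfl⟩
      show μ _ ∈ W ^ (e + m₀)
      rw [hμ]
      exact hvb l (Finset.mem_univ l)
    intro t ht
    have := h1 (Submodule.mem_top (x := (⟨t, ht⟩ : L (m₀ • D))))
    rw [Submodule.mem_comap, hμ] at this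
    exact this
  refine ⟨e + (M + 1), v * φ j ^ (M + 1), by omega, by omega, ?_, ?_, ?_⟩
  · rw [pow_add]; exact Submodule.mul_mem_mul hv (Submodule.pow_mem_pow _ hjW _)
  · rw [map_mul, hPv, map_pow, ← pow_add, hj, ← WithZero.exp_nsmul, Finsupp.smul_apply]
  · intro t ht
    have e1 : v * φ j ^ (M + 1) * t = φ j ^ (M + 1) * (v * t) := by ring
    have e2 : e + (M + 1) + m₀ = (M + 1) + (e + m₀) := by omega
    rw [e1, e2, pow_add]
    exact Submodule.mul_mem_mul (Submodule.pow_mem_pow _ hjW _) (hvT t ht)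

end Groth.Agent.Helper16.Emb
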