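import Groth.Agent.H16.AdjInv5
import Groth.Agent.Lib.Helper17.FFLoc5
import Groth.Agent.Lib.Helper17.FFSub
import Groth.Agent.Lib.Helper17.FF22
set_option autoImplicit false
set_option linter.unusedSimpArgs false

/-! Adjoint divisor: preliminaries. -/

namespace Groth.Agent.Helper16.WA

open FunFld Module Groth.Agent.Helper17.FF

variable {k K : Type*} [Field k] [Field K] [Algebra k K]

/-- a generator of a rational function field vanishing at a place is a local parameter there -/
theorem unif_of_generator (hK : IsFunctionField k K) {τ : K}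
    (htop : IntermediateField.adjoin k ({τ} : Set K) = ⊤) (P : Place k K) (hP : P.1 τ < 1) :
    P.1 τ = WithZero.exp (-1 : ℤ) := by
  classical
  have hτk : τ ∉ Set.range (algebraMap k K) := by
    rintro ⟨c, rfl⟩
    have hbot : IntermediateField.adjoin k ({algebraMap k K c} : Set K) = ⊥ := by
      rw [IntermediateField.adjoin_simple_eq_bot_iff]
      exact IntermediateField.algebraMap_mem ⊥ c
    rw [hbot] at htop
    obtain ⟨⟨x₀, hx₀, -⟩, -⟩ := hK
    have h1 : x₀ ∈ (⊥ : IntermediateField k K) := by rw [htop]; trivial
    rw [IntermediateField.mem_bot] at h1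
    obtain ⟨c', rfl⟩ := h1
    exact hx₀ (isAlgebraic_algebraMap c')
  have hτ0 := ne_zero_of_not_mem_range hτk
  have h1 := zeros_bound hK hτk {P} (by
    intro P' hP'
    rw [Finset.mem_singleton] at hP'
    rw [hP']; exact hP)
  rw [Finset.sum_singleton, htop, IntermediateField.finrank_top] at h1
  have h2 : 0 < P.ord τ := (ord_pos_iff P hτ0).mpr hP
  have h3 := deg_pos hK P
  have h4 : (P.ord τ).toNat = 1 := by
    have h5 : 0 < (P.ord τ).toNat := by omega
    have h6 : (P.ord τ).toNat * P.deg ≤ 1 := h1
    nlinarith
  have h5 : P.ord τ = 1 := by omega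
  rw [val_eq_exp_neg_ord P hτ0, h5]

end Groth.Agent.Helper16.WA
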