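import Groth.Agent.H16.WA1
set_option autoImplicit false
set_option linter.unusedSimpArgs false

/-! Adjoint divisor: elements of `k(t)` regular at a place. -/

namespace Groth.Agent.Helper16.WA

open FunFld Module Groth.Agent.Helper17.FF Polynomial

variable {k K : Type*} [Field k] [Field K] [Algebra k K]

theorem val_aeval_le (Q : Place k K) {t : K} (ht : Q.1 t ≤ 1) (q : k[X]) :
    Q.1 (aeval t q) ≤ 1 := by
  rw [aeval_eq_sum_range]
  apply Valuation.map_sum_le
  intro i _
  rw [Algebra.smul_def, map_mul, map_pow]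
  exact mul_le_one' (Q.2.1 _) (pow_le_one' ht i)

/-- a polynomial in `t` not vanishing at the value of `t` at `Q` is a unit at `Q` -/
theorem val_aeval_eq_one (Q : Place k K) {t : K} (ht : Q.1 t ≤ 1) {a : k}
    (ha : Q.1 (t - algebraMap k K a) < 1) {q : k[X]} (hq : ¬ (X - C a) ∣ q) :
    Q.1 (aeval t q) = 1 := by
  obtain ⟨q', hq'⟩ := X_sub_C_dvd_sub_C_eval (a := a) (p := q)
  have he : q.eval a ≠ 0 := by
    intro h0
    apply hq
    rw [dvd_iff_isRoot]
    exact h0
  have h1 : aeval t q = (t - algebraMap k K a) * aeval t q' + algebraMap k K (q.eval a) := by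
    have := congrArg (aeval t) hq'
    rw [map_sub, map_mul, map_sub, aeval_X, aeval_C, aeval_C] at this
    rw [← this]; ring
  rw [h1, Valuation.map_add_eq_of_lt_right, val_const Q he]
  rw [val_const Q he, map_mul]
  calc Q.1 (t - algebraMap k K a) * Q.1 (aeval t q') ≤ Q.1 (t - algebraMap k K a) * 1 :=
        mul_le_mul' le_rfl (val_aeval_le Q ht q')
    _ < 1 := by rw [mul_one]; exact ha

theorem exists_frac_of_regular [IsAlgClosed k] (hK : IsFunctionField k K) (Q : Place k K)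
    {t : K} (ht : Q.1 t ≤ 1) (htk : t ∉ Set.range (algebraMap k K)) {c : K}
    (hc : c ∈ IntermediateField.adjoin k ({t} : Set K)) (hcQ : Q.1 c ≤ 1) :
    ∃ r s : k[X], Q.1 (aeval t s) = 1 ∧ c * aeval t s = aeval t r := by
  classical
  rw [IntermediateField.mem_adjoin_simple_iff] at hc
  obtain ⟨r₀, s₀, rfl⟩ := hc
  by_cases hc0 : aeval t r₀ / aeval t s₀ = 0
  · refine ⟨0, 1, by simp, by rw [hc0]; simp⟩
  have hr0 : aeval t r₀ ≠ 0 := fun h => hc0 (by rw [h, zero_div])
  have hs0 : aeval t s₀ ≠ 0 := fun h => hc0 (by rw [h, div_zero])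
  have hr₀ : r₀ ≠ 0 := fun h => hr0 (by rw [h, map_zero])
  have hs₀ : s₀ ≠ 0 := fun h => hs0 (by rw [h, map_zero])
  obtain ⟨a, ha⟩ := Groth.Agent.Helper17.FF.exists_const_sub_lt hK Q ht
  have hta : t - algebraMap k K a ≠ 0 := by
    intro h
    apply htk
    exact ⟨a, (sub_eq_zero.mp h).symm⟩
  obtain ⟨r₁, hr₁, hr₁'⟩ := exists_eq_pow_rootMultiplicity_mul_and_not_dvd r₀ hr₀ a
  obtain ⟨s₁, hs₁, hs₁'⟩ := exists_eq_pow_rootMultiplicity_mul_and_not_dvd s₀ hs₀ a
  obtain ⟨i, hi⟩ : ∃ i, i = rootMultiplicity a r₀ := ⟨_, rfl⟩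
  obtain ⟨j, hj⟩ : ∃ j, j = rootMultiplicity a s₀ := ⟨_, rfl⟩
  rw [← hi] at hr₁
  rw [← hj] at hs₁
  have hr1 := val_aeval_eq_one Q ht ha hr₁'
  have hs1 := val_aeval_eq_one Q ht ha hs₁'
  have hr1' : aeval t r₁ ≠ 0 := fun h => by rw [h, map_zero] at hr1; exact zero_ne_one hr1
  have hs1' : aeval t s₁ ≠ 0 := fun h => by rw [h, map_zero] at hs1; exact zero_ne_one hs1
  have er : aeval t r₀ = (t - algebraMap k K a) ^ i * aeval t r₁ := by
    conv_lhs => rw [hr₁]
    rw [map_mul, map_pow, map_sub, aeval_X, aeval_C]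
  have es : aeval t s₀ = (t - algebraMap k K a) ^ j * aeval t s₁ := by
    conv_lhs => rw [hs₁]
    rw [map_mul, map_pow, map_sub, aeval_X, aeval_C]
  have hji : j ≤ i := by
    have h1 : 0 ≤ Q.ord (aeval t r₀ / aeval t s₀) := (ord_nonneg_iff Q hc0).mpr hcQ
    rw [ord_div Q hr0 hs0, er, es, ord_mul Q (pow_ne_zero _ hta) hr1',
      ord_mul Q (pow_ne_zero _ hta) hs1', ord_pow, ord_pow] at h1
    have h2 : Q.ord (aeval t r₁) = 0 := by
      have := val_eq_exp_neg_ord Q hr1'
      rw [hr1, ← WithZero.exp_zero] at this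
      have := WithZero.exp_injective this
      omega
    have h3 : Q.ord (aeval t s₁) = 0 := by
      have := val_eq_exp_neg_ord Q hs1'
      rw [hs1, ← WithZero.exp_zero] at this
      have := WithZero.exp_injective this
      omega
    have h4 : 0 < Q.ord (t - algebraMap k K a) := (ord_pos_iff Q hta).mpr ha
    rw [h2, h3] at h1
    by_contra hlt
    push Not at hlt
    have h5 : (i : ℤ) + 1 ≤ j := by exact_mod_cast hlt
    nlinarith
  refine ⟨(X - C a) ^ (i - j) * r₁, s₁, hs1, ?_⟩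
  rw [map_mul, map_pow, map_sub, aeval_X, aeval_C, er, es]
  have hpow : (t - algebraMap k K a) ^ i =
      (t - algebraMap k K a) ^ (i - j) * (t - algebraMap k K a) ^ j := by
    rw [← pow_add, Nat.sub_add_cancel hji]
  rw [hpow]
  field_simp

end Groth.Agent.Helper16.WA
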