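import Groth.Agent.H16.WA2
set_option autoImplicit false
set_option linter.unusedSimpArgs false

/-! Adjoint divisor: the setting over `k(t)`. -/

namespace Groth.Agent.Helper16.WA

open FunFld Module Groth.Agent.Helper17.FF Polynomial

variable {k K : Type*} [Field k] [Field K] [Algebra k K]

theorem adjoin_sub_const (t : K) (a : k) :
    IntermediateField.adjoin k ({t - algebraMap k K a} : Set K) =
      IntermediateField.adjoin k ({t} : Set K) := by
  apply le_antisymm
  · rw [IntermediateField.adjoin_simple_le_iff]
    exact sub_mem (IntermediateField.mem_adjoin_simple_self k t)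
      (IntermediateField.algebraMap_mem _ a)
  · rw [IntermediateField.adjoin_simple_le_iff]
    have h1 := add_mem (IntermediateField.mem_adjoin_simple_self k (t - algebraMap k K a))
      (IntermediateField.algebraMap_mem (IntermediateField.adjoin k ({t - algebraMap k K a} : Set K)) a)
    rwa [sub_add_cancel] at h1

/-- in the subfield `k(t)`, the element `t - a` generates -/
theorem adjoin_top_sub (K₀ : IntermediateField k K) (t : K)
    (hK₀ : K₀ = IntermediateField.adjoin k ({t} : Set K)) (τ : K₀) (a : k)
    (hτ : (τ : K) = t - algebraMap k K a) :
    IntermediateField.adjoin k ({τ} : Set K₀) = ⊤ := by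
  apply IntermediateField.map_injective K₀.val
  rw [IntermediateField.adjoin_map, Set.image_singleton, ← AlgHom.fieldRange_eq_map,
    IntermediateField.fieldRange_val]
  show IntermediateField.adjoin k ({(τ : K)} : Set K) = K₀
  rw [hτ, adjoin_sub_const, hK₀]

end Groth.Agent.Helper16.WA
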