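import Groth.Agent.H16.WA5
import Groth.Agent.H16.Expn
import Groth.Agent.H16.SF1
set_option autoImplicit false
set_option linter.unusedSimpArgs false

/-! Adjoint divisor: the abstract core. -/

namespace Groth.Agent.Helper16.WA

open FunFld Module Groth.Agent.Helper17.FF Polynomial
open scoped Pointwise

variable {k K : Type*} [Field k] [Field K] [Algebra k K]

theorem abstract_core [IsAlgClosed k] (hK : IsFunctionField k K) (t y₁ : K)
    (htop : IntermediateField.adjoin k ({t, y₁} : Set K) = ⊤)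
    (hdt : KaehlerDifferential.D k K t ≠ 0) (Q : Place k K) (hQt : Q.1 t ≤ 1) (hQy : Q.1 y₁ ≤ 1)
    (ΦQ : K →ₐ[k] LaurentSeries k) (hΦQ : LocRes.IsExpansionAt Q.1 ΦQ)
    (K₀ : IntermediateField k K) (hK₀ : K₀ = IntermediateField.adjoin k ({t} : Set K))
    (p : Polynomial K₀) (hp0 : Polynomial.aeval y₁ p = 0)
    (hpdeg : p.natDegree = finrank K₀ K)
    (hpc : ∀ i, Q.1 ((p.coeff i : K₀) : K) ≤ 1)
    (c : k) (hc : c ≠ 0) (hlc : p.leadingCoeff = algebraMap k K₀ c) :
    LocRes.ordDiff ΦQ 1 t ≤ Q.ord (Polynomial.aeval y₁ (Polynomial.derivative p)) ∧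
    (Q.ord (Polynomial.aeval y₁ (Polynomial.derivative p)) = LocRes.ordDiff ΦQ 1 t ↔
      ∀ z : K, Q.1 z ≤ 1 → ∃ u ∈ Algebra.adjoin k ({t, y₁} : Set K),
        ∃ w ∈ Algebra.adjoin k ({t, y₁} : Set K), Q.1 w = 1 ∧ z * w = u) := by
  classical
  have hg := isGeometric_of_perfect k K hK
  have hfrK := finrank_kaehler hK hg
  have htk : t ∉ Set.range (algebraMap k K) := by
    rintro ⟨c', rfl⟩
    exact hdt (Derivation.map_algebraMap _ c')
  have htt := transcendental_of_not_mem hK htk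
  have htK₀ : t ∈ K₀ := by rw [hK₀]; exact IntermediateField.mem_adjoin_simple_self k t
  obtain ⟨t₀, ht₀⟩ : ∃ t₀ : K₀, (t₀ : K) = t := ⟨⟨t, htK₀⟩, rfl⟩
  have hK₀ff : IsFunctionField k K₀ := isFunctionField_intermediateField hK K₀ ⟨t, htK₀, htt⟩
  have hg₀ := isGeometric_of_perfect k K₀ hK₀ff
  have hfr₀ := finrank_kaehler hK₀ff hg₀
  haveI : FiniteDimensional K₀ K := by
    subst hK₀
    exact finite_of_transcendental hK htt
  haveI : Algebra.IsSeparable K₀ K := by
    subst hK₀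
    exact (isSeparable_iff_D_ne_zero hK hg t).mpr hdt
  haveI : Algebra.IsAlgebraic K₀ K := Algebra.IsAlgebraic.of_finite _ _
  obtain ⟨P, hPdef⟩ : ∃ P : Place k K₀, P = placeBelow hK₀ff Q := ⟨_, rfl⟩
  obtain ⟨e, he⟩ : IsOver Q P := by rw [hPdef]; exact isOver_placeBelow hK₀ff Q
  have hepos : 0 < e := isOverWith_pos he
  have hvalP : ∀ c : K₀, P.1 c ≤ 1 ↔ Q.1 (c : K) ≤ 1 := by
    intro c
    have := he c
    rw [IntermediateField.algebraMap_apply] at this
    rw [this, pow_le_one_iff hepos.ne']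
  have hvalP' : ∀ c : K₀, P.1 c < 1 ↔ Q.1 (c : K) < 1 := by
    intro c
    have := he c
    rw [IntermediateField.algebraMap_apply] at this
    rw [this, pow_lt_one_iff hepos.ne']
  obtain ⟨a, ha⟩ := Groth.Agent.Helper17.FF.exists_const_sub_lt hK Q hQt
  obtain ⟨τ, hτdef⟩ : ∃ τ : K₀, τ = t₀ - algebraMap k K₀ a := ⟨_, rfl⟩
  have hτK : (τ : K) = t - algebraMap k K a := by
    rw [hτdef]
    push_cast
    rw [ht₀]
  have hτtop := adjoin_top_sub K₀ t hK₀ τ a hτK
  have hPτ : P.1 τ = WithZero.exp (-1 : ℤ) :=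
    unif_of_generator hK₀ff hτtop P ((hvalP' τ).mpr (by rw [hτK]; exact ha))
  obtain ⟨s₀, H₀, -, hH₀⟩ := Groth.Agent.Helper16.Hasse.exists_hasse_param hK₀ff P
  obtain ⟨φ, hφ⟩ := Groth.Agent.Helper16.Hasse.exists_expansion hK₀ff H₀ hH₀ P
  have hDτ : Valued.v (LocRes.D k (φ τ)) = 1 := val_D_unif hφ hPτ
  have hDt₀ : LocRes.D k (φ t₀) = LocRes.D k (φ τ) := by
    rw [hτdef, map_sub, map_sub, LocRes.map_algebraMap, LocRes.D_apply k (HahnSeries.C _),
      LocRes.derivative_C, sub_zero]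
  have hvφ : LocRes.vDiff φ 1 t₀ = 1 := by
    unfold LocRes.vDiff
    rw [map_one, one_mul, hDt₀, hDτ]
  have hordφ : LocRes.ordDiff φ 1 t₀ = 0 := by
    unfold LocRes.ordDiff
    rw [hvφ]; simp
  have hx : LocRes.vDiff φ 1 t₀ ≠ 0 := by rw [hvφ]; exact one_ne_zero
  have halgt : algebraMap K₀ K t₀ = t := by rw [IntermediateField.algebraMap_apply, ht₀]
  have hx' : LocRes.vDiff ΦQ 1 (algebraMap K₀ K t₀) ≠ 0 := by
    rw [halgt]
    unfold LocRes.vDiff
    rw [map_one, one_mul, Ne, map_eq_zero]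
    exact D_expansion_ne_zero hfrK hΦQ hdt
  have hdegQP : Q.deg = P.deg := by
    rw [deg_eq_one_of_isAlgClosed hK Q, deg_eq_one_of_isAlgClosed hK₀ff P]
  have hres : ∀ z : K, Q.1 z ≤ 1 → ∃ c : K₀, P.1 c ≤ 1 ∧ Q.1 (z - algebraMap K₀ K c) < 1 := by
    intro z hz
    obtain ⟨c', hc'⟩ := Groth.Agent.Helper17.FF.exists_const_sub_lt hK Q hz
    refine ⟨algebraMap k K₀ c', P.2.1 c', ?_⟩
    rw [← IsScalarTower.algebraMap_apply]
    exact hc'
  letI : Algebra P.O K := ((algebraMap K₀ K).comp (algebraMap P.O K₀)).toAlgebra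
  haveI : IsScalarTower P.O K₀ K := IsScalarTower.of_algebraMap_eq (fun _ => rfl)
  have hy : IntermediateField.adjoin K₀ ({y₁} : Set K) = ⊤ := by
    subst hK₀
    have h1 := IntermediateField.adjoin_adjoin_left k ({t} : Set K) ({y₁} : Set K)
    have h2 : ({t} ∪ {y₁} : Set K) = {t, y₁} := by
      ext z; simp [or_comm]
    rw [h2, htop] at h1
    exact (IntermediateField.restrictScalars_eq_top_iff).mp h1
  have hcK₀ : algebraMap k K₀ c ≠ 0 := (map_ne_zero_iff _ (algebraMap k K₀).injective).mpr hc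
  obtain ⟨p₁, hp₁⟩ : ∃ p₁ : Polynomial K₀, p₁ = Polynomial.C (algebraMap k K₀ c⁻¹) * p := ⟨_, rfl⟩
  have hpp₁ : p = Polynomial.C (algebraMap k K₀ c) * p₁ := by
    rw [hp₁, ← mul_assoc, ← Polynomial.C_mul, ← map_mul, mul_inv_cancel₀ hc, map_one,
      Polynomial.C_1, one_mul]
  have hp₁monic : p₁.Monic := by
    rw [hp₁, Polynomial.Monic, Polynomial.leadingCoeff_mul, Polynomial.leadingCoeff_C, hlc,
      ← map_mul, inv_mul_cancel₀ hc, map_one]
  have hp₁deg : p₁.natDegree = finrank K₀ K := by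
    rw [hp₁, Polynomial.natDegree_C_mul
      ((map_ne_zero_iff _ (algebraMap k K₀).injective).mpr (inv_ne_zero hc)), hpdeg]
  have hp₁0 : Polynomial.aeval y₁ p₁ = 0 := by rw [hp₁, map_mul, hp0, mul_zero]
  have hp₁lifts : p₁ ∈ Polynomial.lifts (algebraMap P.O K₀) := by
    rw [Polynomial.lifts_iff_coeff_lifts]
    intro i
    rw [hp₁, Polynomial.coeff_C_mul]
    have h1 : P.1 (algebraMap k K₀ c⁻¹ * p.coeff i) ≤ 1 := by
      rw [map_mul]
      exact mul_le_one' (P.2.1 _) ((hvalP _).mpr (hpc i))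
    exact ⟨⟨_, h1⟩, rfl⟩
  obtain ⟨q, hqmap, -, hqmonic⟩ := Polynomial.lifts_and_degree_eq_and_monic hp₁lifts hp₁monic
  have hyi : IsIntegral P.O y₁ := by
    refine ⟨q, hqmonic, ?_⟩
    rw [← Polynomial.aeval_def, ← Polynomial.aeval_map_algebraMap K₀, hqmap, hp₁0]
  have hint : IsIntegral K₀ y₁ := Algebra.IsIntegral.isIntegral y₁
  have hmin : p₁ = minpoly K₀ y₁ := by
    have hdvd : minpoly K₀ y₁ ∣ p₁ := minpoly.dvd K₀ y₁ hp₁0
    have hdeg : (minpoly K₀ y₁).natDegree = finrank K₀ K := by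
      have h1 := IntermediateField.adjoin.finrank hint
      rw [hy, IntermediateField.finrank_top'] at h1
      exact h1.symm
    exact Polynomial.eq_of_monic_of_dvd_of_natDegree_le (minpoly.monic hint) hp₁monic hdvd
      (by rw [hdeg, hp₁deg])
  obtain ⟨G₀, hG₀⟩ : ∃ G₀ : K,
      G₀ = Polynomial.aeval y₁ (Polynomial.derivative (minpoly K₀ y₁)) := ⟨_, rfl⟩
  have hGG₀ : Polynomial.aeval y₁ (Polynomial.derivative p) = algebraMap k K c * G₀ := by
    rw [hpp₁, Polynomial.derivative_C_mul, map_mul, Polynomial.aeval_C, hmin, ← hG₀,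
      ← IsScalarTower.algebraMap_apply]
  have hordG : Q.ord (Polynomial.aeval y₁ (Polynomial.derivative p)) = Q.ord G₀ := by
    unfold Place.ord
    rw [hGG₀, map_mul, val_const Q hc, one_mul]
  have hmain := diffExp_le_ord_derivative_minpoly hK₀ff hfr₀ he hφ hΦQ t₀ hx hx' hdegQP hres y₁ hy
    hyi
  rw [← hG₀] at hmain
  have hdE : LocRes.diffExp φ ΦQ e t₀ = LocRes.ordDiff ΦQ 1 t := by
    unfold LocRes.diffExp
    rw [halgt, hordφ, mul_zero, sub_zero]
  rw [hdE] at hmain
  rw [hordG]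
  have hG₀0 : G₀ ≠ 0 := by
    rw [hG₀]
    have hsep : (minpoly K₀ y₁).Separable := Algebra.IsSeparable.isSeparable K₀ y₁
    exact hsep.aeval_derivative_ne_zero (minpoly.aeval K₀ y₁)
  -- `k[t, y₁] ⊆ O_P[y₁]`
  have hAB : ∀ m ∈ Algebra.adjoin k ({t, y₁} : Set K), m ∈ Algebra.adjoin P.O ({y₁} : Set K) := by
    intro m hm
    induction hm using Algebra.adjoin_induction with
    | mem x hx =>
      rcases hx with rfl | rfl
      · have h1 : P.1 t₀ ≤ 1 := (hvalP t₀).mpr (by rw [ht₀]; exact hQt)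
        have h2 : algebraMap P.O K ⟨t₀, h1⟩ = x := halgt
        rw [← h2]
        exact Subalgebra.algebraMap_mem _ _
      · exact Algebra.subset_adjoin (Set.mem_singleton _)
    | algebraMap r =>
      have h2 : algebraMap P.O K ⟨algebraMap k K₀ r, P.2.1 r⟩ = algebraMap k K r := by
        show algebraMap K₀ K (algebraMap k K₀ r) = algebraMap k K r
        rw [← IsScalarTower.algebraMap_apply]
      rw [← h2]
      exact Subalgebra.algebraMap_mem _ _
    | add x y _ _ hx hy => exact Subalgebra.add_mem _ hx hy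
    | mul x y _ _ hx hy => exact Subalgebra.mul_mem _ hx hy
  -- `O_P[y₁] ⊆ k[t, y₁]_Q`
  have hBA : ∀ m ∈ Algebra.adjoin P.O ({y₁} : Set K),
      LocA (Algebra.adjoin k ({t, y₁} : Set K)) Q m := by
    intro m hm
    induction hm using Algebra.adjoin_induction with
    | mem x hx =>
      rw [Set.mem_singleton_iff] at hx
      rw [hx]
      exact LocA.of_mem (Algebra.subset_adjoin (by simp))
    | algebraMap r =>
      have h2 : algebraMap P.O K r = ((r : K₀) : K) := rfl
      rw [h2]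
      have hr : ((r : K₀) : K) ∈ IntermediateField.adjoin k ({t} : Set K) := by
        rw [← hK₀]; exact (r : K₀).2
      have hr1 : Q.1 ((r : K₀) : K) ≤ 1 := (hvalP _).mp r.2
      obtain ⟨r', s', hs', hrs⟩ := exists_frac_of_regular hK Q hQt htk hr hr1
      refine ⟨Polynomial.aeval t r', ?_, Polynomial.aeval t s', ?_, hs', hrs⟩
      · exact Algebra.adjoin_mono (by simp) (Polynomial.aeval_mem_adjoin_singleton k t)
      · exact Algebra.adjoin_mono (by simp) (Polynomial.aeval_mem_adjoin_singleton k t)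
    | add x y _ _ hx hy => exact hx.add hy
    | mul x y _ _ hx hy => exact hx.mul hy
  refine ⟨hmain.1, ⟨fun heq z hz => ?_, fun hns => ?_⟩⟩
  · obtain ⟨a, ha, b, hb, hQb, hzb⟩ := hmain.2 heq z hz
    have hb0 : b ≠ 0 := by
      rintro rfl
      rw [map_zero] at hQb
      exact zero_ne_one hQb
    have hz' : z = a / b := by rw [← hzb]; field_simp
    have h3 : LocA (Algebra.adjoin k ({t, y₁} : Set K)) Q z := by
      rw [hz']
      exact (hBA a ha).div (hBA b hb) hQb
    exact h3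
  · obtain ⟨hdual, -⟩ := traceDual_min_valuation hK₀ff hfr₀ he hφ hΦQ t₀ hx hx' hdegQP hres
    rw [hdE] at hdual
    have hKw : IsWeakFF k K₀ := IsWeakFF.of_isFunctionField hK₀ff
    obtain ⟨hic, hicfin⟩ := integralClosure_eq_and_finite (K' := K) hKw P
    have hcond : ∃ c₀ ∈ Algebra.adjoin P.O ({y₁} : Set K), Q.1 c₀ = 1 ∧
        ∀ z : K, IsIntegral P.O z → c₀ * z ∈ Algebra.adjoin P.O ({y₁} : Set K) := by
      obtain ⟨S, hS⟩ := hicfin.fg_top
      have hsw : ∀ s : ↥(integralClosure P.O K), ∃ w ∈ Algebra.adjoin P.O ({y₁} : Set K),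
          Q.1 w = 1 ∧ (s : K) * w ∈ Algebra.adjoin P.O ({y₁} : Set K) := by
        intro s
        have hs1 : Q.1 (s : K) ≤ 1 := (hic (s : K)).1 s.2 Q ⟨e, he⟩
        obtain ⟨u, hu, w, hw, hQw, e'⟩ := hns _ hs1
        exact ⟨w, hAB w hw, hQw, by rw [e']; exact hAB u hu⟩
      choose w hwB hwQ hwz using hsw
      refine ⟨∏ s ∈ S, w s, Subalgebra.prod_mem _ (fun s _ => hwB s), ?_, ?_⟩
      · rw [map_prod]; exact Finset.prod_eq_one (fun s _ => hwQ s)
      · have key : ∀ s : ↥(integralClosure P.O K),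
            s ∈ Submodule.span P.O (S : Set ↥(integralClosure P.O K)) →
            (∏ s ∈ S, w s) * (s : K) ∈ Algebra.adjoin P.O ({y₁} : Set K) := by
          intro s hs
          induction hs using Submodule.span_induction with
          | mem x hx =>
            have hx' : x ∈ S := hx
            rw [← Finset.mul_prod_erase S w hx']
            have e2 : (w x * ∏ s ∈ S.erase x, w s) * (x : K) =
                (∏ s ∈ S.erase x, w s) * ((x : K) * w x) := by ring
            rw [e2]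
            exact Subalgebra.mul_mem _ (Subalgebra.prod_mem _ (fun s _ => hwB s)) (hwz x)
          | zero =>
            rw [ZeroMemClass.coe_zero, mul_zero]
            exact Subalgebra.zero_mem _
          | add x y _ _ hx hy =>
            rw [Subalgebra.coe_add, mul_add]
            exact Subalgebra.add_mem _ hx hy
          | smul a x _ hx =>
            rw [Subalgebra.coe_smul, mul_smul_comm]
            exact Subalgebra.smul_mem _ hx a
        intro z hz
        exact key ⟨z, hz⟩ (by rw [hS]; trivial)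
    obtain ⟨c₀, hc₀B, hc₀Q, hc₀⟩ := hcond
    have hAtop : Algebra.adjoin K₀ ({y₁} : Set K) = ⊤ := by
      rw [← IntermediateField.adjoin_simple_toSubalgebra_of_isAlgebraic hint.isAlgebraic, hy,
        IntermediateField.top_toSubalgebra]
    have hE := traceForm_dualSubmodule_adjoin P.O K₀ hAtop hyi
    rw [← hG₀] at hE
    have hGinv : G₀⁻¹ ∈ (Algebra.traceForm K₀ K).dualSubmodule
        (Subalgebra.toSubmodule (Algebra.adjoin P.O ({y₁} : Set K))) := by
      rw [hE, Submodule.mem_smul_pointwise_iff_exists]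
      exact ⟨1, Subalgebra.one_mem _, by rw [smul_eq_mul, mul_one]⟩
    rw [LinearMap.BilinForm.mem_dualSubmodule] at hGinv
    have hdualmem : ∀ z : K, IsIntegral P.O z →
        P.1 (Algebra.trace K₀ K (c₀ * G₀⁻¹ * z)) ≤ 1 := by
      intro z hz
      have h1 := hGinv (c₀ * z) (hc₀ z hz)
      rw [Algebra.traceForm_apply, Submodule.mem_one] at h1
      obtain ⟨r, hr⟩ := h1
      have e2 : c₀ * G₀⁻¹ * z = G₀⁻¹ * (c₀ * z) := by ring
      rw [e2, ← hr]
      exact r.2
    have h2 := hdual (c₀ * G₀⁻¹) hdualmem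
    rw [map_mul, hc₀Q, one_mul, map_inv₀, val_eq_exp_neg_ord Q hG₀0, ← WithZero.exp_neg, neg_neg,
      WithZero.exp_le_exp] at h2
    exact le_antisymm h2 hmain.1

end Groth.Agent.Helper16.WA
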