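import Groth.Agent.H16.WA3
import Groth.Agent.H16.Cond5
set_option autoImplicit false
set_option linter.unusedSimpArgs false

/-! Localisation of a subalgebra at a place, and the local ring of a projective map. -/

namespace Groth.Agent.Helper16.WA

open FunFld Module Groth.Agent.Helper17.FF Groth.Agent.Helper16.Emb

variable {k K : Type*} [Field k] [Field K] [Algebra k K]

/-- the localisation of a subalgebra at a place -/
def LocA (A : Subalgebra k K) (Q : Place k K) (z : K) : Prop :=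
  ∃ u ∈ A, ∃ w ∈ A, Q.1 w = 1 ∧ z * w = u

theorem LocA.of_mem {A : Subalgebra k K} {Q : Place k K} {z : K} (h : z ∈ A) : LocA A Q z :=
  ⟨z, h, 1, A.one_mem, map_one _, mul_one _⟩

theorem LocA.add {A : Subalgebra k K} {Q : Place k K} {z₁ z₂ : K}
    (h₁ : LocA A Q z₁) (h₂ : LocA A Q z₂) : LocA A Q (z₁ + z₂) := by
  obtain ⟨u₁, hu₁, w₁, hw₁, hP₁, e₁⟩ := h₁
  obtain ⟨u₂, hu₂, w₂, hw₂, hP₂, e₂⟩ := h₂
  refine ⟨u₁ * w₂ + u₂ * w₁, A.add_mem (A.mul_mem hu₁ hw₂) (A.mul_mem hu₂ hw₁),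
    w₁ * w₂, A.mul_mem hw₁ hw₂, ?_, ?_⟩
  · rw [map_mul, hP₁, hP₂, one_mul]
  · rw [← e₁, ← e₂]; ring

theorem LocA.mul {A : Subalgebra k K} {Q : Place k K} {z₁ z₂ : K}
    (h₁ : LocA A Q z₁) (h₂ : LocA A Q z₂) : LocA A Q (z₁ * z₂) := by
  obtain ⟨u₁, hu₁, w₁, hw₁, hP₁, e₁⟩ := h₁
  obtain ⟨u₂, hu₂, w₂, hw₂, hP₂, e₂⟩ := h₂
  refine ⟨u₁ * u₂, A.mul_mem hu₁ hu₂, w₁ * w₂, A.mul_mem hw₁ hw₂, ?_, ?_⟩
  · rw [map_mul, hP₁, hP₂, one_mul]
  · rw [← e₁, ← e₂]; ring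

theorem LocA.inv {A : Subalgebra k K} {Q : Place k K} {z : K}
    (h : LocA A Q z) (hz : Q.1 z = 1) : LocA A Q z⁻¹ := by
  obtain ⟨u, hu, w, hw, hQw, e⟩ := h
  have hz0 : z ≠ 0 := by
    rintro rfl
    rw [map_zero] at hz
    exact zero_ne_one hz
  refine ⟨w, hw, u, hu, ?_, ?_⟩
  · rw [← e, map_mul, hz, hQw, one_mul]
  · rw [← e]; field_simp

theorem LocA.div {A : Subalgebra k K} {Q : Place k K} {a b : K}
    (h₁ : LocA A Q a) (h₂ : LocA A Q b) (hb : Q.1 b = 1) : LocA A Q (a / b) := by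
  rw [div_eq_mul_inv]
  exact h₁.mul (h₂.inv hb)

theorem LocA.of_adjoin {A : Subalgebra k K} {Q : Place k K} {S : Set K}
    (h : ∀ s ∈ S, LocA A Q s) {z : K} (hz : z ∈ Algebra.adjoin k S) : LocA A Q z := by
  induction hz using Algebra.adjoin_induction with
  | mem x hx => exact h x hx
  | algebraMap r => exact LocA.of_mem (A.algebraMap_mem r)
  | add x y _ _ hx hy => exact hx.add hy
  | mul x y _ _ hx hy => exact hx.mul hy

theorem LocA.mono_gen {A : Subalgebra k K} {Q : Place k K} {S : Set K}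
    (h : ∀ s ∈ S, LocA A Q s) {z : K} (hz : LocA (Algebra.adjoin k S) Q z) : LocA A Q z := by
  obtain ⟨u, hu, w, hw, hQw, e⟩ := hz
  have hw0 : w ≠ 0 := by
    rintro rfl
    rw [map_zero] at hQw
    exact zero_ne_one hQw
  have hz' : z = u / w := by
    rw [← e]; field_simp
  rw [hz']
  exact (LocA.of_adjoin h hu).div (LocA.of_adjoin h hw) hQw

/-- the local ring of a projective map, computed with any top element of the linear system -/
theorem inLocRing_iff_locA {n : ℕ} (φ : Fin (n + 1) → K) (Q : Place k K) (ψ : K)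
    (hψ : ψ ∈ Submodule.span k (Set.range φ)) (hψ0 : ψ ≠ 0) (hψtop : ∀ i, Q.1 (φ i) ≤ Q.1 ψ)
    (S : Set K) (hS1 : ∀ s ∈ S, s * ψ ∈ Submodule.span k (Set.range φ))
    (hS2 : ∀ i, φ i / ψ ∈ Algebra.adjoin k S) (z : K) :
    InLocRing φ Q z ↔ LocA (Algebra.adjoin k S) Q z := by
  classical
  obtain ⟨j, -, hj⟩ := Finset.exists_max_image Finset.univ (fun i => Q.1 (φ i))
    Finset.univ_nonempty
  have hjtop : ∀ i, Q.1 (φ i) ≤ Q.1 (φ j) := fun i => hj i (Finset.mem_univ i)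
  have hψj : Q.1 ψ = Q.1 (φ j) := le_antisymm (val_span_le Q φ hjtop hψ) (hψtop j)
  have hj0 : φ j ≠ 0 := by
    intro h
    rw [h, map_zero] at hψj
    exact hψ0 ((map_eq_zero Q.1).mp hψj)
  have hvj : Q.1 (φ j) ≠ 0 := (map_ne_zero Q.1).mpr hj0
  have hu1 : Q.1 (φ j / ψ) = 1 := by rw [map_div₀, hψj, div_self hvj]
  have hu2 : Q.1 (ψ / φ j) = 1 := by rw [map_div₀, hψj, div_self hvj]
  constructor
  · intro h
    have h2 : LocA (Algebra.adjoin k (Set.range fun i => φ i / φ j)) Q z :=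
      locJ_of_inLocRing hj0 hjtop h
    refine LocA.mono_gen ?_ h2
    rintro s ⟨i, rfl⟩
    have e : φ i / φ j = (φ i / ψ) / (φ j / ψ) := by field_simp
    show LocA (Algebra.adjoin k S) Q (φ i / φ j)
    rw [e]
    exact (LocA.of_mem (hS2 i)).div (LocA.of_mem (hS2 j)) hu1
  · intro h
    have h2 : LocA (Algebra.adjoin k (Set.range fun i => φ i / φ j)) Q z := by
      refine LocA.mono_gen ?_ h
      intro s hs
      have e : s = (s * ψ / φ j) / (ψ / φ j) := by field_simp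
      rw [e]
      exact (LocA.of_mem (div_mem_A' φ j (hS1 s hs))).div (LocA.of_mem (div_mem_A' φ j hψ)) hu2
    exact LocJ.inLocRing hj0 hjtop h2

end Groth.Agent.Helper16.WA
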