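import Groth.Agent.H16.WA5
import Groth.Agent.H16.Gauss4
set_option autoImplicit false
set_option linter.unusedSimpArgs false

/-! The one-variable polynomial attached to a plane relation in a chart. -/

namespace Groth.Agent.Helper16.WA

open FunFld Module Groth.Agent.Helper17.FF Groth.Agent.Helper16.Plane

variable {k K : Type*} [Field k] [Field K] [Algebra k K]

/-- bivariate evaluation as a sum over the support -/
theorem aeval_pair (x y : K) (g : MvPolynomial (Fin 2) k) :
    MvPolynomial.aeval ![x, y] g =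
      ∑ m ∈ g.support, algebraMap k K (g.coeff m) * (x ^ m 0 * y ^ m 1) := by
  rw [MvPolynomial.aeval_def, MvPolynomial.eval₂_eq']
  refine Finset.sum_congr rfl fun m _ => ?_
  rw [Fin.prod_univ_two]
  simp only [Matrix.cons_val_zero, Matrix.cons_val_one, Matrix.head_cons]

/-- the first partial derivative, evaluated, as a sum over the support -/
theorem aeval_pair_pderiv (x y : K) (g : MvPolynomial (Fin 2) k) :
    MvPolynomial.aeval ![x, y] (MvPolynomial.pderiv 0 g) =
      ∑ m ∈ g.support, algebraMap k K (g.coeff m) * ((m 0 : K) * x ^ (m 0 - 1) * y ^ m 1) := by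
  classical
  conv_lhs => rw [g.as_sum]
  rw [map_sum, map_sum]
  refine Finset.sum_congr rfl fun m _ => ?_
  rw [MvPolynomial.pderiv_monomial, MvPolynomial.aeval_monomial,
    Finsupp.prod_fintype _ _ (fun i => pow_zero _), Fin.prod_univ_two]
  simp only [Matrix.cons_val_zero, Matrix.cons_val_one, Matrix.head_cons, Finsupp.coe_tsub,
    Pi.sub_apply, Finsupp.single_eq_same]
  have h1 : (Finsupp.single (0 : Fin 2) 1 : Fin 2 →₀ ℕ) 1 = 0 := by
    rw [Finsupp.single_apply]; simp
  rw [h1, Nat.sub_zero, map_mul, map_natCast]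
  ring

variable {K₀ : Type*} [Field K₀] [Algebra k K₀] [Algebra K₀ K] [IsScalarTower k K₀ K]

/-- the one-variable polynomial over `K₀` obtained from a bivariate polynomial `g` by substituting
`t₀ ^ n m` for the part of the monomial `m` not involving the first variable -/
noncomputable def polyN (g : MvPolynomial (Fin 2) k) (t₀ : K₀) (n : (Fin 2 →₀ ℕ) → ℕ) :
    Polynomial K₀ :=
  ∑ m ∈ g.support, Polynomial.C (algebraMap k K₀ (g.coeff m) * t₀ ^ n m) * Polynomial.X ^ m 0

theorem aeval_polyN (g : MvPolynomial (Fin 2) k) (t₀ : K₀) (n : (Fin 2 →₀ ℕ) → ℕ) (y₁ : K) :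
    Polynomial.aeval y₁ (polyN g t₀ n) =
      ∑ m ∈ g.support, algebraMap k K (g.coeff m) * ((algebraMap K₀ K t₀) ^ n m * y₁ ^ m 0) := by
  unfold polyN
  rw [map_sum]
  refine Finset.sum_congr rfl fun m _ => ?_
  rw [map_mul, Polynomial.aeval_C, map_pow, Polynomial.aeval_X, map_mul, map_pow,
    ← IsScalarTower.algebraMap_apply]
  ring

theorem aeval_derivative_polyN (g : MvPolynomial (Fin 2) k) (t₀ : K₀)
    (n : (Fin 2 →₀ ℕ) → ℕ) (y₁ : K) :
    Polynomial.aeval y₁ (Polynomial.derivative (polyN g t₀ n)) =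
      ∑ m ∈ g.support, algebraMap k K (g.coeff m) *
        ((algebraMap K₀ K t₀) ^ n m * ((m 0 : K) * y₁ ^ (m 0 - 1))) := by
  unfold polyN
  rw [Polynomial.derivative_sum, map_sum]
  refine Finset.sum_congr rfl fun m _ => ?_
  rw [Polynomial.derivative_C_mul, Polynomial.derivative_X_pow]
  simp only [map_mul, map_pow, Polynomial.aeval_C, Polynomial.aeval_X, map_natCast,
    ← IsScalarTower.algebraMap_apply]
  ring

theorem coeff_polyN (g : MvPolynomial (Fin 2) k) (t₀ : K₀) (n : (Fin 2 →₀ ℕ) → ℕ) (i : ℕ) :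
    (polyN g t₀ n).coeff i =
      ∑ m ∈ g.support, if i = m 0 then algebraMap k K₀ (g.coeff m) * t₀ ^ n m else 0 := by
  unfold polyN
  rw [Polynomial.finsetSum_coeff]
  refine Finset.sum_congr rfl fun m _ => ?_
  rw [Polynomial.coeff_C_mul, Polynomial.coeff_X_pow]
  split_ifs <;> simp

theorem natDegree_polyN_le (g : MvPolynomial (Fin 2) k) (t₀ : K₀) (n : (Fin 2 →₀ ℕ) → ℕ) :
    (polyN g t₀ n).natDegree ≤ g.degreeOf 0 := by
  unfold polyN
  apply Polynomial.natDegree_sum_le_of_forall_le
  intro m hm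
  refine (Polynomial.natDegree_C_mul_X_pow_le _ _).trans ?_
  exact MvPolynomial.monomial_le_degreeOf 0 hm

/-- the top coefficient of a bivariate polynomial whose degree in the first variable is the total
degree -/
theorem coeff_top {g : MvPolynomial (Fin 2) k} {e : ℕ} (hdeg : g.degreeOf 0 = e)
    (htot : g.totalDegree = e) (hg : g ≠ 0) :
    g.coeff (Finsupp.single 0 e) ≠ 0 ∧ ∀ m ∈ g.support, m 0 = e → m = Finsupp.single 0 e := by
  classical
  have h2 : ∀ m ∈ g.support, m 0 = e → m = Finsupp.single 0 e := by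
    intro m hm hme
    have h1 := MvPolynomial.le_totalDegree hm
    rw [sum_eq_two, htot, hme] at h1
    have hm1 : m 1 = 0 := by omega
    ext i
    fin_cases i
    · simp [hme]
    · simp [hm1]
  refine ⟨?_, h2⟩
  have hne : g.support.Nonempty := by
    rw [Finset.nonempty_iff_ne_empty, Ne, MvPolynomial.support_eq_empty]
    exact hg
  rw [MvPolynomial.degreeOf_eq_sup] at hdeg
  obtain ⟨m, hm, hsup⟩ := Finset.exists_mem_eq_sup g.support hne (fun m => m 0)
  rw [hdeg] at hsup
  have hm' := h2 m hm hsup.symm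
  rw [← hm']
  exact MvPolynomial.mem_support_iff.mp hm

theorem polyN_top {g : MvPolynomial (Fin 2) k} {e : ℕ} (hdeg : g.degreeOf 0 = e)
    (htot : g.totalDegree = e) (hg : g ≠ 0) (t₀ : K₀) (n : (Fin 2 →₀ ℕ) → ℕ)
    (hn : n (Finsupp.single 0 e) = 0) :
    (polyN g t₀ n).natDegree = e ∧
      (polyN g t₀ n).leadingCoeff = algebraMap k K₀ (g.coeff (Finsupp.single 0 e)) := by
  classical
  obtain ⟨htop0, htop⟩ := coeff_top hdeg htot hg
  have hce : (polyN g t₀ n).coeff e = algebraMap k K₀ (g.coeff (Finsupp.single 0 e)) := by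
    rw [coeff_polyN, Finset.sum_eq_single (Finsupp.single 0 e)]
    · rw [if_pos (by simp), hn, pow_zero, mul_one]
    · intro m hm hne
      rw [if_neg]
      intro h
      exact hne (htop m hm h.symm)
    · intro h
      exfalso
      exact h (MvPolynomial.mem_support_iff.mpr htop0)
  have hle : (polyN g t₀ n).natDegree ≤ e := by
    rw [← hdeg]; exact natDegree_polyN_le g t₀ n
  have hne : (polyN g t₀ n).coeff e ≠ 0 := by
    rw [hce]
    exact (map_ne_zero_iff _ (algebraMap k K₀).injective).mpr htop0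
  have hnat := Polynomial.natDegree_eq_of_le_of_coeff_ne_zero hle hne
  refine ⟨hnat, ?_⟩
  rw [Polynomial.leadingCoeff, hnat, hce]

/-- the coefficients are regular wherever `t₀` is -/
theorem val_coeff_polyN_le (g : MvPolynomial (Fin 2) k) (t₀ : K₀) (n : (Fin 2 →₀ ℕ) → ℕ)
    (Q : Place k K) (hQ : Q.1 (algebraMap K₀ K t₀) ≤ 1) (i : ℕ) :
    Q.1 (algebraMap K₀ K ((polyN g t₀ n).coeff i)) ≤ 1 := by
  classical
  rw [coeff_polyN, map_sum]
  apply Valuation.map_sum_le
  intro m _
  split_ifs
  · rw [map_mul, map_pow, ← IsScalarTower.algebraMap_apply, map_mul, map_pow]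
    exact mul_le_one' (Q.2.1 _) (pow_le_one' hQ _)
  · rw [map_zero, map_zero]; exact zero_le_one

end Groth.Agent.Helper16.WA
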