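import Groth.Agent.H16.WA6
set_option autoImplicit false
set_option linter.unusedSimpArgs false

/-! Differential identities for the plane differential `dx / f_y`. -/

namespace Groth.Agent.Helper16.WA

open FunFld Module Groth.Agent.Helper17.FF Groth.Agent.Helper16.Plane

variable {k K : Type*} [Field k] [Field K] [Algebra k K]

theorem pderiv_one_shear (c : k) (f : MvPolynomial (Fin 2) k) :
    MvPolynomial.pderiv 1 (shear c f) = shear c (MvPolynomial.pderiv 1 f) := by
  classical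
  have := Groth.Agent.Helper16.AdjInv.chain (k := k) (RingHom.id (MvPolynomial (Fin 2) k))
    (fun p => MvPolynomial.pderiv 1 p)
    (fun a b => map_add _ a b)
    (fun a b => by
      simp only [RingHom.id_apply]
      rw [MvPolynomial.pderiv_mul]; ring)
    (fun c => by
      show MvPolynomial.pderiv 1 (algebraMap k (MvPolynomial (Fin 2) k) c) = 0
      rw [MvPolynomial.algebraMap_eq, MvPolynomial.pderiv_C])
    ![MvPolynomial.X 0, MvPolynomial.X 1 - MvPolynomial.C c * MvPolynomial.X 0] f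
  simp only [RingHom.id_apply] at this
  unfold shear
  rw [this, Fin.sum_univ_two]
  simp only [Matrix.cons_val_zero, Matrix.cons_val_one, Matrix.head_cons]
  have h0 : MvPolynomial.pderiv (1 : Fin 2) (MvPolynomial.X 0 : MvPolynomial (Fin 2) k) = 0 :=
    MvPolynomial.pderiv_X_of_ne (by decide)
  rw [h0, map_sub, MvPolynomial.pderiv_X_self, MvPolynomial.pderiv_C_mul, h0]
  ring

/-- the relation between the differentials of the coordinates -/
theorem diff_rel (Φ : K →ₐ[k] LaurentSeries k) (x y : K) (g : MvPolynomial (Fin 2) k)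
    (h : MvPolynomial.aeval ![x, y] g = 0) :
    Φ (MvPolynomial.aeval ![x, y] (MvPolynomial.pderiv 0 g)) * LocRes.D k (Φ x) +
      Φ (MvPolynomial.aeval ![x, y] (MvPolynomial.pderiv 1 g)) * LocRes.D k (Φ y) = 0 := by
  classical
  obtain ⟨d, hd⟩ : ∃ d : K → LaurentSeries k, d = fun z => LocRes.D k (Φ z) := ⟨_, rfl⟩
  have hadd : ∀ a b, d (a + b) = d a + d b := by
    intro a b; rw [hd]; simp only [map_add]
  have hmul : ∀ a b, d (a * b) = (Φ : K →+* LaurentSeries k) a * d b +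
      (Φ : K →+* LaurentSeries k) b * d a := by
    intro a b
    rw [hd]
    simp only [map_mul, RingHom.coe_coe]
    rw [Derivation.leibniz, smul_eq_mul, smul_eq_mul]
  have hC : ∀ c : k, d (algebraMap k K c) = 0 := by
    intro c
    rw [hd]
    simp only
    rw [LocRes.map_algebraMap, LocRes.D_apply, LocRes.derivative_C]
  have hd0 : d 0 = 0 := by
    have := hC 0
    rwa [map_zero] at this
  have hchain := Groth.Agent.Helper16.AdjInv.chain (k := k) (Φ : K →+* LaurentSeries k) d hadd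
    hmul hC ![x, y] g
  rw [h, hd0, Fin.sum_univ_two] at hchain
  simp only [Matrix.cons_val_zero, Matrix.cons_val_one, Matrix.head_cons,
    RingHom.coe_coe] at hchain
  rw [hd] at hchain
  exact hchain.symm

theorem D_ne_zero_of_vDiff (Φ : K →ₐ[k] LaurentSeries k) {u x : K}
    (h : LocRes.vDiff Φ u x ≠ 0) : u ≠ 0 ∧ KaehlerDifferential.D k K x ≠ 0 := by
  unfold LocRes.vDiff at h
  rw [Ne, map_eq_zero, mul_eq_zero, not_or] at h
  refine ⟨?_, ?_⟩
  · rintro rfl
    exact h.1 (map_zero Φ)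
  · intro h0
    apply h.2
    have h1 : KaehlerDifferential.D k K x = (0 : K) • KaehlerDifferential.D k K x := by
      rw [h0, smul_zero]
    have h2 := dExp_eq Φ h1
    rw [map_zero, zero_mul] at h2
    exact h2

/-- the order of `dx / f_y` after a shear of the second coordinate -/
theorem ord_identity [IsAlgClosed k] (hK : IsFunctionField k K) (x y : K)
    (f : MvPolynomial (Fin 2) k) (hfxy : MvPolynomial.aeval ![x, y] f = 0) (c : k)
    (Q : Place k K) (ΦQ : K →ₐ[k] LaurentSeries k) (hΦQ : LocRes.IsExpansionAt Q.1 ΦQ)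
    (hdx : KaehlerDifferential.D k K x ≠ 0)
    (hdy' : KaehlerDifferential.D k K (y + algebraMap k K c * x) ≠ 0)
    (hG : MvPolynomial.aeval ![x, y] (MvPolynomial.pderiv 1 f) ≠ 0) :
    MvPolynomial.aeval ![x, y + algebraMap k K c * x] (MvPolynomial.pderiv 0 (shear c f)) ≠ 0 ∧
    Q.ord (MvPolynomial.aeval ![x, y + algebraMap k K c * x]
        (MvPolynomial.pderiv 0 (shear c f))) -
      LocRes.ordDiff ΦQ 1 (y + algebraMap k K c * x) =
    Q.ord (MvPolynomial.aeval ![x, y] (MvPolynomial.pderiv 1 f)) - LocRes.ordDiff ΦQ 1 x := by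
  have hg := Groth.Agent.Helper17.FF.isGeometric_of_perfect k K hK
  have hfr := finrank_kaehler hK hg
  obtain ⟨y', hy'⟩ : ∃ y' : K, y' = y + algebraMap k K c * x := ⟨_, rfl⟩
  rw [← hy'] at hdy' ⊢
  obtain ⟨G, hGdef⟩ : ∃ G : K, G = MvPolynomial.aeval ![x, y] (MvPolynomial.pderiv 1 f) :=
    ⟨_, rfl⟩
  obtain ⟨G', hG'def⟩ : ∃ G' : K,
      G' = MvPolynomial.aeval ![x, y'] (MvPolynomial.pderiv 0 (shear c f)) := ⟨_, rfl⟩
  rw [← hGdef] at hG ⊢
  rw [← hG'def]
  have hrel' : MvPolynomial.aeval ![x, y'] (shear c f) = 0 := by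
    rw [aeval_shear, hy']
    have e : y + algebraMap k K c * x - algebraMap k K c * x = y := by ring
    rw [e, hfxy]
  have hGy : MvPolynomial.aeval ![x, y'] (MvPolynomial.pderiv 1 (shear c f)) = G := by
    rw [pderiv_one_shear, aeval_shear, hy', hGdef]
    have e : y + algebraMap k K c * x - algebraMap k K c * x = y := by ring
    rw [e]
  have hrel := diff_rel ΦQ x y' (shear c f) hrel'
  rw [hGy, ← hG'def] at hrel
  have hDx : LocRes.D k (ΦQ x) ≠ 0 := D_expansion_ne_zero hfr hΦQ hdx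
  have hDy' : LocRes.D k (ΦQ y') ≠ 0 := D_expansion_ne_zero hfr hΦQ hdy'
  have hΦinj : Function.Injective ΦQ := ΦQ.toRingHom.injective
  have hΦG : ΦQ G ≠ 0 := (map_ne_zero_iff ΦQ hΦinj).mpr hG
  have hG'0 : G' ≠ 0 := by
    rintro h0
    rw [h0, map_zero, zero_mul, zero_add] at hrel
    exact (mul_ne_zero hΦG hDy') hrel
  refine ⟨hG'0, ?_⟩
  have hv : LocRes.vDiff ΦQ G' x = LocRes.vDiff ΦQ G y' := by
    unfold LocRes.vDiff
    have e : ΦQ G' * LocRes.D k (ΦQ x) = -(ΦQ G * LocRes.D k (ΦQ y')) :=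
      eq_neg_of_add_eq_zero_left hrel
    rw [e, Valuation.map_neg]
  have ho : LocRes.ordDiff ΦQ G' x = LocRes.ordDiff ΦQ G y' := by
    unfold LocRes.ordDiff
    rw [hv]
  rw [Groth.Agent.Helper16.AdjInv.ordDiff_eq_add hK hdx hG'0 Q ΦQ hΦQ,
    Groth.Agent.Helper16.AdjInv.ordDiff_eq_add hK hdy' hG Q ΦQ hΦQ] at ho
  omega

/-- the order of the differential of an inverse -/
theorem ordDiff_inv [IsAlgClosed k] (hK : IsFunctionField k K) {y' : K}
    (hdy' : KaehlerDifferential.D k K y' ≠ 0) (hy'0 : y' ≠ 0)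
    (Q : Place k K) (ΦQ : K →ₐ[k] LaurentSeries k) (hΦQ : LocRes.IsExpansionAt Q.1 ΦQ) :
    LocRes.ordDiff ΦQ 1 y'⁻¹ = LocRes.ordDiff ΦQ 1 y' - 2 * Q.ord y' := by
  have hv : LocRes.vDiff ΦQ 1 y'⁻¹ = LocRes.vDiff ΦQ (y'⁻¹ ^ 2) y' := by
    unfold LocRes.vDiff
    rw [map_one, one_mul, map_inv₀, Derivation.leibniz_inv, smul_eq_mul, neg_mul,
      Valuation.map_neg, map_pow, map_inv₀]
  have ho : LocRes.ordDiff ΦQ 1 y'⁻¹ = LocRes.ordDiff ΦQ (y'⁻¹ ^ 2) y' := by
    unfold LocRes.ordDiff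
    rw [hv]
  rw [ho, Groth.Agent.Helper16.AdjInv.ordDiff_eq_add hK hdy' (pow_ne_zero 2 (inv_ne_zero hy'0))
    Q ΦQ hΦQ, ord_pow, ord_inv]
  push_cast
  ring

/-- `D (y⁻¹) ≠ 0` -/
theorem D_inv_ne_zero {y' : K} (hdy' : KaehlerDifferential.D k K y' ≠ 0) (hy'0 : y' ≠ 0) :
    KaehlerDifferential.D k K y'⁻¹ ≠ 0 := by
  rw [Derivation.leibniz_inv]
  intro h
  rw [neg_smul, neg_eq_zero, smul_eq_zero] at h
  rcases h with h | h
  · exact (pow_ne_zero 2 (inv_ne_zero hy'0)) h
  · exact hdy' h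

end Groth.Agent.Helper16.WA
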