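import Groth.Agent.H16.WA7
import Groth.Agent.H16.WA4
set_option autoImplicit false
set_option linter.unusedSimpArgs false

/-! The adjoint inequality in good coordinates. -/

namespace Groth.Agent.Helper16.WA

open FunFld Module Groth.Agent.Helper17.FF Groth.Agent.Helper16.Plane

variable {k K : Type*} [Field k] [Field K] [Algebra k K]

/-- membership in the span of `1, x, y'` -/
theorem mem_span_three {x y' z : K} (hz : z ∈ Submodule.span k ({1, x, y'} : Set K)) :
    ∃ a b c : k, z = algebraMap k K a + algebraMap k K b * x + algebraMap k K c * y' := by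
  rw [Submodule.mem_span_insert] at hz
  obtain ⟨a, z₁, hz₁, rfl⟩ := hz
  rw [Submodule.mem_span_insert] at hz₁
  obtain ⟨b, z₂, hz₂, rfl⟩ := hz₁
  rw [Submodule.mem_span_singleton] at hz₂
  obtain ⟨c, rfl⟩ := hz₂
  refine ⟨a, b, c, ?_⟩
  rw [Algebra.smul_def, Algebra.smul_def, Algebra.smul_def, mul_one]
  ring

theorem finrank_eq_of_good (hK : IsFunctionField k K) (x y' : K)
    (hxy' : IntermediateField.adjoin k ({y', x} : Set K) = ⊤)
    (g : MvPolynomial (Fin 2) k) (hg : Irreducible g)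
    (hgxy : MvPolynomial.aeval ![x, y'] g = 0)
    (hgood : ∀ P : Place k K, P.1 x ≤ max 1 (P.1 y')) :
    finrank (IntermediateField.adjoin k ({y'} : Set K)) K = g.degreeOf 0 := by
  have hty' := transcendental_of_good hK y' x hxy' hgood
  have hN := natDegree_minpoly_eq hK hty' hxy'
  have hG := natDegree_minpoly_of_irreducible hty' g hg hgxy
  rw [← hN, hG]

/-- the finite case -/
theorem case_finite [IsAlgClosed k] (hK : IsFunctionField k K) (x y' : K)
    (hxy' : IntermediateField.adjoin k ({y', x} : Set K) = ⊤)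
    (g : MvPolynomial (Fin 2) k) (hg : Irreducible g)
    (hgxy : MvPolynomial.aeval ![x, y'] g = 0)
    (hgood : ∀ P : Place k K, P.1 x ≤ max 1 (P.1 y'))
    (e : ℕ) (hdeg : g.degreeOf 0 = e) (htot : g.totalDegree = e)
    (hdy' : KaehlerDifferential.D k K y' ≠ 0)
    (Q : Place k K) (ΦQ : K →ₐ[k] LaurentSeries k) (hΦQ : LocRes.IsExpansionAt Q.1 ΦQ)
    (hQy' : Q.1 y' ≤ 1)
    {n : ℕ} (φ : Fin (n + 1) → K) (hφ1 : ∀ i, φ i ∈ Submodule.span k ({1, x, y'} : Set K))
    (h1 : (1 : K) ∈ Submodule.span k (Set.range φ)) (hx : x ∈ Submodule.span k (Set.range φ))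
    (hy' : y' ∈ Submodule.span k (Set.range φ)) :
    LocRes.ordDiff ΦQ 1 y' ≤ Q.ord (MvPolynomial.aeval ![x, y'] (MvPolynomial.pderiv 0 g)) ∧
    (Q.ord (MvPolynomial.aeval ![x, y'] (MvPolynomial.pderiv 0 g)) = LocRes.ordDiff ΦQ 1 y' ↔
      IsNonsingularAt φ Q) := by
  classical
  have hQx : Q.1 x ≤ 1 := (hgood Q).trans (max_le le_rfl hQy')
  have hfin := finrank_eq_of_good hK x y' hxy' g hg hgxy hgood
  obtain ⟨K₀, hK₀⟩ : ∃ K₀ : IntermediateField k K,
      K₀ = IntermediateField.adjoin k ({y'} : Set K) := ⟨_, rfl⟩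
  have hy'K₀ : y' ∈ K₀ := by rw [hK₀]; exact IntermediateField.mem_adjoin_simple_self k y'
  obtain ⟨t₀, ht₀⟩ : ∃ t₀ : K₀, t₀ = ⟨y', hy'K₀⟩ := ⟨_, rfl⟩
  have ht₀K : algebraMap K₀ K t₀ = y' := by rw [ht₀]; rfl
  obtain ⟨nn, hnn⟩ : ∃ nn : (Fin 2 →₀ ℕ) → ℕ, nn = fun m => m 1 := ⟨_, rfl⟩
  have hnn0 : nn (Finsupp.single 0 e) = 0 := by
    rw [hnn]
    show (Finsupp.single (0 : Fin 2) e) 1 = 0
    rw [Finsupp.single_apply]; simp
  obtain ⟨hpdeg, hplc⟩ := polyN_top hdeg htot hg.ne_zero t₀ nn hnn0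
  obtain ⟨hc0, -⟩ := coeff_top hdeg htot hg.ne_zero
  have hp0 : Polynomial.aeval x (polyN g t₀ nn) = 0 := by
    rw [aeval_polyN, ht₀K, ← hgxy, aeval_pair]
    refine Finset.sum_congr rfl fun m _ => ?_
    rw [hnn]; ring
  have hpd : Polynomial.aeval x (Polynomial.derivative (polyN g t₀ nn)) =
      MvPolynomial.aeval ![x, y'] (MvPolynomial.pderiv 0 g) := by
    rw [aeval_derivative_polyN, ht₀K, aeval_pair_pderiv]
    refine Finset.sum_congr rfl fun m _ => ?_
    rw [hnn]; ring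
  have hAC := abstract_core hK y' x hxy' hdy' Q hQy' hQx ΦQ hΦQ K₀ hK₀ (polyN g t₀ nn) hp0
    (by rw [hpdeg, hK₀, hfin, hdeg])
    (fun i => val_coeff_polyN_le g t₀ nn Q (by rw [ht₀K]; exact hQy') i)
    (g.coeff (Finsupp.single 0 e)) hc0 hplc
  rw [hpd] at hAC
  refine ⟨hAC.1, hAC.2.trans ?_⟩
  have hbridge : ∀ z, InLocRing φ Q z ↔ LocA (Algebra.adjoin k ({y', x} : Set K)) Q z := by
    intro z
    refine inLocRing_iff_locA φ Q 1 h1 one_ne_zero ?_ ({y', x} : Set K) ?_ ?_ z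
    · intro i
      rw [map_one]
      obtain ⟨a, b, c, hi⟩ := mem_span_three (hφ1 i)
      rw [hi]
      refine (Q.1.map_add _ _).trans (max_le ((Q.1.map_add _ _).trans (max_le (Q.2.1 a) ?_)) ?_)
      · rw [map_mul]; exact mul_le_one' (Q.2.1 b) hQx
      · rw [map_mul]; exact mul_le_one' (Q.2.1 c) hQy'
    · rintro s (rfl | rfl)
      · rw [mul_one]; exact hy'
      · rw [mul_one]; exact hx
    · intro i
      rw [div_one]
      obtain ⟨a, b, c, hi⟩ := mem_span_three (hφ1 i)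
      rw [hi]
      have hxm : x ∈ Algebra.adjoin k ({y', x} : Set K) := Algebra.subset_adjoin (by simp)
      have hym : y' ∈ Algebra.adjoin k ({y', x} : Set K) := Algebra.subset_adjoin (by simp)
      exact Subalgebra.add_mem _ (Subalgebra.add_mem _ (Subalgebra.algebraMap_mem _ a)
        (Subalgebra.mul_mem _ (Subalgebra.algebraMap_mem _ b) hxm))
        (Subalgebra.mul_mem _ (Subalgebra.algebraMap_mem _ c) hym)
  constructor
  · intro h z hz
    exact (hbridge z).mpr (h z hz)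
  · intro h z hz
    exact (hbridge z).mp (h z hz)

theorem adjoin_inv_eq {y' : K} (hy'0 : y' ≠ 0) :
    IntermediateField.adjoin k ({y'} : Set K) = IntermediateField.adjoin k ({y'⁻¹} : Set K) := by
  apply le_antisymm
  · rw [IntermediateField.adjoin_simple_le_iff]
    have h := inv_mem (IntermediateField.mem_adjoin_simple_self k y'⁻¹)
    rwa [inv_inv] at h
  · rw [IntermediateField.adjoin_simple_le_iff]
    exact inv_mem (IntermediateField.mem_adjoin_simple_self k y')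

/-- the case of a place at infinity -/
theorem case_infinite [IsAlgClosed k] (hK : IsFunctionField k K) (x y' : K)
    (hxy' : IntermediateField.adjoin k ({y', x} : Set K) = ⊤)
    (g : MvPolynomial (Fin 2) k) (hg : Irreducible g)
    (hgxy : MvPolynomial.aeval ![x, y'] g = 0)
    (hgood : ∀ P : Place k K, P.1 x ≤ max 1 (P.1 y'))
    (e : ℕ) (hdeg : g.degreeOf 0 = e) (htot : g.totalDegree = e)
    (hdy' : KaehlerDifferential.D k K y' ≠ 0)
    (hG'0 : MvPolynomial.aeval ![x, y'] (MvPolynomial.pderiv 0 g) ≠ 0)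
    (Q : Place k K) (ΦQ : K →ₐ[k] LaurentSeries k) (hΦQ : LocRes.IsExpansionAt Q.1 ΦQ)
    (hQy' : 1 < Q.1 y')
    {n : ℕ} (φ : Fin (n + 1) → K) (hφ1 : ∀ i, φ i ∈ Submodule.span k ({1, x, y'} : Set K))
    (h1 : (1 : K) ∈ Submodule.span k (Set.range φ)) (hx : x ∈ Submodule.span k (Set.range φ))
    (hy' : y' ∈ Submodule.span k (Set.range φ)) :
    0 ≤ ((e : ℤ) - 3) * (-Q.ord y') +
        Q.ord (MvPolynomial.aeval ![x, y'] (MvPolynomial.pderiv 0 g)) -
        LocRes.ordDiff ΦQ 1 y' ∧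
    (((e : ℤ) - 3) * (-Q.ord y') +
        Q.ord (MvPolynomial.aeval ![x, y'] (MvPolynomial.pderiv 0 g)) -
        LocRes.ordDiff ΦQ 1 y' = 0 ↔ IsNonsingularAt φ Q) := by
  classical
  have hy'0 : y' ≠ 0 := by
    rintro rfl
    rw [map_zero] at hQy'
    exact not_lt.mpr zero_le_one hQy'
  have hvy' : Q.1 y' ≠ 0 := (map_ne_zero Q.1).mpr hy'0
  have hQx : Q.1 x ≤ Q.1 y' := (hgood Q).trans (max_le hQy'.le le_rfl)
  have hfin := finrank_eq_of_good hK x y' hxy' g hg hgxy hgood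
  obtain ⟨t, ht⟩ : ∃ t : K, t = y'⁻¹ := ⟨_, rfl⟩
  have ht0 : t ≠ 0 := by rw [ht]; exact inv_ne_zero hy'0
  have hty' : t * y' = 1 := by rw [ht]; exact inv_mul_cancel₀ hy'0
  have hQt : Q.1 t < 1 := by
    rw [ht, map_inv₀]
    exact inv_lt_one_of_one_lt₀ hQy'
  have hQy₁ : Q.1 (x * t) ≤ 1 := by
    rw [ht, map_mul, map_inv₀, ← div_eq_mul_inv]
    exact (div_le_one₀ (zero_lt_iff.mpr hvy')).mpr hQx
  obtain ⟨K₀, hK₀⟩ : ∃ K₀ : IntermediateField k K,
      K₀ = IntermediateField.adjoin k ({y'} : Set K) := ⟨_, rfl⟩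
  have hK₀' : K₀ = IntermediateField.adjoin k ({t} : Set K) := by
    rw [hK₀, ht]; exact adjoin_inv_eq hy'0
  have htK₀ : t ∈ K₀ := by rw [hK₀']; exact IntermediateField.mem_adjoin_simple_self k t
  obtain ⟨t₀, ht₀⟩ : ∃ t₀ : K₀, t₀ = ⟨t, htK₀⟩ := ⟨_, rfl⟩
  have ht₀K : algebraMap K₀ K t₀ = t := by rw [ht₀]; rfl
  obtain ⟨nn, hnn⟩ : ∃ nn : (Fin 2 →₀ ℕ) → ℕ, nn = fun m => e - (m 0 + m 1) := ⟨_, rfl⟩
  have hnn0 : nn (Finsupp.single 0 e) = 0 := by
    rw [hnn]
    show e - ((Finsupp.single (0 : Fin 2) e) 0 + (Finsupp.single (0 : Fin 2) e) 1) = 0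
    rw [Finsupp.single_eq_same]
    omega
  obtain ⟨hpdeg, hplc⟩ := polyN_top hdeg htot hg.ne_zero t₀ nn hnn0
  obtain ⟨hc0, -⟩ := coeff_top hdeg htot hg.ne_zero
  have hsupp : ∀ m ∈ g.support, m 0 + m 1 ≤ e := by
    intro m hm
    have h := MvPolynomial.le_totalDegree hm
    rwa [sum_eq_two, htot] at h
  have hp0 : Polynomial.aeval (x * t) (polyN g t₀ nn) = 0 := by
    rw [aeval_polyN, ht₀K]
    have h2 : ∑ m ∈ g.support, algebraMap k K (g.coeff m) * (t ^ nn m * (x * t) ^ m 0) =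
        t ^ e * MvPolynomial.aeval ![x, y'] g := by
      rw [aeval_pair, Finset.mul_sum]
      refine Finset.sum_congr rfl fun m hm => ?_
      obtain ⟨r, hr⟩ : ∃ r, e = r + (m 0 + m 1) := ⟨e - (m 0 + m 1), by have := hsupp m hm; omega⟩
      have hnr : nn m = r := by rw [hnn]; show e - (m 0 + m 1) = r; omega
      have h3 : t ^ m 1 * y' ^ m 1 = 1 := by rw [← mul_pow, hty', one_pow]
      rw [hnr, hr, pow_add, pow_add, mul_pow]
      linear_combination (-(algebraMap k K (g.coeff m) * t ^ r * t ^ m 0 * x ^ m 0)) * h3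
    rw [h2, hgxy, mul_zero]
  have hpd : Polynomial.aeval (x * t) (Polynomial.derivative (polyN g t₀ nn)) =
      t ^ (e - 1) * MvPolynomial.aeval ![x, y'] (MvPolynomial.pderiv 0 g) := by
    rw [aeval_derivative_polyN, ht₀K, aeval_pair_pderiv, Finset.mul_sum]
    refine Finset.sum_congr rfl fun m hm => ?_
    by_cases hm0 : m 0 = 0
    · rw [hm0]; simp
    obtain ⟨r, hr⟩ : ∃ r, e - 1 = r + ((m 0 - 1) + m 1) :=
      ⟨e - (m 0 + m 1), by have := hsupp m hm; omega⟩
    have hnr : nn m = r := by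
      rw [hnn]; show e - (m 0 + m 1) = r
      have := hsupp m hm; omega
    have h3 : t ^ m 1 * y' ^ m 1 = 1 := by rw [← mul_pow, hty', one_pow]
    rw [hnr, hr, pow_add, pow_add, mul_pow]
    linear_combination (-(algebraMap k K (g.coeff m) * t ^ r * t ^ (m 0 - 1) * x ^ (m 0 - 1) *
      (m 0 : K))) * h3
  have hdt : KaehlerDifferential.D k K t ≠ 0 := by rw [ht]; exact D_inv_ne_zero hdy' hy'0
  have htop : IntermediateField.adjoin k ({t, x * t} : Set K) = ⊤ := by
    rw [eq_top_iff, ← hxy', IntermediateField.adjoin_le_iff]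
    have htm : t ∈ IntermediateField.adjoin k ({t, x * t} : Set K) :=
      IntermediateField.subset_adjoin k _ (by simp)
    have hxtm : x * t ∈ IntermediateField.adjoin k ({t, x * t} : Set K) :=
      IntermediateField.subset_adjoin k _ (by simp)
    have hy'm : y' ∈ IntermediateField.adjoin k ({t, x * t} : Set K) := by
      have h := inv_mem htm
      have e3 : t⁻¹ = y' := by rw [ht, inv_inv]
      rwa [e3] at h
    rintro z (hz | hz)
    · rw [hz]; exact hy'm
    · rw [Set.mem_singleton_iff] at hz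
      have e2 : z = (x * t) * y' := by rw [hz, mul_assoc, hty', mul_one]
      rw [e2]
      exact mul_mem hxtm hy'm
  have hAC := abstract_core hK t (x * t) htop hdt Q hQt.le hQy₁ ΦQ hΦQ K₀ hK₀' (polyN g t₀ nn) hp0
    (by rw [hpdeg, hK₀, hfin, hdeg])
    (fun i => val_coeff_polyN_le g t₀ nn Q (by rw [ht₀K]; exact hQt.le) i)
    (g.coeff (Finsupp.single 0 e)) hc0 hplc
  rw [hpd] at hAC
  have hord1 : Q.ord (t ^ (e - 1) * MvPolynomial.aeval ![x, y'] (MvPolynomial.pderiv 0 g)) =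
      ((e - 1 : ℕ) : ℤ) * (-Q.ord y') +
        Q.ord (MvPolynomial.aeval ![x, y'] (MvPolynomial.pderiv 0 g)) := by
    rw [ord_mul Q (pow_ne_zero _ ht0) hG'0, ord_pow, ht, ord_inv]
  have hord2 : LocRes.ordDiff ΦQ 1 t = LocRes.ordDiff ΦQ 1 y' - 2 * Q.ord y' := by
    rw [ht]; exact ordDiff_inv hK hdy' hy'0 Q ΦQ hΦQ
  rw [hord1, hord2] at hAC
  have he1 : 1 ≤ e := by
    by_contra hlt
    have he0 : e = 0 := by omega
    apply hG'0
    rw [he0, MvPolynomial.totalDegree_eq_zero_iff_eq_C] at htot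
    rw [htot, MvPolynomial.pderiv_C, map_zero]
  have hcast : ((e - 1 : ℕ) : ℤ) = (e : ℤ) - 1 := by
    rw [Nat.cast_sub he1]; simp
  rw [hcast] at hAC
  have hbridge : ∀ z, InLocRing φ Q z ↔ LocA (Algebra.adjoin k ({t, x * t} : Set K)) Q z := by
    intro z
    refine inLocRing_iff_locA φ Q y' hy' hy'0 ?_ ({t, x * t} : Set K) ?_ ?_ z
    · intro i
      obtain ⟨a, b, c, hi⟩ := mem_span_three (hφ1 i)
      rw [hi]
      refine (Q.1.map_add _ _).trans (max_le ((Q.1.map_add _ _).trans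
        (max_le ((Q.2.1 a).trans hQy'.le) ?_)) ?_)
      · rw [map_mul]
        calc Q.1 (algebraMap k K b) * Q.1 x ≤ 1 * Q.1 y' := mul_le_mul' (Q.2.1 b) hQx
          _ = Q.1 y' := one_mul _
      · rw [map_mul]
        calc Q.1 (algebraMap k K c) * Q.1 y' ≤ 1 * Q.1 y' := mul_le_mul' (Q.2.1 c) le_rfl
          _ = Q.1 y' := one_mul _
    · rintro s (rfl | rfl)
      · rw [hty']; exact h1
      · rw [mul_assoc, hty', mul_one]; exact hx
    · intro i
      obtain ⟨a, b, c, hi⟩ := mem_span_three (hφ1 i)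
      have htm : t ∈ Algebra.adjoin k ({t, x * t} : Set K) := Algebra.subset_adjoin (by simp)
      have hxtm : x * t ∈ Algebra.adjoin k ({t, x * t} : Set K) :=
        Algebra.subset_adjoin (by simp)
      have e2 : φ i / y' = algebraMap k K a * t + algebraMap k K b * (x * t) +
          algebraMap k K c := by
        rw [hi, ht]; field_simp
      rw [e2]
      exact Subalgebra.add_mem _ (Subalgebra.add_mem _
        (Subalgebra.mul_mem _ (Subalgebra.algebraMap_mem _ a) htm)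
        (Subalgebra.mul_mem _ (Subalgebra.algebraMap_mem _ b) hxtm))
        (Subalgebra.algebraMap_mem _ c)
  have hns : IsNonsingularAt φ Q ↔ ∀ z : K, Q.1 z ≤ 1 →
      ∃ u ∈ Algebra.adjoin k ({t, x * t} : Set K),
        ∃ w ∈ Algebra.adjoin k ({t, x * t} : Set K), Q.1 w = 1 ∧ z * w = u := by
    constructor
    · intro h z hz
      exact (hbridge z).mp (h z hz)
    · intro h z hz
      exact (hbridge z).mpr (h z hz)
  rw [hns, ← hAC.2]
  constructor
  · have := hAC.1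
    linarith
  · constructor
    · intro h; linarith
    · intro h; linarith

end Groth.Agent.Helper16.WA
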