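import Groth.Agent.H16.Classical
import Groth.Agent.H16.SF4
import Groth.Agent.S12609
import Groth.Agent.S12614
import Groth.Agent.S12615
import Groth.Agent.Lib.Helper17.FF22
set_option autoImplicit false
set_option linter.unusedSimpArgs false

/-! Weierstrass points of the canonical map: the weight formula. -/

namespace Groth.Agent.Helper16.WP

open FunFld Module Groth.Agent.Helper17.FF Groth.Agent.Helper16.Emb

variable {k K : Type*} [Field k] [Field K] [Algebra k K] {n : ℕ}

theorem mapDiv_le_of_mem_L (hK : IsFunctionField k K) (C : Divisor k K) (φ : Fin (n + 1) → K)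
    (hφ0 : ∀ i, φ i ≠ 0) (hmem : ∀ i, φ i ∈ L C) : mapDiv k φ ≤ C := by
  intro P
  obtain ⟨i, hi⟩ := exists_val_eq_mapDiv hK φ hφ0 P
  have := (mem_L.mp (hmem i)) P
  rw [hi, WithZero.exp_le_exp] at this
  exact this

theorem isOrders_unique {R M : Type*} [Semiring R] [AddCommMonoid M] [Module R M] (c : ℕ → M)
    {J J₂ : Fin n → ℕ} (h : IsOrders R c J) (h₂ : IsOrders R c J₂) : J = J₂ := by
  apply (StrictMono.range_inj h.1 h₂.1).mp
  ext j
  rw [h.2 j, h₂.2 j]

/-- gaps are at most `2g - 1` -/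
theorem not_isGap_of_le [IsAlgClosed k] (hK : IsFunctionField k K) (P : Place k K) (j : ℕ)
    (hj : 2 * genus k K ≤ j) : ¬ IsGap P (j : ℤ) := by
  obtain ⟨f, hf1, hf2⟩ := Groth.Agent.Helper16.Hasse.exists_exact_pole hK P j hj
  rw [not_isGap_iff]
  have hf0 : f ≠ 0 := by
    rintro rfl
    rw [map_zero] at hf1
    exact WithZero.exp_ne_zero hf1.symm
  refine ⟨f, hf0, ?_, fun Q hQ => ?_⟩
  · rw [val_eq_exp_neg_ord P hf0] at hf1
    have := WithZero.exp_injective hf1
    omega
  · exact (ord_nonneg_iff Q hf0).mpr (hf2 Q hQ)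

/-- the classical orders of the canonical map -/
theorem orders_classical [IsAlgClosed k] (hK : IsFunctionField k K)
    (hchar : ringChar k = 0 ∨ 2 * genus k K - 2 < ringChar k) (hg : 1 < genus k K)
    (C : Divisor k K) (hC : IsCanonical k K C)
    (φ : Fin (n + 1) → K) (hφ : LinearIndependent k φ) (hmem : ∀ i, φ i ∈ L C)
    (s : K) (H : K →ₐ[k] PowerSeries K) (hH : LocRes.IsHasseFamily s H) :
    IsOrders K (hcol (AlgHom.id k K) H φ) (fun l : Fin n => (l : ℕ) + 1) := by
  classical
  haveI : CharP k (ringChar k) := ringChar.charP k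
  have hφ0 : ∀ i, φ i ≠ 0 := fun i => hφ.ne_zero i
  obtain ⟨-, hdegC⟩ := (isCanonical_iff hK C).mp hC
  have hdeg : (mapDiv k φ).deg ≤ 2 * (genus k K : ℤ) - 2 := by
    rw [← hdegC]
    exact deg_mono (mapDiv_le_of_mem_L hK C φ hφ0 hmem)
  have hchar' : ringChar k = 0 ∨ (mapDiv k φ).deg < ringChar k := by
    rcases hchar with h | h
    · exact Or.inl h
    · right
      have : ((2 * genus k K - 2 : ℕ) : ℤ) < (ringChar k : ℤ) := by exact_mod_cast h
      have h2 : ((2 * genus k K - 2 : ℕ) : ℤ) = 2 * (genus k K : ℤ) - 2 := by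
        rw [Nat.cast_sub (by omega)]
        push_cast
        ring
      omega
  obtain ⟨P⟩ := Groth.Agent.Helper17.FF.exists_place hK
  refine Groth.Agent.Helper16.Hasse.classical_aux hK φ hφ hchar' (AlgHom.id k K) s H hH P
    (fun z hz => hz) (fun l : Fin n => (l : ℕ) + 1) ?_ (Or.inl fun l => Nat.succ_pos _) ?_ ?_
  · intro a b hab
    have : (a : ℕ) < (b : ℕ) := hab
    simp only
    omega
  · intro J hJ hpos hlt
    exact Groth.Agent.Helper16.Hasse.det_binomMat_succ_ne_zero (ringChar k) J hJ hpos hlt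
  · intro H' t' hH' ψ J hJ
    have h0 : (0 : ℕ) ∉ Set.range J := by
      rw [hJ.2 0]
      unfold FunFld.IsJump
      rw [not_not]
      apply Submodule.subset_span
      refine ⟨0, by simp, ?_⟩
      funext i
      show (AlgHom.id k K) (ψ i) = LocRes.hasseD H' 0 (ψ i)
      rw [Groth.Agent.Helper16.Hasse.hasseD_zero H' hH']
      rfl
    have h1 := Groth.Agent.Helper16.Hasse.strictMono_add_le hJ.1 1 (fun h =>
      Nat.pos_of_ne_zero (fun h' => h0 ⟨⟨0, h⟩, h'⟩))
    intro l
    exact h1 l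

end Groth.Agent.Helper16.WP
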