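import Groth.Agent.H16.WP1
set_option autoImplicit false
set_option linter.unusedSimpArgs false

/-! Weierstrass points of the canonical map: the weight formula. -/

namespace Groth.Agent.Helper16.WP

open FunFld Module Groth.Agent.Helper17.FF Groth.Agent.Helper16.Emb Groth.Agent.Helper16.Hasse

variable {k K : Type*} [Field k] [Field K] [Algebra k K] {n : ℕ}

theorem weight_formula [IsAlgClosed k] (hK : IsFunctionField k K)
    (hg : 1 < genus k K) (hchar : ringChar k = 0 ∨ 2 * genus k K - 2 < ringChar k)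
    (C : Divisor k K) (hC : IsCanonical k K C)
    (φ : Fin (n + 1) → K) (hφ : LinearIndependent k φ)
    (hspan : Submodule.span k (Set.range φ) = L C)
    (s : K) (H : K →ₐ[k] PowerSeries K) (hH : LocRes.IsHasseFamily s H)
    (J : Fin n → ℕ) (hJ : IsOrders K (hcol (AlgHom.id k K) H φ) J)
    (Φ : Place k K → (K →ₐ[k] LaurentSeries k))
    (hΦ : ∀ P : Place k K, LocRes.IsExpansionAt P.1 (Φ P)) (P : Place k K) :
    ∃ J' : Fin n → ℕ, StrictMono J' ∧ (∀ l, 1 ≤ J' l) ∧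
      (∀ j : ℕ, 1 ≤ j → (j ∈ Set.range J' ↔ IsGap P ((j : ℤ) + 1))) ∧
      wDiv (AlgHom.id k K) H Φ s φ J P = ∑ l : Fin n, ((J' l : ℤ) - ((l : ℕ) + 1)) := by
  classical
  haveI : CharP k (ringChar k) := ringChar.charP k
  have hmem : ∀ i, φ i ∈ L C := fun i => by
    rw [← hspan]; exact Submodule.subset_span ⟨i, rfl⟩
  have hJcl := orders_classical hK hchar hg C hC φ hφ hmem s H hH
  have hJeq : J = fun l : Fin n => (l : ℕ) + 1 := isOrders_unique _ hJ hJcl
  obtain ⟨t, Ht, ht, hHt⟩ := exists_hasse_param hK P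
  have hφ0 : ∀ i, φ i ≠ 0 := fun i => hφ.ne_zero i
  obtain ⟨j, hj⟩ := exists_val_eq_mapDiv hK φ hφ0 P
  have hjP : ∀ i, P.1 (φ i) ≤ P.1 (φ j) := fun i => by
    rw [hj]; exact val_le_mapDiv hK φ hφ0 P i
  obtain ⟨y, hy⟩ : ∃ y : K, y = (φ j)⁻¹ := ⟨_, rfl⟩
  have hy0 : y ≠ 0 := by rw [hy]; exact inv_ne_zero (hφ0 j)
  have hyφ : ∀ i, (y • φ) i = y * φ i := fun i => rfl
  have hφ' : LinearIndependent k (y • φ) := by
    have h1 := hφ.map' (LinearMap.mulLeft k y) (by
      rw [LinearMap.ker_eq_bot]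
      intro a b hab
      exact mul_left_cancel₀ hy0 hab)
    exact h1
  have hnorm : ∀ i, P.1 ((y • φ) i) ≤ 1 := by
    intro i
    rw [hyφ, hy, map_mul, map_inv₀, inv_mul_le_iff₀ (zero_lt_iff.mpr
      ((map_ne_zero P.1).mpr (hφ0 j))), mul_one]
    exact hjP i
  have hnorm' : ∀ i, P.1 (y * φ i) ≤ 1 := hnorm
  have hone : (y • φ) j = 1 := by rw [hyφ, hy, inv_mul_cancel₀ (hφ0 j)]
  have heff : (1 : K) ∈ Submodule.span k (Set.range (y • φ)) := by
    rw [← hone]; exact Submodule.subset_span ⟨j, rfl⟩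
  have hunit : ∃ i, P.1 ((y • φ) i) = 1 := ⟨j, by rw [hone, map_one]⟩
  obtain ⟨JP, hJP⟩ := exists_orders_at hK P ht Ht hHt (y • φ) hφ' hnorm hunit
  have h0 : (0 : ℕ) ∉ Set.range JP := by
    rw [hJP.2 0]
    unfold FunFld.IsJump
    rw [not_not]
    apply Submodule.subset_span
    refine ⟨0, by simp, ?_⟩
    exact hcolAt_zero_eq P Ht hHt (y • φ)
  have hpos : ∀ l, 1 ≤ JP l := fun l => Nat.pos_of_ne_zero (fun h => h0 ⟨l, h⟩)
  have hgap : ∀ j' : ℕ, 1 ≤ j' → (j' ∈ Set.range JP ↔ IsGap P ((j' : ℤ) + 1)) := by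
    intro j' hj'
    rw [hJP.2 j', Groth.Agent.S12609.result k K hK C hC φ hφ hspan P y hy0 heff hnorm' t ht Ht hHt
      j' hj']
    unfold IsGap
    rw [add_sub_cancel_right]
  have hlt : ringChar k = 0 ∨ ∀ l, JP l < ringChar k := by
    rcases hchar with h | h
    · exact Or.inl h
    · right
      intro l
      have h1 : IsGap P ((JP l : ℤ) + 1) := (hgap (JP l) (hpos l)).mp ⟨l, rfl⟩
      have h2 : ¬ 2 * genus k K ≤ JP l + 1 := by
        intro hle
        apply not_isGap_of_le hK P (JP l + 1) hle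
        push_cast
        exact h1
      omega
  have hJψ : IsOrders K (hcol (AlgHom.id k K) Ht (y • φ)) J :=
    ((Groth.Agent.S12597.result k K hK φ hφ (AlgHom.id k K) t Ht hHt y hy0).1 J).mpr
      (((Groth.Agent.S12598.result k K hK φ hφ (AlgHom.id k K) s H hH t Ht hHt).1 J).mpr hJ)
  have hW : wDiv (AlgHom.id k K) Ht Φ t (y • φ) J = wDiv (AlgHom.id k K) H Φ s φ J := by
    refine Groth.Agent.S12614.result k K hK φ hφ (AlgHom.id k K) s H hH t Ht hHt J hJ 1
      (by rw [Matrix.det_one]; exact one_ne_zero) y hy0 (y • φ) ?_ Φ hΦ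
    intro i
    rw [hyφ]
    congr 1
    rw [Finset.sum_eq_single i]
    · simp
    · intro b _ hb
      rw [Matrix.one_apply_ne (Ne.symm hb), zero_smul]
    · intro h; exact absurd (Finset.mem_univ i) h
  obtain ⟨-, hiff⟩ := Groth.Agent.S12615.result k K hK (AlgHom.id k K) P (fun z hz => hz) (y • φ)
    hφ' heff hnorm t ht Ht hHt J hJψ JP hJP Φ hΦ
  have hdet : (binomMat k JP J).det ≠ 0 := by
    rw [hJeq]
    exact det_binomMat_succ_ne_zero (ringChar k) JP hJP.1 hpos hlt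
  refine ⟨JP, hJP.1, hpos, hgap, ?_⟩
  rw [← hW, (hiff (Or.inl rfl)).mpr hdet, hJeq]
  refine Finset.sum_congr rfl fun l _ => ?_
  push_cast
  ring

end Groth.Agent.Helper16.WP
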