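import Groth.Agent.H16.WP2
set_option autoImplicit false
set_option linter.unusedSimpArgs false

/-! Weierstrass points of the canonical map: bounds for the weight. -/

namespace Groth.Agent.Helper16.WP

open FunFld Module Groth.Agent.Helper17.FF Groth.Agent.Helper16.Emb Groth.Agent.Helper16.Hasse

variable {k K : Type*} [Field k] [Field K] [Algebra k K] {n : ℕ}

theorem order_le (P : Place k K) (J' : Fin n → ℕ) (hmono : StrictMono J')
    (hpos : ∀ l, 1 ≤ J' l)
    (hgap : ∀ j : ℕ, 1 ≤ j → (j ∈ Set.range J' ↔ IsGap P ((j : ℤ) + 1))) (l : Fin n) :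
    J' l ≤ 2 * (l : ℕ) + 2 := by
  classical
  have hN : IsGap P ((J' l + 1 : ℕ) : ℤ) := by
    have := (hgap (J' l) (hpos l)).mp ⟨l, rfl⟩
    push_cast
    exact this
  have h1 := gaps_below_gap P (J' l + 1) (by omega) hN
  have h2 : ((Finset.Ico 1 (J' l + 1)).filter (fun m : ℕ => IsGap P (m : ℤ))).card ≤
      (l : ℕ) + 1 := by
    have hsub : (Finset.Ico 1 (J' l + 1)).filter (fun m : ℕ => IsGap P (m : ℤ)) ⊆
        insert 1 ((Finset.Iio l).image (fun i : Fin n => J' i + 1)) := by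
      intro m hm
      rw [Finset.mem_filter, Finset.mem_Ico] at hm
      obtain ⟨⟨hm1, hm2⟩, hmg⟩ := hm
      rw [Finset.mem_insert]
      by_cases hm1' : m = 1
      · exact Or.inl hm1'
      · right
        obtain ⟨j, rfl⟩ : ∃ j, m = j + 1 := ⟨m - 1, by omega⟩
        have hj1 : 1 ≤ j := by omega
        have hmg' : IsGap P ((j : ℤ) + 1) := by
          push_cast at hmg
          exact hmg
        obtain ⟨i, hi⟩ := (hgap j hj1).mpr hmg'
        rw [Finset.mem_image]
        refine ⟨i, ?_, by rw [hi]⟩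
        rw [Finset.mem_Iio]
        rw [← hmono.lt_iff_lt]
        omega
    refine (Finset.card_le_card hsub).trans ?_
    refine (Finset.card_insert_le _ _).trans ?_
    have := Finset.card_image_le (s := Finset.Iio l) (f := fun i : Fin n => J' i + 1)
    rw [Fin.card_Iio] at this
    omega
  have h3 : J' l + 1 - 1 = J' l := by omega
  rw [h3] at h1
  refine h1.trans ?_
  calc 2 * _ ≤ 2 * ((l : ℕ) + 1) := Nat.mul_le_mul_left 2 (by convert h2)
    _ = 2 * (l : ℕ) + 2 := by ring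

theorem order_ge (J' : Fin n → ℕ) (hmono : StrictMono J') (hpos : ∀ l, 1 ≤ J' l) (l : Fin n) :
    (l : ℕ) + 1 ≤ J' l := by
  have := strictMono_add_le hmono 1 (fun h => hpos ⟨0, h⟩) l
  omega

theorem weight_bound (P : Place k K) (J' : Fin n → ℕ) (hmono : StrictMono J')
    (hpos : ∀ l, 1 ≤ J' l)
    (hgap : ∀ j : ℕ, 1 ≤ j → (j ∈ Set.range J' ↔ IsGap P ((j : ℤ) + 1))) :
    (∑ l : Fin n, ((J' l : ℤ) - ((l : ℕ) + 1))) ≤ ∑ l : Fin n, (((l : ℕ) : ℤ) + 1) ∧
    ((∑ l : Fin n, ((J' l : ℤ) - ((l : ℕ) + 1))) = ∑ l : Fin n, (((l : ℕ) : ℤ) + 1) → 0 < n →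
      ¬ IsGap P 2) := by
  have hle : ∀ l ∈ (Finset.univ : Finset (Fin n)),
      ((J' l : ℤ) - ((l : ℕ) + 1)) ≤ (((l : ℕ) : ℤ) + 1) := by
    intro l _
    have := order_le P J' hmono hpos hgap l
    have h2 : (J' l : ℤ) ≤ 2 * ((l : ℕ) : ℤ) + 2 := by exact_mod_cast this
    linarith
  refine ⟨Finset.sum_le_sum hle, ?_⟩
  intro heq hn
  have h0 := (Finset.sum_eq_sum_iff_of_le hle).mp heq ⟨0, hn⟩ (Finset.mem_univ _)
  have hJ0 : J' ⟨0, hn⟩ = 2 := by
    simp only at h0
    have : (J' ⟨0, hn⟩ : ℤ) = 2 := by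
      push_cast at h0
      linarith
    exact_mod_cast this
  intro hg2
  have h2 : IsGap P (((1 : ℕ) : ℤ) + 1) := by
    norm_num
    exact hg2
  obtain ⟨i, hi⟩ := (hgap 1 le_rfl).mpr h2
  have := hmono.monotone (show (⟨0, hn⟩ : Fin n) ≤ i from Nat.zero_le _)
  omega

theorem weight_nonneg (J' : Fin n → ℕ) (hmono : StrictMono J') (hpos : ∀ l, 1 ≤ J' l) :
    0 ≤ ∑ l : Fin n, ((J' l : ℤ) - ((l : ℕ) + 1)) := by
  apply Finset.sum_nonneg
  intro l _
  have := order_ge J' hmono hpos l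
  have h2 : (((l : ℕ) : ℤ) + 1) ≤ (J' l : ℤ) := by exact_mod_cast this
  linarith

theorem weight_eq_zero_iff (P : Place k K) (J' : Fin n → ℕ) (hmono : StrictMono J')
    (hpos : ∀ l, 1 ≤ J' l)
    (hgap : ∀ j : ℕ, 1 ≤ j → (j ∈ Set.range J' ↔ IsGap P ((j : ℤ) + 1))) :
    (∑ l : Fin n, ((J' l : ℤ) - ((l : ℕ) + 1))) = 0 ↔
      ∀ j : ℕ, 1 ≤ j → j ≤ n → IsGap P ((j : ℤ) + 1) := by
  have hnn : ∀ l ∈ (Finset.univ : Finset (Fin n)), 0 ≤ ((J' l : ℤ) - ((l : ℕ) + 1)) := by
    intro l _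
    have := order_ge J' hmono hpos l
    have h2 : (((l : ℕ) : ℤ) + 1) ≤ (J' l : ℤ) := by exact_mod_cast this
    linarith
  constructor
  · intro h0 j hj1 hjn
    have h1 := (Finset.sum_eq_zero_iff_of_nonneg hnn).mp h0 ⟨j - 1, by omega⟩ (Finset.mem_univ _)
    simp only at h1
    have h2 : J' ⟨j - 1, by omega⟩ = j := by
      have : (J' ⟨j - 1, by omega⟩ : ℤ) = ((j - 1 : ℕ) : ℤ) + 1 := by linarith
      have h3 : (J' ⟨j - 1, by omega⟩ : ℤ) = ((j - 1 + 1 : ℕ) : ℤ) := by
        rw [this]; push_cast; ring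
      have h4 : J' ⟨j - 1, by omega⟩ = j - 1 + 1 := by exact_mod_cast h3
      omega
    exact (hgap j hj1).mp ⟨_, h2⟩
  · intro hall
    apply Finset.sum_eq_zero
    intro l _
    have key : ∀ m : ℕ, ∀ hm : m < n, J' ⟨m, hm⟩ = m + 1 := by
      intro m
      induction m using Nat.strong_induction_on with
      | _ m ih =>
        intro hm
        have hge := order_ge J' hmono hpos ⟨m, hm⟩
        simp only at hge
        by_contra hne
        have hgt : m + 1 < J' ⟨m, hm⟩ := by omega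
        obtain ⟨i, hi⟩ := (hgap (m + 1) (by omega)).mpr (by
          have := hall (m + 1) (by omega) (by omega)
          exact this)
        rcases lt_trichotomy i.val m with hlt | heq | hgt'
        · have := ih i.val hlt i.isLt
          have h5 : (⟨i.val, i.isLt⟩ : Fin n) = i := rfl
          rw [h5] at this
          omega
        · have h5 : i = ⟨m, hm⟩ := Fin.ext heq
          rw [h5] at hi
          omega
        · have := hmono (show (⟨m, hm⟩ : Fin n) < i from hgt')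
          omega
    have := key l.val l.isLt
    have h5 : (⟨l.val, l.isLt⟩ : Fin n) = l := rfl
    rw [h5] at this
    rw [this]
    push_cast
    ring

end Groth.Agent.Helper16.WP
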