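import Groth.Agent.H16.WP3
import Groth.Agent.S12603
set_option autoImplicit false
set_option linter.unusedSimpArgs false

/-! Weierstrass points of the canonical map: counting. -/

namespace Groth.Agent.Helper16.WP

open FunFld Module Groth.Agent.Helper17.FF Groth.Agent.Helper16.Emb Groth.Agent.Helper16.Hasse

variable {k K : Type*} [Field k] [Field K] [Algebra k K] {n : ℕ}

/-- the canonical linear system has no base points -/
theorem exists_mem_L_val_eq [IsAlgClosed k] (hK : IsFunctionField k K) (hg : 1 ≤ genus k K)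
    (C : Divisor k K) (hC : IsCanonical k K C) (P : Place k K) :
    ∃ f ∈ L C, P.1 f = WithZero.exp (C P) := by
  classical
  by_contra hcon
  push Not at hcon
  have hdP : P.deg = 1 := deg_eq_one_of_isAlgClosed hK P
  have hle : L C ≤ L (C - Finsupp.single P 1) := by
    intro f hf R
    by_cases hR : R = P
    · subst hR
      rw [Finsupp.sub_apply, Finsupp.single_eq_same]
      by_cases hf0 : f = 0
      · rw [hf0, map_zero]; exact zero_le'
      · have h1 := hf R
        have h2 := hcon f hf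
        rw [val_le_exp_iff R hf0] at h1 ⊢
        rw [val_eq_exp_neg_ord R hf0] at h2
        have h3 : -R.ord f ≠ C R := fun h => h2 (by rw [h])
        omega
    · rw [Finsupp.sub_apply, Finsupp.single_eq_of_ne (Ne.symm (Ne.symm hR)), sub_zero]
      exact hf R
  have := L_finite hK (C - Finsupp.single P 1)
  have h2 : ell C ≤ ell (C - Finsupp.single P 1) := Submodule.finrank_mono hle
  have h3 := riemann_roch hK hC (Finsupp.single P 1)
  rw [deg_single, hdP] at h3
  obtain ⟨hellC, -⟩ := (isCanonical_iff hK C).mp hC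
  have h6 : 2 ≤ ell (Finsupp.single P 1 : Divisor k K) := by
    have : (2 : ℤ) ≤ (ell (Finsupp.single P 1 : Divisor k K) : ℤ) := by
      have h7 : (genus k K : ℤ) ≤ (ell (C - Finsupp.single P 1) : ℤ) := by
        rw [← hellC]; exact_mod_cast h2
      push_cast at h3 ⊢
      linarith
    exact_mod_cast this
  have hg0 := genus_eq_zero_of_ell_single hK hdP h6
  omega

theorem mapDiv_eq_canonical [IsAlgClosed k] (hK : IsFunctionField k K) (hg : 1 ≤ genus k K)
    (C : Divisor k K) (hC : IsCanonical k K C) (φ : Fin (n + 1) → K)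
    (hφ : LinearIndependent k φ) (hspan : Submodule.span k (Set.range φ) = L C) :
    mapDiv k φ = C := by
  have hφ0 : ∀ i, φ i ≠ 0 := fun i => hφ.ne_zero i
  have hmem : ∀ i, φ i ∈ L C := fun i => by
    rw [← hspan]; exact Submodule.subset_span ⟨i, rfl⟩
  apply le_antisymm (mapDiv_le_of_mem_L hK C φ hφ0 hmem)
  intro P
  obtain ⟨f, hf, hfP⟩ := exists_mem_L_val_eq hK hg C hC P
  have h1 : f ∈ L (mapDiv k φ) := span_le_L_mapDiv hK φ hφ0 (by rw [hspan]; exact hf)
  have h2 := h1 P
  rw [hfP, WithZero.exp_le_exp] at h2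
  exact h2

theorem card_eq_genus [IsAlgClosed k] (hK : IsFunctionField k K)
    (C : Divisor k K) (hC : IsCanonical k K C) (φ : Fin (n + 1) → K)
    (hφ : LinearIndependent k φ) (hspan : Submodule.span k (Set.range φ) = L C) :
    n + 1 = genus k K := by
  obtain ⟨hellC, -⟩ := (isCanonical_iff hK C).mp hC
  have h1 := finrank_span_eq_card hφ
  rw [hspan] at h1
  unfold ell at hellC
  rw [← hellC, h1]
  simp

theorem sum_succ (n : ℕ) : (∑ l : Fin n, (((l : ℕ) : ℤ) + 1)) * 2 = (n : ℤ) ^ 2 + n := by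
  rw [Finset.sum_add_distrib, add_mul, two_mul_sum_fin]
  simp
  ring

theorem count [IsAlgClosed k] (hK : IsFunctionField k K)
    (hg : 1 < genus k K) (hchar : ringChar k = 0 ∨ 2 * genus k K - 2 < ringChar k)
    (C : Divisor k K) (hC : IsCanonical k K C)
    (φ : Fin (n + 1) → K) (hφ : LinearIndependent k φ)
    (hspan : Submodule.span k (Set.range φ) = L C)
    (s : K) (H : K →ₐ[k] PowerSeries K) (hH : LocRes.IsHasseFamily s H)
    (J : Fin n → ℕ) (hJ : IsOrders K (hcol (AlgHom.id k K) H φ) J)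
    (Φ : Place k K → (K →ₐ[k] LaurentSeries k))
    (hΦ : ∀ P : Place k K, LocRes.IsExpansionAt P.1 (Φ P)) :
    2 * genus k K + 2 ≤ (wDiv (AlgHom.id k K) H Φ s φ J).support.card ∧
    ((wDiv (AlgHom.id k K) H Φ s φ J).support.card = 2 * genus k K + 2 →
      ∀ P ∈ (wDiv (AlgHom.id k K) H Φ s φ J).support, ¬ IsGap P 2) := by
  classical
  obtain ⟨D, hD⟩ : ∃ D, D = wDiv (AlgHom.id k K) H Φ s φ J := ⟨_, rfl⟩
  rw [← hD]
  have hn := card_eq_genus hK C hC φ hφ hspan
  have hmem : ∀ i, φ i ∈ L C := fun i => by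
    rw [← hspan]; exact Submodule.subset_span ⟨i, rfl⟩
  have hJcl := orders_classical hK hchar hg C hC φ hφ hmem s H hH
  have hJeq : J = fun l : Fin n => (l : ℕ) + 1 := isOrders_unique _ hJ hJcl
  obtain ⟨-, hdeg⟩ := Groth.Agent.S12603.result k K hK φ hφ (AlgHom.id k K) s H hH J hJ Φ hΦ
  rw [← hD] at hdeg
  have hfr : finrank (AlgHom.id k K).fieldRange K = 1 := by
    have : (AlgHom.id k K).fieldRange = ⊤ := by
      rw [AlgHom.fieldRange_eq_top]
      exact Function.surjective_id
    rw [this, IntermediateField.finrank_top]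
  obtain ⟨-, hdegC⟩ := (isCanonical_iff hK C).mp hC
  rw [hfr, mapDiv_eq_canonical hK hg.le C hC φ hφ hspan, hdegC] at hdeg
  have hsumJ : (∑ l, (J l : ℤ)) = ∑ l : Fin n, (((l : ℕ) : ℤ) + 1) := by
    rw [hJeq]
    refine Finset.sum_congr rfl fun l _ => ?_
    push_cast
    rfl
  rw [hsumJ] at hdeg
  obtain ⟨M, hM⟩ : ∃ M : ℤ, M = ∑ l : Fin n, (((l : ℕ) : ℤ) + 1) := ⟨_, rfl⟩
  rw [← hM] at hdeg
  have hM2 : M * 2 = (n : ℤ) ^ 2 + n := by rw [hM]; exact sum_succ n
  have hgn : (genus k K : ℤ) = n + 1 := by rw [← hn]; push_cast; ring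
  -- weights
  have hw : ∀ P : Place k K, D P ≤ M ∧ (D P = M → ¬ IsGap P 2) := by
    intro P
    obtain ⟨J', hmono, hpos, hgap, hwt⟩ := weight_formula hK hg hchar C hC φ hφ hspan s H hH J hJ Φ hΦ P
    rw [← hD] at hwt
    obtain ⟨hb1, hb2⟩ := weight_bound P J' hmono hpos hgap
    rw [hwt, hM]
    refine ⟨hb1, fun h => hb2 h ?_⟩
    omega
  have hdegD : D.deg = ∑ P ∈ D.support, D P := by
    unfold Divisor.deg Finsupp.sum
    refine Finset.sum_congr rfl fun P _ => ?_
    show D P * (P.deg : ℤ) = D P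
    rw [deg_eq_one_of_isAlgClosed hK P]
    simp
  have hle : D.deg ≤ D.support.card * M := by
    rw [hdegD]
    calc ∑ P ∈ D.support, D P ≤ ∑ P ∈ D.support, M := Finset.sum_le_sum fun P _ => (hw P).1
      _ = D.support.card * M := by rw [Finset.sum_const, nsmul_eq_mul]
  have hn1 : (1 : ℤ) ≤ n := by
    have : 1 ≤ n := by omega
    exact_mod_cast this
  have hMpos : 0 < M * 2 := by rw [hM2]; positivity
  have hdeg2 : D.deg * 2 = (2 * ((n : ℤ) + 2)) * (M * 2) := by
    rw [hdeg, hM2, hgn]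
    push_cast
    linear_combination (2 * (n : ℤ)) * hM2
  have hcard : (2 * ((n : ℤ) + 2)) ≤ (D.support.card : ℤ) := by
    have h1 : (2 * ((n : ℤ) + 2)) * (M * 2) ≤ (D.support.card : ℤ) * (M * 2) := by
      rw [← hdeg2]
      nlinarith
    exact le_of_mul_le_mul_right h1 hMpos
  constructor
  · have : ((2 * genus k K + 2 : ℕ) : ℤ) ≤ (D.support.card : ℤ) := by
      push_cast
      rw [hgn]
      linarith
    exact_mod_cast this
  · intro hN P hP
    apply (hw P).2
    by_contra hne
    have hlt : D P < M := lt_of_le_of_ne (hw P).1 hne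
    have hlt2 : D.deg < D.support.card * M := by
      rw [hdegD]
      calc ∑ P ∈ D.support, D P < ∑ P ∈ D.support, M :=
            Finset.sum_lt_sum (fun P _ => (hw P).1) ⟨P, hP, hlt⟩
        _ = D.support.card * M := by rw [Finset.sum_const, nsmul_eq_mul]
    have hN' : (D.support.card : ℤ) = 2 * ((n : ℤ) + 2) := by
      rw [hN]
      push_cast
      rw [hgn]
      ring
    rw [hN'] at hlt2
    nlinarith

end Groth.Agent.Helper16.WP
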