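import Groth.Agent.H16.WP4
import Groth.Agent.Lib.Helper17.FFHU
set_option autoImplicit false
set_option linter.unusedSimpArgs false

/-! Weierstrass points: the hyperelliptic case. -/

namespace Groth.Agent.Helper16.WP

open FunFld Module Groth.Agent.Helper17.FF Groth.Agent.Helper16.Emb Groth.Agent.Helper16.Hasse

variable {k K : Type*} [Field k] [Field K] [Algebra k K] {n : ℕ}

theorem isGap_one [IsAlgClosed k] (hK : IsFunctionField k K) (hg : 2 ≤ genus k K)
    (P : Place k K) : IsGap P 1 := by
  classical
  have hdP : P.deg = 1 := deg_eq_one_of_isAlgClosed hK P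
  have h1 := clifford_single hK hdP 1 (by
    have : (2 : ℤ) ≤ (genus k K : ℤ) := by exact_mod_cast hg
    push_cast; linarith)
  have h2 : ell (Finsupp.single P ((1 : ℕ) : ℤ) : Divisor k K) ≤ 1 := by omega
  unfold IsGap
  have h0 : (Finsupp.single P ((1 : ℤ) - 1) : Divisor k K) = 0 := by simp
  rw [h0]
  symm
  have := L_finite hK (Finsupp.single P (1 : ℤ) : Divisor k K)
  apply Submodule.eq_of_le_of_finrank_le
  · apply L_mono
    intro Q
    rw [Finsupp.single_apply]
    split_ifs <;> simp
  · rw [(L_zero_finite hK).2]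
    unfold ell at h2
    exact_mod_cast h2

theorem not_mem_range_of_ord_neg (P : Place k K) {x : K} (h : P.ord x < 0) :
    x ∉ Set.range (algebraMap k K) := by
  rintro ⟨c, rfl⟩
  rw [ord_const] at h
  exact lt_irrefl _ h

theorem finrank_of_double_pole [IsAlgClosed k] (hK : IsFunctionField k K) (P : Place k K)
    {x : K} (hx0 : x ≠ 0) (hP : P.ord x = -2) (hQ : ∀ Q : Place k K, Q ≠ P → 0 ≤ Q.ord x) :
    finrank (IntermediateField.adjoin k ({x} : Set K)) K = 2 := by
  classical
  have hxk : x ∉ Set.range (algebraMap k K) := not_mem_range_of_ord_neg P (by rw [hP]; norm_num)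
  have hxt := transcendental_of_not_mem hK hxk
  have h1 := deg_poles hK hxt
  have h2 : ((-FunFld.div k x) ⊔ 0 : Divisor k K) = Finsupp.single P 2 := by
    ext Q
    rw [Finsupp.sup_apply, Finsupp.neg_apply, div_apply hK, Finsupp.zero_apply,
      Finsupp.single_apply]
    by_cases hQP : Q = P
    · subst hQP
      rw [if_pos rfl, hP]
      norm_num
    · rw [if_neg (Ne.symm hQP)]
      have := hQ Q hQP
      exact max_eq_right (by omega)
  rw [h2, deg_single, deg_eq_one_of_isAlgClosed hK P] at h1
  have : ((finrank (IntermediateField.adjoin k ({x} : Set K)) K : ℕ) : ℤ) = ((2 : ℕ) : ℤ) := by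
    rw [← h1]; norm_num
  exact_mod_cast this

theorem fixes_of_mem_adjoin (σ : K ≃ₐ[k] K) {x z : K} (hx : σ x = x)
    (hz : z ∈ IntermediateField.adjoin k ({x} : Set K)) : σ z = z := by
  rw [IntermediateField.mem_adjoin_simple_iff] at hz
  obtain ⟨r, s, rfl⟩ := hz
  rw [map_div₀]
  have h1 : ∀ p : Polynomial k, σ (Polynomial.aeval x p) = Polynomial.aeval x p := by
    intro p
    have := Polynomial.aeval_algHom_apply (σ : K →ₐ[k] K) x p
    have h2 : (σ : K →ₐ[k] K) x = x := hx
    rw [h2] at this
    exact this.symm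
  rw [h1, h1]

theorem comapPlace_injective (σ : K ≃ₐ[k] K) {P Q : Place k K}
    (h : comapPlace σ P = comapPlace σ Q) : P = Q := by
  have := congrArg (comapPlace σ.symm) h
  rwa [comapPlace_symm', comapPlace_symm'] at this

theorem isFixedPt_iff_comapPlace (σ : K ≃ₐ[k] K) (P : Place k K) :
    IsFixedPt (σ : K →ₐ[k] K) P ↔ comapPlace σ P = P := by
  constructor
  · intro h
    exact comapPlace_eq_of_fixed σ P (fun x hx => h x hx)
  · intro h z hz
    have : (comapPlace σ P).1 z = P.1 z := by rw [h]
    rw [comapPlace_apply] at this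
    show P.1 (σ z) < 1
    rw [this]
    exact hz

end Groth.Agent.Helper16.WP
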