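import Groth.Agent.H16.WP5
set_option autoImplicit false
set_option linter.unusedSimpArgs false

/-! Weierstrass points: the hyperelliptic case, main lemma. -/

namespace Groth.Agent.Helper16.WP

open FunFld Module Groth.Agent.Helper17.FF Groth.Agent.Helper16.Emb Groth.Agent.Helper16.Hasse

variable {k K : Type*} [Field k] [Field K] [Algebra k K] {n : ℕ}

theorem finrank_of_double_pole' [IsAlgClosed k] (hK : IsFunctionField k K) (P : Place k K)
    {x : K} (hP : P.1 x = WithZero.exp (2 : ℤ)) (hQ : ∀ Q : Place k K, Q ≠ P → Q.1 x ≤ 1) :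
    finrank (IntermediateField.adjoin k ({x} : Set K)) K = 2 := by
  have hx0 : x ≠ 0 := by
    rintro rfl
    rw [map_zero] at hP
    exact WithZero.exp_ne_zero hP.symm
  apply finrank_of_double_pole hK P hx0
  · rw [val_eq_exp_neg_ord P hx0] at hP
    have := WithZero.exp_injective hP
    omega
  · intro Q hQP
    exact (ord_nonneg_iff Q hx0).mpr (hQ Q hQP)

theorem hyperelliptic_fixed_imp [IsAlgClosed k] (hK : IsFunctionField k K)
    (hg : 2 ≤ genus k K) (S : Finset (Place k K)) (hS : 4 ≤ S.card)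
    (P₀ : Place k K) (hP₀ : P₀ ∈ S) {x : K} (hxP : P₀.1 x = WithZero.exp (2 : ℤ))
    (hxQ : ∀ Q : Place k K, Q ≠ P₀ → Q.1 x ≤ 1) (σ : K ≃ₐ[k] K)
    (hfix : ∀ P ∈ S, comapPlace σ P = P) : σ x = x := by
  classical
  have hx0 : x ≠ 0 := by
    rintro rfl
    rw [map_zero] at hxP
    exact WithZero.exp_ne_zero hxP.symm
  have hcP₀ : comapPlace σ P₀ = P₀ := hfix P₀ hP₀
  have hσx0 : σ x ≠ 0 := (map_ne_zero σ).mpr hx0
  have hσP : P₀.1 (σ x) = WithZero.exp (2 : ℤ) := by
    have := comapPlace_apply σ P₀ x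
    rw [hcP₀] at this
    rw [← this]; exact hxP
  have hσQ : ∀ Q : Place k K, Q ≠ P₀ → Q.1 (σ x) ≤ 1 := by
    intro Q hQ
    have h1 : comapPlace σ Q ≠ P₀ := fun h => hQ (comapPlace_injective σ (h.trans hcP₀.symm))
    have := hxQ _ h1
    rwa [comapPlace_apply] at this
  -- the constant `a`
  have hval : P₀.1 (σ x / x) = 1 := by
    rw [map_div₀, hσP, hxP]
    exact div_self WithZero.exp_ne_zero
  obtain ⟨a, ha⟩ := Groth.Agent.Helper17.FF.exists_const_sub_lt hK P₀ (le_of_eq hval)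
  obtain ⟨w, hwdef⟩ : ∃ w, w = σ x - algebraMap k K a * x := ⟨_, rfl⟩
  have hw : w = x * (σ x / x - algebraMap k K a) := by
    rw [hwdef]; field_simp
  have hwL : w ∈ L (Finsupp.single P₀ (1 : ℤ) : Divisor k K) := by
    rw [mem_L_single]
    constructor
    · by_cases hu0 : σ x / x - algebraMap k K a = 0
      · rw [hw, hu0, mul_zero, map_zero]; exact zero_le'
      · have hw0 : w ≠ 0 := by rw [hw]; exact mul_ne_zero hx0 hu0
        rw [val_le_exp_iff P₀ hw0, hw, ord_mul P₀ hx0 hu0]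
        have h1 : 0 < P₀.ord (σ x / x - algebraMap k K a) := (ord_pos_iff P₀ hu0).mpr ha
        have h2 : P₀.ord x = -2 := by
          rw [val_eq_exp_neg_ord P₀ hx0] at hxP
          have := WithZero.exp_injective hxP
          omega
        omega
    · intro Q hQ
      rw [hwdef]
      apply Valuation.map_sub_le Q.1 (hσQ Q hQ)
      rw [map_mul]
      exact mul_le_one' (Q.2.1 a) (hxQ Q hQ)
  have hgap1 := isGap_one hK hg P₀
  unfold IsGap at hgap1
  rw [hgap1] at hwL
  have h0 : (Finsupp.single P₀ ((1 : ℤ) - 1) : Divisor k K) = 0 := by simp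
  rw [h0, L_zero hK, Submodule.mem_one] at hwL
  obtain ⟨b, hb⟩ := hwL
  have hσx : σ x = algebraMap k K a * x + algebraMap k K b := by
    rw [hb, hwdef]; ring
  -- two further points
  have hcard : 3 ≤ (S.erase P₀).card := by
    rw [Finset.card_erase_of_mem hP₀]; omega
  obtain ⟨Q₁, hQ₁⟩ : ∃ Q₁, Q₁ ∈ S.erase P₀ := Finset.card_pos.mp (by omega)
  have hQ₁' := Finset.mem_erase.mp hQ₁
  obtain ⟨c₁, hc₁⟩ := Groth.Agent.Helper17.FF.exists_const_sub_lt hK Q₁ (hxQ Q₁ hQ₁'.1)
  obtain ⟨Z, hZ⟩ : ∃ Z : Finset (Place k K),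
      Z = (S.erase P₀).filter (fun Q => Q.1 (x - algebraMap k K c₁) < 1) := ⟨_, rfl⟩
  have hZcard : Z.card ≤ 2 := by
    have hPc : P₀.1 (x - algebraMap k K c₁) = WithZero.exp (2 : ℤ) := by
      rw [Valuation.map_sub_eq_of_lt_left, hxP]
      rw [hxP]
      refine lt_of_le_of_lt (P₀.2.1 c₁) ?_
      rw [← WithZero.exp_zero, WithZero.exp_lt_exp]
      norm_num
    have hQc : ∀ Q : Place k K, Q ≠ P₀ → Q.1 (x - algebraMap k K c₁) ≤ 1 := fun Q hQ =>
      Valuation.map_sub_le Q.1 (hxQ Q hQ) (Q.2.1 c₁)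
    have hfr := finrank_of_double_pole' hK P₀ hPc hQc
    have hnk : x - algebraMap k K c₁ ∉ Set.range (algebraMap k K) := by
      rintro ⟨d, hd⟩
      have := P₀.2.1 d
      rw [hd, hPc, ← WithZero.exp_zero, WithZero.exp_le_exp] at this
      omega
    have := card_zeros_le hK hnk Z (fun P hP => by
      rw [hZ] at hP
      exact (Finset.mem_filter.mp hP).2)
    omega
  obtain ⟨Q₂, hQ₂, hQ₂Z⟩ := Finset.exists_mem_notMem_of_card_lt_card
    (show Z.card < (S.erase P₀).card by omega)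
  have hQ₂' := Finset.mem_erase.mp hQ₂
  obtain ⟨c₂, hc₂⟩ := Groth.Agent.Helper17.FF.exists_const_sub_lt hK Q₂ (hxQ Q₂ hQ₂'.1)
  have hc12 : c₁ ≠ c₂ := by
    intro h
    apply hQ₂Z
    rw [hZ, Finset.mem_filter]
    exact ⟨hQ₂, by rw [h]; exact hc₂⟩
  -- the fixed-point conditions
  have hkey : ∀ (Q : Place k K) (c : k), Q ∈ S → Q.1 (x - algebraMap k K c) < 1 →
      b - c + a * c = 0 := by
    intro Q c hQ hc
    have h1 : Q.1 (σ (x - algebraMap k K c)) < 1 := by
      have := comapPlace_apply σ Q (x - algebraMap k K c)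
      rw [hfix Q hQ] at this
      rw [← this]; exact hc
    rw [map_sub, AlgEquiv.commutes, hσx] at h1
    have h2 : Q.1 (algebraMap k K a * (x - algebraMap k K c)) < 1 := by
      rw [map_mul]
      exact lt_of_le_of_lt (mul_le_of_le_one_left' (Q.2.1 a)) hc
    have h3 := Valuation.map_sub_lt Q.1 h1 h2
    have h4 : algebraMap k K a * x + algebraMap k K b - algebraMap k K c -
        algebraMap k K a * (x - algebraMap k K c) = algebraMap k K (b - c + a * c) := by
      rw [map_add, map_sub, map_mul]; ring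
    rw [h4] at h3
    by_contra hne
    rw [val_const Q hne] at h3
    exact lt_irrefl _ h3
  have e1 := hkey Q₁ c₁ hQ₁'.2 hc₁
  have e2 := hkey Q₂ c₂ hQ₂'.2 hc₂
  have ha1 : a = 1 := by
    have h5 : (a - 1) * (c₁ - c₂) = 0 := by linear_combination e1 - e2
    rcases mul_eq_zero.mp h5 with h | h
    · exact sub_eq_zero.mp h
    · exact absurd (sub_eq_zero.mp h) hc12
  have hb0 : b = 0 := by
    rw [ha1] at e1
    linear_combination e1
  rw [hσx, ha1, hb0, map_one, map_zero, one_mul, add_zero]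

end Groth.Agent.Helper16.WP
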