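import Groth.Agent.H16.WP6
set_option autoImplicit false
set_option linter.unusedSimpArgs false

/-! Weierstrass points: the dichotomy. -/

namespace Groth.Agent.Helper16.WP

open FunFld Module Groth.Agent.Helper17.FF Groth.Agent.Helper16.Emb Groth.Agent.Helper16.Hasse

variable {k K : Type*} [Field k] [Field K] [Algebra k K] {n : ℕ}

theorem hyperelliptic_case [IsAlgClosed k] (hK : IsFunctionField k K)
    (hg : 2 ≤ genus k K) (S : Finset (Place k K)) (hS : 4 ≤ S.card)
    (hgap : ∀ P ∈ S, ¬ IsGap P 2) :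
    ∃ x : K, finrank (IntermediateField.adjoin k ({x} : Set K)) K = 2 ∧
      ∀ σ : K ≃ₐ[k] K, (∀ P ∈ S, IsFixedPt (σ : K →ₐ[k] K) P) ↔ σ x = x := by
  classical
  obtain ⟨P₀, hP₀⟩ : ∃ P₀, P₀ ∈ S := Finset.card_pos.mp (by omega)
  obtain ⟨x, hx0, hxP, hxQ⟩ := (not_isGap_iff P₀ 2).mp (hgap P₀ hP₀)
  have hfr := finrank_of_double_pole hK P₀ hx0 hxP hxQ
  refine ⟨x, hfr, fun σ => ⟨fun hfix => ?_, fun hσx P hP => ?_⟩⟩
  · have hxP' : P₀.1 x = WithZero.exp (2 : ℤ) := by
      rw [val_eq_exp_neg_ord P₀ hx0, hxP]; norm_num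
    have hxQ' : ∀ Q : Place k K, Q ≠ P₀ → Q.1 x ≤ 1 := fun Q hQ =>
      (ord_nonneg_iff Q hx0).mp (hxQ Q hQ)
    exact hyperelliptic_fixed_imp hK hg S hS P₀ hP₀ hxP' hxQ' σ
      (fun P hP => (isFixedPt_iff_comapPlace σ P).mp (hfix P hP))
  · obtain ⟨z, hz0, hzP, hzQ⟩ := (not_isGap_iff P 2).mp (hgap P hP)
    have hfrz := finrank_of_double_pole hK P hz0 hzP hzQ
    have heq := rational_index_two_unique hK hg x z hfr hfrz
    have hzmem : z ∈ IntermediateField.adjoin k ({x} : Set K) := by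
      rw [heq]; exact IntermediateField.mem_adjoin_simple_self k z
    have hσz := fixes_of_mem_adjoin σ hσx hzmem
    rw [isFixedPt_iff_comapPlace]
    by_contra hne
    have := hzQ (comapPlace σ P) hne
    rw [comapPlace_ord, hσz, hzP] at this
    omega

theorem dichotomy [IsAlgClosed k] (hK : IsFunctionField k K)
    (hg : 1 < genus k K) (hchar : ringChar k = 0 ∨ 2 * genus k K - 2 < ringChar k)
    (C : Divisor k K) (hC : IsCanonical k K C)
    (φ : Fin (n + 1) → K) (hφ : LinearIndependent k φ)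
    (hspan : Submodule.span k (Set.range φ) = L C)
    (s : K) (H : K →ₐ[k] PowerSeries K) (hH : LocRes.IsHasseFamily s H)
    (J : Fin n → ℕ) (hJ : IsOrders K (hcol (AlgHom.id k K) H φ) J)
    (Φ : Place k K → (K →ₐ[k] LaurentSeries k))
    (hΦ : ∀ P : Place k K, LocRes.IsExpansionAt P.1 (Φ P)) :
    (2 * genus k K + 2 < Set.ncard {P : Place k K | wDiv (AlgHom.id k K) H Φ s φ J P ≠ 0} ∧
      ∀ σ : K ≃ₐ[k] K, (∀ P : Place k K, wDiv (AlgHom.id k K) H Φ s φ J P ≠ 0 →
        IsFixedPt (σ : K →ₐ[k] K) P) → σ = AlgEquiv.refl) ∨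
    (Set.ncard {P : Place k K | wDiv (AlgHom.id k K) H Φ s φ J P ≠ 0} = 2 * genus k K + 2 ∧
      ∃ x : K, finrank (IntermediateField.adjoin k ({x} : Set K)) K = 2 ∧
        ∀ σ : K ≃ₐ[k] K, (∀ P : Place k K, wDiv (AlgHom.id k K) H Φ s φ J P ≠ 0 →
          IsFixedPt (σ : K →ₐ[k] K) P) ↔ σ x = x) := by
  classical
  obtain ⟨hge, heqcase⟩ := count hK hg hchar C hC φ hφ hspan s H hH J hJ Φ hΦ
  obtain ⟨D, hD⟩ : ∃ D, D = wDiv (AlgHom.id k K) H Φ s φ J := ⟨_, rfl⟩
  rw [← hD] at hge heqcase ⊢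
  have hset : {P : Place k K | D P ≠ 0} = ↑D.support := by
    ext P
    simp [Finsupp.mem_support_iff]
  have hncard : Set.ncard {P : Place k K | D P ≠ 0} = D.support.card := by
    rw [hset, Set.ncard_coe_finset]
  rcases hge.lt_or_eq with hlt | heq
  · left
    refine ⟨by rw [hncard]; exact hlt, fun σ hfix => ?_⟩
    have h1 : σ = 1 := by
      apply eq_one_of_many_fixed hK σ
      have hsub : (↑D.support : Set (Place k K)) ⊆
          {P : Place k K | ∀ x : K, P.1 x < 1 → P.1 (σ x) < 1} := fun P hP =>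
        hfix P (Finsupp.mem_support_iff.mp hP)
      calc ((2 * genus k K + 2 : ℕ) : ℕ∞) < (D.support.card : ℕ∞) := by exact_mod_cast hlt
        _ = Set.encard (↑D.support : Set (Place k K)) :=
            (Set.encard_coe_eq_coe_finsetCard _).symm
        _ ≤ _ := Set.encard_le_encard hsub
    exact h1
  · right
    refine ⟨by rw [hncard]; exact heq.symm, ?_⟩
    obtain ⟨x, hfr, hx⟩ := hyperelliptic_case hK hg D.support (by omega) (heqcase heq.symm)
    refine ⟨x, hfr, fun σ => ?_⟩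
    rw [← hx σ]
    constructor
    · intro h P hP; exact h P (Finsupp.mem_support_iff.mp hP)
    · intro h P hP; exact h P (Finsupp.mem_support_iff.mpr hP)

end Groth.Agent.Helper16.WP
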