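import Groth.Agent.H16.WP7
import Groth.Agent.H16.Expn
import Groth.Agent.S12600
set_option autoImplicit false
set_option linter.unusedSimpArgs false

/-! Finiteness of the automorphism group in genus at least two. -/

namespace Groth.Agent.Helper16.WP

open FunFld Module Groth.Agent.Helper17.FF Groth.Agent.Helper16.Emb Groth.Agent.Helper16.Hasse

variable {k K : Type*} [Field k] [Field K] [Algebra k K] {n : ℕ}

theorem mem_L_comapPlace (σ : K ≃ₐ[k] K) (P : Place k K) (m : ℤ) (f : K) :
    f ∈ L (Finsupp.single (comapPlace σ P) m : Divisor k K) ↔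
      σ f ∈ L (Finsupp.single P m : Divisor k K) := by
  rw [mem_L_single, mem_L_single, comapPlace_apply]
  constructor
  · rintro ⟨h1, h2⟩
    refine ⟨h1, fun R hR => ?_⟩
    have h3 : comapPlace σ R ≠ comapPlace σ P := fun h => hR (comapPlace_injective σ h)
    have := h2 _ h3
    rwa [comapPlace_apply] at this
  · rintro ⟨h1, h2⟩
    refine ⟨h1, fun R hR => ?_⟩
    have h3 : comapPlace σ.symm R ≠ P := by
      intro h
      apply hR
      rw [← h, comapPlace_symm]
    have := h2 _ h3
    have h4 : (comapPlace σ (comapPlace σ.symm R)).1 f = R.1 f := by rw [comapPlace_symm]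
    rw [comapPlace_apply] at h4
    rw [← h4]
    exact this

theorem isGap_comapPlace_of (σ : K ≃ₐ[k] K) (P : Place k K) (m : ℤ) (h : IsGap P m) :
    IsGap (comapPlace σ P) m := by
  unfold IsGap at h ⊢
  ext f
  rw [mem_L_comapPlace, mem_L_comapPlace, h]

theorem isGap_comapPlace (σ : K ≃ₐ[k] K) (P : Place k K) (m : ℤ) :
    IsGap (comapPlace σ P) m ↔ IsGap P m := by
  constructor
  · intro h
    have := isGap_comapPlace_of σ.symm (comapPlace σ P) m h
    rwa [comapPlace_symm'] at this
  · exact isGap_comapPlace_of σ P m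

theorem wDiv_eq_zero_iff [IsAlgClosed k] (hK : IsFunctionField k K)
    (hg : 1 < genus k K) (hchar : ringChar k = 0 ∨ 2 * genus k K - 2 < ringChar k)
    (C : Divisor k K) (hC : IsCanonical k K C)
    (φ : Fin (n + 1) → K) (hφ : LinearIndependent k φ)
    (hspan : Submodule.span k (Set.range φ) = L C)
    (s : K) (H : K →ₐ[k] PowerSeries K) (hH : LocRes.IsHasseFamily s H)
    (J : Fin n → ℕ) (hJ : IsOrders K (hcol (AlgHom.id k K) H φ) J)
    (Φ : Place k K → (K →ₐ[k] LaurentSeries k))
    (hΦ : ∀ P : Place k K, LocRes.IsExpansionAt P.1 (Φ P)) (P : Place k K) :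
    wDiv (AlgHom.id k K) H Φ s φ J P = 0 ↔
      ∀ j : ℕ, 1 ≤ j → j ≤ n → IsGap P ((j : ℤ) + 1) := by
  obtain ⟨J', hmono, hpos, hgap, hwt⟩ :=
    weight_formula hK hg hchar C hC φ hφ hspan s H hH J hJ Φ hΦ P
  rw [hwt]
  exact weight_eq_zero_iff P J' hmono hpos hgap

theorem finite_fixing (x : K)
    (hfr : finrank (IntermediateField.adjoin k ({x} : Set K)) K = 2) :
    {σ : K ≃ₐ[k] K | σ x = x}.Finite := by
  haveI : FiniteDimensional (IntermediateField.adjoin k ({x} : Set K)) K :=
    Module.finite_of_finrank_pos (by rw [hfr]; norm_num)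
  let g : {σ : K ≃ₐ[k] K // σ x = x} → (K ≃ₐ[IntermediateField.adjoin k ({x} : Set K)] K) :=
    fun σ => { σ.1.toRingEquiv with
      commutes' := fun r => fixes_of_mem_adjoin σ.1 σ.2 r.2 }
  have hg : Function.Injective g := by
    intro σ τ h
    apply Subtype.ext
    apply AlgEquiv.ext
    intro z
    have := congrArg (fun e : K ≃ₐ[IntermediateField.adjoin k ({x} : Set K)] K => e z) h
    exact this
  have hfin : Finite {σ : K ≃ₐ[k] K // σ x = x} := Finite.of_injective g hg
  exact Set.finite_coe_iff.mp hfin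

end Groth.Agent.Helper16.WP
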