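import Groth.Agent.H16.WP8
set_option autoImplicit false
set_option linter.unusedSimpArgs false

/-! Finiteness of the automorphism group in genus at least two. -/

namespace Groth.Agent.Helper16.WP

open FunFld Module Groth.Agent.Helper17.FF Groth.Agent.Helper16.Emb Groth.Agent.Helper16.Hasse

variable {k K : Type*} [Field k] [Field K] [Algebra k K]

theorem finite_aut [IsAlgClosed k] (hK : IsFunctionField k K)
    (hg : 1 < genus k K) (hchar : ringChar k = 0 ∨ 2 * genus k K - 2 < ringChar k) :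
    Finite (K ≃ₐ[k] K) := by
  classical
  obtain ⟨C, hC⟩ := exists_canonical hK
  obtain ⟨hellC, -⟩ := (isCanonical_iff hK C).mp hC
  obtain ⟨n, hn⟩ : ∃ n, genus k K = n + 1 := ⟨genus k K - 1, by omega⟩
  haveI := L_finite hK C
  have hfr : finrank k (L C) = n + 1 := by
    unfold ell at hellC
    rw [hellC, hn]
  let b := Module.finBasisOfFinrankEq k _ hfr
  obtain ⟨φ, hφdef⟩ : ∃ φ : Fin (n + 1) → K, φ = fun i => (b i : K) := ⟨_, rfl⟩
  have hφ : LinearIndependent k φ := by
    rw [hφdef]
    exact b.linearIndependent.map' (Submodule.subtype _) (Submodule.ker_subtype _)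
  have hspan : Submodule.span k (Set.range φ) = L C := by
    have : (Set.range φ) = (Submodule.subtype _) '' Set.range b := by
      rw [hφdef]
      ext x
      simp
    rw [this, Submodule.span_image, b.span_eq, Submodule.map_subtype_top]
  obtain ⟨P₁⟩ := exists_place hK
  obtain ⟨s, H, -, hH⟩ := exists_hasse_param hK P₁
  obtain ⟨J, hJ, -⟩ := Groth.Agent.S12600.result k K hK φ hφ (AlgHom.id k K) s H hH
  have hΦex : ∀ P : Place k K, ∃ Φ : K →ₐ[k] LaurentSeries k, LocRes.IsExpansionAt P.1 Φ :=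
    fun P => exists_expansion hK H hH P
  choose Φ hΦ using hΦex
  obtain ⟨D, hD⟩ : ∃ D, D = wDiv (AlgHom.id k K) H Φ s φ J := ⟨_, rfl⟩
  have hinv : ∀ (σ : K ≃ₐ[k] K) (P : Place k K), P ∈ D.support →
      comapPlace σ P ∈ D.support := by
    intro σ P hP
    rw [Finsupp.mem_support_iff] at hP ⊢
    rw [hD, Ne, wDiv_eq_zero_iff hK hg hchar C hC φ hφ hspan s H hH J hJ Φ hΦ] at hP ⊢
    intro h
    apply hP
    intro j h1 h2
    exact (isGap_comapPlace σ P _).mp (h j h1 h2)
  have hker : {σ : K ≃ₐ[k] K | ∀ P ∈ D.support, comapPlace σ P = P}.Finite := by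
    rcases dichotomy hK hg hchar C hC φ hφ hspan s H hH J hJ Φ hΦ with ⟨-, h⟩ | ⟨-, x, hfrx, h⟩
    · refine (Set.finite_singleton (AlgEquiv.refl : K ≃ₐ[k] K)).subset ?_
      intro σ hσ
      rw [Set.mem_singleton_iff]
      apply h σ
      intro P hP
      rw [isFixedPt_iff_comapPlace]
      exact hσ P (by rw [Finsupp.mem_support_iff, hD]; exact hP)
    · refine (finite_fixing x hfrx).subset ?_
      intro σ hσ
      show σ x = x
      apply (h σ).mp
      intro P hP
      rw [isFixedPt_iff_comapPlace]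
      exact hσ P (by rw [Finsupp.mem_support_iff, hD]; exact hP)
  let f : (K ≃ₐ[k] K) → (D.support → D.support) :=
    fun σ P => ⟨comapPlace σ P.1, hinv σ P.1 P.2⟩
  rw [← Set.finite_univ_iff]
  apply Set.Finite.of_finite_fibers f (Set.toFinite _)
  intro y hy
  obtain ⟨τ, -, rfl⟩ := hy
  refine (hker.image (fun ρ => ρ * τ)).subset ?_
  intro σ hσ
  have hστ : f σ = f τ := hσ.2
  refine ⟨σ * τ.symm, ?_, ?_⟩
  · intro P hP
    have h1 := congrFun hστ ⟨P, hP⟩
    have h2 : comapPlace σ P = comapPlace τ P := congrArg Subtype.val h1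
    apply Subtype.ext
    apply Valuation.ext
    intro z
    show P.1 ((σ * τ.symm) z) = P.1 z
    rw [AlgEquiv.mul_apply]
    have h3 : (comapPlace σ P).1 (τ.symm z) = (comapPlace τ P).1 (τ.symm z) := by rw [h2]
    rw [comapPlace_apply, comapPlace_apply] at h3
    rw [h3, AlgEquiv.apply_symm_apply]
  · apply AlgEquiv.ext
    intro z
    show ((σ * τ.symm) * τ) z = σ z
    rw [AlgEquiv.mul_apply, AlgEquiv.mul_apply, AlgEquiv.symm_apply_apply]

end Groth.Agent.Helper16.WP
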