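import Mathlib
set_option autoImplicit false

namespace Groth.Agent.Helper16.Wron

open Polynomial

variable {k : Type*} [Field k]

/-- the Euler operator `θ = X · d/dX` -/
noncomputable def theta : k[X] →ₗ[k] k[X] :=
  (LinearMap.mulLeft k (X : k[X])).comp (derivative : k[X] →ₗ[k] k[X])

theorem theta_apply (p : k[X]) : theta p = X * derivative p := rfl

theorem coeff_theta (p : k[X]) (n : ℕ) : (theta p).coeff n = (n : k) * p.coeff n := by
  rw [theta_apply]
  cases n with
  | zero => simp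
  | succ m =>
    rw [coeff_X_mul, coeff_derivative]
    push_cast
    ring

theorem coeff_theta_pow (p : k[X]) (j n : ℕ) :
    ((theta ^ j) p).coeff n = (n : k) ^ j * p.coeff n := by
  induction j generalizing p with
  | zero => simp
  | succ j ih =>
    rw [pow_succ, Module.End.mul_apply, ih, coeff_theta]
    ring

theorem natDegree_theta_pow_le (p : k[X]) (j : ℕ) : ((theta ^ j) p).natDegree ≤ p.natDegree := by
  rw [natDegree_le_iff_coeff_eq_zero]
  intro N hN
  rw [coeff_theta_pow, coeff_eq_zero_of_natDegree_lt hN, mul_zero]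

theorem dvd_theta_pow (c : k) (p : k[X]) (m j : ℕ) (h : (X - C c) ^ m ∣ p) :
    (X - C c) ^ (m - j) ∣ (theta ^ j) p := by
  induction j generalizing p m with
  | zero => simpa using h
  | succ j ih =>
    rw [pow_succ, Module.End.mul_apply]
    have h1 : (X - C c) ^ (m - 1) ∣ theta p := by
      rw [theta_apply]
      exact Dvd.dvd.mul_left (pow_sub_one_dvd_derivative_of_pow_dvd h) _
    have := ih (theta p) (m - 1) h1
    rwa [Nat.sub_sub, add_comm] at this

theorem X_pow_dvd_theta_pow (p : k[X]) (m j : ℕ) (h : X ^ m ∣ p) : X ^ m ∣ (theta ^ j) p := by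
  rw [X_pow_dvd_iff] at h ⊢
  intro d hd
  rw [coeff_theta_pow, h d hd, mul_zero]

/-- coefficient of a product at the sum of degree bounds -/
theorem coeff_prod_of_natDegree_le' {ι : Type*} (s : Finset ι) (f : ι → k[X]) (n : ι → ℕ)
    (h : ∀ i ∈ s, (f i).natDegree ≤ n i) :
    (∏ i ∈ s, f i).natDegree ≤ ∑ i ∈ s, n i ∧
    (∏ i ∈ s, f i).coeff (∑ i ∈ s, n i) = ∏ i ∈ s, (f i).coeff (n i) := by
  classical
  induction s using Finset.induction_on with
  | empty => simp
  | insert a s ha ih =>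
    have ih' := ih (fun i hi => h i (Finset.mem_insert_of_mem hi))
    have ha' := h a (Finset.mem_insert_self a s)
    rw [Finset.prod_insert ha, Finset.sum_insert ha, Finset.prod_insert ha]
    refine ⟨(natDegree_mul_le).trans (add_le_add ha' ih'.1), ?_⟩
    rw [coeff_mul_add_eq_of_natDegree_le ha' ih'.1, ih'.2]

variable {r : ℕ}

/-- the `θ`-Wronskian of a tuple of polynomials -/
noncomputable def W (b : Fin (r + 1) → k[X]) : k[X] :=
  Matrix.det (Matrix.of fun i j : Fin (r + 1) => (theta ^ (j : ℕ)) (b i))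

theorem sum_fin_val : ∑ i : Fin (r + 1), (i : ℕ) = r * (r + 1) / 2 := by
  rw [Fin.sum_univ_eq_sum_range (fun i => i) (r + 1), Finset.sum_range_id]
  simp [Nat.mul_comm]

theorem W_dvd (b : Fin (r + 1) → k[X]) (c : k) (m : Fin (r + 1) → ℕ)
    (h : ∀ i, (X - C c) ^ (m i) ∣ b i) :
    (X - C c) ^ (∑ i, m i - r * (r + 1) / 2) ∣ W b := by
  unfold W
  rw [Matrix.det_apply']
  apply Finset.dvd_sum
  intro σ _
  apply Dvd.dvd.mul_left
  have h1 : (X - C c) ^ (∑ i, (m (σ i) - (i : ℕ))) ∣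
      ∏ i, (Matrix.of fun i j : Fin (r + 1) => (theta ^ (j : ℕ)) (b i)) (σ i) i := by
    rw [← Finset.prod_pow_eq_pow_sum]
    apply Finset.prod_dvd_prod_of_dvd
    intro i _
    simp only [Matrix.of_apply]
    exact dvd_theta_pow c _ _ _ (h (σ i))
  refine (pow_dvd_pow _ ?_).trans h1
  have h2 : ∑ i, m (σ i) = ∑ i, m i := Equiv.sum_comp σ m
  have h3 : ∑ i, m (σ i) ≤ ∑ i, (m (σ i) - (i : ℕ)) + ∑ i : Fin (r + 1), (i : ℕ) := by
    rw [← Finset.sum_add_distrib]
    apply Finset.sum_le_sum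
    intro i _
    omega
  rw [sum_fin_val] at h3
  omega

theorem W_X_dvd (b : Fin (r + 1) → k[X]) (a : Fin (r + 1) → ℕ)
    (h : ∀ i, X ^ (a i) ∣ b i) : X ^ (∑ i, a i) ∣ W b := by
  unfold W
  rw [Matrix.det_apply']
  apply Finset.dvd_sum
  intro σ _
  apply Dvd.dvd.mul_left
  have h2 : ∑ i, a (σ i) = ∑ i, a i := Equiv.sum_comp σ a
  rw [← h2, ← Finset.prod_pow_eq_pow_sum]
  apply Finset.prod_dvd_prod_of_dvd
  intro i _
  simp only [Matrix.of_apply]
  exact X_pow_dvd_theta_pow _ _ _ (h (σ i))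

theorem natDegree_W_le (b : Fin (r + 1) → k[X]) (e : Fin (r + 1) → ℕ)
    (h : ∀ i, (b i).natDegree ≤ e i) : (W b).natDegree ≤ ∑ i, e i := by
  unfold W
  rw [Matrix.det_apply]
  apply natDegree_sum_le_of_forall_le
  intro σ _
  refine (natDegree_smul_le _ _).trans ?_
  have h2 : ∑ i, e (σ i) = ∑ i, e i := Equiv.sum_comp σ e
  rw [← h2]
  refine (coeff_prod_of_natDegree_le' Finset.univ _ (fun i => e (σ i)) ?_).1
  intro i _
  simp only [Matrix.of_apply]
  exact (natDegree_theta_pow_le _ _).trans (h (σ i))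

theorem coeff_W (b : Fin (r + 1) → k[X]) (e : Fin (r + 1) → ℕ)
    (h : ∀ i, (b i).natDegree ≤ e i) :
    (W b).coeff (∑ i, e i) =
      (∏ i, (b i).coeff (e i)) * (Matrix.vandermonde fun i => (e i : k)).det := by
  unfold W
  rw [Matrix.det_apply', Matrix.det_apply', finsetSum_coeff, Finset.mul_sum]
  apply Finset.sum_congr rfl
  intro σ _
  have h2 : ∑ i, e (σ i) = ∑ i, e i := Equiv.sum_comp σ e
  have h3 : ∏ i, (b (σ i)).coeff (e (σ i)) = ∏ i, (b i).coeff (e i) :=
    Equiv.prod_comp σ (fun i => (b i).coeff (e i))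
  have hc : ((Equiv.Perm.sign σ : ℤ) : k[X]) = C ((Equiv.Perm.sign σ : ℤ) : k) := by
    simp
  rw [hc, coeff_C_mul, ← h2,
    (coeff_prod_of_natDegree_le' Finset.univ _ (fun i => e (σ i)) ?_).2]
  · simp only [Matrix.of_apply, coeff_theta_pow, Matrix.vandermonde_apply]
    rw [Finset.prod_mul_distrib, h3]
    ring
  · intro i _
    simp only [Matrix.of_apply]
    exact (natDegree_theta_pow_le _ _).trans (h (σ i))

theorem W_ne_zero [CharZero k] (b : Fin (r + 1) → k[X]) (e : Fin (r + 1) → ℕ)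
    (he : Function.Injective e) (h : ∀ i, (b i).natDegree = e i) (hb : ∀ i, b i ≠ 0) :
    W b ≠ 0 := by
  intro h0
  have := coeff_W b e (fun i => (h i).le)
  rw [h0, coeff_zero] at this
  have h1 : (∏ i, (b i).coeff (e i)) ≠ 0 := by
    rw [Finset.prod_ne_zero_iff]
    intro i _
    rw [← h i]
    exact leadingCoeff_ne_zero.mpr (hb i)
  have h2 : (Matrix.vandermonde fun i => (e i : k)).det ≠ 0 := by
    rw [Matrix.det_vandermonde_ne_zero_iff]
    exact fun i j hij => he (Nat.cast_injective hij)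
  exact mul_ne_zero h1 h2 this.symm

theorem W_base_change (b b' : Fin (r + 1) → k[X]) (A : Matrix (Fin (r + 1)) (Fin (r + 1)) k)
    (h : ∀ i, b' i = ∑ j, A i j • b j) : W b' = C A.det * W b := by
  unfold W
  have : (Matrix.of fun i j : Fin (r + 1) => (theta ^ (j : ℕ)) (b' i)) =
      (A.map C) * (Matrix.of fun i j : Fin (r + 1) => (theta ^ (j : ℕ)) (b i)) := by
    ext i l
    simp only [Matrix.of_apply, Matrix.mul_apply, Matrix.map_apply, h i, map_sum, map_smul]
    simp [Polynomial.smul_eq_C_mul]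
  rw [this, Matrix.det_mul]
  congr 1
  exact (RingHom.map_det C A).symm

end Groth.Agent.Helper16.Wron
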